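import Mathlib

/-!
# Adjunctions between exact functors induce adjunctions on derived categories (helper5)
-/
set_option autoImplicit false
open CategoryTheory CategoryTheory.Limits

namespace Groth.Agent.Lib.Helper5.DerAdj

universe v₁ v₂ u₁ u₂ w₁ w₂

variable {A : Type u₁} [Category.{v₁} A] {B : Type u₂} [Category.{v₂} B]
  [Preadditive A] [Preadditive B]
  {L : A ⥤ B} {R : B ⥤ A} [L.Additive] [R.Additive] (adj : L ⊣ R)
  {ι : Type*} (c : ComplexShape ι)

/-- An adjunction between additive functors induces an adjunction between the induced functors
on homological complexes. -/
noncomputable def mapHomologicalComplexAdj :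
    L.mapHomologicalComplex c ⊣ R.mapHomologicalComplex c :=
  Adjunction.mkOfUnitCounit
    { unit :=
        { app := fun K =>
            { f := fun i => adj.unit.app (K.X i)
              comm' := fun i j _ => by
                simp only [Functor.id_obj, Functor.comp_obj, Functor.mapHomologicalComplex_obj_d]
                exact (adj.unit.naturality (K.d i j)).symm }
          naturality := fun K K' f => by
            ext i
            exact adj.unit.naturality (f.f i) }
      counit :=
        { app := fun K =>
            { f := fun i => adj.counit.app (K.X i)
              comm' := fun i j _ => by
                simp only [Functor.id_obj, Functor.comp_obj, Functor.mapHomologicalComplex_obj_d]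
                exact (adj.counit.naturality (K.d i j)).symm }
          naturality := fun K K' f => by
            ext i
            exact adj.counit.naturality (f.f i) }
      left_triangle := by
        ext K i
        simp only [NatTrans.comp_app, Functor.whiskerRight_app, Functor.associator_hom_app,
          Functor.whiskerLeft_app, Category.id_comp, HomologicalComplex.comp_f,
          Functor.mapHomologicalComplex_map_f]
        exact adj.left_triangle_components (K.X i)
      right_triangle := by
        ext K i
        simp only [NatTrans.comp_app, Functor.whiskerRight_app, Functor.associator_inv_app,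
          Functor.whiskerLeft_app, Category.id_comp, HomologicalComplex.comp_f,
          Functor.mapHomologicalComplex_map_f]
        exact adj.right_triangle_components (K.X i) }

section Derived

variable {A : Type u₁} [Category.{v₁} A] [Abelian A] [HasDerivedCategory.{w₁} A]
  {B : Type u₂} [Category.{v₂} B] [Abelian B] [HasDerivedCategory.{w₂} B]
  {L : A ⥤ B} {R : B ⥤ A} [L.Additive] [R.Additive]
  [PreservesFiniteLimits L] [PreservesFiniteColimits L]
  [PreservesFiniteLimits R] [PreservesFiniteColimits R] (adj : L ⊣ R)

/-- An adjunction between exact functors induces an adjunction between the induced functors on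
derived categories. -/
noncomputable def mapDerivedCategoryAdj : L.mapDerivedCategory ⊣ R.mapDerivedCategory := by
  letI : CatCommSq (L.mapHomologicalComplex (ComplexShape.up ℤ)) DerivedCategory.Q
      DerivedCategory.Q L.mapDerivedCategory := ⟨L.mapDerivedCategoryFactors.symm⟩
  letI : CatCommSq (R.mapHomologicalComplex (ComplexShape.up ℤ)) DerivedCategory.Q
      DerivedCategory.Q R.mapDerivedCategory := ⟨R.mapDerivedCategoryFactors.symm⟩
  exact (mapHomologicalComplexAdj adj (ComplexShape.up ℤ)).localization
    DerivedCategory.Q (HomologicalComplex.quasiIso A (ComplexShape.up ℤ))
    DerivedCategory.Q (HomologicalComplex.quasiIso B (ComplexShape.up ℤ))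
    L.mapDerivedCategory R.mapDerivedCategory

end Derived

end Groth.Agent.Lib.Helper5.DerAdj
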