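import Mathlib
import Groth.Agent.Lib.Helper5.Misc.DerAdj

/-!
# Ext groups and exact adjoint pairs (helper5)

For an adjunction `L ⊣ R` between exact functors of abelian categories,
`Ext^n (L X, Y) ≃+ Ext^n (X, R Y)`.
-/
set_option autoImplicit false
open CategoryTheory CategoryTheory.Limits Abelian

namespace Groth.Agent.Lib.Helper5.Misc.ExtAdj

universe w w' v₁ v₂ u₁ u₂

section Pre
variable {D : Type*} [Category D] [Preadditive D]

/-- precomposition with an isomorphism as an additive equivalence -/
def preAddEquiv {X X' : D} (e : X ≅ X') (Z : D) : (X' ⟶ Z) ≃+ (X ⟶ Z) where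
  toFun f := e.hom ≫ f
  invFun g := e.inv ≫ g
  left_inv f := by simp
  right_inv g := by simp
  map_add' f g := by simp

/-- postcomposition with an isomorphism as an additive equivalence -/
def postAddEquiv {Z Z' : D} (e : Z ≅ Z') (X : D) : (X ⟶ Z) ≃+ (X ⟶ Z') where
  toFun f := f ≫ e.hom
  invFun g := g ≫ e.inv
  left_inv f := by simp
  right_inv g := by simp
  map_add' f g := by simp
end Pre

variable {A : Type u₁} [Category.{v₁} A] [Abelian A] {B : Type u₂} [Category.{v₂} B] [Abelian B]
  [HasExt.{w} A] [HasExt.{w'} B]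
  {L : B ⥤ A} {R : A ⥤ B} [L.Additive] [R.Additive]
  [PreservesFiniteLimits L] [PreservesFiniteColimits L]
  [PreservesFiniteLimits R] [PreservesFiniteColimits R] (adj : L ⊣ R)

attribute [local instance] HasDerivedCategory.standard

/-- `Ext^n (L X, Y) ≃+ Ext^n (X, R Y)` for an adjunction between exact functors. -/
noncomputable def extAddEquiv (X : B) (Y : A) (n : ℕ) :
    Ext.{w} (L.obj X) Y n ≃+ Ext.{w'} X (R.obj Y) n :=
  (Ext.homAddEquiv (X := L.obj X) (Y := Y) (n := n)).trans <|
  (preAddEquiv ((L.mapDerivedCategorySingleFunctor 0).app X) _).trans <|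
  ((DerAdj.mapDerivedCategoryAdj adj).homAddEquiv _ _).trans <|
  (postAddEquiv ((R.mapDerivedCategory.commShiftIso (n : ℤ)).app _ ≪≫
    (shiftFunctor (DerivedCategory B) (n : ℤ)).mapIso
      ((R.mapDerivedCategorySingleFunctor 0).app Y)) _).trans <|
  (Ext.homAddEquiv (X := X) (Y := R.obj Y) (n := n)).symm

end Groth.Agent.Lib.Helper5.Misc.ExtAdj
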