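import Mathlib

/-!
# Extension by zero for abelian sheaves on a localised site is exact (helper5)

The left Kan extension along `(Over.forget U).op` is computed pointwise by colimits over categories
that admit a final functor from a discrete category; since coproducts are exact in `Ab`, the
left Kan extension functor preserves finite limits.
-/
set_option autoImplicit false
universe u
open CategoryTheory CategoryTheory.Limits Opposite

namespace Groth.Agent.Lib.Helper5.Misc.ShriekAb

variable {C : Type u} [SmallCategory C] (U : C)

/-- the functor picking, for each `φ : V ⟶ U`, the object `(Over.mk φ, 𝟙 V)` -/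
def pick (V : C) : Discrete (V ⟶ U) ⥤ CostructuredArrow (Over.forget U).op (op V) :=
  Discrete.functor (fun φ => CostructuredArrow.mk (S := (Over.forget U).op)
    (Y := op (Over.mk φ)) (𝟙 (op V)))

variable {U}

/-- the structure map of an object of the costructured arrow category -/
def phi {V : C} (d : CostructuredArrow (Over.forget U).op (op V)) : V ⟶ U :=
  d.hom.unop ≫ d.left.unop.hom

/-- the canonical map from `d` to the picked object of its component -/
def toPick {V : C} (d : CostructuredArrow (Over.forget U).op (op V)) :
    d ⟶ (pick U V).obj ⟨phi d⟩ :=
  CostructuredArrow.homMk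
    (Quiver.Hom.op (Over.homMk (U := Over.mk (phi d)) (V := d.left.unop) d.hom.unop rfl))
    (by
      apply Quiver.Hom.unop_inj
      simp [pick])

lemma right_eq {V : C} (d : CostructuredArrow (Over.forget U).op (op V))
    (x : StructuredArrow d (pick U V)) : x.right.as = phi d := by
  have h1 := CostructuredArrow.w x.hom
  have h2 := Over.w x.hom.left.unop
  simp only [pick, Discrete.functor_obj_eq_as, CostructuredArrow.mk_left, Over.mk_left,
    Over.mk_hom] at h1 h2
  unfold phi
  rw [← h2]
  congr 1
  have h3 := congrArg Quiver.Hom.unop h1
  simpa using h3

instance final_pick (V : C) : (pick U V).Final where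
  out d := by
    refine isConnected_of_isInitial _ (x := StructuredArrow.mk (toPick d)) ?_
    refine IsInitial.ofUniqueHom
      (fun x => StructuredArrow.homMk (eqToHom (by
        apply Discrete.ext
        exact (right_eq d x).symm)) ?_) ?_
    · have h := right_eq d x
      obtain ⟨_, ⟨φ⟩, f⟩ := x
      dsimp only at h
      subst h
      dsimp
      simp only [CategoryTheory.Functor.map_id, Category.comp_id]
      apply CostructuredArrow.hom_ext
      apply Quiver.Hom.unop_inj
      apply Over.OverMorphism.ext
      have h1 := CostructuredArrow.w f
      have h3 := congrArg Quiver.Hom.unop h1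
      simp only [pick, Discrete.functor_obj_eq_as, CostructuredArrow.mk_left] at h3
      show d.hom.unop = f.left.unop.left
      have h4 : ((Over.forget U).op.map f.left ≫
          (CostructuredArrow.mk (S := (Over.forget U).op) (Y := op (Over.mk (phi d)))
            (𝟙 (op V))).hom).unop = f.left.unop.left := by
        simp only [Functor.op_obj, Over.forget_obj,
          Functor.op_map, Over.forget_map, CostructuredArrow.mk_hom_eq_self, unop_comp,
          Quiver.Hom.unop_op]
        exact Category.id_comp _
      exact h3.symm.trans h4
    · intro x m
      apply StructuredArrow.ext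
      apply Subsingleton.elim

variable (U)

instance hasExactColimitsOfShape_costructuredArrow (K : Cᵒᵖ) :
    HasExactColimitsOfShape (CostructuredArrow (Over.forget U).op K) AddCommGrpCat.{u} := by
  have : (pick U K.unop).Final := final_pick K.unop
  exact hasExactColimitsOfShape_of_final AddCommGrpCat.{u} (pick U K.unop)

/-- the left Kan extension along `C/U ⥤ C` on abelian presheaves is left exact -/
instance preservesFiniteLimits_lan :
    PreservesFiniteLimits ((Over.forget U).op.lan :
      ((Over U)ᵒᵖ ⥤ AddCommGrpCat.{u}) ⥤ Cᵒᵖ ⥤ AddCommGrpCat.{u}) := by
  apply preservesFiniteLimits_of_preservesFiniteLimitsOfSize.{u}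
  intro J _ _
  apply preservesLimitsOfShape_of_evaluation
    ((Over.forget U).op.lan : ((Over U)ᵒᵖ ⥤ AddCommGrpCat.{u}) ⥤ Cᵒᵖ ⥤ AddCommGrpCat.{u}) J
  intro K
  exact preservesLimitsOfShape_of_natIso (lanEvaluationIsoColim _ _ _).symm

variable (J : GrothendieckTopology C)

/-- extension by zero of abelian sheaves along `C/U ⥤ C` -/
noncomputable abbrev shriek : Sheaf (J.over U) AddCommGrpCat.{u} ⥤ Sheaf J AddCommGrpCat.{u} :=
  Functor.sheafPullbackConstruction.sheafPullback (Over.forget U) AddCommGrpCat.{u} (J.over U) J

/-- restriction of abelian sheaves to `C/U` -/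
noncomputable abbrev restr : Sheaf J AddCommGrpCat.{u} ⥤ Sheaf (J.over U) AddCommGrpCat.{u} :=
  (Over.forget U).sheafPushforwardContinuous AddCommGrpCat.{u} (J.over U) J

/-- the adjunction `j_! ⊣ j^*` -/
noncomputable def adj : shriek U J ⊣ restr U J :=
  Functor.sheafPullbackConstruction.sheafAdjunctionContinuous (Over.forget U) AddCommGrpCat.{u}
    (J.over U) J

instance : PreservesFiniteLimits (shriek U J) := by
  have : PreservesFiniteLimits ((Over.forget U).op.lan ⋙ presheafToSheaf J AddCommGrpCat.{u}) :=
    comp_preservesFiniteLimits _ _
  exact comp_preservesFiniteLimits _ _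

instance : (shriek U J).IsLeftAdjoint := (adj U J).isLeftAdjoint

instance : (restr U J).IsRightAdjoint := (adj U J).isRightAdjoint

instance : PreservesFiniteColimits (shriek U J) := inferInstance

instance : (shriek U J).Additive :=
  haveI := preservesBinaryBiproducts_of_preservesBinaryCoproducts (shriek U J)
  Functor.additive_of_preservesBinaryBiproducts _

instance : (restr U J).Additive :=
  haveI := preservesBinaryBiproducts_of_preservesBinaryProducts (restr U J)
  Functor.additive_of_preservesBinaryBiproducts _

end Groth.Agent.Lib.Helper5.Misc.ShriekAb
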