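import Mathlib
import Groth.Agent.Lib.Helper5.Misc.ShriekAb
import Groth.Agent.Lib.Helper5.Misc.ExtAdj
import Groth.Prelude.Def_CohCx

/-!
# Extension by zero of free abelian sheaves; Ext and restriction to `C/U` (helper5)
-/
set_option autoImplicit false
universe u
open CategoryTheory CategoryTheory.Limits Opposite Abelian

namespace Groth.Agent.Lib.Helper5.Misc.ShriekAb

variable {C : Type u} [SmallCategory C] (U : C) (J : GrothendieckTopology C)

/-- the free abelian sheaf functor -/
noncomputable abbrev freeSh (J : GrothendieckTopology C) :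
    Sheaf J (Type u) ⥤ Sheaf J AddCommGrpCat.{u} :=
  Sheaf.composeAndSheafify J AddCommGrpCat.free.{u}

/-- free abelian sheaf ⊣ underlying sheaf of sets -/
noncomputable def freeAdj (J : GrothendieckTopology C) :
    freeSh J ⊣ sheafCompose J (forget AddCommGrpCat.{u}) :=
  Sheaf.adjunction J AddCommGrpCat.adj

/-- extension by the empty set for sheaves of sets -/
noncomputable abbrev shriekSet : Sheaf (J.over U) (Type u) ⥤ Sheaf J (Type u) :=
  (Over.forget U).sheafPullback (Type u) (J.over U) J

/-- `j_! ℤ[K] ≅ ℤ[j_! K]` -/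
noncomputable def shriekFreeIso :
    freeSh (J.over U) ⋙ shriek U J ≅ shriekSet U J ⋙ freeSh J :=
  ((freeAdj (J.over U)).comp (adj U J)).leftAdjointUniq
    ((((Over.forget U).sheafAdjunctionContinuous (Type u) (J.over U) J).comp (freeAdj J)).ofNatIsoRight
      (NatIso.ofComponents (fun F => Iso.refl _)))

instance : (restr U J).IsLeftAdjoint :=
  ((Over.forget U).sheafAdjunctionCocontinuous AddCommGrpCat.{u} (J.over U) J).isLeftAdjoint

instance : PreservesFiniteColimits (restr U J) := inferInstance

instance : PreservesFiniteLimits (restr U J) := inferInstance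

/-- Ext groups only depend on the isomorphism class of the source -/
noncomputable def extEquivOfIso {A : Type*} [Category A] [Abelian A] [HasExt A] {X X' : A}
    (e : X ≅ X') (Y : A) (n : ℕ) : Ext X Y n ≃ Ext X' Y n where
  toFun α := (Ext.mk₀ e.inv).comp α (zero_add n)
  invFun β := (Ext.mk₀ e.hom).comp β (zero_add n)
  left_inv α := by
    dsimp only
    rw [Ext.mk₀_comp_mk₀_assoc, e.hom_inv_id, Ext.mk₀_id_comp]
  right_inv β := by
    dsimp only
    rw [Ext.mk₀_comp_mk₀_assoc, e.inv_hom_id, Ext.mk₀_id_comp]

theorem isTotallyAcyclic_restr (F : Sheaf J AddCommGrpCat.{u}) (hF : CohCx.IsTotallyAcyclic F) :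
    CohCx.IsTotallyAcyclic ((restr U J).obj F) := by
  intro K p
  have e1 := ExtAdj.extAddEquiv (adj U J) ((freeSh (J.over U)).obj K) F (p + 1)
  have e2 := extEquivOfIso ((shriekFreeIso U J).app K) F (p + 1)
  have h3 : Subsingleton (Abelian.Ext ((shriekSet U J ⋙ freeSh J).obj K) F (p + 1)) :=
    hF ((shriekSet U J).obj K) p
  exact (e1.symm.toEquiv.trans e2).subsingleton

end Groth.Agent.Lib.Helper5.Misc.ShriekAb
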