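import Mathlib
import Groth.Agent.Lib.Helper5.Misc.ShriekAbFree
import Groth.Prelude.Def_CohSite

/-!
# `j_! ℤ ≅ ℤ[h_U]` and cohomology over an object as cohomology of the localised site (helper5)
-/
set_option autoImplicit false
universe u
open CategoryTheory CategoryTheory.Limits Opposite Abelian

namespace Groth.Agent.Lib.Helper5.Misc.ShriekAb

variable {C : Type u} [SmallCategory C] (U : C) (J : GrothendieckTopology C)

/-- sections over `U`, as a set-valued functor -/
noncomputable abbrev secU : Sheaf J AddCommGrpCat.{u} ⥤ Type u :=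
  (sheafSections J AddCommGrpCat.{u}).obj (op U) ⋙ forget AddCommGrpCat.{u}

/-- `j_! ℤ` corepresents sections over `U` -/
noncomputable def corep₁ : (secU U J).CorepresentableBy
    ((shriek U J).obj ((constantSheaf (J.over U) AddCommGrpCat.{u}).obj
      (AddCommGrpCat.of (ULift.{u} ℤ)))) :=
  (((constantSheafAdj (J.over U) AddCommGrpCat.{u} Over.mkIdTerminal).comp
    (adj U J)).corepresentableBy (AddCommGrpCat.of (ULift.{u} ℤ))).ofIso
    (Functor.isoWhiskerLeft _ AddCommGrpCat.coyonedaObjIsoForget)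

/-- `ℤ[h_U]` corepresents sections over `U` -/
noncomputable def corep₂ : (secU U J).CorepresentableBy
    ((presheafToSheaf J AddCommGrpCat.{u}).obj (yoneda.obj U ⋙ AddCommGrpCat.free.{u})) :=
  ((((AddCommGrpCat.adj.{u}).whiskerRight Cᵒᵖ).comp
    (sheafificationAdjunction J AddCommGrpCat.{u})).corepresentableBy (yoneda.obj U)).ofIso
    (Functor.isoWhiskerLeft _ (curriedYonedaLemma.app (op U)))

/-- `j_! ℤ ≅ ℤ[h_U]` -/
noncomputable def shriekConstIso :
    (shriek U J).obj ((constantSheaf (J.over U) AddCommGrpCat.{u}).obj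
      (AddCommGrpCat.of (ULift.{u} ℤ))) ≅
    (presheafToSheaf J AddCommGrpCat.{u}).obj (yoneda.obj U ⋙ AddCommGrpCat.free.{u}) :=
  (corep₁ U J).uniqueUpToIso (corep₂ U J)

/-- Ext groups only depend on the isomorphism class of the source (additive version) -/
noncomputable def extAddEquivOfIso {A : Type*} [Category A] [Abelian A] [HasExt A] {X X' : A}
    (e : X ≅ X') (Y : A) (n : ℕ) : Ext X Y n ≃+ Ext X' Y n :=
  { extEquivOfIso e Y n with
    map_add' := fun _ _ => Ext.comp_add _ _ _ (zero_add n) }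

theorem nonempty_HU_addEquiv (F : Sheaf J AddCommGrpCat.{u}) (n : ℕ) :
    Nonempty (CohSite.HU F n U ≃+ Sheaf.H.{u} (F.over U) n) :=
  ⟨(extAddEquivOfIso (shriekConstIso U J).symm F n).trans
    (ExtAdj.extAddEquiv (adj U J) _ F n)⟩

end Groth.Agent.Lib.Helper5.Misc.ShriekAb
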