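import Mathlib
import Groth.Agent.Lib.Helper5.Misc.DerAdj

/-!
# A right adjoint with exact left adjoint preserves K-injective complexes (helper5)
-/
set_option autoImplicit false
open CategoryTheory CategoryTheory.Limits

namespace Groth.Agent.Lib.Helper5.Misc.KInjAdj

universe v₁ v₂ u₁ u₂

variable {A : Type u₁} [Category.{v₁} A] [Abelian A] {B : Type u₂} [Category.{v₂} B] [Abelian B]
  {L : B ⥤ A} {R : A ⥤ B} [L.Additive] [R.Additive] (adj : L ⊣ R)
  [PreservesFiniteLimits L] [PreservesFiniteColimits L]

include adj in
theorem isKInjective_map (I : CochainComplex A ℤ) [I.IsKInjective] :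
    CochainComplex.IsKInjective ((R.mapHomologicalComplex (ComplexShape.up ℤ)).obj I) where
  nonempty_homotopy_zero {K} f hK := by
    let adjC := DerAdj.mapHomologicalComplexAdj adj (ComplexShape.up ℤ)
    let f' := (adjC.homEquiv K I).symm f
    have hLK : ((L.mapHomologicalComplex (ComplexShape.up ℤ)).obj K).Acyclic :=
      fun i => (hK i).map L
    have h' := CochainComplex.IsKInjective.homotopyZero f' hLK
    have e : f = adjC.unit.app K ≫ (R.mapHomologicalComplex (ComplexShape.up ℤ)).map f' :=
      ((adjC.homEquiv K I).apply_symm_apply f).symm.trans (adjC.homEquiv_unit ..)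
    exact ⟨(Homotopy.ofEq e).trans (((R.mapHomotopy h').compLeft (adjC.unit.app K)).trans
      (Homotopy.ofEq (by simp)))⟩

end Groth.Agent.Lib.Helper5.Misc.KInjAdj
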