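import Mathlib

/-!
# Left Kan extensions in arbitrary universes: evaluation as a colimit, exactness (helper5)
-/
set_option autoImplicit false
universe v₁ v₂ v₃ u₁ u₂ u₃
open CategoryTheory CategoryTheory.Limits Opposite

namespace Groth.Agent.Lib.Helper5.Misc.LanExact

variable {C : Type u₁} [Category.{v₁} C] {D : Type u₂} [Category.{v₂} D]
  (E : Type u₃) [Category.{v₃} E]

set_option backward.defeqAttrib.useBackward true in
set_option backward.isDefEq.respectTransparency false in
/-- The evaluation of `F.lan` at `X` is the colimit over the costructured arrows over `X`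
(general universes). -/
noncomputable def lanEvaluationIsoColim (F : C ⥤ D) (X : D)
    [∀ X : D, HasColimitsOfShape (CostructuredArrow F X) E] :
    F.lan ⋙ (evaluation D E).obj X ≅
      (Functor.whiskeringLeft _ _ E).obj (CostructuredArrow.proj F X) ⋙ colim :=
  NatIso.ofComponents (fun G =>
    IsColimit.coconePointUniqueUpToIso
    (Functor.isPointwiseLeftKanExtensionLeftKanExtensionUnit F G X)
    (colimit.isColimit _)) (fun {G₁ G₂} φ => by
      apply (Functor.isPointwiseLeftKanExtensionLeftKanExtensionUnit F G₁ X).hom_ext
      intro T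
      have h₁ := fun (G : C ⥤ E) => IsColimit.comp_coconePointUniqueUpToIso_hom
        (Functor.isPointwiseLeftKanExtensionLeftKanExtensionUnit F G X) (colimit.isColimit _) T
      have h₂ := congr_app (F.lanUnit.naturality φ) T.left
      dsimp at h₁ h₂ ⊢
      simp only [Category.assoc] at h₁ ⊢
      simp only [Functor.lan, Functor.lanUnit] at h₂ ⊢
      rw [reassoc_of% h₁, NatTrans.naturality_assoc, ← reassoc_of% h₂, h₁,
        ι_colimMap, Functor.whiskerLeft_app]
      rfl)

/-- If colimits over all the costructured arrow categories are exact in `E`, then `F.lan`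
preserves finite limits. -/
lemma preservesFiniteLimits_lan (F : C ⥤ D) [HasFiniteLimits E]
    [∀ X : D, HasColimitsOfShape (CostructuredArrow F X) E]
    [∀ X : D, HasExactColimitsOfShape (CostructuredArrow F X) E] :
    PreservesFiniteLimits (F.lan : (C ⥤ E) ⥤ D ⥤ E) := by
  apply preservesFiniteLimits_of_preservesFiniteLimitsOfSize.{0}
  intro J _ _
  apply preservesLimitsOfShape_of_evaluation (F.lan : (C ⥤ E) ⥤ D ⥤ E) J
  intro K
  exact preservesLimitsOfShape_of_natIso (lanEvaluationIsoColim E F K).symm

end Groth.Agent.Lib.Helper5.Misc.LanExact
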