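import Mathlib
import Groth.Agent.Lib.Helper5.Misc.LanExact

/-!
# Pullback of sheaves along a representably flat continuous functor is left exact,
in arbitrary universes (helper5)
-/
set_option autoImplicit false
universe v₁ v₂ v₃ u₁ u₂ u₃
open CategoryTheory CategoryTheory.Limits Opposite

namespace Groth.Agent.Lib.Helper5.Misc.LanFlat

variable {C : Type u₁} [Category.{v₁} C] {D : Type u₂} [Category.{v₂} D]
  (G : C ⥤ D) [RepresentablyFlat G] (A : Type u₃) [Category.{v₃} A] [HasFiniteLimits A]

instance isFiltered_costructuredArrow (K : Dᵒᵖ) : IsFiltered (CostructuredArrow G.op K) :=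
  IsFiltered.of_equivalence (structuredArrowOpEquivalence G (unop K))

/-- the left Kan extension along the opposite of a flat functor is left exact when filtered colimits
of the relevant size are exact -/
lemma preservesFiniteLimits_lan
    [∀ K, HasColimitsOfShape (CostructuredArrow G.op K) A]
    [∀ K, HasExactColimitsOfShape (CostructuredArrow G.op K) A] :
    PreservesFiniteLimits (G.op.lan : (Cᵒᵖ ⥤ A) ⥤ Dᵒᵖ ⥤ A) :=
  LanExact.preservesFiniteLimits_lan A G.op

/-- pullback of sheaves along a flat continuous functor is left exact -/
lemma preservesFiniteLimits_sheafPullback (J : GrothendieckTopology C) (K : GrothendieckTopology D)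
    [G.IsContinuous J K]
    [∀ K, HasColimitsOfShape (CostructuredArrow G.op K) A]
    [∀ K, HasExactColimitsOfShape (CostructuredArrow G.op K) A]
    [HasSheafify K A] :
    PreservesFiniteLimits (G.sheafPullback A J K) := by
  have := preservesFiniteLimits_lan G A
  have h1 : PreservesFiniteLimits (G.op.lan ⋙ presheafToSheaf K A) :=
    comp_preservesFiniteLimits _ _
  have h2 : PreservesFiniteLimits
      (Functor.sheafPullbackConstruction.sheafPullback G A J K) := by
    unfold Functor.sheafPullbackConstruction.sheafPullback
    exact comp_preservesFiniteLimits _ _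
  exact preservesFiniteLimits_of_natIso
    (Functor.sheafPullbackConstruction.sheafPullbackIso G A J K).symm

end Groth.Agent.Lib.Helper5.Misc.LanFlat
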