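import Mathlib
import Groth.Agent.Lib.Helper5.Misc.LanExact

/-!
# The left Kan extension along `(Over.map f).op` on abelian presheaves is left exact (helper5)
-/
set_option autoImplicit false
universe w v u
open CategoryTheory CategoryTheory.Limits Opposite

namespace Groth.Agent.Lib.Helper5.Misc.ShriekMap

variable {C : Type u} [Category.{v} C] {S T : C} (f : T ⟶ S)

/-- the index set of the components of the costructured arrow category -/
abbrev Idx (V : Over S) : Type v := {φ : V.left ⟶ T // φ ≫ f = V.hom}

/-- the functor picking, for each lift `φ : V ⟶ T`, the object `(Over.mk φ, 𝟙 V)` -/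
def pick (V : Over S) : Discrete (Idx f V) ⥤ CostructuredArrow (Over.map f).op (op V) :=
  Discrete.functor (fun φ => CostructuredArrow.mk (S := (Over.map f).op)
    (Y := op (Over.mk φ.1))
    (Quiver.Hom.op (Over.homMk (U := V) (V := (Over.map f).obj (Over.mk φ.1)) (𝟙 V.left)
      (by simpa using φ.2))))

variable {f}

/-- the structure map of an object of the costructured arrow category -/
def phi {V : Over S} (d : CostructuredArrow (Over.map f).op (op V)) : Idx f V :=
  ⟨d.hom.unop.left ≫ d.left.unop.hom, by
    have := Over.w d.hom.unop
    simpa using this⟩

/-- the canonical map from `d` to the picked object of its component -/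
def toPick {V : Over S} (d : CostructuredArrow (Over.map f).op (op V)) :
    d ⟶ (pick f V).obj ⟨phi d⟩ :=
  CostructuredArrow.homMk
    (Quiver.Hom.op (Over.homMk (U := Over.mk (phi d).1) (V := d.left.unop) d.hom.unop.left rfl))
    (by
      apply Quiver.Hom.unop_inj
      apply Over.OverMorphism.ext
      simp [pick])

lemma right_eq {V : Over S} (d : CostructuredArrow (Over.map f).op (op V))
    (x : StructuredArrow d (pick f V)) : x.right.as = phi d := by
  apply Subtype.ext
  have h1 := CostructuredArrow.w x.hom
  have h2 := Over.w x.hom.left.unop
  have h3 := congrArg (fun k => k.unop.left) h1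
  simp only [pick, Discrete.functor_obj_eq_as, CostructuredArrow.mk_left, Over.mk_left,
    Over.mk_hom] at h1 h2 h3
  unfold phi
  dsimp only
  rw [← h2]
  congr 1
  simpa using h3

instance final_pick (V : Over S) : (pick f V).Final where
  out d := by
    refine isConnected_of_isInitial _ (x := StructuredArrow.mk (toPick d)) ?_
    refine IsInitial.ofUniqueHom
      (fun x => StructuredArrow.homMk (eqToHom (by
        apply Discrete.ext
        exact (right_eq d x).symm)) ?_) ?_
    · have h := right_eq d x
      obtain ⟨_, ⟨φ⟩, g⟩ := x
      dsimp only at h
      subst h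
      dsimp
      simp only [CategoryTheory.Functor.map_id, Category.comp_id]
      apply CostructuredArrow.hom_ext
      apply Quiver.Hom.unop_inj
      apply Over.OverMorphism.ext
      have h1 := CostructuredArrow.w g
      have h3 := congrArg (fun k => k.unop.left) h1
      simp only [pick, Discrete.functor_obj_eq_as, CostructuredArrow.mk_left] at h3
      show d.hom.unop.left = g.left.unop.left
      simp at h3
      exact h3.symm
    · intro x m
      apply StructuredArrow.ext
      apply Subsingleton.elim

variable (f)

section

variable (A : Type*) [Category A] [HasFiniteLimits A]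

lemma hasExactColimitsOfShape_costructuredArrow (K : (Over S)ᵒᵖ)
    [HasColimitsOfShape (CostructuredArrow (Over.map f).op K) A]
    [HasColimitsOfShape (Discrete (Idx f K.unop)) A]
    [HasExactColimitsOfShape (Discrete (Idx f K.unop)) A] :
    HasExactColimitsOfShape (CostructuredArrow (Over.map f).op K) A := by
  have : (pick f K.unop).Final := final_pick K.unop
  exact hasExactColimitsOfShape_of_final A (pick f K.unop)

/-- the left Kan extension along `(Over.map f).op` is left exact when coproducts indexed by the
sets of lifts are exact -/
lemma preservesFiniteLimits_lan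
    [∀ K, HasColimitsOfShape (CostructuredArrow (Over.map f).op K) A]
    [∀ V : Over S, HasColimitsOfShape (Discrete (Idx f V)) A]
    [∀ V : Over S, HasExactColimitsOfShape (Discrete (Idx f V)) A] :
    PreservesFiniteLimits ((Over.map f).op.lan : ((Over T)ᵒᵖ ⥤ A) ⥤ (Over S)ᵒᵖ ⥤ A) :=
  haveI := fun K => hasExactColimitsOfShape_costructuredArrow f A K
  LanExact.preservesFiniteLimits_lan A (Over.map f).op

/-- `f_!` on sheaves (the left adjoint of restriction along `Over.map f`) is left exact -/
lemma preservesFiniteLimits_sheafPullback (J : GrothendieckTopology C)
    [∀ K, HasColimitsOfShape (CostructuredArrow (Over.map f).op K) A]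
    [∀ V : Over S, HasColimitsOfShape (Discrete (Idx f V)) A]
    [∀ V : Over S, HasExactColimitsOfShape (Discrete (Idx f V)) A]
    [HasSheafify (J.over S) A] :
    PreservesFiniteLimits ((Over.map f).sheafPullback A (J.over T) (J.over S)) := by
  have := preservesFiniteLimits_lan f A
  have h1 : PreservesFiniteLimits ((Over.map f).op.lan ⋙ presheafToSheaf (J.over S) A) :=
    comp_preservesFiniteLimits _ _
  have h2 : PreservesFiniteLimits
      (Functor.sheafPullbackConstruction.sheafPullback (Over.map f) A (J.over T) (J.over S)) := by
    unfold Functor.sheafPullbackConstruction.sheafPullback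
    exact comp_preservesFiniteLimits _ _
  exact preservesFiniteLimits_of_natIso
    (Functor.sheafPullbackConstruction.sheafPullbackIso (Over.map f) A (J.over T) (J.over S)).symm

end

end Groth.Agent.Lib.Helper5.Misc.ShriekMap
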