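import Mathlib
import Groth.Agent.S12450

/-!
# General facts about `SheafOfModules R` on a small site (helper5)

* `toSheaf` preserves and reflects small colimits;
* a small separating/detecting family; well-poweredness and co-well-poweredness;
* the special adjoint functor theorem for `SheafOfModules R`.
-/
set_option autoImplicit false
open CategoryTheory CategoryTheory.Limits Opposite

namespace Groth.Agent.Lib.Helper5.SheafModGen

universe u

variable {C : Type u} [SmallCategory C] {J : GrothendieckTopology C} (R : Sheaf J RingCat.{u})

instance toSheaf_preservesColimits :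
    PreservesColimitsOfSize.{u, u} (SheafOfModules.toSheaf.{u} R) := by
  constructor
  intro K _
  let α : R.obj ⟶ R.obj := 𝟙 _
  have h : PreservesColimitsOfShape K
      (PresheafOfModules.sheafification α ⋙ SheafOfModules.toSheaf R) := by
    have : PreservesColimitsOfShape K
        (PresheafOfModules.toPresheaf R.obj ⋙ presheafToSheaf J AddCommGrpCat) :=
      inferInstance
    exact preservesColimitsOfShape_of_natIso (PresheafOfModules.sheafificationCompToSheaf α).symm
  exact Groth.Agent.S12450.preservesColimitsOfShape_of_reflective
    (PresheafOfModules.sheafificationAdjunction α) (SheafOfModules.toSheaf R) K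

instance toSheaf_reflectsColimits :
    ReflectsColimitsOfSize.{u, u} (SheafOfModules.toSheaf.{u} R) := by
  constructor
  intro K _
  exact reflectsColimitsOfShape_of_reflectsIsomorphisms

/-- The sheafified free modules on representables. -/
noncomputable def freeSh (Y : C) : SheafOfModules.{u} R :=
  (PresheafOfModules.sheafification (𝟙 R.obj)).obj
    ((PresheafOfModules.free R.obj).obj (yoneda.obj Y))

/-- The family of sheafified free modules on representables. -/
def freeShProp : ObjectProperty (SheafOfModules.{u} R) := .ofObj (freeSh R)

instance : ObjectProperty.Small.{u} (freeShProp R) := by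
  dsimp [freeShProp]
  infer_instance

lemma freeShProp_isSeparating : (freeShProp R).IsSeparating := by
  intro M N f₁ f₂ h
  let adj := PresheafOfModules.sheafificationAdjunction (𝟙 R.obj)
  let G := SheafOfModules.forget R ⋙ PresheafOfModules.restrictScalars (𝟙 R.obj)
  have hG : G.map f₁ = G.map f₂ := by
    apply PresheafOfModules.freeYoneda.isSeparating R.obj
    rintro _ ⟨Y⟩ g
    have e := h (freeSh R Y) (ObjectProperty.ofObj_apply _ Y) ((adj.homEquiv _ _).symm g)
    have e' := congrArg (adj.homEquiv _ _) e
    have n1 := adj.homEquiv_naturality_right ((adj.homEquiv _ _).symm g) f₁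
    have n2 := adj.homEquiv_naturality_right ((adj.homEquiv _ _).symm g) f₂
    rw [Equiv.apply_symm_apply] at n1 n2
    exact n1.symm.trans (e'.trans n2)
  exact G.map_injective hG

lemma freeShProp_isDetecting : (freeShProp R).IsDetecting :=
  (freeShProp_isSeparating R).isDetecting

instance wellPowered : WellPowered.{u} (SheafOfModules.{u} R) :=
  wellPowered_of_isDetecting (freeShProp_isDetecting R)

instance wellPowered_op : WellPowered.{u} (SheafOfModules.{u} R)ᵒᵖ := inferInstance

/-- **Special adjoint functor theorem** for sheaves of modules on a small site. -/
theorem isLeftAdjoint_of_preservesColimits {E : Type*} [Category.{u} E]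
    (F : SheafOfModules.{u} R ⥤ E) [PreservesColimitsOfSize.{u, u} F] : F.IsLeftAdjoint :=
  isLeftAdjoint_of_preservesColimits_of_isSeparating (freeShProp_isSeparating R) F

end Groth.Agent.Lib.Helper5.SheafModGen
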