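import Mathlib

/-!
# Tensoring a locally bijective morphism of presheaves of modules (helper5)

Key lemma for S12505 / S6168 / S6148: if `f : M ⟶ M'` is a locally bijective morphism of presheaves
of modules over a presheaf of commutative rings, then so is `f ▷ N`.
-/

set_option autoImplicit false

open CategoryTheory MonoidalCategory Limits Opposite TensorProduct

namespace Groth.Agent.Lib.Helper5.TensorLocal

section Algebra

variable {A B : Type*} [CommRing A] [CommRing B] (φ : A →+* B)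
variable {P Q : Type*} [AddCommGroup P] [Module A P] [AddCommGroup Q] [Module A Q]
variable {P' Q' : Type*} [AddCommGroup P'] [Module B P'] [AddCommGroup Q'] [Module B Q']

/-- The tensor product of two semilinear maps, as an additive map. -/
noncomputable def semiTensor (p : P →+ P') (q : Q →+ Q')
    (hp : ∀ (a : A) (x : P), p (a • x) = φ a • p x)
    (hq : ∀ (a : A) (y : Q), q (a • y) = φ a • q y) : P ⊗[A] Q →+ P' ⊗[B] Q' :=
  TensorProduct.liftAddHom
    { toFun := fun x => ((TensorProduct.mk B P' Q' (p x)).toAddMonoidHom).comp q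
      map_zero' := by ext; simp
      map_add' := by intro x y; ext z; simp }
    (by
      intro a x y
      simp only [AddMonoidHom.coe_mk, ZeroHom.coe_mk, AddMonoidHom.coe_comp,
        LinearMap.toAddMonoidHom_coe, Function.comp_apply, TensorProduct.mk_apply]
      rw [hp, hq, TensorProduct.smul_tmul])

@[simp]
lemma semiTensor_tmul (p : P →+ P') (q : Q →+ Q')
    (hp : ∀ (a : A) (x : P), p (a • x) = φ a • p x)
    (hq : ∀ (a : A) (y : Q), q (a • y) = φ a • q y) (x : P) (y : Q) :
    semiTensor φ p q hp hq (x ⊗ₜ[A] y) = p x ⊗ₜ[B] q y := rfl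

lemma addHom_ext {G : Type*} [AddCommMonoid G] {f g : P ⊗[A] Q →+ G}
    (h : ∀ x y, f (x ⊗ₜ[A] y) = g (x ⊗ₜ[A] y)) : f = g :=
  AddMonoidHom.ext fun z => TensorProduct.induction_on z (by simp) h
    (fun _ _ hx hy => by simp [hx, hy])

/-- If `(f ⊗ N) t = 0` then `t`, viewed via a finitely generated `M₀`, already dies in
`Q ⊗ N` for a finitely generated `Q ≤ M'` containing `f(M₀)`. -/
lemma exists_fg_vanish {M M' N : Type*} [AddCommGroup M] [Module A M] [AddCommGroup M']
    [Module A M'] [AddCommGroup N] [Module A N] (f : M →ₗ[A] M') (t : M ⊗[A] N)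
    (ht : LinearMap.rTensor N f t = 0) :
    ∃ (M₀ : Submodule A M) (t₀ : M₀ ⊗[A] N) (Q : Submodule A M') (s : Finset M')
      (hQ : ∀ x : M₀, f x ∈ Q),
      LinearMap.rTensor N M₀.subtype t₀ = t ∧ Submodule.span A (s : Set M') = Q ∧
      LinearMap.rTensor N ((f.domRestrict M₀).codRestrict Q hQ) t₀ = 0 := by
  obtain ⟨M₀, hM₀, t₀, ht₀⟩ := TensorProduct.exists_of_fg t
  have hP : (M₀.map f).FG := hM₀.map f
  have hmem : ∀ x : M₀, (f.domRestrict M₀) x ∈ M₀.map f :=
    fun x => Submodule.mem_map_of_mem x.2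
  set f₀ : M₀ →ₗ[A] (M₀.map f) := (f.domRestrict M₀).codRestrict (M₀.map f) hmem with hf₀
  have hz : LinearMap.rTensor N (M₀.map f).subtype (LinearMap.rTensor N f₀ t₀) = 0 := by
    rw [← LinearMap.rTensor_comp_apply]
    have : (M₀.map f).subtype ∘ₗ f₀ = f ∘ₗ M₀.subtype := by
      ext x; rfl
    rw [this, LinearMap.rTensor_comp_apply, ht₀, ht]
  obtain ⟨Q, hPQ, hQfg, hQ0⟩ := TensorProduct.eq_zero_of_fg_of_subtype_eq_zero hP hz
  obtain ⟨s, hs⟩ := hQfg
  refine ⟨M₀, t₀, Q, s, fun x => hPQ (hmem x), ht₀, hs, ?_⟩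
  rw [← LinearMap.rTensor_comp_apply] at hQ0
  have : (f.domRestrict M₀).codRestrict Q (fun x => hPQ (hmem x)) =
      Submodule.inclusion hPQ ∘ₗ f₀ := by
    ext x; rfl
  rw [this]; exact hQ0

/-- Right exactness: an element killed by `rangeRestrict f ⊗ N` comes from `ker f ⊗ N`. -/
lemma mem_range_ker_of_rangeRestrict {M M' N : Type*} [AddCommGroup M] [Module A M]
    [AddCommGroup M'] [Module A M'] [AddCommGroup N] [Module A N] (f : M →ₗ[A] M')
    (t : M ⊗[A] N) (ht : LinearMap.rTensor N f.rangeRestrict t = 0) :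
    ∃ w : (LinearMap.ker f) ⊗[A] N, LinearMap.rTensor N (LinearMap.ker f).subtype w = t := by
  have hex : Function.Exact (LinearMap.ker f).subtype f.rangeRestrict := by
    have := LinearMap.exact_subtype_ker_map f.rangeRestrict
    rwa [LinearMap.ker_rangeRestrict] at this
  have := rTensor_exact N hex f.surjective_rangeRestrict
  exact (this t).mp ht

end Algebra

section Presheaf

universe u v₁ u₁

variable {C : Type u₁} [Category.{v₁} C] (J : GrothendieckTopology C)
variable {R : Cᵒᵖ ⥤ CommRingCat.{u}}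
variable {M M' : PresheafOfModules.{u} (R ⋙ forget₂ _ _)}

/-- Element-level local surjectivity of a morphism of presheaves of modules. -/
def LocSurj (f : M ⟶ M') : Prop :=
  ∀ (X : C) (m' : M'.obj (op X)), ∃ S ∈ J X, ∀ ⦃Y : C⦄ (g : Y ⟶ X), S g →
    ∃ m : M.obj (op Y), f.app (op Y) m = M'.map g.op m'

/-- Element-level local injectivity of a morphism of presheaves of modules. -/
def LocInj (f : M ⟶ M') : Prop :=
  ∀ (X : C) (m : M.obj (op X)), f.app (op X) m = 0 → ∃ S ∈ J X, ∀ ⦃Y : C⦄ (g : Y ⟶ X), S g →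
    M.map g.op m = 0

lemma locSurj_iff (f : M ⟶ M') :
    LocSurj J f ↔ Presheaf.IsLocallySurjective J ((PresheafOfModules.toPresheaf _).map f) := by
  constructor
  · intro h
    refine ⟨fun {U} s => ?_⟩
    obtain ⟨S, hS, hS'⟩ := h U s
    refine J.superset_covering ?_ hS
    intro Y g hg
    obtain ⟨m, hm⟩ := hS' g hg
    exact ⟨m, hm⟩
  · intro h X m'
    refine ⟨_, Presheaf.imageSieve_mem J ((PresheafOfModules.toPresheaf _).map f)
      (U := op X) m', ?_⟩
    intro Y g hg
    obtain ⟨m, hm⟩ := hg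
    exact ⟨m, hm⟩

lemma locInj_iff (f : M ⟶ M') :
    LocInj J f ↔ Presheaf.IsLocallyInjective J ((PresheafOfModules.toPresheaf _).map f) := by
  constructor
  · intro h
    refine ⟨fun {X} x y hxy => ?_⟩
    let x' : M.obj X := x
    let y' : M.obj X := y
    have hxy' : f.app X x' = f.app X y' := hxy
    obtain ⟨S, hS, hS'⟩ := h X.unop (x' - y') (by
      show f.app X (x' - y') = 0
      rw [map_sub, hxy', sub_self])
    refine J.superset_covering ?_ hS
    intro Y g hg
    have := hS' g hg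
    show M.map g.op x' = M.map g.op y'
    rw [map_sub, sub_eq_zero] at this
    exact this
  · intro h X m hm
    refine ⟨_, Presheaf.equalizerSieve_mem J ((PresheafOfModules.toPresheaf _).map f)
      (X := op X) m 0 ?_, ?_⟩
    · show f.app (op X) m = f.app (op X) 0
      rw [hm, map_zero]
    · intro Y g hg
      have : M.map g.op m = M.map g.op 0 := hg
      rw [this, map_zero]

variable (M) in
/-- Restriction maps of a presheaf of modules as additive maps. -/
noncomputable def res {X Y : Cᵒᵖ} (g : X ⟶ Y) : M.obj X →+ M.obj Y :=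
  AddMonoidHom.mk' (fun m => M.map g m) (fun a b => map_add (M.map g).hom a b)

variable (M) in
lemma res_apply {X Y : Cᵒᵖ} (g : X ⟶ Y) (m : M.obj X) : res M g m = M.map g m := rfl

variable (M) in
lemma res_smul {X Y : Cᵒᵖ} (g : X ⟶ Y) (a : R.obj X) (m : M.obj X) :
    res M g (a • m) = (R.map g).hom a • res M g m := M.map_smul g a m

variable (M) in
lemma res_comp {X Y Z : Cᵒᵖ} (g : X ⟶ Y) (h : Y ⟶ Z) (m : M.obj X) :
    res M (g ≫ h) m = res M h (res M g m) := M.map_comp_apply g h m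

lemma res_naturality (f : M ⟶ M') {X Y : Cᵒᵖ} (g : X ⟶ Y) (m : M.obj X) :
    f.app Y (res M g m) = res M' g (f.app X m) := PresheafOfModules.naturality_apply f g m

variable (N : PresheafOfModules.{u} (R ⋙ forget₂ _ _))

variable (M) in
/-- Restriction maps of the tensor product presheaf, as additive maps of honest tensor
products. -/
noncomputable def tres {X Y : Cᵒᵖ} (g : X ⟶ Y) :
    M.obj X ⊗[R.obj X] N.obj X →+ M.obj Y ⊗[R.obj Y] N.obj Y :=
  semiTensor (R.map g).hom (res M g) (res N g) (res_smul M g) (res_smul N g)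

variable (M) in
lemma tres_tmul {X Y : Cᵒᵖ} (g : X ⟶ Y) (m : M.obj X) (n : N.obj X) :
    tres M N g (m ⊗ₜ[R.obj X] n) = res M g m ⊗ₜ[R.obj Y] res N g n := rfl

variable (M) in
lemma tensor_map_eq {X Y : Cᵒᵖ} (g : X ⟶ Y) (t : M.obj X ⊗[R.obj X] N.obj X) :
    (M ⊗ N).map g t = tres M N g t := by
  have : AddMonoidHom.mk' (fun t : M.obj X ⊗[R.obj X] N.obj X =>
      ((M ⊗ N).map g t : M.obj Y ⊗[R.obj Y] N.obj Y))
      (fun a b => map_add ((M ⊗ N).map g).hom a b) = tres M N g :=
    addHom_ext (fun x y => rfl)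
  exact DFunLike.congr_fun this t

lemma whiskerRight_app_eq (f : M ⟶ M') (X : Cᵒᵖ) (t : M.obj X ⊗[R.obj X] N.obj X) :
    (f ▷ N).app X t = LinearMap.rTensor (N.obj X) (f.app X).hom t := rfl

lemma locSurj_whiskerRight (f : M ⟶ M') (hf : LocSurj J f) : LocSurj J (f ▷ N) := by
  intro X t'
  have key : ∀ t' : M'.obj (op X) ⊗[R.obj (op X)] N.obj (op X), ∃ S ∈ J X,
      ∀ ⦃Y : C⦄ (g : Y ⟶ X), S g →
      ∃ m : M.obj (op Y) ⊗[R.obj (op Y)] N.obj (op Y),
        LinearMap.rTensor (N.obj (op Y)) (f.app (op Y)).hom m = tres M' N g.op t' := by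
    intro t'
    induction t' using TensorProduct.induction_on with
    | zero =>
      refine ⟨⊤, J.top_mem X, fun Y g _ => ⟨0, ?_⟩⟩
      rw [map_zero, map_zero]
    | tmul m' n =>
      obtain ⟨S, hS, hS'⟩ := hf X m'
      refine ⟨S, hS, fun Y g hg => ?_⟩
      obtain ⟨m, hm⟩ := hS' g hg
      refine ⟨m ⊗ₜ[R.obj (op Y)] res N g.op n, ?_⟩
      exact congrArg (· ⊗ₜ[R.obj (op Y)] res N g.op n) hm
    | add x y hx hy =>
      obtain ⟨S₁, hS₁, h₁⟩ := hx
      obtain ⟨S₂, hS₂, h₂⟩ := hy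
      refine ⟨S₁ ⊓ S₂, J.intersection_covering hS₁ hS₂, fun Y g hg => ?_⟩
      obtain ⟨m₁, hm₁⟩ := h₁ g hg.1
      obtain ⟨m₂, hm₂⟩ := h₂ g hg.2
      refine ⟨m₁ + m₂, ?_⟩
      rw [map_add, map_add, hm₁, hm₂]
  obtain ⟨S, hS, h⟩ := key t'
  refine ⟨S, hS, fun Y g hg => ?_⟩
  obtain ⟨m, hm⟩ := h g hg
  exact ⟨m, hm.trans (tensor_map_eq M' N g.op t').symm⟩

variable (M) in
lemma tres_comp {X Y Z : Cᵒᵖ} (g : X ⟶ Y) (h : Y ⟶ Z) (t : M.obj X ⊗[R.obj X] N.obj X) :
    tres M N (g ≫ h) t = tres M N h (tres M N g t) := by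
  have : tres M N (g ≫ h) = (tres M N h).comp (tres M N g) :=
    addHom_ext (fun x y => by
      rw [AddMonoidHom.comp_apply, tres_tmul, tres_tmul, tres_tmul, res_comp, res_comp])
  exact DFunLike.congr_fun this t

/-- Finitely many elements are simultaneously locally in the image. -/
lemma exists_cover_finset (f : M ⟶ M') (hf : LocSurj J f) (X : C)
    (s : Finset (M'.obj (op X))) :
    ∃ S ∈ J X, ∀ ⦃Y : C⦄ (g : Y ⟶ X), S g → ∀ q ∈ s,
      ∃ m : M.obj (op Y), f.app (op Y) m = res M' g.op q := by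
  classical
  induction s using Finset.induction_on with
  | empty => exact ⟨⊤, J.top_mem X, fun Y g _ q hq => absurd hq (Finset.notMem_empty q)⟩
  | insert q s hq ih =>
    obtain ⟨S₁, hS₁, h₁⟩ := hf X q
    obtain ⟨S₂, hS₂, h₂⟩ := ih
    refine ⟨S₁ ⊓ S₂, J.intersection_covering hS₁ hS₂, fun Y g hg q' hq' => ?_⟩
    rcases Finset.mem_insert.mp hq' with rfl | hq'
    · exact h₁ g hg.1
    · exact h₂ g hg.2 q' hq'

lemma res_mem_range_of_span (f : M ⟶ M') {X Y : Cᵒᵖ} (g : X ⟶ Y) (s : Set (M'.obj X))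
    (hs : ∀ q ∈ s, ∃ m : M.obj Y, f.app Y m = res M' g q) (q : M'.obj X)
    (hq : q ∈ Submodule.span (R.obj X) s) :
    res M' g q ∈ LinearMap.range (f.app Y).hom := by
  induction hq using Submodule.span_induction with
  | mem x hx => obtain ⟨m, hm⟩ := hs x hx; exact ⟨m, hm⟩
  | zero => rw [map_zero]; exact Submodule.zero_mem _
  | add x y _ _ hx hy => rw [map_add]; exact Submodule.add_mem _ hx hy
  | smul a x _ hx => rw [res_smul]; exact Submodule.smul_mem _ _ hx

lemma ker_tensor_locally_zero (f : M ⟶ M') (hf : LocInj J f) (Y : C)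
    (w : (LinearMap.ker (f.app (op Y)).hom) ⊗[R.obj (op Y)] N.obj (op Y)) :
    ∃ T ∈ J Y, ∀ ⦃Z : C⦄ (h : Z ⟶ Y), T h →
      tres M N h.op (LinearMap.rTensor (N.obj (op Y))
        (LinearMap.ker (f.app (op Y)).hom).subtype w) = 0 := by
  induction w using TensorProduct.induction_on with
  | zero => exact ⟨⊤, J.top_mem Y, fun Z h _ => by rw [map_zero, map_zero]⟩
  | tmul k n =>
    obtain ⟨T, hT, hT'⟩ := hf Y k.1 k.2
    refine ⟨T, hT, fun Z h hh => ?_⟩
    have h0 : res M h.op k.1 = 0 := hT' h hh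
    show res M h.op k.1 ⊗ₜ[R.obj (op Z)] res N h.op n = 0
    rw [h0, TensorProduct.zero_tmul]
  | add x y hx hy =>
    obtain ⟨S₁, hS₁, h₁⟩ := hx
    obtain ⟨S₂, hS₂, h₂⟩ := hy
    refine ⟨S₁ ⊓ S₂, J.intersection_covering hS₁ hS₂, fun Z h hh => ?_⟩
    rw [map_add, map_add, h₁ h hh.1, h₂ h hh.2, add_zero]

lemma locInj_whiskerRight (f : M ⟶ M') (hs : LocSurj J f) (hi : LocInj J f) :
    LocInj J (f ▷ N) := by
  intro X t ht
  have key : ∀ t : M.obj (op X) ⊗[R.obj (op X)] N.obj (op X),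
      LinearMap.rTensor (N.obj (op X)) (f.app (op X)).hom t = 0 →
      ∃ S ∈ J X, ∀ ⦃Y : C⦄ (g : Y ⟶ X), S g → tres M N g.op t = 0 := by
    intro t ht
    obtain ⟨M₀, t₀, Q, s, hQ, ht₀, hsQ, hvan⟩ := exists_fg_vanish (f.app (op X)).hom t ht
    obtain ⟨S, hS, hS'⟩ := exists_cover_finset J f hs X s
    let Z : Sieve X :=
      { arrows := fun Y g => tres M N g.op t = 0
        downward_closed := by
          intro Y W g hg h
          show tres M N (h ≫ g).op t = 0
          rw [op_comp, tres_comp, hg, map_zero] }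
    refine ⟨Z, J.transitive hS Z ?_, fun Y g hg => hg⟩
    intro Y g hg
    have hrange : ∀ q : Q, res M' g.op q.1 ∈ LinearMap.range (f.app (op Y)).hom :=
      fun q => res_mem_range_of_span f g.op (s : Set _) (fun q hq => hS' g hg q hq) q.1
        (hsQ ▸ q.2)
    let p : Q →+ LinearMap.range (f.app (op Y)).hom :=
      { toFun := fun q => ⟨res M' g.op q.1, hrange q⟩
        map_zero' := Subtype.ext (map_zero (res M' g.op))
        map_add' := fun a b => Subtype.ext (map_add (res M' g.op) a.1 b.1) }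
    have hp : ∀ (a : R.obj (op X)) (q : Q), p (a • q) = (R.map g.op).hom a • p q :=
      fun a q => Subtype.ext (res_smul M' g.op a q.1)
    let τ := semiTensor (R.map g.op).hom p (res N g.op) hp (res_smul N g.op)
    let p₀ : M₀ →+ M.obj (op Y) := (res M g.op).comp M₀.subtype.toAddMonoidHom
    let σ := semiTensor (R.map g.op).hom p₀ (res N g.op)
      (fun a x => res_smul M g.op a x.1) (res_smul N g.op)
    have c1 : τ.comp (LinearMap.rTensor (N.obj (op X))
        (((f.app (op X)).hom.domRestrict M₀).codRestrict Q hQ)).toAddMonoidHom =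
        (LinearMap.rTensor (N.obj (op Y)) (f.app (op Y)).hom.rangeRestrict).toAddMonoidHom.comp
          σ :=
      addHom_ext (fun x y => by
        show (p ⟨(f.app (op X)).hom x.1, hQ x⟩) ⊗ₜ[R.obj (op Y)] res N g.op y =
          ((f.app (op Y)).hom.rangeRestrict (res M g.op x.1)) ⊗ₜ[R.obj (op Y)] res N g.op y
        congr 1
        exact Subtype.ext (res_naturality f g.op x.1).symm)
    have c2 : σ = (tres M N g.op).comp
        (LinearMap.rTensor (N.obj (op X)) M₀.subtype).toAddMonoidHom :=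
      addHom_ext (fun x y => rfl)
    have h0 : LinearMap.rTensor (N.obj (op Y)) (f.app (op Y)).hom.rangeRestrict
        (tres M N g.op t) = 0 := by
      have e1 := DFunLike.congr_fun c1 t₀
      have e2 := DFunLike.congr_fun c2 t₀
      simp only [AddMonoidHom.comp_apply, LinearMap.toAddMonoidHom_coe] at e1 e2
      rw [← ht₀, ← e2, ← e1, hvan, map_zero]
    obtain ⟨w, hw⟩ := mem_range_ker_of_rangeRestrict _ _ h0
    obtain ⟨T, hT, hT'⟩ := ker_tensor_locally_zero J N f hi Y w
    refine J.superset_covering ?_ hT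
    intro W h hh
    show tres M N (h ≫ g).op t = 0
    rw [op_comp, tres_comp, ← hw]
    exact hT' h hh
  obtain ⟨S, hS, h⟩ := key t ht
  refine ⟨S, hS, fun Y g hg => ?_⟩
  exact (tensor_map_eq M N g.op t).trans (h g hg)

section W

variable [J.WEqualsLocallyBijective AddCommGrpCat.{u}]

lemma W_whiskerRight (f : M ⟶ M') (hf : J.W ((PresheafOfModules.toPresheaf _).map f)) :
    J.W ((PresheafOfModules.toPresheaf _).map (f ▷ N)) := by
  rw [J.W_iff_isLocallyBijective] at hf ⊢
  rw [← locInj_iff, ← locSurj_iff] at hf ⊢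
  exact ⟨locInj_whiskerRight J N f hf.2 hf.1, locSurj_whiskerRight J N f hf.2⟩

lemma W_whiskerLeft (f : M ⟶ M') (hf : J.W ((PresheafOfModules.toPresheaf _).map f)) :
    J.W ((PresheafOfModules.toPresheaf _).map (N ◁ f)) := by
  have : N ◁ f = (β_ N M).hom ≫ f ▷ N ≫ (β_ N M').inv := by
    rw [← BraidedCategory.braiding_naturality_right_assoc, Iso.hom_inv_id, Category.comp_id]
  rw [this, Functor.map_comp, Functor.map_comp]
  exact J.W.comp_mem _ _ (ObjectProperty.isLocal_of_isIso _ _)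
    (J.W.comp_mem _ _ (W_whiskerRight J N f hf) (ObjectProperty.isLocal_of_isIso _ _))

lemma W_tensorHom {N' : PresheafOfModules.{u} (R ⋙ forget₂ _ _)} (f : M ⟶ M') (g : N ⟶ N')
    (hf : J.W ((PresheafOfModules.toPresheaf _).map f))
    (hg : J.W ((PresheafOfModules.toPresheaf _).map g)) :
    J.W ((PresheafOfModules.toPresheaf _).map (f ⊗ₘ g)) := by
  rw [MonoidalCategory.tensorHom_def, Functor.map_comp]
  exact J.W.comp_mem _ _ (W_whiskerRight J N f hf) (W_whiskerLeft J M' g hg)

end W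

end Presheaf

end Groth.Agent.Lib.Helper5.TensorLocal
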