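import Mathlib
import Groth.Agent.Lib.Helper5.Misc.TensorLocal

/-!
# Stalks of the tensor product of presheaves of modules on a space (helper5)

For presheaves of modules `M`, `N` over a presheaf of commutative rings `R` on a topological
space, the canonical map `(M ⊗ N)_x → M_x ⊗_{R_x} N_x` is injective (in fact bijective).
-/
set_option autoImplicit false
universe u
open CategoryTheory CategoryTheory.Limits MonoidalCategory Opposite TensorProduct TopologicalSpace
open Groth.Agent.Lib.Helper5.TensorLocal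

namespace Groth.Agent.Lib.Helper5.Misc.StalkTensor

variable {X : TopCat.{u}} {R : X.Presheaf CommRingCat.{u}}

/-- presheaves of modules over `R` -/
abbrev PMod (R : X.Presheaf CommRingCat.{u}) := PresheafOfModules.{u} (R ⋙ forget₂ CommRingCat RingCat)

variable (M N : PMod R) (x : X)

/-- the stalk (type) -/
abbrev St : Type u := ↑(TopCat.Presheaf.stalk M.presheaf x)

/-- germs as additive maps -/
noncomputable def gm (U : Opens X) (hx : x ∈ U) : M.obj (op U) →+ St M x :=
  (TopCat.Presheaf.germ M.presheaf U x hx).hom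

lemma gm_res {U V : Opens X} (i : V ⟶ U) (hx : x ∈ V) (m : M.obj (op U)) :
    gm M x V hx (res M i.op m) = gm M x U (leOfHom i hx) m :=
  TopCat.Presheaf.germ_res_apply M.presheaf i x hx m

lemma gm_smul (U : Opens X) (hx : x ∈ U) (r : R.obj (op U)) (m : M.obj (op U)) :
    gm M x U hx (r • m) = (R.germ U x hx r : R.stalk x) • gm M x U hx m :=
  PresheafOfModules.germ_smul (R := R) M x U hx r m

lemma gm_exists (a : St M x) : ∃ (U : Opens X) (hx : x ∈ U) (m : M.obj (op U)), gm M x U hx m = a := by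
  obtain ⟨U, hx, m, h⟩ := TopCat.Presheaf.exists_germ_eq M.presheaf (x := x) a
  exact ⟨U, hx, m, h⟩

/-- the ring map `R(U) → R_x` -/
noncomputable def gr (U : Opens X) (hx : x ∈ U) : R.obj (op U) →+* R.stalk x :=
  (R.germ U x hx).hom

/-- the local comparison map `M(U) ⊗ N(U) → M_x ⊗ N_x` -/
noncomputable def thetaU (U : Opens X) (hx : x ∈ U) :
    M.obj (op U) ⊗[R.obj (op U)] N.obj (op U) →+ St M x ⊗[R.stalk x] St N x :=
  semiTensor (gr (R := R) x U hx) (gm M x U hx) (gm N x U hx)
    (fun a m => gm_smul M x U hx a m) (fun a n => gm_smul N x U hx a n)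

@[simp]
lemma thetaU_tmul (U : Opens X) (hx : x ∈ U) (m : M.obj (op U)) (n : N.obj (op U)) :
    thetaU M N x U hx (m ⊗ₜ n) = gm M x U hx m ⊗ₜ gm N x U hx n := rfl

lemma thetaU_res {U V : Opens X} (i : V ⟶ U) (hx : x ∈ V)
    (t : M.obj (op U) ⊗[R.obj (op U)] N.obj (op U)) :
    thetaU M N x V hx ((M ⊗ N).map i.op t) = thetaU M N x U (leOfHom i hx) t := by
  rw [tensor_map_eq]
  induction t using TensorProduct.induction_on with
  | zero => simp
  | tmul m n =>
    rw [tres_tmul, thetaU_tmul, thetaU_tmul, gm_res, gm_res]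
  | add a b ha hb => rw [map_add, map_add, map_add, ha, hb]

/-- the cocone defining the comparison map -/
noncomputable def thetaCocone : Cocone ((OpenNhds.inclusion x).op ⋙ (M ⊗ N).presheaf) where
  pt := AddCommGrpCat.of (St M x ⊗[R.stalk x] St N x)
  ι :=
    { app := fun U => AddCommGrpCat.ofHom (thetaU M N x U.unop.1 U.unop.2)
      naturality := fun U V i => by
        ext t
        exact thetaU_res M N x ((OpenNhds.inclusion x).map i.unop) V.unop.2 t }

/-- the comparison map `(M ⊗ N)_x → M_x ⊗ N_x` -/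
noncomputable def theta : St (M ⊗ N) x →+ St M x ⊗[R.stalk x] St N x :=
  (colimit.desc ((OpenNhds.inclusion x).op ⋙ (M ⊗ N).presheaf) (thetaCocone M N x)).hom

lemma theta_gm (U : Opens X) (hx : x ∈ U) (t : M.obj (op U) ⊗[R.obj (op U)] N.obj (op U)) :
    theta M N x ((gm (M ⊗ N) x U hx : M.obj (op U) ⊗[R.obj (op U)] N.obj (op U) →+ St (M ⊗ N) x) t) =
      thetaU M N x U hx t := by
  have := colimit.ι_desc (thetaCocone M N x) (op ⟨U, hx⟩)
  exact congrArg (fun f => f.hom t) this

lemma map_map {U V W : Opens X} (i : V ⟶ U) (j : W ⟶ V) (k : W ⟶ U) (m : M.obj (op U)) :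
    res M j.op (res M i.op m) = res M k.op m := by
  rw [← res_comp]
  congr 2

/-- the pure tensor of restrictions to the intersection -/
noncomputable def tm (U V : Opens X) (m : M.obj (op U)) (n : N.obj (op V)) :
    M.obj (op (U ⊓ V)) ⊗[R.obj (op (U ⊓ V))] N.obj (op (U ⊓ V)) :=
  res M (homOfLE (inf_le_left : U ⊓ V ≤ U)).op m ⊗ₜ res N (homOfLE (inf_le_right : U ⊓ V ≤ V)).op n

lemma tm_add_left (U V : Opens X) (m m' : M.obj (op U)) (n : N.obj (op V)) :
    tm M N U V (m + m') n = tm M N U V m n + tm M N U V m' n := by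
  unfold tm
  rw [map_add, TensorProduct.add_tmul]

lemma tm_add_right (U V : Opens X) (m : M.obj (op U)) (n n' : N.obj (op V)) :
    tm M N U V m (n + n') = tm M N U V m n + tm M N U V m n' := by
  unfold tm
  rw [map_add, TensorProduct.tmul_add]

lemma mem_inf' {U V : Opens X} (hU : x ∈ U) (hV : x ∈ V) : x ∈ U ⊓ V :=
  Opens.mem_inf.mpr ⟨hU, hV⟩

/-- germs of the tensor product presheaf, typed on honest tensor products -/
noncomputable def gT (U : Opens X) (hx : x ∈ U) :
    M.obj (op U) ⊗[R.obj (op U)] N.obj (op U) →+ St (M ⊗ N) x :=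
  gm (M ⊗ N) x U hx

lemma gT_res {U V : Opens X} (i : V ⟶ U) (hx : x ∈ V)
    (t : M.obj (op U) ⊗[R.obj (op U)] N.obj (op U)) :
    gT M N x V hx (tres M N i.op t) = gT M N x U (leOfHom i hx) t := by
  rw [← tensor_map_eq]
  exact gm_res (M ⊗ N) x i hx t

/-- its germ -/
noncomputable def gtm (U V : Opens X) (hU : x ∈ U) (hV : x ∈ V) (m : M.obj (op U))
    (n : N.obj (op V)) : St (M ⊗ N) x :=
  gT M N x (U ⊓ V) (mem_inf' x hU hV) (tm M N U V m n)

lemma tm_res {U U' V V' : Opens X} (i : U' ⟶ U) (j : V' ⟶ V) (k : U' ⊓ V' ⟶ U ⊓ V)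
    (m : M.obj (op U)) (n : N.obj (op V)) :
    tres M N k.op (tm M N U V m n) = tm M N U' V' (res M i.op m) (res N j.op n) := by
  unfold tm
  rw [tres_tmul, map_map M i _ (homOfLE (inf_le_left.trans (leOfHom i))),
    map_map N j _ (homOfLE (inf_le_right.trans (leOfHom j))),
    map_map M _ k (homOfLE (inf_le_left.trans (leOfHom i))),
    map_map N _ k (homOfLE (inf_le_right.trans (leOfHom j)))]

lemma gtm_res {U U' V V' : Opens X} (i : U' ⟶ U) (j : V' ⟶ V) (hU : x ∈ U') (hV : x ∈ V')
    (m : M.obj (op U)) (n : N.obj (op V)) :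
    gtm M N x U' V' hU hV (res M i.op m) (res N j.op n) =
      gtm M N x U V (leOfHom i hU) (leOfHom j hV) m n := by
  unfold gtm
  have k : U' ⊓ V' ⟶ U ⊓ V := homOfLE (inf_le_inf (leOfHom i) (leOfHom j))
  rw [← gT_res M N x k (mem_inf' x hU hV), tm_res M N i j k]

lemma gtm_add_left (U V : Opens X) (hU : x ∈ U) (hV : x ∈ V) (m m' : M.obj (op U))
    (n : N.obj (op V)) :
    gtm M N x U V hU hV (m + m') n = gtm M N x U V hU hV m n + gtm M N x U V hU hV m' n := by
  unfold gtm
  rw [tm_add_left, map_add]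

lemma gtm_add_right (U V : Opens X) (hU : x ∈ U) (hV : x ∈ V) (m : M.obj (op U))
    (n n' : N.obj (op V)) :
    gtm M N x U V hU hV m (n + n') = gtm M N x U V hU hV m n + gtm M N x U V hU hV m n' := by
  unfold gtm
  rw [tm_add_right, map_add]

lemma tm_self (U : Opens X) (k : U ⊓ U ⟶ U) (m : M.obj (op U)) (n : N.obj (op U)) :
    tres M N k.op (m ⊗ₜ n) = tm M N U U m n := rfl

lemma gtm_self (U : Opens X) (hU : x ∈ U) (m : M.obj (op U)) (n : N.obj (op U)) :
    gtm M N x U U hU hU m n = gT M N x U hU (m ⊗ₜ n) := by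
  unfold gtm
  have k : U ⊓ U ⟶ U := homOfLE inf_le_left
  rw [← gT_res M N x k (mem_inf' x hU hU), tm_self M N U k]

lemma res_id (U : Opens X) (m : M.obj (op U)) : res M (𝟙 U).op m = m := by
  show (M.presheaf.map (𝟙 (op U))).hom m = m
  rw [M.presheaf.map_id]
  rfl

lemma gtm_res_right {U V V' : Opens X} (j : V' ⟶ V) (hU : x ∈ U) (hV : x ∈ V')
    (m : M.obj (op U)) (n : N.obj (op V)) :
    gtm M N x U V' hU hV m (res N j.op n) = gtm M N x U V hU (leOfHom j hV) m n := by
  have := gtm_res M N x (𝟙 U) j hU hV m n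
  rwa [res_id] at this

lemma gtm_res_left {U U' V : Opens X} (i : U' ⟶ U) (hU : x ∈ U') (hV : x ∈ V)
    (m : M.obj (op U)) (n : N.obj (op V)) :
    gtm M N x U' V hU hV (res M i.op m) n = gtm M N x U V (leOfHom i hU) hV m n := by
  have := gtm_res M N x i (𝟙 V) hU hV m n
  rwa [res_id] at this

/-- the cocone defining `β_U(m) : N_x → (M ⊗ N)_x` -/
noncomputable def betaCocone (U : Opens X) (hU : x ∈ U) (m : M.obj (op U)) :
    Cocone ((OpenNhds.inclusion x).op ⋙ N.presheaf) where
  pt := AddCommGrpCat.of (St (M ⊗ N) x)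
  ι :=
    { app := fun V => AddCommGrpCat.ofHom
        (AddMonoidHom.mk' (fun n : N.obj (op V.unop.1) => gtm M N x U V.unop.1 hU V.unop.2 m n)
          (fun n n' => gtm_add_right M N x U V.unop.1 hU V.unop.2 m n n'))
      naturality := fun V V' i => by
        ext n
        exact gtm_res_right M N x ((OpenNhds.inclusion x).map i.unop) hU V'.unop.2 m n }

/-- `β_U(m) : N_x → (M ⊗ N)_x` -/
noncomputable def betaU (U : Opens X) (hU : x ∈ U) (m : M.obj (op U)) :
    St N x →+ St (M ⊗ N) x :=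
  (colimit.desc ((OpenNhds.inclusion x).op ⋙ N.presheaf) (betaCocone M N x U hU m)).hom

lemma betaU_gm (U V : Opens X) (hU : x ∈ U) (hV : x ∈ V) (m : M.obj (op U)) (n : N.obj (op V)) :
    betaU M N x U hU m (gm N x V hV n) = gtm M N x U V hU hV m n := by
  have := colimit.ι_desc (betaCocone M N x U hU m) (op ⟨V, hV⟩)
  exact congrArg (fun f => f.hom n) this

lemma betaU_add (U : Opens X) (hU : x ∈ U) (m m' : M.obj (op U)) :
    betaU M N x U hU (m + m') = betaU M N x U hU m + betaU M N x U hU m' := by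
  ext a
  obtain ⟨V, hV, n, rfl⟩ := gm_exists N x a
  rw [AddMonoidHom.add_apply, betaU_gm, betaU_gm, betaU_gm, gtm_add_left]

lemma betaU_res {U U' : Opens X} (i : U' ⟶ U) (hU : x ∈ U') (m : M.obj (op U)) :
    betaU M N x U' hU (res M i.op m) = betaU M N x U (leOfHom i hU) m := by
  ext a
  obtain ⟨V, hV, n, rfl⟩ := gm_exists N x a
  rw [betaU_gm, betaU_gm, gtm_res_left]

/-- the cocone defining `β : M_x → Hom(N_x, (M ⊗ N)_x)` -/
noncomputable def betaCocone' : Cocone ((OpenNhds.inclusion x).op ⋙ M.presheaf) where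
  pt := AddCommGrpCat.of (St N x →+ St (M ⊗ N) x)
  ι :=
    { app := fun U => AddCommGrpCat.ofHom
        (AddMonoidHom.mk' (fun m : M.obj (op U.unop.1) => betaU M N x U.unop.1 U.unop.2 m)
          (fun m m' => betaU_add M N x U.unop.1 U.unop.2 m m'))
      naturality := fun U U' i => by
        ext m
        exact betaU_res M N x ((OpenNhds.inclusion x).map i.unop) U'.unop.2 m }

/-- the biadditive map `β : M_x → N_x → (M ⊗ N)_x` -/
noncomputable def beta : St M x →+ St N x →+ St (M ⊗ N) x :=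
  (colimit.desc ((OpenNhds.inclusion x).op ⋙ M.presheaf) (betaCocone' M N x)).hom

lemma beta_gm (U V : Opens X) (hU : x ∈ U) (hV : x ∈ V) (m : M.obj (op U)) (n : N.obj (op V)) :
    beta M N x (gm M x U hU m) (gm N x V hV n) = gtm M N x U V hU hV m n := by
  have := colimit.ι_desc (betaCocone' M N x) (op ⟨U, hU⟩)
  have h2 : beta M N x (gm M x U hU m) = betaU M N x U hU m :=
    congrArg (fun f => f.hom m) this
  rw [h2, betaU_gm]

lemma gr_res {U V : Opens X} (i : V ⟶ U) (hx : x ∈ V) (r : R.obj (op U)) :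
    gr (R := R) x V hx ((R.map i.op).hom r) = gr (R := R) x U (leOfHom i hx) r :=
  TopCat.Presheaf.germ_res_apply R i x hx r

lemma common_rep (r : R.stalk x) (a : St M x) (b : St N x) :
    ∃ (W : Opens X) (hW : x ∈ W) (r' : R.obj (op W)) (m : M.obj (op W)) (n : N.obj (op W)),
      gr (R := R) x W hW r' = r ∧ gm M x W hW m = a ∧ gm N x W hW n = b := by
  obtain ⟨U₁, h₁, r₁, rfl⟩ := TopCat.Presheaf.exists_germ_eq R (x := x) r
  obtain ⟨U₂, h₂, m₂, rfl⟩ := gm_exists M x a
  obtain ⟨U₃, h₃, n₃, rfl⟩ := gm_exists N x b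
  have hW : x ∈ U₁ ⊓ U₂ ⊓ U₃ := mem_inf' x (mem_inf' x h₁ h₂) h₃
  refine ⟨U₁ ⊓ U₂ ⊓ U₃, hW,
    (R.map (homOfLE (inf_le_left.trans inf_le_left : U₁ ⊓ U₂ ⊓ U₃ ≤ U₁)).op).hom r₁,
    res M (homOfLE (inf_le_left.trans inf_le_right : U₁ ⊓ U₂ ⊓ U₃ ≤ U₂)).op m₂,
    res N (homOfLE (inf_le_right : U₁ ⊓ U₂ ⊓ U₃ ≤ U₃)).op n₃, ?_, ?_, ?_⟩
  · exact gr_res x _ hW r₁
  · exact gm_res M x _ hW m₂
  · exact gm_res N x _ hW n₃

lemma beta_balanced (r : R.stalk x) (a : St M x) (b : St N x) :
    beta M N x (r • a) b = beta M N x a (r • b) := by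
  obtain ⟨W, hW, r', m, n, rfl, rfl, rfl⟩ := common_rep M N x r a b
  have h1 : (gr (R := R) x W hW r' : R.stalk x) • gm M x W hW m = gm M x W hW (r' • m) :=
    (gm_smul M x W hW r' m).symm
  have h2 : (gr (R := R) x W hW r' : R.stalk x) • gm N x W hW n = gm N x W hW (r' • n) :=
    (gm_smul N x W hW r' n).symm
  rw [h1, h2, beta_gm, beta_gm, gtm_self, gtm_self, TensorProduct.smul_tmul]

/-- the inverse comparison map `M_x ⊗ N_x → (M ⊗ N)_x` -/
noncomputable def psi : St M x ⊗[R.stalk x] St N x →+ St (M ⊗ N) x :=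
  TensorProduct.liftAddHom (beta M N x) (beta_balanced M N x)

lemma psi_tmul (a : St M x) (b : St N x) : psi M N x (a ⊗ₜ b) = beta M N x a b := rfl

lemma psi_thetaU (U : Opens X) (hU : x ∈ U) (s : M.obj (op U) ⊗[R.obj (op U)] N.obj (op U)) :
    psi M N x (thetaU M N x U hU s) = gT M N x U hU s := by
  induction s using TensorProduct.induction_on with
  | zero => simp
  | tmul m n =>
    have h1 : thetaU M N x U hU (m ⊗ₜ[R.obj (op U)] n) = gm M x U hU m ⊗ₜ gm N x U hU n := rfl
    exact (congrArg (psi M N x) h1).trans ((psi_tmul M N x _ _).trans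
      ((beta_gm M N x U U hU hU m n).trans (gtm_self M N x U hU m n)))
  | add a b ha hb => rw [map_add, map_add, map_add, ha, hb]

lemma psi_theta (t : St (M ⊗ N) x) : psi M N x (theta M N x t) = t := by
  obtain ⟨U, hU, s, rfl⟩ := gm_exists (M ⊗ N) x t
  exact (congrArg (psi M N x) (theta_gm M N x U hU s)).trans (psi_thetaU M N x U hU s)

lemma theta_injective : Function.Injective (theta M N x) :=
  Function.LeftInverse.injective (psi_theta M N x)

section Naturality

variable {N} {N' : PMod R} (f : N ⟶ N')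

/-- the map induced on stalks, as an additive map -/
noncomputable def stalkMap : St N x →+ St N' x :=
  ((TopCat.Presheaf.stalkFunctor AddCommGrpCat.{u} x).map
    ((PresheafOfModules.toPresheaf _).map f)).hom

lemma stalkMap_gm (U : Opens X) (hU : x ∈ U) (n : N.obj (op U)) :
    stalkMap x f (gm N x U hU n) = gm N' x U hU (f.app (op U) n) :=
  TopCat.Presheaf.stalkFunctor_map_germ_apply U x hU ((PresheafOfModules.toPresheaf _).map f) n

lemma stalkMap_smul (r : R.stalk x) (b : St N x) :
    stalkMap x f (r • b) = r • stalkMap x f b := by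
  obtain ⟨W, hW, r', _, n, rfl, _, rfl⟩ := common_rep N N x r b b
  have h1 : (gr (R := R) x W hW r' : R.stalk x) • gm N x W hW n = gm N x W hW (r' • n) :=
    (gm_smul N x W hW r' n).symm
  have h2 : (gr (R := R) x W hW r' : R.stalk x) • gm N' x W hW (f.app (op W) n) =
      gm N' x W hW (r' • f.app (op W) n) := (gm_smul N' x W hW r' _).symm
  rw [h1, stalkMap_gm, stalkMap_gm, h2, map_smul]

/-- the map induced on stalks, as a linear map -/
noncomputable def stalkMapL : St N x →ₗ[R.stalk x] St N' x where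
  toFun := stalkMap x f
  map_add' := map_add _
  map_smul' := stalkMap_smul x f

lemma whiskerLeft_app_eq (U : Opens X) (t : M.obj (op U) ⊗[R.obj (op U)] N.obj (op U)) :
    (M ◁ f).app (op U) t = LinearMap.lTensor (M.obj (op U)) (f.app (op U)).hom t := rfl

lemma thetaU_lTensor (U : Opens X) (hU : x ∈ U)
    (s : M.obj (op U) ⊗[R.obj (op U)] N.obj (op U)) :
    thetaU M N' x U hU (LinearMap.lTensor (M.obj (op U)) (f.app (op U)).hom s) =
      LinearMap.lTensor (St M x) (stalkMapL x f) (thetaU M N x U hU s) := by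
  induction s using TensorProduct.induction_on with
  | zero => simp
  | tmul m n =>
    show gm M x U hU m ⊗ₜ[R.stalk x] gm N' x U hU (f.app (op U) n) =
      gm M x U hU m ⊗ₜ[R.stalk x] stalkMap x f (gm N x U hU n)
    rw [stalkMap_gm]
  | add a b ha hb => rw [map_add, map_add, map_add, map_add, ha, hb]

lemma theta_natural (t : St (M ⊗ N) x) :
    theta M N' x (stalkMap x (M ◁ f) t) =
      LinearMap.lTensor (St M x) (stalkMapL x f) (theta M N x t) := by
  obtain ⟨U, hU, s, rfl⟩ := gm_exists (M ⊗ N) x t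
  rw [stalkMap_gm]
  refine (theta_gm M N' x U hU _).trans ?_
  refine Eq.trans ?_ (congrArg (LinearMap.lTensor (St M x) (stalkMapL x f))
    (theta_gm M N x U hU s)).symm
  exact thetaU_lTensor M x f U hU s

theorem stalkMap_whiskerLeft_injective [Module.Flat (R.stalk x) (St M x)]
    (hf : Function.Injective (stalkMap x f)) :
    Function.Injective (stalkMap x (M ◁ f)) := by
  intro a b hab
  apply theta_injective M N x
  have h1 := congrArg (theta M N' x) hab
  rw [theta_natural, theta_natural] at h1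
  exact Module.Flat.lTensor_preserves_injective_linearMap (stalkMapL x f) hf h1

end Naturality

end Groth.Agent.Lib.Helper5.Misc.StalkTensor
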