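import Mathlib

/-!
# A consequence of the snake lemma (helper5)

Given a morphism `v : L₁ ⟶ L₂` of short complexes in an abelian category with `L₁` right exact,
`L₂` left exact, `v.τ₃` a monomorphism, and `p : L₂ ⟶ L₃` a componentwise cokernel of `v`, the
map `L₃.f` is a monomorphism.
-/
set_option autoImplicit false
open CategoryTheory CategoryTheory.Limits

namespace Groth.Agent.Lib.Helper5.SnakeMono

universe v u
variable {A : Type u} [Category.{v} A] [Abelian A]

theorem mono_L₃_f {L₁ L₂ L₃ : ShortComplex A} (v : L₁ ⟶ L₂) (p : L₂ ⟶ L₃)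
    (w : v ≫ p = 0)
    (hL₁ : L₁.Exact) [Epi L₁.g] (hL₂ : L₂.Exact) [Mono L₂.f]
    (h₁ : IsColimit (CokernelCofork.ofπ p.τ₁
      (show v.τ₁ ≫ p.τ₁ = 0 by rw [← ShortComplex.comp_τ₁, w]; rfl)))
    (h₂ : IsColimit (CokernelCofork.ofπ p.τ₂
      (show v.τ₂ ≫ p.τ₂ = 0 by rw [← ShortComplex.comp_τ₂, w]; rfl)))
    (h₃ : IsColimit (CokernelCofork.ofπ p.τ₃
      (show v.τ₃ ≫ p.τ₃ = 0 by rw [← ShortComplex.comp_τ₃, w]; rfl)))
    [Mono v.τ₃] : Mono L₃.f := by
  let S : ShortComplex.SnakeInput A :=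
    { L₀ := kernel v
      L₁ := L₁
      L₂ := L₂
      L₃ := L₃
      v₀₁ := kernel.ι v
      v₁₂ := v
      v₂₃ := p
      w₀₂ := kernel.condition v
      w₁₃ := w
      h₀ := kernelIsKernel v
      h₃ := ShortComplex.isColimitOfIsColimitπ _
        ((CokernelCofork.isColimitMapCoconeEquiv _ ShortComplex.π₁).symm h₁)
        ((CokernelCofork.isColimitMapCoconeEquiv _ ShortComplex.π₂).symm h₂)
        ((CokernelCofork.isColimitMapCoconeEquiv _ ShortComplex.π₃).symm h₃)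
      L₁_exact := hL₁
      epi_L₁_g := inferInstance
      L₂_exact := hL₂
      mono_L₂_f := inferInstance }
  have hz : S.v₀₁.τ₃ = 0 := by
    have h := S.w₀₂_τ₃
    have : Mono S.v₁₂.τ₃ := (inferInstance : Mono v.τ₃)
    exact zero_of_comp_mono _ h
  have hδ : S.δ = 0 := by
    have : Mono S.v₀₁.τ₃ := S.mono_v₀₁_τ₃
    have hzero : IsZero S.L₀.X₃ := by
      rw [IsZero.iff_id_eq_zero]
      rw [← cancel_mono S.v₀₁.τ₃, hz]
      simp
    exact hzero.eq_of_src _ _
  exact S.L₂'_exact.mono_g hδ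

end Groth.Agent.Lib.Helper5.SnakeMono
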