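import Mathlib
import Groth.Prelude.Def_ModSite
import Groth.Agent.Lib.Helper5.Misc.TensorLocal
import Groth.Agent.S12450

/-!
# The tensor product of sheaves of modules on a site: colimits and flatness (helper5)
-/

set_option autoImplicit false

open CategoryTheory MonoidalCategory Limits Opposite

namespace Groth.Agent.Lib.Helper5.TensorSheaf

universe u v₁ u₁ w w'

section PresheafColimits

variable {C : Type u₁} [Category.{v₁} C] {R : Cᵒᵖ ⥤ CommRingCat.{u}}

instance tensorLeft_preservesColimitsOfShape (P : PresheafOfModules.{u} (R ⋙ forget₂ _ _))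
    (K : Type w) [Category.{w'} K] [HasColimitsOfShape K AddCommGrpCat.{u}] :
    PreservesColimitsOfShape K (tensorLeft P) := by
  constructor
  intro D
  constructor
  intro c hc
  refine ⟨PresheafOfModules.evaluationJointlyReflectsColimits _ _ (fun X => ?_)⟩
  have h1 : IsColimit ((PresheafOfModules.evaluation _ X).mapCocone c) :=
    isColimitOfPreserves _ hc
  have h2 : IsColimit ((tensorLeft (C := ModuleCat (R.obj X)) (P.obj X)).mapCocone
      ((PresheafOfModules.evaluation _ X).mapCocone c)) := isColimitOfPreserves _ h1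
  exact h2

instance tensorRight_preservesColimitsOfShape (P : PresheafOfModules.{u} (R ⋙ forget₂ _ _))
    (K : Type w) [Category.{w'} K] [HasColimitsOfShape K AddCommGrpCat.{u}] :
    PreservesColimitsOfShape K (tensorRight P) := by
  constructor
  intro D
  constructor
  intro c hc
  refine ⟨PresheafOfModules.evaluationJointlyReflectsColimits _ _ (fun X => ?_)⟩
  have h1 : IsColimit ((PresheafOfModules.evaluation _ X).mapCocone c) :=
    isColimitOfPreserves _ hc
  have h2 : IsColimit ((tensorRight (C := ModuleCat (R.obj X)) (P.obj X)).mapCocone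
      ((PresheafOfModules.evaluation _ X).mapCocone c)) := isColimitOfPreserves _ h1
  exact h2

end PresheafColimits

section Sheaf

variable {C : Type u} [SmallCategory C] {J : GrothendieckTopology C} (O : Sheaf J CommRingCat.{u})

/-- Presheaves of modules over the underlying presheaf of rings of `O`. -/
abbrev PM : Type (u + 1) := PresheafOfModules.{u} (O.obj ⋙ forget₂ CommRingCat.{u} RingCat.{u})

/-- The forgetful functor from sheaves of modules to presheaves of modules. -/
noncomputable abbrev fgt : ModSite.Mod O ⥤ PM O := SheafOfModules.forget (ModSite.ringSh O)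

/-- Sheafification, with source typed as `PM O`. -/
noncomputable abbrev shf : PM O ⥤ ModSite.Mod O := ModSite.sheafify O

/-- The sheafification adjunction. -/
noncomputable abbrev adj : shf O ⊣
    (SheafOfModules.forget (ModSite.ringSh O) ⋙
      PresheafOfModules.restrictScalars (𝟙 (ModSite.ringSh O).obj)) :=
  PresheafOfModules.sheafificationAdjunction (𝟙 (ModSite.ringSh O).obj)

/-- The unit of the sheafification adjunction, as a natural transformation to `shf ⋙ fgt`. -/
noncomputable def unit' : 𝟭 (PM O) ⟶ shf O ⋙ fgt O where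
  app M := (adj O).unit.app M
  naturality _ _ f := (adj O).unit.naturality f

variable {O}

lemma W_unit' (M : PM O) :
    J.W ((PresheafOfModules.toPresheaf _).map ((unit' O).app M)) :=
  J.W_toSheafify M.presheaf

lemma isIso_shf_map_of_W {M M' : PM O} (f : M ⟶ M')
    (hf : J.W ((PresheafOfModules.toPresheaf _).map f)) : IsIso ((shf O).map f) := by
  rw [J.W_iff] at hf
  rw [← isIso_iff_of_reflects_iso _ (SheafOfModules.toSheaf (ModSite.ringSh O))]
  exact hf

/-- **Lemma A.** If `Lp` preserves `K`-shaped colimits and `J.W`, then `fgt ⋙ Lp ⋙ shf`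
preserves `K`-shaped colimits. -/
lemma preservesColimitsOfShape_fgt_comp (Lp : PM O ⥤ PM O) (K : Type u) [SmallCategory K]
    [PreservesColimitsOfShape K Lp]
    (hW : ∀ {M M' : PM O} (f : M ⟶ M'), J.W ((PresheafOfModules.toPresheaf _).map f) →
      J.W ((PresheafOfModules.toPresheaf _).map (Lp.map f))) :
    PreservesColimitsOfShape K (fgt O ⋙ Lp ⋙ shf O) := by
  let τ : Lp ⋙ shf O ⟶ shf O ⋙ fgt O ⋙ Lp ⋙ shf O :=
    Functor.whiskerRight (unit' O) (Lp ⋙ shf O)
  have hτ : ∀ M, IsIso (τ.app M) := fun M =>
    isIso_shf_map_of_W _ (hW _ (W_unit' M))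
  have : IsIso τ := NatIso.isIso_of_isIso_app τ
  have h0 : PreservesColimitsOfSize.{u, u} (shf O) := (adj O).leftAdjoint_preservesColimits
  have h1 : PreservesColimitsOfShape K (shf O) := inferInstance
  have h2 : PreservesColimitsOfShape K (Lp ⋙ shf O) := inferInstance
  have : PreservesColimitsOfShape K (shf O ⋙ fgt O ⋙ Lp ⋙ shf O) :=
    preservesColimitsOfShape_of_natIso (asIso τ)
  have : IsIso (adj O).counit :=
    inferInstanceAs (IsIso (PresheafOfModules.sheafificationAdjunction
      (𝟙 (ModSite.ringSh O).obj)).counit)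
  exact Groth.Agent.S12450.preservesColimitsOfShape_of_reflective (adj O)
    (fgt O ⋙ Lp ⋙ shf O) K

variable (O)

/-- `X ⊗ -` as a composite. -/
noncomputable def tensorBiObjIso (X : ModSite.Mod O) :
    (ModSite.tensorBi O).obj X ≅ fgt O ⋙ tensorLeft ((fgt O).obj X) ⋙ shf O :=
  NatIso.ofComponents (fun _ => Iso.refl _) (by
    intro F G f
    exact (Category.comp_id (((ModSite.tensorBi O).obj X).map f)).trans
      (Category.id_comp (((ModSite.tensorBi O).obj X).map f)).symm)

/-- `- ⊗ F` as a composite. -/
noncomputable def tensorBiFlipObjIso (F : ModSite.Mod O) :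
    (ModSite.tensorBi O).flip.obj F ≅ fgt O ⋙ tensorRight ((fgt O).obj F) ⋙ shf O :=
  NatIso.ofComponents (fun _ => Iso.refl _) (by
    intro X Y f
    exact (Category.comp_id (((ModSite.tensorBi O).flip.obj F).map f)).trans
      (Category.id_comp (((ModSite.tensorBi O).flip.obj F).map f)).symm)

instance tensorBi_obj_preservesColimitsOfShape (X : ModSite.Mod O) (K : Type u)
    [SmallCategory K] : PreservesColimitsOfShape K ((ModSite.tensorBi O).obj X) := by
  have := preservesColimitsOfShape_fgt_comp (tensorLeft ((fgt O).obj X)) K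
    (fun f hf => Groth.Agent.Lib.Helper5.TensorLocal.W_whiskerLeft J _ f hf)
  exact preservesColimitsOfShape_of_natIso (tensorBiObjIso O X).symm

instance tensorBi_flip_obj_preservesColimitsOfShape (F : ModSite.Mod O) (K : Type u)
    [SmallCategory K] : PreservesColimitsOfShape K ((ModSite.tensorBi O).flip.obj F) := by
  have := preservesColimitsOfShape_fgt_comp (tensorRight ((fgt O).obj F)) K
    (fun f hf => Groth.Agent.Lib.Helper5.TensorLocal.W_whiskerRight J _ f hf)
  exact preservesColimitsOfShape_of_natIso (tensorBiFlipObjIso O F).symm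

instance tensorBi_obj_preservesColimits (X : ModSite.Mod O) :
    PreservesColimitsOfSize.{u, u} ((ModSite.tensorBi O).obj X) :=
  ⟨fun {_} _ => inferInstance⟩

instance tensorBi_flip_obj_preservesColimits (F : ModSite.Mod O) :
    PreservesColimitsOfSize.{u, u} ((ModSite.tensorBi O).flip.obj F) :=
  ⟨fun {_} _ => inferInstance⟩

instance tensorBi_flip_preservesColimitsOfShape (K : Type u) [SmallCategory K] :
    PreservesColimitsOfShape K (ModSite.tensorBi O).flip := by
  apply preservesColimitsOfShape_of_evaluation
  intro X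
  exact inferInstanceAs (PreservesColimitsOfShape K ((ModSite.tensorBi O).obj X))

instance tensorBi_preservesColimitsOfShape (K : Type u) [SmallCategory K] :
    PreservesColimitsOfShape K (ModSite.tensorBi O) := by
  apply preservesColimitsOfShape_of_evaluation
  intro F
  exact inferInstanceAs (PreservesColimitsOfShape K ((ModSite.tensorBi O).flip.obj F))

variable {O}

/-- Right exactness is automatic, so flatness is left exactness. -/
lemma isFlat_iff (F : ModSite.Mod O) :
    ModSite.IsFlat F ↔ PreservesFiniteLimits ((ModSite.tensorBi O).flip.obj F) :=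
  ⟨fun h => h.1, fun h => ⟨h, inferInstance⟩⟩

/-- A colimit of flat modules along a shape with exact colimits is flat. -/
theorem isFlat_of_isColimit (K : Type u) [SmallCategory K]
    [HasExactColimitsOfShape K (ModSite.Mod O)] (D : K ⥤ ModSite.Mod O)
    (hD : ∀ k, ModSite.IsFlat (D.obj k)) (c : Cocone D) (hc : IsColimit c) :
    ModSite.IsFlat c.pt := by
  rw [isFlat_iff]
  let Φ : K ⥤ (ModSite.Mod O ⥤ ModSite.Mod O) := D ⋙ (ModSite.tensorBi O).flip
  have h1 : IsColimit ((ModSite.tensorBi O).flip.mapCocone c) := isColimitOfPreserves _ hc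
  let e1 : (ModSite.tensorBi O).flip.obj c.pt ≅ colimit Φ :=
    h1.coconePointUniqueUpToIso (colimit.isColimit Φ)
  let e2 : colimit Φ ≅ Φ.flip ⋙ colim := colimitIsoFlipCompColim Φ
  have h2 : PreservesFiniteLimits Φ.flip := by
    constructor
    intro L _ _
    apply preservesLimitsOfShape_of_evaluation
    intro k
    have := ((isFlat_iff (D.obj k)).mp (hD k))
    exact inferInstanceAs (PreservesLimitsOfShape L ((ModSite.tensorBi O).flip.obj (D.obj k)))
  have h3 : PreservesFiniteLimits (colim : (K ⥤ ModSite.Mod O) ⥤ ModSite.Mod O) :=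
    HasExactColimitsOfShape.preservesFiniteLimits
  have : PreservesFiniteLimits (Φ.flip ⋙ colim) := comp_preservesFiniteLimits _ _
  exact preservesFiniteLimits_of_natIso (e1 ≪≫ e2).symm

/-- The adjunct of a morphism `Q ⟶ fgt G`. -/
noncomputable def adjunct {Q : PM O} {G : ModSite.Mod O} (φ : Q ⟶ (fgt O).obj G) :
    (shf O).obj Q ⟶ G :=
  ((adj O).homEquiv Q G).symm φ

lemma adjunct_eq {Q : PM O} {G : ModSite.Mod O} (φ : Q ⟶ (fgt O).obj G) :
    adjunct φ = (shf O).map φ ≫ (adj O).counit.app G :=
  Adjunction.homEquiv_counit (adj O) Q G φ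

instance isIso_counit_app (G : ModSite.Mod O) : IsIso ((adj O).counit.app G) := by
  have : IsIso (adj O).counit :=
    inferInstanceAs (IsIso (PresheafOfModules.sheafificationAdjunction
      (𝟙 (ModSite.ringSh O).obj)).counit)
  infer_instance

/-- A `W`-map from a presheaf of modules to a sheaf of modules exhibits the latter as the
sheafification. -/
lemma isIso_adjunct_of_W {Q : PM O} {G : ModSite.Mod O} (φ : Q ⟶ (fgt O).obj G)
    (hφ : J.W ((PresheafOfModules.toPresheaf _).map φ)) : IsIso (adjunct φ) := by
  rw [adjunct_eq]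
  have h1 := isIso_shf_map_of_W φ hφ
  have h2 := isIso_counit_app (O := O) G
  exact @IsIso.comp_isIso _ _ _ _ _ _ _ h1 h2

end Sheaf

end Groth.Agent.Lib.Helper5.TensorSheaf
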