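import Mathlib
import Groth.Prelude.Def_ModSite
import Groth.Agent.Lib.Helper5.Misc.TensorSheaf
import Groth.Agent.S9110

/-!
# Flat presheaves sheafify to flat sheaves; flat covers (helper5)
-/
set_option autoImplicit false
open CategoryTheory CategoryTheory.Limits MonoidalCategory Opposite
open Groth.Agent.Lib.Helper5.TensorSheaf

namespace Groth.Agent.Lib.Helper5.TensorFlat

universe u
variable {C : Type u} [SmallCategory C] {J : GrothendieckTopology C}
  {O : Sheaf J CommRingCat.{u}}

/-- `- ⊗ aP ≅ a(fgt(-) ⊗ P)`. -/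
noncomputable def flipObjShfIso (P : PM O) :
    (ModSite.tensorBi O).flip.obj ((shf O).obj P) ≅ fgt O ⋙ tensorRight P ⋙ shf O := by
  let α : fgt O ⋙ tensorRight P ⋙ shf O ⟶
      fgt O ⋙ tensorRight ((fgt O).obj ((shf O).obj P)) ⋙ shf O :=
    Functor.whiskerLeft (fgt O)
      (Functor.whiskerRight ((tensoringRight (PM O)).map ((unit' O).app P)) (shf O))
  have hα : IsIso α := by
    have : ∀ X, IsIso (α.app X) := fun X => isIso_shf_map_of_W _
      (Groth.Agent.Lib.Helper5.TensorLocal.W_whiskerLeft J _ _ (W_unit' _))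
    exact NatIso.isIso_of_isIso_app α
  exact tensorBiFlipObjIso O _ ≪≫ (asIso α).symm

/-- **Lemma C.** The sheafification of a flat presheaf of modules is a flat sheaf of modules. -/
theorem isFlat_shf (P : PM O) (hP : PreservesFiniteLimits (tensorRight P)) :
    ModSite.IsFlat ((shf O).obj P) := by
  rw [isFlat_iff]
  have h1 : PreservesFiniteLimits (fgt O) :=
    inferInstanceAs (PreservesFiniteLimits (SheafOfModules.forget (ModSite.ringSh O)))
  have h2 : PreservesFiniteLimits (shf O) :=
    inferInstanceAs (PreservesFiniteLimits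
      (PresheafOfModules.sheafification (𝟙 (ModSite.ringSh O).obj)))
  have h3 : PreservesFiniteLimits (tensorRight P ⋙ shf O) := comp_preservesFiniteLimits _ _
  have h4 : PreservesFiniteLimits (fgt O ⋙ tensorRight P ⋙ shf O) :=
    comp_preservesFiniteLimits _ _
  exact preservesFiniteLimits_of_natIso (flipObjShfIso P).symm

/-- The free presheaf of modules on the underlying presheaf of sets of `M`. -/
noncomputable def freeCover (M : PM O) : PM O :=
  PresheafOfModules.freeObj (M.presheaf ⋙ forget Ab)

/-- The canonical epimorphism from the free cover. -/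
noncomputable def freeCoverπ (M : PM O) : freeCover M ⟶ M :=
  PresheafOfModules.freeObjDesc (𝟙 _)

instance epi_freeCoverπ (M : PM O) : Epi (freeCoverπ M) := by
  apply PresheafOfModules.epi_of_surjective
  intro X m
  refine ⟨ModuleCat.freeMk m, ?_⟩
  exact ModuleCat.freeDesc_apply _ _

lemma freeCover_flat (M : PM O) : PreservesFiniteLimits (tensorRight (freeCover M)) := by
  refine (Groth.Agent.S9110.result O.obj (freeCover M) (fun X => ?_)).1
  exact inferInstanceAs (Module.Flat (O.obj.obj X) ((M.presheaf ⋙ forget Ab).obj X →₀ O.obj.obj X))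

/-- Every sheaf of modules is a quotient of a flat one. -/
theorem exists_flat_epi (F : ModSite.Mod O) :
    ∃ (G : ModSite.Mod O) (π : G ⟶ F), ModSite.IsFlat G ∧ Epi π := by
  let M : PM O := (fgt O).obj F
  refine ⟨(shf O).obj (freeCover M), (shf O).map (freeCoverπ M) ≫ (adj O).counit.app F,
    isFlat_shf _ (freeCover_flat M), ?_⟩
  have h0 : (shf O).IsLeftAdjoint := (adj O).isLeftAdjoint
  have h1 : Epi ((shf O).map (freeCoverπ M)) := inferInstance
  have h2 : IsIso ((adj O).counit.app F) := isIso_counit_app F
  have h3 : Epi ((adj O).counit.app F) := @IsIso.epi_of_iso _ _ _ _ _ h2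
  exact @epi_comp _ _ _ _ _ _ h1 _ h3

end Groth.Agent.Lib.Helper5.TensorFlat
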