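import Mathlib
import Groth.Prelude.Def_KFlatSite
import Groth.Agent.Lib.Helper5.Misc.TensorFlat
import Groth.Agent.Lib.Helper5.Misc.SnakeMono

/-!
# Flatness and short exact sequences of sheaves of modules on a site (helper5)
-/
set_option autoImplicit false
open CategoryTheory CategoryTheory.Limits MonoidalCategory Opposite
open Groth.Agent.Lib.Helper5.TensorSheaf

namespace Groth.Agent.Lib.Helper5.TensorSES

universe u
variable {C : Type u} [SmallCategory C] {J : GrothendieckTopology C}
  {O : Sheaf J CommRingCat.{u}}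

instance additive_flip_obj (F : ModSite.Mod O) : ((ModSite.tensorBi O).flip.obj F).Additive where
  map_add {X Y f g} := by
    show ((ModSite.tensorBi O).map (f + g)).app F =
      ((ModSite.tensorBi O).map f).app F + ((ModSite.tensorBi O).map g).app F
    rw [Functor.map_add]
    rfl

/-- Symmetry: `F ⊗ - ≅ - ⊗ F`. -/
noncomputable def objIsoFlipObj (F : ModSite.Mod O) :
    (ModSite.tensorBi O).obj F ≅ (ModSite.tensorBi O).flip.obj F :=
  tensorBiObjIso O F ≪≫
    Functor.isoWhiskerLeft (fgt O)
      (Functor.isoWhiskerRight (BraidedCategory.tensorLeftIsoTensorRight ((fgt O).obj F)) (shf O)) ≪≫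
    (tensorBiFlipObjIso O F).symm

lemma isFlat_iff' (F : ModSite.Mod O) :
    ModSite.IsFlat F ↔ PreservesFiniteLimits ((ModSite.tensorBi O).obj F) := by
  rw [isFlat_iff]
  constructor
  · intro h; exact preservesFiniteLimits_of_natIso (objIsoFlipObj F).symm
  · intro h; exact preservesFiniteLimits_of_natIso (objIsoFlipObj F)

/-- Right exactness of `- ⊗ G`. -/
lemma map_exact_epi (G : ModSite.Mod O) (S : ShortComplex (ModSite.Mod O)) (hS : S.ShortExact) :
    (S.map ((ModSite.tensorBi O).flip.obj G)).Exact ∧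
      Epi (((ModSite.tensorBi O).flip.obj G).map S.g) :=
  (Functor.preservesFiniteColimits_iff_forall_exact_map_and_epi _).mp inferInstance S hS

/-- The key consequence of the snake lemma: tensoring a short exact sequence with flat
right-hand term keeps the left map a monomorphism. -/
theorem mono_map_f (S : ShortComplex (ModSite.Mod O)) (hS : S.ShortExact)
    (hF : ModSite.IsFlat S.X₃) (G : ModSite.Mod O) :
    Mono (((ModSite.tensorBi O).flip.obj G).map S.f) := by
  obtain ⟨P, π, hP, hπ⟩ := Groth.Agent.Lib.Helper5.TensorFlat.exists_flat_epi G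
  let T := ModSite.tensorBi O
  let ι : kernel π ⟶ P := kernel.ι π
  have hιπ : ι ≫ π = 0 := kernel.condition π
  let R : ShortComplex (ModSite.Mod O) := ShortComplex.mk ι π hιπ
  have hR : R.ShortExact :=
    { exact := ShortComplex.exact_of_f_is_kernel _ (kernelIsKernel π)
      mono_f := inferInstanceAs (Mono (kernel.ι π))
      epi_g := hπ }
  let a : T.flip.obj (kernel π) ⟶ T.flip.obj P := T.flip.map ι
  let b : T.flip.obj P ⟶ T.flip.obj G := T.flip.map π
  have hab : a ≫ b = 0 := by
    show T.flip.map ι ≫ T.flip.map π = 0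
    rw [← Functor.map_comp, hιπ, Functor.map_zero]
  let v : S.map (T.flip.obj (kernel π)) ⟶ S.map (T.flip.obj P) := S.mapNatTrans a
  let p : S.map (T.flip.obj P) ⟶ S.map (T.flip.obj G) := S.mapNatTrans b
  have happ : ∀ X, a.app X ≫ b.app X = 0 := fun X => by
    rw [← NatTrans.comp_app, hab]; rfl
  have w : v ≫ p = 0 := ShortComplex.hom_ext _ _ (happ _) (happ _) (happ _)
  have h1 := map_exact_epi (kernel π) S hS
  have hP' : PreservesFiniteLimits (T.flip.obj P) := (isFlat_iff P).mp hP
  have h2 := (Functor.preservesFiniteLimits_iff_forall_exact_map_and_mono _).mp hP' S hS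
  have : Epi (S.map (T.flip.obj (kernel π))).g := h1.2
  have : Mono (S.map (T.flip.obj P)).f := h2.2
  have hcok : ∀ X : ModSite.Mod O, IsColimit (CokernelCofork.ofπ (b.app X)
      (show a.app X ≫ b.app X = 0 by rw [← NatTrans.comp_app, hab]; rfl)) := by
    intro X
    have hc : IsColimit (CokernelCofork.ofπ R.g R.zero) := hR.gIsCokernel
    exact CokernelCofork.mapIsColimit _ hc (T.obj X)
  have hX₃ : PreservesFiniteLimits (T.obj S.X₃) := (isFlat_iff' S.X₃).mp hF
  have : Mono v.τ₃ := by
    show Mono ((T.obj S.X₃).map ι)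
    infer_instance
  exact Groth.Agent.Lib.Helper5.SnakeMono.mono_L₃_f v p w h1.1 h2.1
    (hcok S.X₁) (hcok S.X₂) (hcok S.X₃)

/-- Tensoring a short exact sequence whose right-hand term is flat stays short exact. -/
theorem shortExact_map (S : ShortComplex (ModSite.Mod O)) (hS : S.ShortExact)
    (hF : ModSite.IsFlat S.X₃) (G : ModSite.Mod O) :
    (S.map ((ModSite.tensorBi O).flip.obj G)).ShortExact :=
  have h := map_exact_epi G S hS
  have hm := mono_map_f S hS hF G
  { exact := h.1
    mono_f := hm
    epi_g := h.2 }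

/-- A right exact additive functor which preserves monomorphisms of short exact sequences
preserves finite limits (specialised to `X ⊗ -`). -/
lemma isFlat_of_mono (X : ModSite.Mod O)
    (h : ∀ R : ShortComplex (ModSite.Mod O), R.ShortExact →
      Mono (((ModSite.tensorBi O).obj X).map R.f)) : ModSite.IsFlat X := by
  rw [isFlat_iff', Functor.preservesFiniteLimits_iff_forall_exact_map_and_mono]
  intro R hR
  exact ⟨((Functor.preservesFiniteColimits_iff_forall_exact_map_and_epi _).mp
    inferInstance R hR).1, h R hR⟩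

lemma mono_obj_map_of_isFlat (X : ModSite.Mod O) (hX : ModSite.IsFlat X)
    {A B : ModSite.Mod O} (f : A ⟶ B) [Mono f] : Mono (((ModSite.tensorBi O).obj X).map f) := by
  have : PreservesFiniteLimits ((ModSite.tensorBi O).obj X) := (isFlat_iff' X).mp hX
  infer_instance

/-- In a short exact sequence with flat middle and right terms, the left term is flat. -/
theorem isFlat_X₁ (S : ShortComplex (ModSite.Mod O)) (hS : S.ShortExact)
    (h₂ : ModSite.IsFlat S.X₂) (h₃ : ModSite.IsFlat S.X₃) : ModSite.IsFlat S.X₁ := by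
  apply isFlat_of_mono
  intro R hR
  have : Mono R.f := hR.mono_f
  have hnat : ((ModSite.tensorBi O).obj S.X₁).map R.f ≫ ((ModSite.tensorBi O).map S.f).app R.X₂ =
      ((ModSite.tensorBi O).map S.f).app R.X₁ ≫ ((ModSite.tensorBi O).obj S.X₂).map R.f :=
    ((ModSite.tensorBi O).map S.f).naturality R.f
  have m1 : Mono (((ModSite.tensorBi O).map S.f).app R.X₁) := mono_map_f S hS h₃ R.X₁
  have m2 : Mono (((ModSite.tensorBi O).obj S.X₂).map R.f) := mono_obj_map_of_isFlat _ h₂ _
  have : Mono (((ModSite.tensorBi O).obj S.X₁).map R.f ≫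
      ((ModSite.tensorBi O).map S.f).app R.X₂) := by
    rw [hnat]; exact mono_comp _ _
  exact mono_of_mono _ (((ModSite.tensorBi O).map S.f).app R.X₂)

/-- In a short exact sequence with flat outer terms, the middle term is flat. -/
theorem isFlat_X₂ (S : ShortComplex (ModSite.Mod O)) (hS : S.ShortExact)
    (h₁ : ModSite.IsFlat S.X₁) (h₃ : ModSite.IsFlat S.X₃) : ModSite.IsFlat S.X₂ := by
  apply isFlat_of_mono
  intro R hR
  have : Mono R.f := hR.mono_f
  let φ : S.map ((ModSite.tensorBi O).flip.obj R.X₁) ⟶ S.map ((ModSite.tensorBi O).flip.obj R.X₂) :=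
    S.mapNatTrans ((ModSite.tensorBi O).flip.map R.f)
  have e1 := shortExact_map S hS h₃ R.X₁
  have e2 := shortExact_map S hS h₃ R.X₂
  have : Mono (S.map ((ModSite.tensorBi O).flip.obj R.X₁)).f := e1.mono_f
  have : Mono (S.map ((ModSite.tensorBi O).flip.obj R.X₂)).f := e2.mono_f
  have : Mono φ.τ₁ := mono_obj_map_of_isFlat _ h₁ R.f
  have : Mono φ.τ₃ := mono_obj_map_of_isFlat _ h₃ R.f
  exact ShortComplex.mono_τ₂_of_exact_of_mono φ e1.exact

end Groth.Agent.Lib.Helper5.TensorSES
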