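import Mathlib
import Groth.Prelude.Def_KFlatSite
import Groth.Agent.Lib.Helper5.Misc.StalkTensor
import Groth.Agent.Lib.Helper5.Misc.TensorSES

/-!
# Stalkwise flat sheaves of modules on a ringed space are flat (helper5)
-/
set_option autoImplicit false
universe u
open CategoryTheory CategoryTheory.Limits MonoidalCategory Opposite TensorProduct TopologicalSpace
open Groth.Agent.Lib.Helper5.TensorLocal Groth.Agent.Lib.Helper5.TensorSheaf
open Groth.Agent.Lib.Helper5.Misc.StalkTensor

namespace Groth.Agent.Lib.Helper5.Misc.StalkFlat

section Site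

variable {C : Type u} [SmallCategory C] {J : GrothendieckTopology C} {O : Sheaf J CommRingCat.{u}}

lemma mono_map_of_iso {A B : Type*} [Category A] [Category B] {F G : A ⥤ B} (e : F ≅ G)
    {X Y : A} (h : X ⟶ Y) [Mono (G.map h)] : Mono (F.map h) := by
  have : F.map h = e.hom.app X ≫ G.map h ≫ e.inv.app Y := by simp
  rw [this]
  infer_instance

/-- sheafification turns locally injective maps into monomorphisms -/
lemma mono_shf_map {P Q : PM O} (h : P ⟶ Q)
    (hh : Presheaf.IsLocallyInjective J ((PresheafOfModules.toPresheaf _).map h)) :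
    Mono ((shf O).map h) := by
  apply (SheafOfModules.toSheaf (ModSite.ringSh O)).mono_of_mono_map
  have h1 : Mono ((presheafToSheaf J AddCommGrpCat.{u}).map
      ((PresheafOfModules.toPresheaf _).map h)) := by
    have := (Presheaf.isLocallyInjective_presheafToSheaf_map_iff J _).2 hh
    exact Sheaf.mono_of_isLocallyInjective _
  exact @mono_map_of_iso _ _ _ _ _ _
    (PresheafOfModules.sheafificationCompToSheaf (𝟙 (ModSite.ringSh O).obj)) P Q h h1

end Site

section Space

variable {X : TopCat.{u}} {R : X.Presheaf CommRingCat.{u}}

/-- a morphism of presheaves of modules on a space which is injective on all stalks is locally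
injective -/
lemma isLocallyInjective_of_stalkMap_injective {P Q : PMod R} (h : P ⟶ Q)
    (hinj : ∀ x : X, Function.Injective (stalkMap x h)) :
    Presheaf.IsLocallyInjective (Opens.grothendieckTopology X)
      ((PresheafOfModules.toPresheaf _).map h) := by
  rw [← locInj_iff]
  intro U m hm
  refine ⟨{ arrows := fun V g => P.map g.op m = 0
            downward_closed := ?_ }, ?_, fun V g hg => hg⟩
  · intro V W g hg k
    show res P (k ≫ g).op m = 0
    rw [op_comp, res_comp]
    have : res P g.op m = 0 := hg
    rw [this, map_zero]
  · intro x hx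
    have h0 : stalkMap x h (gm P x U hx m) = stalkMap x h (gm P x U hx 0) := by
      rw [stalkMap_gm, stalkMap_gm, hm, map_zero, map_zero, map_zero]
    have h1 := hinj x h0
    obtain ⟨W, hW, iU, iV, e⟩ := TopCat.Presheaf.germ_eq P.presheaf x hx hx m 0 h1
    refine ⟨W, iU, ?_, hW⟩
    show res P iU.op m = 0
    have e' : res P iU.op m = res P iV.op 0 := e
    rw [e', map_zero]

end Space

section RingedSpace

variable {X : TopCat.{u}} (O : Sheaf (Opens.grothendieckTopology X) CommRingCat.{u})

/-- the underlying presheaf of rings -/
abbrev ringPre : TopCat.Presheaf CommRingCat.{u} X := O.obj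

lemma app_injective_of_mono {A B : ModSite.Mod O} (f : A ⟶ B) [Mono f] (U : (Opens X)ᵒᵖ) :
    Function.Injective (((fgt O).map f).app U) := by
  have h1 : Mono ((SheafOfModules.toSheaf (ModSite.ringSh O)).map f) := inferInstance
  have h2 : Mono ((sheafToPresheaf _ _).map ((SheafOfModules.toSheaf (ModSite.ringSh O)).map f)) :=
    inferInstance
  have h3 := (NatTrans.mono_iff_mono_app _).mp h2 U
  exact (AddCommGrpCat.mono_iff_injective _).mp h3

lemma stalkMap_injective_of_mono {A B : ModSite.Mod O} (f : A ⟶ B) [Mono f] (x : X) :
    Function.Injective (stalkMap x ((fgt O).map f)) :=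
  TopCat.Presheaf.stalkFunctor_map_injective_of_app_injective
    (f := (PresheafOfModules.toPresheaf _).map ((fgt O).map f))
    (fun U => app_injective_of_mono O f (op U)) x

/-- a sheaf of modules on a ringed space all of whose stalks are flat is flat -/
theorem isFlat_of_stalkwise (A : ModSite.Mod O)
    (hA : ∀ x : X, Module.Flat ((ringPre O).stalk x)
      (St (R := ringPre O) ((fgt O).obj A) x)) : ModSite.IsFlat A := by
  apply Groth.Agent.Lib.Helper5.TensorSES.isFlat_of_mono
  intro S hS
  have : Mono S.f := hS.mono_f
  show Mono ((shf O).map ((fgt O).obj A ◁ (fgt O).map S.f))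
  apply mono_shf_map
  apply isLocallyInjective_of_stalkMap_injective
  intro x
  have := hA x
  exact stalkMap_whiskerLeft_injective ((fgt O).obj A) x ((fgt O).map S.f)
    (stalkMap_injective_of_mono O S.f x)

end RingedSpace

end Groth.Agent.Lib.Helper5.Misc.StalkFlat
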