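import Mathlib

set_option autoImplicit false
set_option linter.unusedSectionVars false
set_option linter.unusedVariables false
set_option linter.style.haveILetI false
universe v u w
open CategoryTheory CategoryTheory.Limits

namespace Groth.Agent.Lib.Helper5.Misc.KFlatGen

section Pointwise

variable {J : Type*} [Category J] {A : Type*} [Category A] [Abelian A]

/-- exactness in a functor category can be checked pointwise -/
lemma exact_of_pointwise (S : ShortComplex (J ⥤ A))
    (h : ∀ j, (S.map ((evaluation J A).obj j)).Exact) : S.Exact := by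
  rw [S.exact_iff_isZero_homology, Functor.isZero_iff]
  intro j
  exact IsZero.of_iso (((S.map ((evaluation J A).obj j)).exact_iff_isZero_homology).1 (h j))
    (S.mapHomologyIso ((evaluation J A).obj j)).symm

end Pointwise

section Coprod

variable {A : Type u} [Category.{v} A] [Abelian A] {I : Type w}
  [HasColimitsOfShape (Discrete I) A] [HasExactColimitsOfShape (Discrete I) A]
  {X₁ X₂ X₃ : I → A} (f : ∀ i, X₁ i ⟶ X₂ i) (g : ∀ i, X₂ i ⟶ X₃ i)
  (w : ∀ i, f i ≫ g i = 0) (hS : ∀ i, (ShortComplex.mk (f i) (g i) (w i)).ShortExact)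
  {c₁ : Cofan X₁} (hc₁ : IsColimit c₁) {c₂ : Cofan X₂} (hc₂ : IsColimit c₂)
  {c₃ : Cofan X₃} (hc₃ : IsColimit c₃)
  (φ : c₁.pt ⟶ c₂.pt) (ψ : c₂.pt ⟶ c₃.pt)
  (hφ : ∀ i, c₁.inj i ≫ φ = f i ≫ c₂.inj i) (hψ : ∀ i, c₂.inj i ≫ ψ = g i ≫ c₃.inj i)

include hS hc₁ hc₂ hc₃ hφ hψ in
/-- a coproduct of short exact sequences is short exact (AB4) -/
lemma shortExact_coprod :
    ∃ (z : φ ≫ ψ = 0), (ShortComplex.mk φ ψ z).ShortExact := by
  let S' : ShortComplex (Discrete I ⥤ A) :=
    ShortComplex.mk (Discrete.natTrans (fun i => f i.as) : Discrete.functor X₁ ⟶ Discrete.functor X₂)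
      (Discrete.natTrans (fun i => g i.as) : Discrete.functor X₂ ⟶ Discrete.functor X₃)
      (by ext i; exact w i.as)
  have hS' : S'.Exact := by
    apply exact_of_pointwise
    intro i
    exact (hS i.as).exact
  haveI : ∀ i, Mono (f i) := fun i => (hS i).mono_f
  haveI : ∀ i, Epi (g i) := fun i => (hS i).epi_g
  haveI : Mono S'.f := by
    haveI : ∀ i, Mono (S'.f.app i) := fun i => by dsimp [S']; infer_instance
    exact NatTrans.mono_of_mono_app _
  have hf : ∀ j, c₁.ι.app j ≫ φ = S'.f.app j ≫ c₂.ι.app j := fun j => hφ j.as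
  have hg : ∀ j, c₂.ι.app j ≫ ψ = S'.g.app j ≫ c₃.ι.app j := fun j => hψ j.as
  have hex := colim.exact_mapShortComplex (S := S') hS' hc₁ hc₂ hc₃ φ ψ hf hg
  refine ⟨(colim.mapShortComplex S' hc₁ c₂ c₃ φ ψ hf hg).zero, ?_⟩
  haveI : Mono φ := colim.map_mono' S'.f hc₁ hc₂ φ hf
  haveI : Epi ψ := by
    haveI : ∀ j, Epi (S'.g.app j) := fun j => by dsimp [S']; infer_instance
    exact colim.map_epi' S'.g c₂ hc₃ ψ hg
  exact ShortComplex.ShortExact.mk hex

end Coprod

section Tot

open HomologicalComplex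

variable {A : Type u} [Category.{v} A] [Abelian A]
  (T : A ⥤ A ⥤ A) [T.PreservesZeroMorphisms] [∀ X, (T.obj X).PreservesZeroMorphisms]
  [∀ (K₁ K₂ : CochainComplex A ℤ), HasMapBifunctor K₁ K₂ T (ComplexShape.up ℤ)]
  (F : CochainComplex A ℤ) (S : ShortComplex (CochainComplex A ℤ))
  [∀ n : ℤ, HasColimitsOfShape
    (Discrete {i : ℤ × ℤ // ComplexShape.π (ComplexShape.up ℤ) (ComplexShape.up ℤ)
      (ComplexShape.up ℤ) i = n}) A]
  [∀ n : ℤ, HasExactColimitsOfShape
    (Discrete {i : ℤ × ℤ // ComplexShape.π (ComplexShape.up ℤ) (ComplexShape.up ℤ)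
      (ComplexShape.up ℤ) i = n}) A]
  (hS : ∀ p q : ℤ, ((S.map (HomologicalComplex.eval A _ q)).map (T.obj (F.X p))).ShortExact)

include hS in
lemma shortExact_tot_degree (n : ℤ) :
    ∃ (z : (mapBifunctorMap (𝟙 F) S.f T (ComplexShape.up ℤ)).f n ≫
        (mapBifunctorMap (𝟙 F) S.g T (ComplexShape.up ℤ)).f n = 0),
      (ShortComplex.mk _ _ z).ShortExact := by
  refine shortExact_coprod
    (I := {i : ℤ × ℤ // ComplexShape.π (ComplexShape.up ℤ) (ComplexShape.up ℤ)
      (ComplexShape.up ℤ) i = n})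
    (fun i => (T.obj (F.X i.1.1)).map (S.f.f i.1.2))
    (fun i => (T.obj (F.X i.1.1)).map (S.g.f i.1.2))
    (fun i => ((S.map (HomologicalComplex.eval A _ i.1.2)).map (T.obj (F.X i.1.1))).zero)
    (fun i => hS i.1.1 i.1.2)
    ((((T.mapBifunctorHomologicalComplex _ _).obj F).obj S.X₁).toGradedObject.isColimitCofanMapObj _ n)
    ((((T.mapBifunctorHomologicalComplex _ _).obj F).obj S.X₂).toGradedObject.isColimitCofanMapObj _ n)
    ((((T.mapBifunctorHomologicalComplex _ _).obj F).obj S.X₃).toGradedObject.isColimitCofanMapObj _ n)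
    _ _ ?_ ?_
  · rintro ⟨⟨p, q⟩, h⟩
    have := ι_mapBifunctorMap (𝟙 F) S.f T (ComplexShape.up ℤ) p q n h
    rw [HomologicalComplex.id_f, T.map_id, NatTrans.id_app, Category.id_comp] at this
    exact this
  · rintro ⟨⟨p, q⟩, h⟩
    have := ι_mapBifunctorMap (𝟙 F) S.g T (ComplexShape.up ℤ) p q n h
    rw [HomologicalComplex.id_f, T.map_id, NatTrans.id_app, Category.id_comp] at this
    exact this

include hS in
theorem shortExact_tot :
    ∃ (z : mapBifunctorMap (𝟙 F) S.f T (ComplexShape.up ℤ) ≫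
        mapBifunctorMap (𝟙 F) S.g T (ComplexShape.up ℤ) = 0),
      (ShortComplex.mk _ _ z).ShortExact := by
  have z : mapBifunctorMap (𝟙 F) S.f T (ComplexShape.up ℤ) ≫
        mapBifunctorMap (𝟙 F) S.g T (ComplexShape.up ℤ) = 0 := by
    ext n : 1
    exact (shortExact_tot_degree T F S hS n).choose
  refine ⟨z, HomologicalComplex.shortExact_of_degreewise_shortExact _ (fun n => ?_)⟩
  exact (shortExact_tot_degree T F S hS n).choose_spec

end Tot

section TwoOfThree

variable {C : Type u} [Category.{v} C] [Abelian C] {S : ShortComplex (CochainComplex C ℤ)}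
  (hS : S.ShortExact)

include hS in
lemma acyclic_X₃ (h₁ : ∀ i, IsZero (S.X₁.homology i)) (h₂ : ∀ i, IsZero (S.X₂.homology i)) (i : ℤ) :
    IsZero (S.X₃.homology i) :=
  (hS.homology_exact₃ i (i + 1) (by simp)).isZero_of_both_isZero (h₂ i) (h₁ (i + 1))

include hS in
lemma acyclic_X₂ (h₁ : ∀ i, IsZero (S.X₁.homology i)) (h₃ : ∀ i, IsZero (S.X₃.homology i)) (i : ℤ) :
    IsZero (S.X₂.homology i) :=
  (hS.homology_exact₂ i).isZero_of_both_isZero (h₁ i) (h₃ i)

include hS in
lemma acyclic_X₁ (h₂ : ∀ i, IsZero (S.X₂.homology i)) (h₃ : ∀ i, IsZero (S.X₃.homology i)) (i : ℤ) :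
    IsZero (S.X₁.homology i) :=
  (hS.homology_exact₁ (i - 1) i (by simp)).isZero_of_both_isZero (h₃ (i - 1)) (h₂ i)

end TwoOfThree

section Shift

open HomologicalComplex

variable {A : Type u} [Category.{v} A] [Abelian A]

lemma acyclic_of_iso {K L : CochainComplex A ℤ} (e : K ≅ L) (h : ∀ i, IsZero (K.homology i))
    (i : ℤ) : IsZero (L.homology i) :=
  IsZero.of_iso (h i) ((HomologicalComplex.homologyFunctor A _ i).mapIso e.symm)

lemma acyclic_shift_iff (K : CochainComplex A ℤ) (y : ℤ) :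
    (∀ i, IsZero ((K⟦y⟧).homology i)) ↔ ∀ i, IsZero (K.homology i) := by
  constructor
  · intro h i
    exact IsZero.of_iso (h (i - y))
      ((CochainComplex.ShiftSequence.shiftIso A y (i - y) i (by omega)).app K).symm
  · intro h i
    exact IsZero.of_iso (h (y + i))
      ((CochainComplex.ShiftSequence.shiftIso A y i (y + i) rfl).app K)

variable (T : A ⥤ A ⥤ A) [T.PreservesZeroMorphisms] [∀ X, (T.obj X).Additive]
  [∀ (K₁ K₂ : CochainComplex A ℤ), HasMapBifunctor K₁ K₂ T (ComplexShape.up ℤ)]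

lemma tot_shift₂_acyclic_iff (F K : CochainComplex A ℤ) (y : ℤ) :
    (∀ i, IsZero ((mapBifunctor F (K⟦y⟧) T (ComplexShape.up ℤ)).homology i)) ↔
      ∀ i, IsZero ((mapBifunctor F K T (ComplexShape.up ℤ)).homology i) := by
  rw [← acyclic_shift_iff (mapBifunctor F K T (ComplexShape.up ℤ)) y]
  exact ⟨acyclic_of_iso (CochainComplex.mapBifunctorShift₂Iso F K T y),
    acyclic_of_iso (CochainComplex.mapBifunctorShift₂Iso F K T y).symm⟩

end Shift

section Colim

open HomologicalComplex

variable {A : Type u} [Category.{v} A] [Abelian A] {J : Type*} [Category J]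
  [HasColimitsOfShape J A] [HasExactColimitsOfShape J A]

/-- a colimit (of exact shape) of acyclic complexes is acyclic -/
lemma acyclic_of_isColimit (D : J ⥤ CochainComplex A ℤ) (c : Cocone D) (hc : IsColimit c)
    (h : ∀ j i, IsZero ((D.obj j).homology i)) (i : ℤ) : IsZero (c.pt.homology i) := by
  rw [← exactAt_iff_isZero_homology, c.pt.exactAt_iff' (i - 1) i (i + 1) (by simp) (by simp)]
  let S : ShortComplex (J ⥤ A) :=
    ShortComplex.mk
      ({ app := fun j => (D.obj j).d (i - 1) i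
         naturality := fun j j' φ => ((D.map φ).comm (i - 1) i) } :
        D ⋙ eval A _ (i - 1) ⟶ D ⋙ eval A _ i)
      ({ app := fun j => (D.obj j).d i (i + 1)
         naturality := fun j j' φ => ((D.map φ).comm i (i + 1)) } :
        D ⋙ eval A _ i ⟶ D ⋙ eval A _ (i + 1))
      (by ext j; exact (D.obj j).d_comp_d _ _ _)
  have hS : S.Exact := by
    apply exact_of_pointwise
    intro j
    have := (D.obj j).exactAt_iff' (i - 1) i (i + 1) (by simp) (by simp)
    exact this.1 ((exactAt_iff_isZero_homology _ _).2 (h j i))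
  exact colim.exact_mapShortComplex (S := S) hS
    (isColimitOfPreserves (eval A _ (i - 1)) hc)
    (isColimitOfPreserves (eval A _ i) hc)
    (isColimitOfPreserves (eval A _ (i + 1)) hc)
    (c.pt.d (i - 1) i) (c.pt.d i (i + 1))
    (fun j => ((c.ι.app j).comm (i - 1) i))
    (fun j => ((c.ι.app j).comm i (i + 1)))

end Colim

section TotColim

open HomologicalComplex

variable {A : Type u} [Category.{v} A] [Abelian A]
  (T : A ⥤ A ⥤ A) [T.PreservesZeroMorphisms] [∀ X, (T.obj X).PreservesZeroMorphisms]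
  [∀ (K₁ K₂ : CochainComplex A ℤ), HasMapBifunctor K₁ K₂ T (ComplexShape.up ℤ)]
  (F : CochainComplex A ℤ) {J : Type*} [Category J] [HasColimitsOfShape J A]
  [∀ X, PreservesColimitsOfShape J (T.obj X)]
  {D : J ⥤ CochainComplex A ℤ} (c : Cocone D) (hc : IsColimit c)

/-- the auxiliary cocone on a summand -/
noncomputable def summandCocone (n : ℤ)
    (t : Cocone ((D ⋙ T.map₂CochainComplex.obj F) ⋙ eval A _ n)) (p q : ℤ) (h : p + q = n) :
    Cocone ((D ⋙ eval A _ q) ⋙ T.obj (F.X p)) where
  pt := t.pt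
  ι :=
    { app := fun j => ιMapBifunctor F (D.obj j) T (ComplexShape.up ℤ) p q n h ≫ t.ι.app j
      naturality := fun j j' φ => by
        have h1 := ι_mapBifunctorMap (𝟙 F) (D.map φ) T (ComplexShape.up ℤ) p q n h
        rw [HomologicalComplex.id_f, T.map_id, NatTrans.id_app, Category.id_comp] at h1
        have h2 : (mapBifunctorMap (𝟙 F) (D.map φ) T (ComplexShape.up ℤ)).f n ≫ t.ι.app j' =
            t.ι.app j := t.w φ
        show (T.obj (F.X p)).map ((D.map φ).f q) ≫
            ιMapBifunctor F (D.obj j') T (ComplexShape.up ℤ) p q n h ≫ t.ι.app j' =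
          (ιMapBifunctor F (D.obj j) T (ComplexShape.up ℤ) p q n h ≫ t.ι.app j) ≫ 𝟙 _
        rw [Category.comp_id, ← Category.assoc, ← h1, Category.assoc, h2] }

/-- `Tot (F ⊗ -)` preserves colimits when `T` does in the second variable -/
noncomputable def isColimitTot :
    IsColimit ((T.map₂CochainComplex.obj F).mapCocone c) := by
  refine isColimitOfEval _ _ (fun n => ?_)
  have hpq : ∀ p q : ℤ, IsColimit ((T.obj (F.X p)).mapCocone ((eval A _ q).mapCocone c)) :=
    fun p q => isColimitOfPreserves (T.obj (F.X p)) (isColimitOfPreserves (eval A _ q) hc)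
  exact
    { desc := fun t => mapBifunctorDesc (fun p q h => (hpq p q).desc (summandCocone T F n t p q h))
      fac := fun t j => by
        apply mapBifunctor.hom_ext
        intro p q h
        have h1 := ι_mapBifunctorMap (𝟙 F) (c.ι.app j) T (ComplexShape.up ℤ) p q n h
        rw [HomologicalComplex.id_f, T.map_id, NatTrans.id_app, Category.id_comp] at h1
        show ιMapBifunctor F (D.obj j) T (ComplexShape.up ℤ) p q n h ≫
            (mapBifunctorMap (𝟙 F) (c.ι.app j) T (ComplexShape.up ℤ)).f n ≫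
              mapBifunctorDesc (fun p q h => (hpq p q).desc (summandCocone T F n t p q h)) =
          ιMapBifunctor F (D.obj j) T (ComplexShape.up ℤ) p q n h ≫ t.ι.app j
        rw [← Category.assoc, h1, Category.assoc, ι_mapBifunctorDesc]
        exact (hpq p q).fac (summandCocone T F n t p q h) j
      uniq := fun t m hm => by
        apply mapBifunctor.hom_ext
        intro p q h
        rw [ι_mapBifunctorDesc]
        apply (hpq p q).hom_ext
        intro j
        refine Eq.trans ?_ ((hpq p q).fac (summandCocone T F n t p q h) j).symm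
        have h1 := ι_mapBifunctorMap (𝟙 F) (c.ι.app j) T (ComplexShape.up ℤ) p q n h
        rw [HomologicalComplex.id_f, T.map_id, NatTrans.id_app, Category.id_comp] at h1
        have h2 : (mapBifunctorMap (𝟙 F) (c.ι.app j) T (ComplexShape.up ℤ)).f n ≫ m =
            t.ι.app j := hm j
        show (T.obj (F.X p)).map ((c.ι.app j).f q) ≫
            ιMapBifunctor F c.pt T (ComplexShape.up ℤ) p q n h ≫ m =
          ιMapBifunctor F (D.obj j) T (ComplexShape.up ℤ) p q n h ≫ t.ι.app j
        rw [← h2, ← Category.assoc, ← Category.assoc, h1]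
        rfl }

end TotColim

section Concentrated

open HomologicalComplex

variable {A : Type u} [Category.{v} A] [Abelian A]

/-- in a coproduct with all but one summand zero, the remaining inclusion is an isomorphism -/
lemma isIso_inj_of_isZero {I : Type*} {X : I → A} {c : Cofan X} (hc : IsColimit c) (i₀ : I)
    (hz : ∀ i, i ≠ i₀ → IsZero (X i)) : IsIso (c.inj i₀) := by
  classical
  let r : c.pt ⟶ X i₀ := Cofan.IsColimit.desc hc
    (fun i => if h : i = i₀ then eqToHom (by rw [h]) else 0)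
  have h1 : c.inj i₀ ≫ r = 𝟙 _ := by
    have := Cofan.IsColimit.fac hc (fun i => if h : i = i₀ then eqToHom (by rw [h]) else 0) i₀
    rw [dif_pos rfl] at this
    exact this
  refine ⟨⟨r, h1, ?_⟩⟩
  apply Cofan.IsColimit.hom_ext hc
  intro i
  by_cases h : i = i₀
  · subst h
    rw [← Category.assoc, h1, Category.id_comp, Category.comp_id]
  · exact (hz i h).eq_of_src _ _

variable (T : A ⥤ A ⥤ A) [T.PreservesZeroMorphisms] [∀ X, (T.obj X).PreservesZeroMorphisms]
  [∀ (K₁ K₂ : CochainComplex A ℤ), HasMapBifunctor K₁ K₂ T (ComplexShape.up ℤ)]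
  (F Q : CochainComplex A ℤ) (a : ℤ) (hz : ∀ n, n ≠ a → IsZero (Q.X n))

include hz in
lemma isIso_ι_concentrated (p n : ℤ) (h : p + a = n) :
    IsIso (ιMapBifunctor F Q T (ComplexShape.up ℤ) p a n h) := by
  refine isIso_inj_of_isZero
    ((((T.mapBifunctorHomologicalComplex _ _).obj F).obj Q).toGradedObject.isColimitCofanMapObj _ n)
    (⟨(p, a), h⟩ : (ComplexShape.π (ComplexShape.up ℤ) (ComplexShape.up ℤ) (ComplexShape.up ℤ)) ⁻¹' {n}) ?_
  rintro ⟨⟨p', q'⟩, h'⟩ hne
  have hq : q' ≠ a := by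
    intro hq
    subst hq
    apply hne
    have h'' : p' + q' = n := h'
    have : p' = p := by omega
    subst this
    rfl
  exact Functor.map_isZero (T.obj (F.X p')) (hz q' hq)

include hz in
lemma ι_d_concentrated (p n : ℤ) (h : p + a = n) :
    ιMapBifunctor F Q T (ComplexShape.up ℤ) p a n h ≫
        (mapBifunctor F Q T (ComplexShape.up ℤ)).d n (n + 1) =
      (T.map (F.d p (p + 1))).app (Q.X a) ≫
        ιMapBifunctor F Q T (ComplexShape.up ℤ) (p + 1) a (n + 1) (by
          show p + 1 + a = n + 1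
          omega) := by
  rw [mapBifunctor.d_eq, Preadditive.comp_add, mapBifunctor.ι_D₁, mapBifunctor.ι_D₂]
  have hd2 : mapBifunctor.d₂ F Q T (ComplexShape.up ℤ) p a (n + 1) = 0 := by
    rw [mapBifunctor.d₂_eq F Q T (ComplexShape.up ℤ) p (i₂ := a) (i₂' := a + 1) (by simp) (n + 1)
      (by show p + (a + 1) = n + 1; omega)]
    have : Q.d a (a + 1) = 0 := (hz (a + 1) (by omega)).eq_of_tgt _ _
    rw [this, Functor.map_zero, zero_comp, smul_zero]
  rw [hd2, add_zero,
    mapBifunctor.d₁_eq F Q T (ComplexShape.up ℤ) (i₁ := p) (i₁' := p + 1) (by simp) a (n + 1)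
      (by show p + 1 + a = n + 1; omega)]
  simp

include hz in
lemma ι_d_concentrated' (p p' n n' : ℤ) (hp : p + 1 = p') (hn : n + 1 = n') (h : p + a = n)
    (h' : p' + a = n') :
    ιMapBifunctor F Q T (ComplexShape.up ℤ) p a n h ≫
        (mapBifunctor F Q T (ComplexShape.up ℤ)).d n n' =
      (T.map (F.d p p')).app (Q.X a) ≫
        ιMapBifunctor F Q T (ComplexShape.up ℤ) p' a n' h' := by
  subst hp hn
  exact ι_d_concentrated T F Q a hz p n h

include hz in
theorem acyclic_concentrated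
    (hex : ∀ p : ℤ, (ShortComplex.mk ((T.map (F.d (p - 1) p)).app (Q.X a))
      ((T.map (F.d p (p + 1))).app (Q.X a))
      (by rw [← NatTrans.comp_app, ← T.map_comp, F.d_comp_d, T.map_zero, zero_app])).Exact)
    (n : ℤ) : IsZero ((mapBifunctor F Q T (ComplexShape.up ℤ)).homology n) := by
  rw [← exactAt_iff_isZero_homology,
    (mapBifunctor F Q T (ComplexShape.up ℤ)).exactAt_iff' (n - 1) n (n + 1) (by simp) (by simp)]
  have h0 : (n - a - 1) + a = n - 1 := by omega
  have h1 : (n - a) + a = n := by omega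
  have h2 : (n - a + 1) + a = n + 1 := by omega
  have i0 := isIso_ι_concentrated T F Q a hz (n - a - 1) (n - 1) h0
  have i1 := isIso_ι_concentrated T F Q a hz (n - a) n h1
  have i2 := isIso_ι_concentrated T F Q a hz (n - a + 1) (n + 1) h2
  refine (ShortComplex.exact_iff_of_iso ?_).1 (hex (n - a))
  refine ShortComplex.isoMk
    (@asIso _ _ _ _ (ιMapBifunctor F Q T (ComplexShape.up ℤ) (n - a - 1) a (n - 1) h0) i0)
    (@asIso _ _ _ _ (ιMapBifunctor F Q T (ComplexShape.up ℤ) (n - a) a n h1) i1)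
    (@asIso _ _ _ _ (ιMapBifunctor F Q T (ComplexShape.up ℤ) (n - a + 1) a (n + 1) h2) i2) ?_ ?_
  · exact (ι_d_concentrated' T F Q a hz (n - a - 1) (n - a) (n - 1) n (by omega) (by omega) h0 h1)
  · exact (ι_d_concentrated' T F Q a hz (n - a) (n - a + 1) n (n + 1) rfl rfl h1 h2)

end Concentrated

end Groth.Agent.Lib.Helper5.Misc.KFlatGen
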