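import Mathlib

set_option autoImplicit false
set_option linter.unusedSectionVars false
set_option linter.unusedVariables false
set_option linter.style.haveILetI false
universe v u
open CategoryTheory CategoryTheory.Limits ZeroObject

namespace Groth.Agent.Lib.Helper5.Misc.StupidTrunc

variable {A : Type u} [Category.{v} A] [Abelian A] (K : CochainComplex A ℤ)

/-- terms of the stupid truncation `σ^{≥ a} K` -/
noncomputable def tX (a n : ℤ) : A := if a ≤ n then K.X n else 0

lemma tX_pos {a n : ℤ} (h : a ≤ n) : tX K a n = K.X n := if_pos h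

lemma isZero_tX {a n : ℤ} (h : ¬ a ≤ n) : IsZero (tX K a n) := by
  rw [tX, if_neg h]; exact isZero_zero A

noncomputable def tι (a n : ℤ) : tX K a n ⟶ K.X n :=
  if h : a ≤ n then eqToHom (tX_pos K h) else 0

noncomputable def tπ (a n : ℤ) : K.X n ⟶ tX K a n :=
  if h : a ≤ n then eqToHom (tX_pos K h).symm else 0

lemma tι_eq_zero {a n : ℤ} (h : ¬ a ≤ n) : tι K a n = 0 := dif_neg h

lemma tπ_eq_zero {a n : ℤ} (h : ¬ a ≤ n) : tπ K a n = 0 := dif_neg h

@[reassoc (attr := simp)]
lemma tι_tπ (a n : ℤ) : tι K a n ≫ tπ K a n = 𝟙 _ := by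
  by_cases h : a ≤ n
  · simp [tι, tπ, dif_pos h]
  · exact (isZero_tX K h).eq_of_src _ _

@[reassoc]
lemma tπ_tι {a n : ℤ} (h : a ≤ n) : tπ K a n ≫ tι K a n = 𝟙 _ := by
  simp [tι, tπ, dif_pos h]

lemma isIso_tι {a n : ℤ} (h : a ≤ n) : IsIso (tι K a n) :=
  ⟨⟨tπ K a n, tι_tπ K a n, tπ_tι K h⟩⟩

lemma isIso_tπ {a n : ℤ} (h : a ≤ n) : IsIso (tπ K a n) :=
  ⟨⟨tι K a n, tπ_tι K h, tι_tπ K a n⟩⟩

/-- key lemma: the projection-inclusion can be dropped after an inclusion and a differential -/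
@[reassoc]
lemma tι_d_tπ_tι (a n m : ℤ) :
    tι K a n ≫ K.d n m ≫ tπ K a m ≫ tι K a m = tι K a n ≫ K.d n m := by
  by_cases hnm : n + 1 = m
  · by_cases h : a ≤ m
    · rw [tπ_tι K h, Category.comp_id]
    · have h' : ¬ a ≤ n := by omega
      rw [tι_eq_zero K h', zero_comp, zero_comp]
  · simp [K.shape n m hnm]

/-- the stupid truncation `σ^{≥ a} K` -/
noncomputable def sigmaGE (a : ℤ) : CochainComplex A ℤ where
  X := tX K a
  d n m := tι K a n ≫ K.d n m ≫ tπ K a m
  shape n m h := by rw [K.shape n m h, zero_comp, comp_zero]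
  d_comp_d' n m l _ _ := by
    rw [Category.assoc, Category.assoc, tι_d_tπ_tι_assoc, K.d_comp_d_assoc, zero_comp, comp_zero]

/-- the inclusion `σ^{≥ a} K ⟶ K` -/
noncomputable def ιGE (a : ℤ) : sigmaGE K a ⟶ K where
  f n := tι K a n
  comm' n m _ := by
    show tι K a n ≫ K.d n m = (tι K a n ≫ K.d n m ≫ tπ K a m) ≫ tι K a m
    rw [Category.assoc, Category.assoc, tι_d_tπ_tι]

/-- the transition maps `σ^{≥ a} K ⟶ σ^{≥ a'} K` for `a' ≤ a` -/
noncomputable def trGE {a a' : ℤ} (h : a' ≤ a) : sigmaGE K a ⟶ sigmaGE K a' where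
  f n := tι K a n ≫ tπ K a' n
  comm' n m hnm := by
    show (tι K a n ≫ tπ K a' n) ≫ (tι K a' n ≫ K.d n m ≫ tπ K a' m) =
      (tι K a n ≫ K.d n m ≫ tπ K a m) ≫ (tι K a m ≫ tπ K a' m)
    have e1 : tι K a n ≫ tπ K a' n ≫ tι K a' n = tι K a n := by
      by_cases h1 : a ≤ n
      · rw [tπ_tι K (h.trans h1), Category.comp_id]
      · rw [tι_eq_zero K h1, zero_comp]
    calc (tι K a n ≫ tπ K a' n) ≫ (tι K a' n ≫ K.d n m ≫ tπ K a' m)
        = (tι K a n ≫ tπ K a' n ≫ tι K a' n) ≫ K.d n m ≫ tπ K a' m := by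
          simp only [Category.assoc]
      _ = tι K a n ≫ K.d n m ≫ tπ K a' m := by rw [e1]
      _ = (tι K a n ≫ K.d n m ≫ tπ K a m ≫ tι K a m) ≫ tπ K a' m := by
          rw [tι_d_tπ_tι, Category.assoc]
      _ = _ := by simp only [Category.assoc]

@[reassoc (attr := simp)]
lemma trGE_ι {a a' : ℤ} (h : a' ≤ a) : trGE K h ≫ ιGE K a' = ιGE K a := by
  ext n
  show (tι K a n ≫ tπ K a' n) ≫ tι K a' n = tι K a n
  by_cases h1 : a ≤ n
  · rw [Category.assoc, tπ_tι K (h.trans h1), Category.comp_id]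
  · rw [tι_eq_zero K h1, zero_comp, zero_comp]

@[simp]
lemma trGE_id (a : ℤ) : trGE K (le_refl a) = 𝟙 _ := by
  ext n
  exact tι_tπ K a n

@[reassoc (attr := simp)]
lemma trGE_comp {a a' a'' : ℤ} (h : a' ≤ a) (h' : a'' ≤ a') :
    trGE K h ≫ trGE K h' = trGE K (h'.trans h) := by
  ext n
  show (tι K a n ≫ tπ K a' n) ≫ (tι K a' n ≫ tπ K a'' n) = tι K a n ≫ tπ K a'' n
  by_cases h1 : a ≤ n
  · rw [Category.assoc, tπ_tι_assoc K (h.trans h1)]
  · rw [tι_eq_zero K h1, zero_comp, zero_comp, zero_comp]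

/-- the sequence `m ↦ σ^{≥ b - m} K` -/
noncomputable def seq (b : ℤ) : ℕ ⥤ CochainComplex A ℤ where
  obj m := sigmaGE K (b - m)
  map {m m'} f := trGE K (by have := leOfHom f; omega)
  map_id m := trGE_id K _
  map_comp f g := (trGE_comp K _ _).symm

/-- the cocone with point `K` -/
noncomputable def seqCocone (b : ℤ) : Cocone (seq K b) where
  pt := K
  ι :=
    { app := fun m => ιGE K (b - m)
      naturality := fun m m' f => by
        have hle : b - (m' : ℤ) ≤ b - (m : ℤ) := by have := leOfHom f; omega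
        show trGE K hle ≫ ιGE K (b - m') = ιGE K (b - m) ≫ 𝟙 K
        rw [trGE_ι, Category.comp_id] }

/-- `K` is the colimit of its stupid truncations -/
noncomputable def seqIsColimit (b : ℤ) : IsColimit (seqCocone K b) := by
  refine HomologicalComplex.isColimitOfEval _ _ (fun n => ?_)
  have hm : b - ((b - n).toNat : ℤ) ≤ n := by
    have := Int.self_le_toNat (b - n)
    omega
  have h : ((seq K b) ⋙ HomologicalComplex.eval A _ n).IsEventuallyConstantFrom (b - n).toNat := by
    intro j f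
    have hj : (b - n).toNat ≤ j := leOfHom f
    show IsIso (tι K (b - ((b - n).toNat : ℤ)) n ≫ tπ K (b - (j : ℤ)) n)
    haveI := isIso_tι K hm
    haveI := isIso_tπ K (a := b - (j : ℤ)) (n := n) (by omega)
    infer_instance
  haveI : IsIso (((HomologicalComplex.eval A _ n).mapCocone (seqCocone K b)).ι.app (b - n).toNat) :=
    isIso_tι K hm
  exact h.isColimitOfIsIso _

lemma mono_trGE {a a' : ℤ} (h : a' ≤ a) : Mono (trGE K h) := by
  haveI : ∀ n, Mono ((trGE K h).f n) := fun n => by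
    show Mono (tι K a n ≫ tπ K a' n)
    by_cases h1 : a ≤ n
    · haveI := isIso_tι K h1
      haveI := isIso_tπ K (h.trans h1)
      infer_instance
    · exact ⟨fun g g' _ => (isZero_tX K h1).eq_of_tgt g g'⟩
  exact HomologicalComplex.mono_of_mono_f _ inferInstance

/-- the transition map `σ^{≥ a+1} K ⟶ σ^{≥ a} K` -/
noncomputable def trSucc (a : ℤ) : sigmaGE K (a + 1) ⟶ sigmaGE K a :=
  trGE K (by omega)

lemma trSucc_f (a n : ℤ) : (trSucc K a).f n = tι K (a + 1) n ≫ tπ K a n := rfl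

instance mono_trSucc (a : ℤ) : Mono (trSucc K a) := mono_trGE K _

/-- the short exact sequence `0 → σ^{≥ a+1} K → σ^{≥ a} K → Q → 0` -/
noncomputable def quotSC (a : ℤ) : ShortComplex (CochainComplex A ℤ) :=
  ShortComplex.mk (trSucc K a) (cokernel.π (trSucc K a)) (cokernel.condition _)

lemma quotSC_shortExact (a : ℤ) : (quotSC K a).ShortExact := by
  haveI : Mono (quotSC K a).f := mono_trSucc K a
  haveI : Epi (quotSC K a).g := by dsimp [quotSC]; infer_instance
  exact ShortComplex.ShortExact.mk (ShortComplex.exact_cokernel _)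

lemma quotSC_degree (a n : ℤ) :
    ((quotSC K a).map (HomologicalComplex.eval A _ n)).ShortExact :=
  (HomologicalComplex.shortExact_iff_degreewise_shortExact _).1 (quotSC_shortExact K a) n

lemma isZero_quotSC_X₃ (a n : ℤ) (h : n ≠ a) : IsZero ((quotSC K a).X₃.X n) := by
  have hS := quotSC_degree K a n
  haveI : Epi ((quotSC K a).g.f n) := hS.epi_g
  by_cases h1 : a ≤ n
  · -- `f` is an isomorphism in degree `n`
    have h2 : a + 1 ≤ n := by omega
    haveI : IsIso ((quotSC K a).f.f n) := by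
      show IsIso (tι K (a + 1) n ≫ tπ K a n)
      haveI := isIso_tι K h2
      haveI := isIso_tπ K h1
      infer_instance
    have hz : (quotSC K a).g.f n = 0 := by
      have : (quotSC K a).f.f n ≫ (quotSC K a).g.f n = 0 :=
        ((quotSC K a).map (HomologicalComplex.eval A _ n)).zero
      rw [← cancel_epi ((quotSC K a).f.f n), this, comp_zero]
    exact IsZero.of_epi_eq_zero ((quotSC K a).g.f n) hz
  · exact IsZero.of_epi ((quotSC K a).g.f n) (isZero_tX K h1)

/-- the quotient in degree `a` is `K.X a` -/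
noncomputable def quotSCX₃Iso (a : ℤ) : (quotSC K a).X₃.X a ≅ K.X a := by
  have hS := quotSC_degree K a a
  haveI : Epi ((quotSC K a).g.f a) := hS.epi_g
  haveI : Mono ((quotSC K a).g.f a) := by
    have hz : IsZero ((quotSC K a).X₁.X a) := isZero_tX K (by omega)
    exact hS.exact.mono_g (hz.eq_of_src _ _)
  haveI : IsIso ((quotSC K a).g.f a) := isIso_of_mono_of_epi _
  exact (asIso ((quotSC K a).g.f a)).symm ≪≫ @asIso _ _ _ _ (tι K a a) (isIso_tι K (le_refl a))

end Groth.Agent.Lib.Helper5.Misc.StupidTrunc
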