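import Mathlib

/-!
# Extension by zero of presheaves of modules along `Over U ⥤ C` (helper5)

For a presheaf of rings `R` on `C`, an object `U` and a presheaf of modules `G` over
`(Over.forget U).op ⋙ R` on `Over U`, we define the presheaf of modules `shriek G` over `R` with
`(shriek G)(V) = ⨁_{φ : V ⟶ U} G(V, φ)`, show that it is left adjoint to restriction and exact.
-/
set_option autoImplicit false
open CategoryTheory CategoryTheory.Limits Opposite

namespace Groth.Agent.Lib.Helper5.Shriek

universe u

variable {C : Type u} [SmallCategory C] {U : C} {R : Cᵒᵖ ⥤ RingCat.{u}}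

/-- The ring presheaf on `Over U`. -/
abbrev RU (U : C) (R : Cᵒᵖ ⥤ RingCat.{u}) : (Over U)ᵒᵖ ⥤ RingCat.{u} := (Over.forget U).op ⋙ R

variable (G : PresheafOfModules.{u} (RU U R))

/-- The summand of `shriek G` at `φ : V ⟶ U`. -/
abbrev summand {V : C} (φ : V ⟶ U) : Type u := G.obj (op (Over.mk φ))

instance {V : C} (φ : V ⟶ U) : Module (R.obj (op V)) (summand G φ) :=
  inferInstanceAs (Module ((RU U R).obj (op (Over.mk φ))) (G.obj (op (Over.mk φ))))

/-- The restriction maps of `G` along a morphism of `Over U` given by its underlying map. -/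
noncomputable def gres {V V' : C} (h : V' ⟶ V) (φ : V ⟶ U) : summand G φ →+ summand G (h ≫ φ) :=
  AddMonoidHom.mk' (fun x => G.map (Over.homMk h : Over.mk (h ≫ φ) ⟶ Over.mk φ).op x)
    (fun a b => map_add (G.map (Over.homMk h : Over.mk (h ≫ φ) ⟶ Over.mk φ).op).hom a b)

lemma gres_smul {V V' : C} (h : V' ⟶ V) (φ : V ⟶ U) (r : R.obj (op V)) (x : summand G φ) :
    gres G h φ (r • x) = (R.map h.op).hom r • gres G h φ x :=
  G.map_smul (Over.homMk h : Over.mk (h ≫ φ) ⟶ Over.mk φ).op r x

open Classical in
/-- Sections of `shriek G` over `V`. -/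
abbrev sec (V : C) : Type u := DirectSum (V ⟶ U) (fun φ => summand G φ)

open Classical in
/-- The key congruence lemma handling propositional equalities of indices. -/
lemma of_map_congr {W : C} {ψ ψ' : W ⟶ U} (e : ψ = ψ') {Y : Over U}
    (k : Over.mk ψ ⟶ Y) (k' : Over.mk ψ' ⟶ Y) (hk : k.left = k'.left) (x : G.obj (op Y)) :
    DirectSum.of (fun φ : W ⟶ U => summand G φ) ψ (G.map k.op x) =
      DirectSum.of (fun φ : W ⟶ U => summand G φ) ψ' (G.map k'.op x) := by
  subst e
  obtain rfl : k = k' := Over.OverMorphism.ext hk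
  rfl

open Classical in
/-- Restriction maps of `shriek G`. -/
noncomputable def secMap {V V' : C} (h : V' ⟶ V) : sec G V →+ sec G V' :=
  DirectSum.toAddMonoid (fun φ => (DirectSum.of (fun ψ : V' ⟶ U => summand G ψ) (h ≫ φ)).comp
    (gres G h φ))

open Classical in
lemma secMap_of {V V' : C} (h : V' ⟶ V) (φ : V ⟶ U) (x : summand G φ) :
    secMap G h (DirectSum.of _ φ x) = DirectSum.of (fun ψ : V' ⟶ U => summand G ψ) (h ≫ φ)
      (gres G h φ x) := by
  unfold secMap
  rw [DirectSum.toAddMonoid_of]
  rfl

open Classical in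
lemma secMap_id (V : C) : secMap G (𝟙 V) = AddMonoidHom.id _ := by
  apply DirectSum.addHom_ext
  intro φ x
  rw [secMap_of, AddMonoidHom.id_apply]
  have := of_map_congr G (Category.id_comp φ) (Over.homMk (𝟙 V) : Over.mk (𝟙 V ≫ φ) ⟶ Over.mk φ)
    (𝟙 (Over.mk φ)) rfl x
  refine this.trans ?_
  congr 1
  rw [op_id, PresheafOfModules.map_id]
  rfl

open Classical in
lemma secMap_comp {V V' V'' : C} (h : V' ⟶ V) (h' : V'' ⟶ V') :
    secMap G (h' ≫ h) = (secMap G h').comp (secMap G h) := by
  apply DirectSum.addHom_ext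
  intro φ x
  rw [secMap_of, AddMonoidHom.comp_apply, secMap_of, secMap_of]
  have := of_map_congr G (Category.assoc h' h φ)
    (Over.homMk (h' ≫ h) : Over.mk ((h' ≫ h) ≫ φ) ⟶ Over.mk φ)
    ((Over.homMk h' : Over.mk (h' ≫ h ≫ φ) ⟶ Over.mk (h ≫ φ)) ≫
      (Over.homMk h : Over.mk (h ≫ φ) ⟶ Over.mk φ)) rfl x
  refine this.trans ?_
  congr 1
  rw [op_comp, PresheafOfModules.map_comp_apply]
  rfl

open Classical in
lemma secMap_smul {V V' : C} (h : V' ⟶ V) (r : R.obj (op V)) (m : sec G V) :
    secMap G h (r • m) = (R.map h.op).hom r • secMap G h m := by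
  induction m using DirectSum.induction_on with
  | zero => rw [smul_zero, map_zero, smul_zero]
  | of φ x =>
    have e1 : r • DirectSum.of (fun ψ : V ⟶ U => summand G ψ) φ x =
        DirectSum.of (fun ψ : V ⟶ U => summand G ψ) φ (r • x) :=
      (DirectSum.of_smul (R.obj (op V)) φ r x).symm
    have e2 : secMap G h (DirectSum.of (fun ψ : V ⟶ U => summand G ψ) φ (r • x)) =
        DirectSum.of (fun ψ : V' ⟶ U => summand G ψ) (h ≫ φ) (gres G h φ (r • x)) :=
      secMap_of G h φ (r • x)
    have e3 : DirectSum.of (fun ψ : V' ⟶ U => summand G ψ) (h ≫ φ) (gres G h φ (r • x)) =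
        DirectSum.of (fun ψ : V' ⟶ U => summand G ψ) (h ≫ φ)
          ((R.map h.op).hom r • gres G h φ x) :=
      congrArg _ (gres_smul G h φ r x)
    have e4 : DirectSum.of (fun ψ : V' ⟶ U => summand G ψ) (h ≫ φ)
          ((R.map h.op).hom r • gres G h φ x) =
        (R.map h.op).hom r • DirectSum.of (fun ψ : V' ⟶ U => summand G ψ) (h ≫ φ)
          (gres G h φ x) :=
      DirectSum.of_smul (R.obj (op V')) (h ≫ φ) ((R.map h.op).hom r) (gres G h φ x)
    rw [e1, e2, e3, e4, secMap_of]
  | add a b ha hb => rw [smul_add, map_add, ha, hb, map_add, smul_add]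

open Classical in
/-- The underlying presheaf of abelian groups of `shriek G`. -/
noncomputable def shriekAb : Cᵒᵖ ⥤ Ab.{u} where
  obj V := AddCommGrpCat.of (sec G V.unop)
  map h := AddCommGrpCat.ofHom (secMap G h.unop)
  map_id V := congrArg AddCommGrpCat.ofHom (secMap_id G V.unop)
  map_comp h h' := congrArg AddCommGrpCat.ofHom (secMap_comp G h.unop h'.unop)

open Classical in
instance (V : Cᵒᵖ) : Module (R.obj V) ((shriekAb G).obj V) :=
  inferInstanceAs (Module (R.obj (op V.unop)) (DirectSum (V.unop ⟶ U) (fun φ => summand G φ)))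

open Classical in
lemma shriekAb_map_smul ⦃V V' : Cᵒᵖ⦄ (h : V ⟶ V') (r : R.obj V) (m : (shriekAb G).obj V) :
    (shriekAb G).map h (r • m) = (R.map h).hom r • (shriekAb G).map h m :=
  secMap_smul G h.unop r m

/-- Extension by zero of a presheaf of modules on `Over U`. -/
noncomputable def shriek : PresheafOfModules.{u} R :=
  PresheafOfModules.ofPresheaf (shriekAb G) (shriekAb_map_smul G)

open Classical in
lemma shriek_obj (V : Cᵒᵖ) : ((shriek G).obj V : Type u) = sec G V.unop := rfl

open Classical in
lemma shriek_map_apply {V V' : Cᵒᵖ} (h : V ⟶ V') (m : sec G V.unop) :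
    (shriek G).map h m = secMap G h.unop m := rfl

variable {G}
variable {G' : PresheafOfModules.{u} (RU U R)}

/-- The components of a morphism of presheaves on `Over U`, as additive maps of summands. -/
noncomputable def compAdd (α : G ⟶ G') {V : C} (φ : V ⟶ U) : summand G φ →+ summand G' φ :=
  (α.app (op (Over.mk φ))).hom.toAddMonoidHom

lemma compAdd_smul (α : G ⟶ G') {V : C} (φ : V ⟶ U) (r : R.obj (op V)) (x : summand G φ) :
    compAdd α φ (r • x) = r • compAdd α φ x :=
  (α.app (op (Over.mk φ))).hom.map_smul r x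

lemma compAdd_gres (α : G ⟶ G') {V V' : C} (h : V' ⟶ V) (φ : V ⟶ U) (x : summand G φ) :
    compAdd α (h ≫ φ) (gres G h φ x) = gres G' h φ (compAdd α φ x) :=
  PresheafOfModules.naturality_apply α (Over.homMk h : Over.mk (h ≫ φ) ⟶ Over.mk φ).op x

open Classical in
/-- The action of `shriek` on morphisms, sectionwise. -/
noncomputable def secFun (α : G ⟶ G') (V : C) : sec G V →+ sec G' V :=
  DirectSum.toAddMonoid (fun φ => (DirectSum.of (fun ψ : V ⟶ U => summand G' ψ) φ).comp
    (compAdd α φ))

open Classical in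
lemma secFun_of (α : G ⟶ G') {V : C} (φ : V ⟶ U) (x : summand G φ) :
    secFun α V (DirectSum.of _ φ x) =
      DirectSum.of (fun ψ : V ⟶ U => summand G' ψ) φ (compAdd α φ x) := by
  unfold secFun
  rw [DirectSum.toAddMonoid_of]
  rfl

open Classical in
lemma secFun_secMap (α : G ⟶ G') {V V' : C} (h : V' ⟶ V) (m : sec G V) :
    secFun α V' (secMap G h m) = secMap G' h (secFun α V m) := by
  induction m using DirectSum.induction_on with
  | zero => simp
  | of φ x => rw [secMap_of, secFun_of, secFun_of, secMap_of, compAdd_gres]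
  | add a b ha hb => rw [map_add, map_add, ha, hb, map_add, map_add]

open Classical in
lemma secFun_smul (α : G ⟶ G') {V : C} (r : R.obj (op V)) (m : sec G V) :
    secFun α V (r • m) = r • secFun α V m := by
  induction m using DirectSum.induction_on with
  | zero => rw [smul_zero, map_zero, smul_zero]
  | of φ x =>
    have e1 : r • DirectSum.of (fun ψ : V ⟶ U => summand G ψ) φ x =
        DirectSum.of (fun ψ : V ⟶ U => summand G ψ) φ (r • x) :=
      (DirectSum.of_smul (R.obj (op V)) φ r x).symm
    have e4 : DirectSum.of (fun ψ : V ⟶ U => summand G' ψ) φ (r • compAdd α φ x) =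
        r • DirectSum.of (fun ψ : V ⟶ U => summand G' ψ) φ (compAdd α φ x) :=
      DirectSum.of_smul (R.obj (op V)) φ r (compAdd α φ x)
    rw [e1, secFun_of, secFun_of, compAdd_smul, e4]
  | add a b ha hb => rw [smul_add, map_add, ha, hb, map_add, smul_add]

open Classical in
/-- The action of `shriek` on morphisms. -/
noncomputable def shriekMap (α : G ⟶ G') : shriek G ⟶ shriek G' :=
  PresheafOfModules.homMk
    { app := fun V => AddCommGrpCat.ofHom (secFun α V.unop)
      naturality := fun V V' h => by
        apply AddCommGrpCat.hom_ext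
        apply AddMonoidHom.ext
        intro m
        exact secFun_secMap α h.unop m }
    (fun V r m => secFun_smul α r m)

open Classical in
lemma shriekMap_app_apply (α : G ⟶ G') (V : Cᵒᵖ) (m : sec G V.unop) :
    (shriekMap α).app V m = secFun α V.unop m := rfl

open Classical in
lemma secFun_id (V : C) : secFun (𝟙 G) V = AddMonoidHom.id _ := by
  apply DirectSum.addHom_ext
  intro φ x
  rw [secFun_of]
  rfl

open Classical in
lemma secFun_comp {G'' : PresheafOfModules.{u} (RU U R)} (α : G ⟶ G') (β : G' ⟶ G'') (V : C) :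
    secFun (α ≫ β) V = (secFun β V).comp (secFun α V) := by
  apply DirectSum.addHom_ext
  intro φ x
  rw [secFun_of, AddMonoidHom.comp_apply, secFun_of, secFun_of]
  rfl

variable (U R) in
/-- Extension by zero as a functor. -/
noncomputable def shriekFunctor :
    PresheafOfModules.{u} (RU U R) ⥤ PresheafOfModules.{u} R where
  obj G := shriek G
  map α := shriekMap α
  map_id G := by
    apply PresheafOfModules.hom_ext
    intro V
    apply ModuleCat.hom_ext
    apply LinearMap.ext
    intro m
    show secFun (𝟙 G) V.unop m = m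
    rw [secFun_id]; rfl
  map_comp α β := by
    apply PresheafOfModules.hom_ext
    intro V
    apply ModuleCat.hom_ext
    apply LinearMap.ext
    intro m
    show secFun (α ≫ β) V.unop m = secFun β V.unop (secFun α V.unop m)
    rw [secFun_comp]; rfl

section Adjunction

variable (U R) in
/-- Restriction of presheaves of modules to `Over U`. -/
noncomputable abbrev resp' : PresheafOfModules.{u} R ⥤ PresheafOfModules.{u} (RU U R) :=
  PresheafOfModules.pushforward₀ (Over.forget U) R

variable {F : PresheafOfModules.{u} R}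

example (Y : (Over U)ᵒᵖ) : Y = op (Over.mk Y.unop.hom) := rfl

open Classical in
/-- The inclusion of the summand indexed by `Y.hom`. -/
noncomputable def inj (G : PresheafOfModules.{u} (RU U R)) (Y : (Over U)ᵒᵖ) :
    G.obj Y →+ sec G Y.unop.left :=
  DirectSum.of (fun ψ : Y.unop.left ⟶ U => summand G ψ) Y.unop.hom

open Classical in
lemma inj_smul (G : PresheafOfModules.{u} (RU U R)) (Y : (Over U)ᵒᵖ)
    (r : (RU U R).obj Y) (x : G.obj Y) : inj G Y (r • x) = r • inj G Y x :=
  DirectSum.of_smul (M := fun ψ : Y.unop.left ⟶ U => summand G ψ)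
    (R.obj (op Y.unop.left)) Y.unop.hom r x

open Classical in
lemma secMap_inj (G : PresheafOfModules.{u} (RU U R)) {Y Y' : (Over U)ᵒᵖ} (k : Y ⟶ Y')
    (x : G.obj Y) : secMap G k.unop.left (inj G Y x) = inj G Y' (G.map k x) := by
  unfold inj
  rw [secMap_of]
  exact of_map_congr G (Over.w k.unop) (Over.homMk k.unop.left : Over.mk (k.unop.left ≫ Y.unop.hom) ⟶
    Over.mk Y.unop.hom) k.unop rfl x

/-- Components of a morphism `G ⟶ resp' F` as additive maps into sections of `F`. -/
noncomputable def compF (Ψ : G ⟶ (resp' U R).obj F) {V : C} (φ : V ⟶ U) :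
    summand G φ →+ F.obj (op V) :=
  (Ψ.app (op (Over.mk φ))).hom.toAddMonoidHom

lemma compF_smul (Ψ : G ⟶ (resp' U R).obj F) {V : C} (φ : V ⟶ U) (r : R.obj (op V))
    (x : summand G φ) : compF Ψ φ (r • x) = r • compF Ψ φ x :=
  (Ψ.app (op (Over.mk φ))).hom.map_smul r x

lemma compF_gres (Ψ : G ⟶ (resp' U R).obj F) {V V' : C} (h : V' ⟶ V) (φ : V ⟶ U)
    (x : summand G φ) : compF Ψ (h ≫ φ) (gres G h φ x) = F.map h.op (compF Ψ φ x) :=
  PresheafOfModules.naturality_apply Ψ (Over.homMk h : Over.mk (h ≫ φ) ⟶ Over.mk φ).op x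

open Classical in
/-- The map `shriek G ⟶ F` induced by `Ψ : G ⟶ resp' F`, sectionwise. -/
noncomputable def descFun (Ψ : G ⟶ (resp' U R).obj F) (V : C) : sec G V →+ F.obj (op V) :=
  DirectSum.toAddMonoid (fun φ => compF Ψ φ)

open Classical in
lemma descFun_of (Ψ : G ⟶ (resp' U R).obj F) {V : C} (φ : V ⟶ U) (x : summand G φ) :
    descFun Ψ V (DirectSum.of _ φ x) = compF Ψ φ x := by
  unfold descFun
  rw [DirectSum.toAddMonoid_of]

open Classical in
lemma descFun_smul (Ψ : G ⟶ (resp' U R).obj F) {V : C} (r : R.obj (op V)) (m : sec G V) :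
    descFun Ψ V (r • m) = r • descFun Ψ V m := by
  induction m using DirectSum.induction_on with
  | zero => rw [smul_zero, map_zero, smul_zero]
  | of φ x =>
    have e1 : r • DirectSum.of (fun ψ : V ⟶ U => summand G ψ) φ x =
        DirectSum.of (fun ψ : V ⟶ U => summand G ψ) φ (r • x) :=
      (DirectSum.of_smul (R.obj (op V)) φ r x).symm
    rw [e1, descFun_of, descFun_of, compF_smul]
  | add a b ha hb => rw [smul_add, map_add, ha, hb, map_add, smul_add]

open Classical in
lemma descFun_secMap (Ψ : G ⟶ (resp' U R).obj F) {V V' : C} (h : V' ⟶ V) (m : sec G V) :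
    descFun Ψ V' (secMap G h m) = F.map h.op (descFun Ψ V m) := by
  induction m using DirectSum.induction_on with
  | zero =>
    rw [map_zero, map_zero, map_zero]
    exact (map_zero (F.map h.op).hom).symm
  | of φ x => rw [secMap_of, descFun_of, descFun_of, compF_gres]
  | add a b ha hb =>
    rw [map_add, map_add, ha, hb, map_add]
    exact (map_add (F.map h.op).hom _ _).symm

open Classical in
/-- The morphism `shriek G ⟶ F` corresponding to `Ψ : G ⟶ resp' F`. -/
noncomputable def desc (Ψ : G ⟶ (resp' U R).obj F) : shriek G ⟶ F :=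
  PresheafOfModules.homMk
    { app := fun V => AddCommGrpCat.ofHom (descFun Ψ V.unop)
      naturality := fun V V' h => by
        apply AddCommGrpCat.hom_ext
        apply AddMonoidHom.ext
        intro m
        exact descFun_secMap Ψ h.unop m }
    (fun V r m => descFun_smul Ψ r m)

open Classical in
lemma desc_app_apply (Ψ : G ⟶ (resp' U R).obj F) (V : Cᵒᵖ) (m : sec G V.unop) :
    (desc Ψ).app V m = descFun Ψ V.unop m := rfl

open Classical in
/-- The additive maps underlying the morphism `G ⟶ resp' F` corresponding to `Φ`. -/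
noncomputable def ascFun (Φ : shriek G ⟶ F) (Y : (Over U)ᵒᵖ) :
    G.obj Y →+ F.obj (op Y.unop.left) :=
  ((Φ.app (op Y.unop.left)).hom.toAddMonoidHom).comp (inj G Y)

open Classical in
lemma ascFun_apply (Φ : shriek G ⟶ F) (Y : (Over U)ᵒᵖ) (x : G.obj Y) :
    ascFun Φ Y x = Φ.app (op Y.unop.left) (inj G Y x) := rfl

open Classical in
/-- The morphism `G ⟶ resp' F` corresponding to `Φ : shriek G ⟶ F`. -/
noncomputable def asc (Φ : shriek G ⟶ F) : G ⟶ (resp' U R).obj F :=
  PresheafOfModules.homMk
    { app := fun Y => AddCommGrpCat.ofHom (ascFun Φ Y)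
      naturality := fun Y Y' k => by
        apply AddCommGrpCat.hom_ext
        apply AddMonoidHom.ext
        intro x
        show ascFun Φ Y' (G.map k x) = F.map (k.unop.left).op (ascFun Φ Y x)
        rw [ascFun_apply, ascFun_apply, ← secMap_inj]
        exact PresheafOfModules.naturality_apply Φ (k.unop.left).op (inj G Y x) }
    (fun Y r x => by
      show ascFun Φ Y (r • x) = (show R.obj (op Y.unop.left) from r) • ascFun Φ Y x
      rw [ascFun_apply, ascFun_apply, inj_smul]
      exact (Φ.app (op Y.unop.left)).hom.map_smul r (inj G Y x))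

open Classical in
lemma asc_app_apply (Φ : shriek G ⟶ F) (Y : (Over U)ᵒᵖ) (x : G.obj Y) :
    (asc Φ).app Y x = Φ.app (op Y.unop.left) (inj G Y x) := rfl

open Classical in
/-- The hom-set bijection of the adjunction `shriek ⊣ resp'`. -/
noncomputable def homEquiv (G : PresheafOfModules.{u} (RU U R)) (F : PresheafOfModules.{u} R) :
    (shriek G ⟶ F) ≃ (G ⟶ (resp' U R).obj F) where
  toFun := asc
  invFun := desc
  left_inv Φ := by
    apply PresheafOfModules.hom_ext
    intro V
    apply ModuleCat.hom_ext
    apply LinearMap.ext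
    intro m
    show descFun (asc Φ) V.unop m = Φ.app V m
    induction m using DirectSum.induction_on with
    | zero =>
      rw [map_zero]
      exact (map_zero (Φ.app V).hom).symm
    | of φ x => rw [descFun_of]; rfl
    | add a b ha hb =>
      rw [map_add, ha, hb]
      exact (map_add (Φ.app V).hom _ _).symm
  right_inv Ψ := by
    apply PresheafOfModules.hom_ext
    intro Y
    apply ModuleCat.hom_ext
    apply LinearMap.ext
    intro x
    show descFun Ψ Y.unop.left (inj G Y x) = Ψ.app Y x
    unfold inj
    rw [descFun_of]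
    rfl

open Classical in
lemma desc_comp (α : G ⟶ G') (Ψ : G' ⟶ (resp' U R).obj F) :
    desc (α ≫ Ψ) = shriekMap α ≫ desc Ψ := by
  apply PresheafOfModules.hom_ext
  intro V
  apply ModuleCat.hom_ext
  apply LinearMap.ext
  intro m
  show descFun (α ≫ Ψ) V.unop m = descFun Ψ V.unop (secFun α V.unop m)
  induction m using DirectSum.induction_on with
  | zero => rw [map_zero, map_zero, map_zero]
  | of φ x => rw [descFun_of, secFun_of, descFun_of]; rfl
  | add a b ha hb => rw [map_add, ha, hb, map_add, map_add]

lemma asc_comp {F' : PresheafOfModules.{u} R} (Φ : shriek G ⟶ F) (g : F ⟶ F') :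
    asc (Φ ≫ g) = asc Φ ≫ (resp' U R).map g := by
  apply PresheafOfModules.hom_ext
  intro Y
  apply ModuleCat.hom_ext
  apply LinearMap.ext
  intro x
  rfl

variable (U R) in
/-- The adjunction `shriek ⊣ resp'`. -/
noncomputable def adj : shriekFunctor U R ⊣ resp' U R :=
  Adjunction.mkOfHomEquiv
    { homEquiv := homEquiv
      homEquiv_naturality_left_symm := fun α Ψ => desc_comp α Ψ
      homEquiv_naturality_right := fun Φ g => asc_comp Φ g }

end Adjunction

section Exact

open Classical in
lemma secFun_eq_map (α : G ⟶ G') (V : C) :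
    secFun α V = DirectSum.map (fun φ : V ⟶ U => compAdd α φ) := by
  apply DirectSum.addHom_ext
  intro φ x
  rw [secFun_of, DirectSum.map_of]

instance : (shriekFunctor U R).IsLeftAdjoint := (adj U R).isLeftAdjoint

instance : (resp' U R).Additive where
  map_add := by
    intro F F' f g
    apply PresheafOfModules.hom_ext
    intro Y
    rfl

instance : (shriekFunctor U R).Additive := (adj U R).left_adjoint_additive

open Classical in
lemma mono_shriekMap (α : G ⟶ G') [Mono α] : Mono (shriekMap α) := by
  apply PresheafOfModules.mono_of_injective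
  intro V
  show Function.Injective (secFun α V.unop)
  rw [secFun_eq_map, DirectSum.map_injective]
  intro φ
  exact PresheafOfModules.injective_of_mono α (op (Over.mk φ))

instance : PreservesFiniteLimits (shriekFunctor U R) := by
  rw [Functor.preservesFiniteLimits_iff_forall_exact_map_and_mono]
  intro S hS
  have hc : PreservesFiniteColimits (shriekFunctor U R) := inferInstance
  refine ⟨((Functor.preservesFiniteColimits_iff_forall_exact_map_and_epi _).mp hc S hS).1, ?_⟩
  have : Mono S.f := hS.mono_f
  exact mono_shriekMap S.f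

end Exact

end Groth.Agent.Lib.Helper5.Shriek
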