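import Mathlib
import Groth.Prelude.Def_ModSite
import Groth.Agent.Lib.Helper5.Misc.TensorSheaf

/-!
# Restriction to `C/X` versus sheafification and tensor products (helper5)
-/
set_option autoImplicit false
open CategoryTheory CategoryTheory.Limits MonoidalCategory Opposite
open Groth.Agent.Lib.Helper5.TensorSheaf

namespace Groth.Agent.Lib.Helper5.TensorOver

universe u
variable {C : Type u} [SmallCategory C] {J : GrothendieckTopology C}
  (O : Sheaf J CommRingCat.{u}) (X : C)

/-- Presheaf-level restriction to `C/X`. -/
noncomputable def resp : PM O ⥤ PM (O.over X) :=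
  PresheafOfModules.pushforward (F := Over.forget X)
    (R := O.obj ⋙ forget₂ CommRingCat RingCat)
    (S := (O.over X).obj ⋙ forget₂ CommRingCat RingCat) (𝟙 _)

lemma restr_comp_fgt : ModSite.restr O X ⋙ fgt (O.over X) = fgt O ⋙ resp O X := rfl

/-- Restriction commutes with the presheaf tensor product. -/
noncomputable def respTensor (P Q : PM O) :
    (resp O X).obj (P ⊗ Q) ≅ ((resp O X).obj P ⊗ (resp O X).obj Q) :=
  PresheafOfModules.isoMk (fun U => Iso.refl _) (by
    intro U V f
    apply ModuleCat.MonoidalCategory.tensor_ext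
    intro m n
    rfl)

variable {O}

lemma W_resp_map {P Q : PM O} (f : P ⟶ Q)
    (hf : J.W ((PresheafOfModules.toPresheaf _).map f)) :
    (J.over X).W ((PresheafOfModules.toPresheaf _).map ((resp O X).map f)) := by
  rw [J.W_iff_isLocallyBijective] at hf
  rw [(J.over X).W_iff_isLocallyBijective]
  obtain ⟨h1, h2⟩ := hf
  have e1 := Presheaf.isLocallyInjective_whisker (J.over X) J (Over.forget X)
    ((PresheafOfModules.toPresheaf _).map f)
  have e2 := Presheaf.isLocallySurjective_whisker (J.over X) J (Over.forget X)
    ((PresheafOfModules.toPresheaf _).map f)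
  exact ⟨e1, e2⟩

variable (O)

/-- The restricted unit `P|_X ⟶ fgt_X ((aP)|_X)`. -/
noncomputable def respUnit (P : PM O) :
    (resp O X).obj P ⟶ (fgt (O.over X)).obj ((ModSite.restr O X).obj ((shf O).obj P)) :=
  (resp O X).map ((unit' O).app P)

/-- The comparison map `a_X(P|_X) ⟶ (aP)|_X`. -/
noncomputable def compMap (P : PM O) :
    (shf (O.over X)).obj ((resp O X).obj P) ⟶ (ModSite.restr O X).obj ((shf O).obj P) :=
  adjunct (respUnit O X P)

instance isIso_compMap (P : PM O) : IsIso (compMap O X P) :=
  isIso_adjunct_of_W _ (W_resp_map X _ (W_unit' P))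

/-- Restriction to `C/X` commutes with sheafification (objectwise). -/
noncomputable def restrShfIso (P : PM O) :
    (ModSite.restr O X).obj ((shf O).obj P) ≅ (shf (O.over X)).obj ((resp O X).obj P) :=
  (asIso (compMap O X P)).symm

/-- Restriction to `C/X` commutes with the tensor product of sheaves of modules. -/
noncomputable def restrTensorIso (M N : ModSite.Mod O) :
    (ModSite.restr O X).obj (((ModSite.tensorBi O).obj M).obj N) ≅
      ((ModSite.tensorBi (O.over X)).obj ((ModSite.restr O X).obj M)).obj
        ((ModSite.restr O X).obj N) :=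
  restrShfIso O X _ ≪≫ (shf (O.over X)).mapIso (respTensor O X _ _)

end Groth.Agent.Lib.Helper5.TensorOver
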