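import Mathlib
import Groth.Prelude.Def_ModSite
import Groth.Agent.Lib.Helper5.Misc.Shriek
import Groth.Agent.Lib.Helper5.Misc.TensorOver

/-!
# Extension by zero of sheaves of modules, explicitly (helper5)
-/
set_option autoImplicit false
open CategoryTheory CategoryTheory.Limits Opposite
open Groth.Agent.Lib.Helper5.TensorSheaf Groth.Agent.Lib.Helper5.TensorOver
open Groth.Agent.Lib.Helper5

namespace Groth.Agent.Lib.Helper5.ShriekSheaf

universe u
variable {C : Type u} [SmallCategory C] {J : GrothendieckTopology C}
  (O : Sheaf J CommRingCat.{u}) (U : C)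

/-- The underlying presheaf of rings. -/
abbrev Rg : Cᵒᵖ ⥤ RingCat.{u} := O.obj ⋙ forget₂ CommRingCat.{u} RingCat.{u}

/-- Presheaf-level extension by zero, typed between `PM (O.over U)` and `PM O`. -/
noncomputable def shr : PM (O.over U) ⥤ PM O := Shriek.shriekFunctor U (Rg O)

/-- Presheaf-level restriction (pushforward₀ form). -/
noncomputable def rsp : PM O ⥤ PM (O.over U) := Shriek.resp' U (Rg O)

/-- The presheaf-level adjunction. -/
noncomputable def padj : shr O U ⊣ rsp O U := Shriek.adj U (Rg O)

instance : PreservesFiniteLimits (shr O U) :=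
  inferInstanceAs (PreservesFiniteLimits (Shriek.shriekFunctor U (Rg O)))

/-- The explicit extension by zero on sheaves of modules. -/
noncomputable def extZero' : ModSite.Mod (O.over U) ⥤ ModSite.Mod O :=
  fgt (O.over U) ⋙ shr O U ⋙ shf O

/-- The comparison `fgt ⋙ rsp ≅ restr ⋙ fgt_U`. -/
noncomputable def comm2 :
    𝟭 (ModSite.Mod O) ⋙ ((SheafOfModules.forget (ModSite.ringSh O) ⋙
      PresheafOfModules.restrictScalars (𝟙 (ModSite.ringSh O).obj)) ⋙ rsp O U) ≅
      ModSite.restr O U ⋙ fgt (O.over U) :=
  NatIso.ofComponents (fun M => Iso.refl _) (by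
    intro M N f
    rfl)

/-- The explicit adjunction `extZero' ⊣ restr`. -/
noncomputable def adj' : extZero' O U ⊣ ModSite.restr O U :=
  ((padj O U).comp (TensorSheaf.adj O)).restrictFullyFaithful
    (SheafOfModules.fullyFaithfulForget _) (Functor.FullyFaithful.id _)
    (Functor.rightUnitor _).symm (comm2 O U)

/-- The Prelude's extension by zero is the explicit one. -/
noncomputable def extZeroIso : extZero' O U ≅ ModSite.extZero O U :=
  (adj' O U).leftAdjointUniq (ModSite.extZeroAdj O U)

instance : PreservesFiniteLimits (extZero' O U) := by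
  have h1 : PreservesFiniteLimits (fgt (O.over U)) := by
    have : (fgt (O.over U)).IsRightAdjoint := by
      have := (TensorSheaf.adj (O.over U)).isRightAdjoint
      exact this
    infer_instance
  have h2 : PreservesFiniteLimits (shf O) :=
    inferInstanceAs (PreservesFiniteLimits
      (PresheafOfModules.sheafification.{u} (𝟙 (ModSite.ringSh O).obj)))
  have h3 : PreservesFiniteLimits (shr O U ⋙ shf O) := comp_preservesFiniteLimits _ _
  exact comp_preservesFiniteLimits _ _

theorem extZero_preservesFiniteLimits : PreservesFiniteLimits (ModSite.extZero O U) :=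
  preservesFiniteLimits_of_natIso (extZeroIso O U)

end Groth.Agent.Lib.Helper5.ShriekSheaf
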