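import Mathlib
import Groth.Prelude.Def_ModSite
import Groth.Agent.Lib.Helper5.Misc.ShriekSheaf

set_option autoImplicit false
open CategoryTheory CategoryTheory.Limits Opposite
open Groth.Agent.Lib.Helper5.TensorSheaf Groth.Agent.Lib.Helper5.TensorOver
open Groth.Agent.Lib.Helper5

namespace Groth.Agent.Lib.Helper5.ShriekSheaf

universe u
variable {C : Type u} [SmallCategory C] {J : GrothendieckTopology C}
  {O : Sheaf J CommRingCat.{u}} {U : C}

/-- Retyping a presheaf of modules on `C/U`. -/
abbrev asRU (Q : PM (O.over U)) : PresheafOfModules.{u} (Shriek.RU U (Rg O)) := Q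

open Classical in
/-- The sheafified inclusion of a summand is injective on sections of a sheaf. -/
lemma eq_of_unit_inj_eq (G : ModSite.Mod (O.over U)) (Y : (Over U)ᵒᵖ)
    (a b : (asRU ((fgt (O.over U)).obj G)).obj Y)
    (h : ((unit' O).app ((shr O U).obj ((fgt (O.over U)).obj G))).app (op Y.unop.left)
        (Shriek.inj (asRU ((fgt (O.over U)).obj G)) Y a) =
      ((unit' O).app ((shr O U).obj ((fgt (O.over U)).obj G))).app (op Y.unop.left)
        (Shriek.inj (asRU ((fgt (O.over U)).obj G)) Y b)) :
    a = b := by
  have hW := W_unit' ((shr O U).obj ((fgt (O.over U)).obj G))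
  rw [J.W_iff_isLocallyBijective] at hW
  have hli := hW.1
  have hmem := Presheaf.equalizerSieve_mem J
    ((PresheafOfModules.toPresheaf _).map ((unit' O).app ((shr O U).obj ((fgt (O.over U)).obj G))))
    (X := op Y.unop.left)
    (Shriek.inj (asRU ((fgt (O.over U)).obj G)) Y a)
    (Shriek.inj (asRU ((fgt (O.over U)).obj G)) Y b) h
  have hcov : (Sieve.overEquiv Y.unop).symm
      (Presheaf.equalizerSieve (F := ((shr O U).obj ((fgt (O.over U)).obj G)).presheaf)
        (X := op Y.unop.left)
        (Shriek.inj (asRU ((fgt (O.over U)).obj G)) Y a)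
        (Shriek.inj (asRU ((fgt (O.over U)).obj G)) Y b)) ∈ J.over U Y.unop := by
    refine (J.mem_over_iff _).mpr ?_
    have e := OrderIso.apply_symm_apply (Sieve.overEquiv Y.unop)
      (Presheaf.equalizerSieve (F := ((shr O U).obj ((fgt (O.over U)).obj G)).presheaf)
        (X := op Y.unop.left)
        (Shriek.inj (asRU ((fgt (O.over U)).obj G)) Y a)
        (Shriek.inj (asRU ((fgt (O.over U)).obj G)) Y b))
    exact e.symm ▸ hmem
  refine G.isSheaf.isSeparated Y.unop _ hcov a b ?_
  intro Z f hf
  have hf' := (Sieve.overEquiv_symm_iff _ _).mp hf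
  have e1 := Shriek.secMap_inj (asRU ((fgt (O.over U)).obj G)) f.op a
  have e2 := Shriek.secMap_inj (asRU ((fgt (O.over U)).obj G)) f.op b
  have : Shriek.inj (asRU ((fgt (O.over U)).obj G)) (op Z)
        ((asRU ((fgt (O.over U)).obj G)).map f.op a) =
      Shriek.inj (asRU ((fgt (O.over U)).obj G)) (op Z)
        ((asRU ((fgt (O.over U)).obj G)).map f.op b) :=
    e1.symm.trans (Eq.trans hf' e2)
  exact DirectSum.of_injective (β := fun ψ : Z.left ⟶ U => Shriek.summand (asRU ((fgt (O.over U)).obj G)) ψ) Z.hom this

open Classical in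
lemma shr_map_inj {Q Q' : PM (O.over U)} (α : Q ⟶ Q') (Y : (Over U)ᵒᵖ) (x : (asRU Q).obj Y) :
    ((shr O U).map α).app (op Y.unop.left) (Shriek.inj (asRU Q) Y x) =
      Shriek.inj (asRU Q') Y (α.app Y x) :=
  Shriek.secFun_of (G := asRU Q) (G' := asRU Q') α Y.unop.hom x

instance faithful_extZero' : (extZero' O U).Faithful where
  map_injective := by
    intro G G' f g hfg
    have hn : ∀ k : G ⟶ G', (shr O U).map ((fgt (O.over U)).map k) ≫
        (unit' O).app ((shr O U).obj ((fgt (O.over U)).obj G')) =
        (unit' O).app ((shr O U).obj ((fgt (O.over U)).obj G)) ≫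
          (fgt O).map ((extZero' O U).map k) := fun k =>
      (unit' O).naturality ((shr O U).map ((fgt (O.over U)).map k))
    have heq : (shr O U).map ((fgt (O.over U)).map f) ≫
        (unit' O).app ((shr O U).obj ((fgt (O.over U)).obj G')) =
        (shr O U).map ((fgt (O.over U)).map g) ≫
        (unit' O).app ((shr O U).obj ((fgt (O.over U)).obj G')) := by
      rw [hn f, hn g, hfg]
    apply (SheafOfModules.fullyFaithfulForget (ModSite.ringSh (O.over U))).map_injective
    apply PresheafOfModules.hom_ext
    intro Y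
    apply ModuleCat.hom_ext
    apply LinearMap.ext
    intro x
    apply eq_of_unit_inj_eq G' Y
    have h1 := congrArg (fun φ => φ.app (op Y.unop.left)
      (Shriek.inj (asRU ((fgt (O.over U)).obj G)) Y x)) heq
    have e1 := shr_map_inj ((fgt (O.over U)).map f) Y x
    have e2 := shr_map_inj ((fgt (O.over U)).map g) Y x
    exact (congrArg _ e1).symm.trans (h1.trans (congrArg _ e2))

variable (O U)

theorem extZero_faithful : (ModSite.extZero O U).Faithful :=
  Functor.Faithful.of_iso (extZeroIso O U)

theorem exact_of_exact_map_extZero (S : ShortComplex (ModSite.Mod (O.over U)))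
    (h : (S.map (ModSite.extZero O U)).Exact) : S.Exact := by
  have h1 : PreservesFiniteLimits (ModSite.extZero O U) := extZero_preservesFiniteLimits O U
  have h2 : PreservesFiniteColimits (ModSite.extZero O U) := by
    have : (ModSite.extZero O U).IsLeftAdjoint := (ModSite.extZeroAdj O U).isLeftAdjoint
    infer_instance
  have h3 : (ModSite.extZero O U).Faithful := extZero_faithful O U
  have h4 : (ModSite.extZero O U).PreservesZeroMorphisms := inferInstance
  exact (ShortComplex.exact_map_iff_of_faithful S (ModSite.extZero O U)).mp h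

end Groth.Agent.Lib.Helper5.ShriekSheaf
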