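import Mathlib
import Groth.Prelude.Def_ModSite
import Groth.Agent.Lib.Helper5.Misc.ShriekFaith

set_option autoImplicit false
open CategoryTheory CategoryTheory.Limits Opposite MonoidalCategory
open Groth.Agent.Lib.Helper5.TensorSheaf Groth.Agent.Lib.Helper5.TensorOver
open Groth.Agent.Lib.Helper5

namespace Groth.Agent.Lib.Helper5.ShriekSheaf

universe u
variable {C : Type u} [SmallCategory C] {J : GrothendieckTopology C}
  {O : Sheaf J CommRingCat.{u}} {X : C}

section Proj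

variable (Q : PM (O.over X)) (F : PM O)

open Classical in
/-- Sectionwise distributivity of tensor over the direct sum. -/
noncomputable def ppfEquiv (V : C) :
    TensorProduct ((Rg O).obj (op V)) (Shriek.sec (asRU Q) V) (F.obj (op V))
      ≃ₗ[(Rg O).obj (op V)]
      Shriek.sec (asRU (Q ⊗ (rsp O X).obj F)) V :=
  TensorProduct.directSumLeft ((Rg O).obj (op V)) ((Rg O).obj (op V))
    (fun φ : V ⟶ X => Shriek.summand (asRU Q) φ) (F.obj (op V))

open Classical in
lemma ppfEquiv_symm_of_tmul (V : C) (φ : V ⟶ X) (q : Shriek.summand (asRU Q) φ)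
    (f : F.obj (op V)) :
    (ppfEquiv Q F V).symm
      (DirectSum.of (fun ψ : V ⟶ X => Shriek.summand (asRU (Q ⊗ (rsp O X).obj F)) ψ) φ
        (q ⊗ₜ[(Rg O).obj (op V)] f)) =
      (DirectSum.of (fun ψ : V ⟶ X => Shriek.summand (asRU Q) ψ) φ q) ⊗ₜ[(Rg O).obj (op V)] f :=
  TensorProduct.directSumLeft_symm_lof_tmul ((Rg O).obj (op V)) ((Rg O).obj (op V))
    (M₁ := fun ψ : V ⟶ X => Shriek.summand (asRU Q) ψ) (M₂' := F.obj (op V)) φ q f

open Classical in
/-- Components of the presheaf projection formula. -/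
noncomputable def ppfApp (V : Cᵒᵖ) :
    ((shr O X).obj (Q ⊗ (rsp O X).obj F)).obj V ≅ ((shr O X).obj Q ⊗ F).obj V :=
  (ppfEquiv Q F V.unop).symm.toModuleIso

open Classical in
lemma ppfApp_hom_of_tmul (V : Cᵒᵖ) (φ : V.unop ⟶ X) (q : Shriek.summand (asRU Q) φ)
    (f : F.obj (op V.unop)) :
    (ppfApp Q F V).hom
      (DirectSum.of (fun ψ : V.unop ⟶ X => Shriek.summand (asRU (Q ⊗ (rsp O X).obj F)) ψ) φ
        (q ⊗ₜ[(Rg O).obj (op V.unop)] f)) =
      (DirectSum.of (fun ψ : V.unop ⟶ X => Shriek.summand (asRU Q) ψ) φ q)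
        ⊗ₜ[(Rg O).obj (op V.unop)] f :=
  ppfEquiv_symm_of_tmul Q F V.unop φ q f

open Classical in
lemma ppf_naturality_add {V V' : C} (h : V' ⟶ V) :
    ((ppfEquiv Q F V').symm.toLinearMap.toAddMonoidHom).comp
        (Shriek.secMap (asRU (Q ⊗ (rsp O X).obj F)) h) =
      (TensorLocal.tres ((shr O X).obj Q) F h.op).comp
        ((ppfEquiv Q F V).symm.toLinearMap.toAddMonoidHom) := by
  apply DirectSum.addHom_ext'
  intro φ
  refine TensorLocal.addHom_ext (A := (Rg O).obj (op V)) (P := Shriek.summand (asRU Q) φ)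
    (Q := F.obj (op V)) ?_
  intro q f
  show (ppfEquiv Q F V').symm (Shriek.secMap (asRU (Q ⊗ (rsp O X).obj F)) h
      (DirectSum.of (fun ψ : V ⟶ X => Shriek.summand (asRU (Q ⊗ (rsp O X).obj F)) ψ) φ
        (q ⊗ₜ[(Rg O).obj (op V)] f))) =
    TensorLocal.tres ((shr O X).obj Q) F h.op ((ppfEquiv Q F V).symm
      (DirectSum.of (fun ψ : V ⟶ X => Shriek.summand (asRU (Q ⊗ (rsp O X).obj F)) ψ) φ
        (q ⊗ₜ[(Rg O).obj (op V)] f)))
  rw [ppfEquiv_symm_of_tmul, Shriek.secMap_of]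
  have e : Shriek.gres (asRU (Q ⊗ (rsp O X).obj F)) h φ (q ⊗ₜ[(Rg O).obj (op V)] f) =
      (Shriek.gres (asRU Q) h φ q) ⊗ₜ[(Rg O).obj (op V')] (F.map h.op f) := rfl
  rw [e]
  refine (ppfEquiv_symm_of_tmul Q F V' (h ≫ φ) (Shriek.gres (asRU Q) h φ q)
    (F.map h.op f)).trans ?_
  refine Eq.trans ?_ (TensorLocal.tres_tmul ((shr O X).obj Q) F h.op
    (DirectSum.of (fun ψ : V ⟶ X => Shriek.summand (asRU Q) ψ) φ q) f).symm
  have e2 : TensorLocal.res ((shr O X).obj Q) h.op
      (DirectSum.of (fun ψ : V ⟶ X => Shriek.summand (asRU Q) ψ) φ q) =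
      DirectSum.of (fun ψ : V' ⟶ X => Shriek.summand (asRU Q) ψ) (h ≫ φ)
        (Shriek.gres (asRU Q) h φ q) := Shriek.secMap_of (asRU Q) h φ q
  rw [e2]
  rfl

open Classical in
/-- The presheaf-level projection formula. -/
noncomputable def ppf : (shr O X).obj (Q ⊗ (rsp O X).obj F) ≅ (shr O X).obj Q ⊗ F :=
  PresheafOfModules.isoMk (ppfApp Q F) (by
    intro V V' h
    apply ModuleCat.hom_ext
    apply LinearMap.ext
    intro m
    have := DFunLike.congr_fun (ppf_naturality_add Q F h.unop) m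
    refine this.trans ?_
    exact (TensorLocal.tensor_map_eq ((shr O X).obj Q) F h _).symm)

variable {Q F}

open Classical in
lemma ppf_hom_app_of_tmul (V : Cᵒᵖ) (φ : V.unop ⟶ X) (q : Shriek.summand (asRU Q) φ)
    (f : F.obj (op V.unop)) :
    (ppf Q F).hom.app V
      (DirectSum.of (fun ψ : V.unop ⟶ X => Shriek.summand (asRU (Q ⊗ (rsp O X).obj F)) ψ) φ
        (q ⊗ₜ[(Rg O).obj (op V.unop)] f)) =
      (DirectSum.of (fun ψ : V.unop ⟶ X => Shriek.summand (asRU Q) ψ) φ q)
        ⊗ₜ[(Rg O).obj (op V.unop)] f :=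
  ppfEquiv_symm_of_tmul Q F V.unop φ q f

open Classical in
lemma ppf_naturality_right {F' : PM O} (g : F ⟶ F') :
    (shr O X).map (Q ◁ (rsp O X).map g) ≫ (ppf Q F').hom =
      (ppf Q F).hom ≫ ((shr O X).obj Q ◁ g) := by
  apply PresheafOfModules.hom_ext
  intro V
  apply ModuleCat.hom_ext
  apply LinearMap.toAddMonoidHom_injective
  apply DirectSum.addHom_ext'
  intro φ
  refine TensorLocal.addHom_ext (A := (Rg O).obj (op V.unop))
    (P := Shriek.summand (asRU Q) φ) (Q := F.obj (op V.unop)) ?_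
  intro q f
  show (ppf Q F').hom.app V (((shr O X).map (Q ◁ (rsp O X).map g)).app V
      (DirectSum.of (fun ψ : V.unop ⟶ X => Shriek.summand (asRU (Q ⊗ (rsp O X).obj F)) ψ) φ
        (q ⊗ₜ[(Rg O).obj (op V.unop)] f))) =
    ((shr O X).obj Q ◁ g).app V ((ppf Q F).hom.app V
      (DirectSum.of (fun ψ : V.unop ⟶ X => Shriek.summand (asRU (Q ⊗ (rsp O X).obj F)) ψ) φ
        (q ⊗ₜ[(Rg O).obj (op V.unop)] f)))
  have e1 : ((shr O X).map (Q ◁ (rsp O X).map g)).app V
      (DirectSum.of (fun ψ : V.unop ⟶ X => Shriek.summand (asRU (Q ⊗ (rsp O X).obj F)) ψ) φ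
        (q ⊗ₜ[(Rg O).obj (op V.unop)] f)) =
      DirectSum.of (fun ψ : V.unop ⟶ X => Shriek.summand (asRU (Q ⊗ (rsp O X).obj F')) ψ) φ
        (q ⊗ₜ[(Rg O).obj (op V.unop)] (g.app (op V.unop) f)) :=
    Shriek.secFun_of (G := asRU (Q ⊗ (rsp O X).obj F)) (G' := asRU (Q ⊗ (rsp O X).obj F'))
      (Q ◁ (rsp O X).map g) φ (q ⊗ₜ[(Rg O).obj (op V.unop)] f)
  rw [e1, ppf_hom_app_of_tmul, ppf_hom_app_of_tmul]
  rfl

open Classical in
lemma ppf_naturality_left {Q' : PM (O.over X)} (α : Q ⟶ Q') :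
    (shr O X).map (α ▷ (rsp O X).obj F) ≫ (ppf Q' F).hom =
      (ppf Q F).hom ≫ ((shr O X).map α ▷ F) := by
  apply PresheafOfModules.hom_ext
  intro V
  apply ModuleCat.hom_ext
  apply LinearMap.toAddMonoidHom_injective
  apply DirectSum.addHom_ext'
  intro φ
  refine TensorLocal.addHom_ext (A := (Rg O).obj (op V.unop))
    (P := Shriek.summand (asRU Q) φ) (Q := F.obj (op V.unop)) ?_
  intro q f
  show (ppf Q' F).hom.app V (((shr O X).map (α ▷ (rsp O X).obj F)).app V
      (DirectSum.of (fun ψ : V.unop ⟶ X => Shriek.summand (asRU (Q ⊗ (rsp O X).obj F)) ψ) φ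
        (q ⊗ₜ[(Rg O).obj (op V.unop)] f))) =
    ((shr O X).map α ▷ F).app V ((ppf Q F).hom.app V
      (DirectSum.of (fun ψ : V.unop ⟶ X => Shriek.summand (asRU (Q ⊗ (rsp O X).obj F)) ψ) φ
        (q ⊗ₜ[(Rg O).obj (op V.unop)] f)))
  have e1 : ((shr O X).map (α ▷ (rsp O X).obj F)).app V
      (DirectSum.of (fun ψ : V.unop ⟶ X => Shriek.summand (asRU (Q ⊗ (rsp O X).obj F)) ψ) φ
        (q ⊗ₜ[(Rg O).obj (op V.unop)] f)) =
      DirectSum.of (fun ψ : V.unop ⟶ X => Shriek.summand (asRU (Q' ⊗ (rsp O X).obj F)) ψ) φ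
        ((α.app (op (Over.mk φ)) q) ⊗ₜ[(Rg O).obj (op V.unop)] f) :=
    Shriek.secFun_of (G := asRU (Q ⊗ (rsp O X).obj F)) (G' := asRU (Q' ⊗ (rsp O X).obj F))
      (α ▷ (rsp O X).obj F) φ (q ⊗ₜ[(Rg O).obj (op V.unop)] f)
  rw [e1, ppf_hom_app_of_tmul, ppf_hom_app_of_tmul]
  have e2 : ((shr O X).map α).app V
      (DirectSum.of (fun ψ : V.unop ⟶ X => Shriek.summand (asRU Q) ψ) φ q) =
      DirectSum.of (fun ψ : V.unop ⟶ X => Shriek.summand (asRU Q') ψ) φ
        (α.app (op (Over.mk φ)) q) :=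
    Shriek.secFun_of (G := asRU Q) (G' := asRU Q') α φ q
  refine Eq.trans ?_ (TensorLocal.whiskerRight_app_eq (N := F) ((shr O X).map α) V _).symm
  refine Eq.trans ?_ (LinearMap.rTensor_tmul (F.obj V) (((shr O X).map α).app V).hom f _).symm
  exact congrArg (fun z => z ⊗ₜ[(Rg O).obj (op V.unop)] f) e2.symm

end Proj

section SheafLevel

variable (O X)

/-- The two right adjoints agree. -/
noncomputable def rightAdjIso :
    (SheafOfModules.forget (ModSite.ringSh O) ⋙
      PresheafOfModules.restrictScalars (𝟙 (ModSite.ringSh O).obj)) ⋙ rsp O X ≅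
    ModSite.restr O X ⋙ (SheafOfModules.forget (ModSite.ringSh (O.over X)) ⋙
      PresheafOfModules.restrictScalars (𝟙 (ModSite.ringSh (O.over X)).obj)) :=
  NatIso.ofComponents (fun M => Iso.refl _) (by
    intro M N f
    rfl)

/-- Sheafification commutes with extension by zero. -/
noncomputable def shrShfIso : shr O X ⋙ shf O ≅ shf (O.over X) ⋙ ModSite.extZero O X :=
  (((padj O X).comp (TensorSheaf.adj O)).ofNatIsoRight (rightAdjIso O X)).leftAdjointUniq
    ((TensorSheaf.adj (O.over X)).comp (ModSite.extZeroAdj O X))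

variable {O X}

/-- Left side of the projection formula, in presheaf terms. -/
noncomputable def projLeftIso (P : ModSite.Mod (O.over X)) (N : ModSite.Mod O) :
    (ModSite.extZero O X).obj
      (((ModSite.tensorBi (O.over X)).obj P).obj ((ModSite.restr O X).obj N)) ≅
    (shf O).obj ((shr O X).obj ((fgt (O.over X)).obj P) ⊗ (fgt O).obj N) :=
  ((shrShfIso O X).app
      ((fgt (O.over X)).obj P ⊗ (rsp O X).obj ((fgt O).obj N))).symm ≪≫
    (shf O).mapIso (ppf ((fgt (O.over X)).obj P) ((fgt O).obj N))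

/-- The presheaf-level comparison map for the right side of the projection formula. -/
noncomputable def projRightMap (P : ModSite.Mod (O.over X)) (N : ModSite.Mod O) :
    (shr O X).obj ((fgt (O.over X)).obj P) ⊗ (fgt O).obj N ⟶
      (fgt O).obj ((extZero' O X).obj P) ⊗ (fgt O).obj N :=
  (unit' O).app ((shr O X).obj ((fgt (O.over X)).obj P)) ▷ (fgt O).obj N

lemma W_projRightMap (P : ModSite.Mod (O.over X)) (N : ModSite.Mod O) :
    J.W ((PresheafOfModules.toPresheaf _).map (projRightMap P N)) :=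
  TensorLocal.W_whiskerRight J _ _ (W_unit' _)

instance (P : ModSite.Mod (O.over X)) (N : ModSite.Mod O) :
    IsIso ((shf O).map (projRightMap P N)) :=
  isIso_shf_map_of_W _ (W_projRightMap P N)

/-- Right side of the projection formula, in presheaf terms. -/
noncomputable def projRightIso (P : ModSite.Mod (O.over X)) (N : ModSite.Mod O) :
    (shf O).obj ((shr O X).obj ((fgt (O.over X)).obj P) ⊗ (fgt O).obj N) ≅
      ((ModSite.tensorBi O).obj ((ModSite.extZero O X).obj P)).obj N :=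
  asIso ((shf O).map (projRightMap P N)) ≪≫
    ((ModSite.tensorBi O).mapIso ((extZeroIso O X).app P)).app N

/-- **Projection formula** for extension by zero. -/
noncomputable def projIso (P : ModSite.Mod (O.over X)) (N : ModSite.Mod O) :
    (ModSite.extZero O X).obj
      (((ModSite.tensorBi (O.over X)).obj P).obj ((ModSite.restr O X).obj N)) ≅
      ((ModSite.tensorBi O).obj ((ModSite.extZero O X).obj P)).obj N :=
  projLeftIso P N ≪≫ projRightIso P N

end SheafLevel

end Groth.Agent.Lib.Helper5.ShriekSheaf
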