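import Mathlib
import Groth.Prelude.Def_ModSite
import Groth.Agent.Lib.Helper5.Misc.ShriekProj

set_option autoImplicit false
open CategoryTheory CategoryTheory.Limits Opposite MonoidalCategory
open Groth.Agent.Lib.Helper5.TensorSheaf Groth.Agent.Lib.Helper5.TensorOver
open Groth.Agent.Lib.Helper5

namespace Groth.Agent.Lib.Helper5.ShriekSheaf

universe u
variable {C : Type u} [SmallCategory C] {J : GrothendieckTopology C}
  {O : Sheaf J CommRingCat.{u}} {X : C}

section NatRight

variable (P : ModSite.Mod (O.over X)) {N N' : ModSite.Mod O} (g : N ⟶ N')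

lemma tensorBi_obj_map :
    ((ModSite.tensorBi O).obj N).map g = (shf O).map ((fgt O).obj N ◁ (fgt O).map g) := rfl

lemma tensorBi_map_app (M : ModSite.Mod O) :
    ((ModSite.tensorBi O).map g).app M = (shf O).map ((fgt O).map g ▷ (fgt O).obj M) := rfl

lemma projLeftIso_naturality_right :
    (ModSite.extZero O X).map (((ModSite.tensorBi (O.over X)).obj P).map
        ((ModSite.restr O X).map g)) ≫ (projLeftIso P N').hom =
      (projLeftIso P N).hom ≫
        (shf O).map ((shr O X).obj ((fgt (O.over X)).obj P) ◁ (fgt O).map g) := by
  have h1 := (shrShfIso O X).inv.naturality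
    ((fgt (O.over X)).obj P ◁ (rsp O X).map ((fgt O).map g))
  have h2 := congrArg (fun t => (shf O).map t)
    (ppf_naturality_right (Q := (fgt (O.over X)).obj P) ((fgt O).map g))
  simp only [Functor.map_comp] at h2
  unfold projLeftIso
  simp only [Iso.trans_hom, Iso.symm_hom, Iso.app_inv, Functor.mapIso_hom, Category.assoc]
  rw [← h2]
  rw [← Category.assoc, ← Category.assoc]
  congr 1

lemma projRightIso_naturality_right :
    (shf O).map ((shr O X).obj ((fgt (O.over X)).obj P) ◁ (fgt O).map g) ≫
        (projRightIso P N').hom =
      (projRightIso P N).hom ≫ ((ModSite.tensorBi O).obj ((ModSite.extZero O X).obj P)).map g := by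
  have h1 : ((shr O X).obj ((fgt (O.over X)).obj P) ◁ (fgt O).map g) ≫ projRightMap P N' =
      projRightMap P N ≫ ((fgt O).obj ((extZero' O X).obj P) ◁ (fgt O).map g) := by
    unfold projRightMap
    exact whisker_exchange ((unit' O).app ((shr O X).obj ((fgt (O.over X)).obj P)))
      ((fgt O).map g)
  have h2 := congrArg (fun t => (shf O).map t) h1
  simp only [Functor.map_comp] at h2
  have h3 := ((ModSite.tensorBi O).map ((extZeroIso O X).hom.app P)).naturality g
  unfold projRightIso
  simp only [Iso.trans_hom, asIso_hom, Iso.app_hom, Functor.mapIso_hom, Category.assoc]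
  refine (Category.assoc _ _ _).symm.trans ?_
  refine (congrArg (fun t => t ≫ ((ModSite.tensorBi O).map ((extZeroIso O X).hom.app P)).app N')
    h2).trans ?_
  refine (Category.assoc _ _ _).trans ?_
  exact congrArg (fun t => (shf O).map (projRightMap P N) ≫ t) h3

lemma projIso_naturality_right :
    (ModSite.extZero O X).map (((ModSite.tensorBi (O.over X)).obj P).map
        ((ModSite.restr O X).map g)) ≫ (projIso P N').hom =
      (projIso P N).hom ≫ ((ModSite.tensorBi O).obj ((ModSite.extZero O X).obj P)).map g := by
  unfold projIso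
  simp only [Iso.trans_hom, Category.assoc]
  rw [← projRightIso_naturality_right, ← Category.assoc, ← Category.assoc,
    projLeftIso_naturality_right]

end NatRight

section NatLeft

variable {P P' : ModSite.Mod (O.over X)} (α : P ⟶ P') (N : ModSite.Mod O)

lemma projLeftIso_naturality_left :
    (ModSite.extZero O X).map (((ModSite.tensorBi (O.over X)).map α).app
        ((ModSite.restr O X).obj N)) ≫ (projLeftIso P' N).hom =
      (projLeftIso P N).hom ≫
        (shf O).map ((shr O X).map ((fgt (O.over X)).map α) ▷ (fgt O).obj N) := by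
  have h1 := (shrShfIso O X).inv.naturality
    ((fgt (O.over X)).map α ▷ (rsp O X).obj ((fgt O).obj N))
  have h2 := congrArg (fun t => (shf O).map t)
    (ppf_naturality_left (F := (fgt O).obj N) ((fgt (O.over X)).map α))
  simp only [Functor.map_comp] at h2
  unfold projLeftIso
  simp only [Iso.trans_hom, Iso.symm_hom, Iso.app_inv, Functor.mapIso_hom, Category.assoc]
  rw [← h2]
  rw [← Category.assoc, ← Category.assoc]
  congr 1

lemma projRightIso_naturality_left :
    (shf O).map ((shr O X).map ((fgt (O.over X)).map α) ▷ (fgt O).obj N) ≫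
        (projRightIso P' N).hom =
      (projRightIso P N).hom ≫
        ((ModSite.tensorBi O).map ((ModSite.extZero O X).map α)).app N := by
  have h0 : (shr O X).map ((fgt (O.over X)).map α) ≫
      (unit' O).app ((shr O X).obj ((fgt (O.over X)).obj P')) =
      (unit' O).app ((shr O X).obj ((fgt (O.over X)).obj P)) ≫
        (fgt O).map ((extZero' O X).map α) :=
    (unit' O).naturality ((shr O X).map ((fgt (O.over X)).map α))
  have h1 : ((shr O X).map ((fgt (O.over X)).map α) ▷ (fgt O).obj N) ≫ projRightMap P' N =
      projRightMap P N ≫ ((fgt O).map ((extZero' O X).map α) ▷ (fgt O).obj N) := by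
    unfold projRightMap
    refine (comp_whiskerRight ((shr O X).map ((fgt (O.over X)).map α))
      ((unit' O).app ((shr O X).obj ((fgt (O.over X)).obj P'))) ((fgt O).obj N)).symm.trans ?_
    refine Eq.trans ?_ (comp_whiskerRight
      ((unit' O).app ((shr O X).obj ((fgt (O.over X)).obj P)))
      ((fgt O).map ((extZero' O X).map α)) ((fgt O).obj N))
    exact congrArg (fun t => t ▷ (fgt O).obj N) h0
  have h2 := congrArg (fun t => (shf O).map t) h1
  simp only [Functor.map_comp] at h2
  have h3 : ((ModSite.tensorBi O).map ((extZero' O X).map α)).app N ≫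
      ((ModSite.tensorBi O).map ((extZeroIso O X).hom.app P')).app N =
      ((ModSite.tensorBi O).map ((extZeroIso O X).hom.app P)).app N ≫
        ((ModSite.tensorBi O).map ((ModSite.extZero O X).map α)).app N := by
    rw [← NatTrans.comp_app, ← NatTrans.comp_app, ← Functor.map_comp, ← Functor.map_comp,
      (extZeroIso O X).hom.naturality α]
  unfold projRightIso
  simp only [Iso.trans_hom, asIso_hom, Iso.app_hom, Functor.mapIso_hom, Category.assoc]
  refine (Category.assoc _ _ _).symm.trans ?_
  refine (congrArg (fun t => t ≫ ((ModSite.tensorBi O).map ((extZeroIso O X).hom.app P')).app N)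
    h2).trans ?_
  refine (Category.assoc _ _ _).trans ?_
  exact congrArg (fun t => (shf O).map (projRightMap P N) ≫ t) h3

lemma projIso_naturality_left :
    (ModSite.extZero O X).map (((ModSite.tensorBi (O.over X)).map α).app
        ((ModSite.restr O X).obj N)) ≫ (projIso P' N).hom =
      (projIso P N).hom ≫ ((ModSite.tensorBi O).map ((ModSite.extZero O X).map α)).app N := by
  unfold projIso
  simp only [Iso.trans_hom, Category.assoc]
  rw [← projRightIso_naturality_left, ← Category.assoc, ← Category.assoc,
    projLeftIso_naturality_left]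

end NatLeft

end Groth.Agent.Lib.Helper5.ShriekSheaf
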