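import Mathlib

/-!
# Functors preserving the canonical short exact sequences of an acyclic complex (helper5)
-/
set_option autoImplicit false
open CategoryTheory CategoryTheory.Limits

namespace Groth.Agent.Lib.Helper5.AcyclicMap

universe v v' u u'

variable {A : Type u} [Category.{v} A] [Abelian A] {B : Type u'} [Category.{v'} B] [Abelian B]
  {ι : Type*} {c : ComplexShape ι} (K : HomologicalComplex A c)

/-- The canonical map `K_j ⟶ ker (d : K_k ⟶ K_l)`. -/
noncomputable def q (j k l : ι) : K.X j ⟶ kernel (K.d k l) :=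
  kernel.lift (K.d k l) (K.d j k) (K.d_comp_d j k l)

@[reassoc (attr := simp)]
lemma q_ι (j k l : ι) : q K j k l ≫ kernel.ι (K.d k l) = K.d j k :=
  kernel.lift_ι _ _ _

@[reassoc (attr := simp)]
lemma ι_q (j k l : ι) : kernel.ι (K.d j k) ≫ q K j k l = 0 := by
  rw [← cancel_mono (kernel.ι (K.d k l)), Category.assoc, q_ι, kernel.condition, zero_comp]

/-- The canonical short complex `ker d_{jk} ⟶ K_j ⟶ ker d_{kl}`. -/
noncomputable def E (j k l : ι) : ShortComplex A :=
  ShortComplex.mk (kernel.ι (K.d j k)) (q K j k l) (ι_q K j k l)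

lemma E_exact (j k l : ι) : (E K j k l).Exact := by
  apply ShortComplex.exact_of_f_is_kernel
  exact isKernelOfComp (kernel.ι (K.d k l)) (K.d j k) (kernelIsKernel (K.d j k))
    (ι_q K j k l) (q_ι K j k l)

lemma E_shortExact (j k l : ι) (h : (K.sc' j k l).Exact) : (E K j k l).ShortExact where
  exact := E_exact K j k l
  mono_f := inferInstanceAs (Mono (kernel.ι (K.d j k)))
  epi_g := h.epi_kernelLift

variable (T : A ⥤ B) [T.Additive]

/-- If `T` maps the canonical short exact sequences to short exact sequences, then `T K` is exact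
at `j`. -/
theorem map_exactAt (i j k l : ι) (hi : c.prev j = i) (hk : c.next j = k)
    (h1 : Epi (T.map (q K i j k)))
    (h2 : ((E K j k l).map T).Exact)
    (h3 : Mono (T.map (kernel.ι (K.d k l)))) :
    ((T.mapHomologicalComplex c).obj K).ExactAt j := by
  rw [HomologicalComplex.exactAt_iff' _ i j k hi hk]
  let S₁ := ((T.mapHomologicalComplex c).obj K).sc' i j k
  let S₃ : ShortComplex B := ShortComplex.mk (T.map (K.d i j)) (T.map (q K j k l)) (by
    rw [← T.map_comp, ← q_ι K i j k, Category.assoc, ι_q, comp_zero, T.map_zero])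
  let S₂ := (E K j k l).map T
  let φ₁ : S₃ ⟶ S₁ :=
    { τ₁ := 𝟙 _
      τ₂ := 𝟙 _
      τ₃ := T.map (kernel.ι (K.d k l))
      comm₁₂ := by
        show 𝟙 _ ≫ T.map (K.d i j) = T.map (K.d i j) ≫ 𝟙 _
        rw [Category.id_comp, Category.comp_id]
      comm₂₃ := by
        show 𝟙 _ ≫ T.map (K.d j k) = T.map (q K j k l) ≫ T.map (kernel.ι (K.d k l))
        rw [← T.map_comp, q_ι, Category.id_comp] }
  let φ₂ : S₃ ⟶ S₂ :=
    { τ₁ := T.map (q K i j k)
      τ₂ := 𝟙 _
      τ₃ := 𝟙 _
      comm₁₂ := by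
        show T.map (q K i j k) ≫ T.map (kernel.ι (K.d j k)) = T.map (K.d i j) ≫ 𝟙 _
        rw [← T.map_comp, q_ι, Category.comp_id]
      comm₂₃ := by
        show 𝟙 _ ≫ T.map (q K j k l) = T.map (q K j k l) ≫ 𝟙 _
        rw [Category.id_comp, Category.comp_id] }
  have : Epi φ₁.τ₁ := inferInstanceAs (Epi (𝟙 _))
  have : IsIso φ₁.τ₂ := inferInstanceAs (IsIso (𝟙 _))
  have : Mono φ₁.τ₃ := h3
  have : Epi φ₂.τ₁ := h1
  have : IsIso φ₂.τ₂ := inferInstanceAs (IsIso (𝟙 _))
  have : Mono φ₂.τ₃ := inferInstanceAs (Mono (𝟙 _))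
  rw [← ShortComplex.exact_iff_of_epi_of_isIso_of_mono φ₁,
    ShortComplex.exact_iff_of_epi_of_isIso_of_mono φ₂]
  exact h2

end Groth.Agent.Lib.Helper5.AcyclicMap
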