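import Mathlib
import Groth.Prelude.Def_ModSite

/-!
# Corepresentability of the free module `freeOn O U = j_{U!} O_U` (helper5)
-/
set_option autoImplicit false
open CategoryTheory CategoryTheory.Limits Opposite

namespace Groth.Agent.Lib.Helper5.FreeOn

universe u v₁ u₁

section Yoneda
variable {A : Type u₁} [Category.{v₁} A]

/-- An isomorphism from a natural bijection of hom-sets out of two objects. -/
def isoOfHomEquiv {X Y : A} (Ψ : ∀ F : A, (X ⟶ F) ≃ (Y ⟶ F))
    (nat : ∀ {F F' : A} (φ : X ⟶ F) (g : F ⟶ F'), Ψ F' (φ ≫ g) = Ψ F φ ≫ g) : X ≅ Y where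
  hom := (Ψ Y).symm (𝟙 Y)
  inv := Ψ X (𝟙 X)
  hom_inv_id := by
    apply (Ψ X).injective
    rw [nat, Equiv.apply_symm_apply, Category.id_comp]
  inv_hom_id := by
    rw [← nat, Category.id_comp, Equiv.apply_symm_apply]

end Yoneda

variable {C : Type u} [SmallCategory C] {J : GrothendieckTopology C}
  (O : Sheaf J CommRingCat.{u}) (U : C)

/-- Sections of the restriction of `F` to `C/U` are the sections of `F` over `U`. -/
noncomputable def sectionsEquiv (F : ModSite.Mod O) :
    ((ModSite.restr O U).obj F).sections ≃ F.val.obj (op U) where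
  toFun s := s.val (op (Over.mk (𝟙 U)))
  invFun x := PresheafOfModules.sectionsMk
    (fun Y => F.val.map (Y.unop.hom).op x)
    (by
      intro Y Y' g
      show F.val.map (g.unop.left).op (F.val.map (Y.unop.hom).op x) = F.val.map (Y'.unop.hom).op x
      rw [← PresheafOfModules.map_comp_apply, ← op_comp, Over.w])
  left_inv s := by
    apply PresheafOfModules.sections_ext
    intro Y
    let t : Y.unop ⟶ Over.mk (𝟙 U) := Over.homMk Y.unop.hom (by simp)
    have := PresheafOfModules.sections_property s t.op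
    exact this
  right_inv x := by
    show F.val.map (𝟙 U).op x = x
    rw [op_id, PresheafOfModules.map_id]
    rfl

/-- `Hom(j_{U!} O_U, F) ≃ F(U)`. -/
noncomputable def freeOnHomEquiv (F : ModSite.Mod O) :
    (ModSite.freeOn O U ⟶ F) ≃ F.val.obj (op U) :=
  ((ModSite.extZeroAdj O U).homEquiv _ F).trans
    ((SheafOfModules.unitHomEquiv ((ModSite.restr O U).obj F)).trans (sectionsEquiv O U F))

lemma freeOnHomEquiv_naturality {F F' : ModSite.Mod O} (φ : ModSite.freeOn O U ⟶ F)
    (g : F ⟶ F') :
    freeOnHomEquiv O U F' (φ ≫ g) = g.val.app (op U) (freeOnHomEquiv O U F φ) := by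
  unfold freeOnHomEquiv
  simp only [Equiv.trans_apply]
  rw [Adjunction.homEquiv_naturality_right, SheafOfModules.unitHomEquiv_comp_apply]
  rfl

lemma freeOnHomEquiv_symm_naturality {F F' : ModSite.Mod O} (x : F.val.obj (op U))
    (g : F ⟶ F') :
    (freeOnHomEquiv O U F').symm (g.val.app (op U) x) = (freeOnHomEquiv O U F).symm x ≫ g := by
  apply (freeOnHomEquiv O U F').injective
  rw [Equiv.apply_symm_apply, freeOnHomEquiv_naturality, Equiv.apply_symm_apply]

end Groth.Agent.Lib.Helper5.FreeOn
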