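import Mathlib
import Groth.Prelude.Def_KFlatSite
import Groth.Agent.Lib.Helper5.Misc.KFlatGen
import Groth.Agent.Lib.Helper5.Misc.TensorSES
import Groth.Agent.S9084
import Groth.Agent.S9107
import Groth.Agent.S6165
import Groth.Agent.S6146
import Groth.Agent.S6149
import Groth.Agent.Lib.Helper5.Misc.StupidTrunc

set_option autoImplicit false
set_option linter.unusedSectionVars false
set_option linter.unusedVariables false
set_option linter.style.haveILetI false
universe u
open CategoryTheory CategoryTheory.Limits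

namespace Groth.Agent.Lib.Helper5.Misc.KFlatSite

open Groth.Agent.Lib.Helper5.Misc.KFlatGen Groth.Agent.Lib.Helper5.TensorSES

variable {C : Type u} [SmallCategory C] {J : GrothendieckTopology C} (O : Sheaf J CommRingCat.{u})

/-- AB4 for coproducts indexed by types in `Type` -/
instance hasExactColimitsOfShape_discrete (I : Type) :
    HasExactColimitsOfShape (Discrete I) (ModSite.Mod O) := by
  haveI := Groth.Agent.S9084.ab4 O (ULift.{u} I)
  exact HasExactColimitsOfShape.of_domain_equivalence (ModSite.Mod O)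
    (Discrete.equivalence (Equiv.ulift : ULift.{u} I ≃ I))

/-- tensoring a short exact sequence with flat third term on the left stays short exact -/
lemma shortExact_map_obj (S : ShortComplex (ModSite.Mod O)) (hS : S.ShortExact)
    (hF : ModSite.IsFlat S.X₃) (N : ModSite.Mod O) :
    (S.map ((ModSite.tensorBi O).obj N)).ShortExact :=
  (ShortComplex.shortExact_iff_of_iso (S.mapNatIso (objIsoFlipObj N))).2 (shortExact_map S hS hF N)

/-- the short exact sequence of total complexes -/
theorem shortExact_tensorCx (S : ShortComplex (CochainComplex (ModSite.Mod O) ℤ)) (hS : S.ShortExact)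
    (h3 : ∀ n : ℤ, ModSite.IsFlat (S.X₃.X n)) (F : CochainComplex (ModSite.Mod O) ℤ) :
    ∃ (z : ((ModSite.tensorCx O).obj F).map S.f ≫ ((ModSite.tensorCx O).obj F).map S.g = 0),
      (ShortComplex.mk _ _ z).ShortExact := by
  refine shortExact_tot (ModSite.tensorBi O) F S (fun p q => ?_)
  exact shortExact_map_obj O _
    ((HomologicalComplex.shortExact_iff_degreewise_shortExact S).1 hS q) (h3 q) (F.X p)

/-- the short exact sequence of total complexes attached to a mapping cone -/
theorem shortExact_tensorCx_cone {K₁ K₂ : CochainComplex (ModSite.Mod O) ℤ} (φ : K₁ ⟶ K₂)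
    (F : CochainComplex (ModSite.Mod O) ℤ) :
    ∃ (z : ((ModSite.tensorCx O).obj F).map
          (CochainComplex.mappingCone.triangleRotateShortComplex φ).f ≫
        ((ModSite.tensorCx O).obj F).map
          (CochainComplex.mappingCone.triangleRotateShortComplex φ).g = 0),
      (ShortComplex.mk _ _ z).ShortExact := by
  refine shortExact_tot (ModSite.tensorBi O) F _ (fun p q => ?_)
  exact ((CochainComplex.mappingCone.triangleRotateShortComplexSplitting φ q).map
    ((ModSite.tensorBi O).obj (F.X p))).shortExact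

theorem isKFlat_cone_two_of_three {K₁ K₂ : CochainComplex (ModSite.Mod O) ℤ} (φ : K₁ ⟶ K₂) :
    (ModSite.IsKFlat K₁ → ModSite.IsKFlat K₂ → ModSite.IsKFlat (CochainComplex.mappingCone φ)) ∧
    (ModSite.IsKFlat K₁ → ModSite.IsKFlat (CochainComplex.mappingCone φ) → ModSite.IsKFlat K₂) ∧
    (ModSite.IsKFlat K₂ → ModSite.IsKFlat (CochainComplex.mappingCone φ) → ModSite.IsKFlat K₁) := by
  refine ⟨fun k1 k2 F hF i => ?_, fun k1 k3 F hF i => ?_, fun k2 k3 F hF i => ?_⟩
  · obtain ⟨z, hz⟩ := shortExact_tensorCx_cone O φ F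
    exact acyclic_X₂ hz (k2 F hF)
      ((tot_shift₂_acyclic_iff (ModSite.tensorBi O) F K₁ 1).2 (k1 F hF)) i
  · obtain ⟨z, hz⟩ := shortExact_tensorCx_cone O φ F
    exact acyclic_X₁ hz (k3 F hF)
      ((tot_shift₂_acyclic_iff (ModSite.tensorBi O) F K₁ 1).2 (k1 F hF)) i
  · obtain ⟨z, hz⟩ := shortExact_tensorCx_cone O φ F
    exact (tot_shift₂_acyclic_iff (ModSite.tensorBi O) F K₁ 1).1
      (acyclic_X₃ hz (k2 F hF) (k3 F hF)) i

instance hasExactColimitsOfShape_nat : HasExactColimitsOfShape ℕ (ModSite.Mod O) := by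
  haveI : IsFiltered (ULiftHom.{u} (ULift.{u} ℕ)) :=
    IsFiltered.of_equivalence (ULiftHomULiftCategory.equiv.{u, u} ℕ)
  haveI := Groth.Agent.S9107.result O (ULiftHom.{u} (ULift.{u} ℕ))
  exact HasExactColimitsOfShape.of_domain_equivalence _ (ULiftHomULiftCategory.equiv.{u, u} ℕ).symm

instance preservesColimits_tensorBi_obj (N : ModSite.Mod O) :
    PreservesColimitsOfSize.{u, u} ((ModSite.tensorBi O).obj N) := by
  haveI : ((ModSite.tensorBi O).flip.obj N).IsLeftAdjoint := Groth.Agent.S6165.aux O N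
  haveI : PreservesColimitsOfSize.{u, u} ((ModSite.tensorBi O).flip.obj N) :=
    (Adjunction.ofIsLeftAdjoint _).leftAdjoint_preservesColimits
  exact preservesColimits_of_natIso (objIsoFlipObj N).symm

instance preservesColimitsOfShape_nat_tensorBi_obj (N : ModSite.Mod O) :
    PreservesColimitsOfShape ℕ ((ModSite.tensorBi O).obj N) := by
  haveI := preservesColimits_tensorBi_obj O N
  exact preservesColimitsOfShape_of_equiv (ULiftHomULiftCategory.equiv.{u, u} ℕ).symm _

theorem isKFlat_colimit (K : ℕ ⥤ CochainComplex (ModSite.Mod O) ℤ)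
    (hK : ∀ n : ℕ, ModSite.IsKFlat (K.obj n)) : ModSite.IsKFlat (colimit K) := by
  intro F hF i
  exact acyclic_of_isColimit (K ⋙ (ModSite.tensorCx O).obj F)
    (((ModSite.tensorCx O).obj F).mapCocone (colimit.cocone K))
    (isColimitTot (ModSite.tensorBi O) F _ (colimit.isColimit K))
    (fun n i => hK n F hF i) i

open Groth.Agent.Lib.Helper5.Misc.StupidTrunc

lemma isKFlat_of_iso {K K' : CochainComplex (ModSite.Mod O) ℤ} (e : K ≅ K')
    (h : ModSite.IsKFlat K) : ModSite.IsKFlat K' := by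
  intro F hF i
  exact acyclic_of_iso (((ModSite.tensorCx O).obj F).mapIso e) (h F hF) i

/-- a complex concentrated in one degree with flat term is K-flat -/
lemma isKFlat_of_concentrated (Q : CochainComplex (ModSite.Mod O) ℤ) (a : ℤ)
    (hz : ∀ n, n ≠ a → IsZero (Q.X n)) (hf : ModSite.IsFlat (Q.X a)) : ModSite.IsKFlat Q := by
  intro F hF n
  refine acyclic_concentrated (ModSite.tensorBi O) F Q a hz (fun p => ?_) n
  haveI := hf.1
  haveI := hf.2
  have h1 : (F.sc' (p - 1) p (p + 1)).Exact :=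
    (F.exactAt_iff' (p - 1) p (p + 1) (by simp) (by simp)).1
      ((HomologicalComplex.exactAt_iff_isZero_homology _ _).2 (hF p))
  exact h1.map ((ModSite.tensorBi O).flip.obj (Q.X a))

lemma isFlat_sigmaGE_X (K : CochainComplex (ModSite.Mod O) ℤ)
    (hflat : ∀ n : ℤ, ModSite.IsFlat (K.X n)) (a n : ℤ) : ModSite.IsFlat ((sigmaGE K a).X n) := by
  by_cases h : a ≤ n
  · exact Groth.Agent.S6146.isFlat_of_iso
      (@asIso _ _ _ _ (tι K a n) (isIso_tι K h)).symm (hflat n)
  · exact Groth.Agent.S6149.isFlat_of_isZero _ (isZero_tX K h)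

theorem isKFlat_sigmaGE (K : CochainComplex (ModSite.Mod O) ℤ) (b : ℤ) [K.IsStrictlyLE b]
    (hflat : ∀ n : ℤ, ModSite.IsFlat (K.X n)) (m : ℕ) :
    ModSite.IsKFlat (sigmaGE K (b - m)) := by
  induction m with
  | zero =>
    refine isKFlat_of_concentrated O _ (b - (0 : ℕ)) (fun n hn => ?_) (isFlat_sigmaGE_X O K hflat _ _)
    by_cases h : b - ((0 : ℕ) : ℤ) ≤ n
    · have hn' : b < n := by
        have : b - ((0 : ℕ) : ℤ) = b := by simp
        omega
      exact IsZero.of_iso (K.isZero_of_isStrictlyLE b n hn')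
        (@asIso _ _ _ _ (tι K (b - ((0 : ℕ) : ℤ)) n) (isIso_tι K h))
    · exact isZero_tX K h
  | succ m ih =>
    have e : b - ((m + 1 : ℕ) : ℤ) + 1 = b - (m : ℤ) := by push_cast; ring
    have hS := quotSC_shortExact K (b - ((m + 1 : ℕ) : ℤ))
    have h3 : ∀ n : ℤ, ModSite.IsFlat ((quotSC K (b - ((m + 1 : ℕ) : ℤ))).X₃.X n) := by
      intro n
      by_cases hn : n = b - ((m + 1 : ℕ) : ℤ)
      · subst hn
        exact Groth.Agent.S6146.isFlat_of_iso (quotSCX₃Iso K _).symm (hflat _)
      · exact Groth.Agent.S6149.isFlat_of_isZero _ (isZero_quotSC_X₃ K _ n hn)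
    have hQ : ModSite.IsKFlat (quotSC K (b - ((m + 1 : ℕ) : ℤ))).X₃ :=
      isKFlat_of_concentrated O _ (b - ((m + 1 : ℕ) : ℤ))
        (fun n hn => isZero_quotSC_X₃ K _ n hn) (h3 _)
    have h1 : ModSite.IsKFlat (quotSC K (b - ((m + 1 : ℕ) : ℤ))).X₁ := by
      show ModSite.IsKFlat (sigmaGE K (b - ((m + 1 : ℕ) : ℤ) + 1))
      rw [e]
      exact ih
    intro F hF i
    obtain ⟨z, hz⟩ := shortExact_tensorCx O _ hS h3 F
    exact acyclic_X₂ hz (h1 F hF) (hQ F hF) i

theorem isKFlat_of_bounded_above (K : CochainComplex (ModSite.Mod O) ℤ) (b : ℤ)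
    (hb : K.IsStrictlyLE b) (hflat : ∀ n : ℤ, ModSite.IsFlat (K.X n)) : ModSite.IsKFlat K := by
  have h := isKFlat_colimit O (seq K b) (fun m => isKFlat_sigmaGE O K b hflat m)
  exact isKFlat_of_iso O
    ((colimit.isColimit (seq K b)).coconePointUniqueUpToIso (seqIsColimit K b)) h

end Groth.Agent.Lib.Helper5.Misc.KFlatSite
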