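import Mathlib
import Groth.Prelude.Def_DCoh4
import Groth.Prelude.Def_KFlatSite
import Groth.Prelude.Def_FlatMod2
import Groth.Agent.Lib.Helper5.Misc.StalkFlat
import Groth.Agent.Lib.Helper5.Misc.KFlatSite

/-!
# Stalkwise flat modules on a scheme are tensor-flat; K-flatness consequences (helper5)
-/
set_option autoImplicit false
universe u
open CategoryTheory CategoryTheory.Limits AlgebraicGeometry

namespace Groth.Agent.Lib.Helper5.Misc.StalkFlatSch

variable {X : Scheme.{u}}

theorem isFlat_of_flatMod (M : X.Modules) (hM : FlatMod.IsFlat M) :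
    ModSite.IsFlat (O := X.sheaf) M :=
  StalkFlat.isFlat_of_stalkwise X.sheaf M (fun x => hM x)

end Groth.Agent.Lib.Helper5.Misc.StalkFlatSch
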