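import Groth.Agent.Lib.Helper5.Misc.ClosedPush
import Groth.Agent.Lib.Helper5.Misc.SheafModGen

/-!
# `i_*` on `O`-modules preserves colimits and is a left adjoint, for a closed immersion `i` (helper5)
-/

set_option autoImplicit false
open CategoryTheory CategoryTheory.Limits Opposite TopologicalSpace TopCat AlgebraicGeometry

universe u

namespace Groth.Agent.Lib.Helper5.ClosedPushMod

open Groth.Agent.Lib.Helper5

variable {Z X : Scheme.{u}} (i : Z ⟶ X)

/-- `i_*` as a functor between the `SheafOfModules` categories. -/
noncomputable abbrev push' : SheafOfModules.{u} Z.ringCatSheaf ⥤ SheafOfModules.{u} X.ringCatSheaf :=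
  SheafOfModules.pushforward i.toRingCatSheafHom

lemma push'_toSheaf :
    push' i ⋙ SheafOfModules.toSheaf X.ringCatSheaf =
      SheafOfModules.toSheaf Z.ringCatSheaf ⋙
        TopCat.Sheaf.pushforward AddCommGrpCat.{u} i.base := rfl

theorem preservesColimits_push' [IsClosedImmersion i] :
    PreservesColimitsOfSize.{u, u} (push' i) := by
  constructor
  intro K _
  have h0 := ClosedPush.preservesColimits_pushforward i.base i.isClosedEmbedding
  haveI := SheafModGen.toSheaf_preservesColimits Z.ringCatSheaf
  haveI := SheafModGen.toSheaf_reflectsColimits X.ringCatSheaf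
  haveI : PreservesColimitsOfShape K
      (push' i ⋙ SheafOfModules.toSheaf X.ringCatSheaf) := by
    rw [push'_toSheaf]
    have h1 : PreservesColimitsOfShape K (SheafOfModules.toSheaf Z.ringCatSheaf) := inferInstance
    have h2 : PreservesColimitsOfShape K (TopCat.Sheaf.pushforward AddCommGrpCat.{u} i.base) :=
      h0.preservesColimitsOfShape
    exact @comp_preservesColimitsOfShape _ _ _ _ _ _ _ _ (SheafOfModules.toSheaf Z.ringCatSheaf)
      (TopCat.Sheaf.pushforward AddCommGrpCat.{u} i.base) h1 h2
  exact preservesColimitsOfShape_of_reflects_of_preserves (push' i)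
    (SheafOfModules.toSheaf X.ringCatSheaf)

theorem preservesColimits_pushforward [IsClosedImmersion i] :
    PreservesColimitsOfSize.{u, u} (Scheme.Modules.pushforward i) :=
  preservesColimits_push' i

theorem isLeftAdjoint_pushforward [IsClosedImmersion i] :
    (Scheme.Modules.pushforward i).IsLeftAdjoint := by
  haveI := preservesColimits_push' i
  exact SheafModGen.isLeftAdjoint_of_preservesColimits Z.ringCatSheaf (push' i)

end Groth.Agent.Lib.Helper5.ClosedPushMod
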