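import Mathlib
import Groth.Agent.Lib.Helper3.RDAcyc

/-!
# Acyclic objects and composites of right derived functors

If `G` is left exact, preserves injectives, and `X` is `G`-acyclic, then the image under `G` of an
injective resolution of `X` is an injective resolution of `G X`, hence
`R^n(G ⋙ Φ) X ≅ R^n Φ (G X)`.
-/

open CategoryTheory CategoryTheory.Limits

namespace Groth.Agent.Lib.Helper5.Misc.LerayAcyc

universe v₁ v₂ v₃ u₁ u₂ u₃
variable {A : Type u₁} [Category.{v₁} A] [Abelian A]
  {B : Type u₂} [Category.{v₂} B] [Abelian B]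
  {C : Type u₃} [Category.{v₃} C] [Abelian C]

/-- image of an injective resolution of an acyclic object -/
noncomputable def mapInjectiveResolution [EnoughInjectives A] (G : A ⥤ B) [G.Additive]
    [G.PreservesInjectiveObjects] [PreservesFiniteLimits G] {Z : A}
    (hZ : ∀ i : ℕ, 0 < i → IsZero ((G.rightDerived i).obj Z)) (I : InjectiveResolution Z) :
    InjectiveResolution (G.obj Z) where
  cocomplex := (G.mapHomologicalComplex _).obj I.cocomplex
  injective n := G.injective_obj_of_injective (I.injective n)
  ι := (HomologicalComplex.singleMapHomologicalComplex G (ComplexShape.up ℕ) 0).inv.app Z ≫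
    (G.mapHomologicalComplex _).map I.ι
  quasiIso := by
    have := (Groth.Agent.Helper3.RDAcyc.quasiIso_map_ι_iff G I).2 ⟨inferInstance, hZ⟩
    infer_instance

/-- `R^n(G ⋙ Φ) X ≅ R^n Φ (G X)` for `G` left exact preserving injectives and `X` acyclic for `G`. -/
noncomputable def preIso [EnoughInjectives A] [HasInjectiveResolutions B]
    (G : A ⥤ B) (Φ : B ⥤ C) [G.Additive] [Φ.Additive]
    [G.PreservesInjectiveObjects] [PreservesFiniteLimits G] (X : A)
    (hX : ∀ i : ℕ, 0 < i → IsZero ((G.rightDerived i).obj X)) (n : ℕ) :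
    ((G ⋙ Φ).rightDerived n).obj X ≅ (Φ.rightDerived n).obj (G.obj X) :=
  (injectiveResolution X).isoRightDerivedObj (G ⋙ Φ) n ≪≫
    (HomologicalComplex.homologyFunctor C _ n).mapIso
      (HomologicalComplex.Hom.isoOfComponents (fun _ => Iso.refl _) (by intros; simp)) ≪≫
    ((mapInjectiveResolution G hX (injectiveResolution X)).isoRightDerivedObj Φ n).symm

end Groth.Agent.Lib.Helper5.Misc.LerayAcyc
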