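import Mathlib
import Groth.Agent.Lib.Helper3.RDTwo

/-!
# The adjunction map on `Ext` is bijective on `R`-acyclic objects (helper5)

For an adjunction `L ⊣ R` between abelian categories with `L` exact, and `F` an object with
`Rⁱ R (F) = 0` for `i > 0`, the map
`Φ : Ext^n(X, R F) → Ext^n(L X, F)`, `e ↦ ε_F ∘ L(e)`, is bijective for all `n`.
-/

set_option autoImplicit false
universe w w' t t' v v' u u'
open CategoryTheory CategoryTheory.Limits Abelian

namespace Groth.Agent.Lib.Helper5.ExtAdjAcyc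

variable {A : Type u} [Category.{v} A] [Abelian A] {B : Type u'} [Category.{v'} B] [Abelian B]
  [HasExt.{w} A] [HasExt.{w'} B]
  {L : B ⥤ A} {R : A ⥤ B} (adj : L ⊣ R) [L.Additive] [R.Additive]
  [PreservesFiniteLimits L] [PreservesFiniteColimits L]

/-- The adjunction map `Ext^n(X, R F) → Ext^n(L X, F)`. -/
noncomputable def Φ (X : B) (F : A) (n : ℕ) : Ext.{w'} X (R.obj F) n →+ Ext.{w} (L.obj X) F n :=
  ((Ext.mk₀ (adj.counit.app F)).postcomp (L.obj X) (add_zero n)).comp
    (L.mapExtAddHom X (R.obj F) n)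

lemma Φ_apply (X : B) (F : A) (n : ℕ) (e : Ext.{w'} X (R.obj F) n) :
    Φ adj X F n e = (e.mapExactFunctor L).comp (Ext.mk₀ (adj.counit.app F)) (add_zero n) := rfl

lemma Φ_comp_mk₀ (X : B) {F F' : A} (φ : F ⟶ F') (n : ℕ) (e : Ext.{w'} X (R.obj F) n) :
    Φ adj X F' n (e.comp (Ext.mk₀ (R.map φ)) (add_zero n)) =
      (Φ adj X F n e).comp (Ext.mk₀ φ) (add_zero n) := by
  rw [Φ_apply, Φ_apply, Ext.mapExactFunctor_comp, Ext.mapExactFunctor_mk₀, Ext.comp_assoc_of_third_deg_zero,
    Ext.comp_assoc_of_third_deg_zero, Ext.mk₀_comp_mk₀, Ext.mk₀_comp_mk₀]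
  congr 2
  exact adj.counit_naturality φ

lemma Φ_mk₀ (X : B) (F : A) (g : X ⟶ R.obj F) :
    Φ adj X F 0 (Ext.mk₀ g) = Ext.mk₀ ((adj.homEquiv X F).symm g) := by
  rw [Φ_apply, Ext.mapExactFunctor_mk₀, Ext.mk₀_comp_mk₀, Adjunction.homEquiv_counit]

/-- `R` applied to a short complex, in constructor form. -/
abbrev RS (R : A ⥤ B) [R.Additive] (S : ShortComplex A) : ShortComplex B :=
  ShortComplex.mk (R.map S.f) (R.map S.g) (by rw [← R.map_comp, S.zero, R.map_zero])

/-- The counit as a morphism of short complexes `L R S ⟶ S`. -/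
noncomputable def counitSC (S : ShortComplex A) : (RS R S).map L ⟶ S :=
  ShortComplex.homMk (adj.counit.app S.X₁) (adj.counit.app S.X₂) (adj.counit.app S.X₃)
    (adj.counit_naturality S.f).symm (adj.counit_naturality S.g).symm

lemma key (S : ShortComplex A) (hS : S.ShortExact) (hRS : (RS R S).ShortExact) :
    (hRS.extClass.mapExactFunctor L).comp (Ext.mk₀ (adj.counit.app S.X₁)) (add_zero 1) =
      (Ext.mk₀ (adj.counit.app S.X₃)).comp hS.extClass (zero_add 1) := by
  rw [Ext.mapExactFunctor_extClass]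
  exact ShortComplex.ShortExact.extClass_naturality (hRS.map_of_exact L) hS (counitSC adj S)

lemma Φ_comp_extClass (X : B) {S : ShortComplex A} (hS : S.ShortExact)
    (hRS : (RS R S).ShortExact) (n : ℕ) (e : Ext.{w'} X (R.obj S.X₃) n) :
    Φ adj X S.X₁ (n + 1) (e.comp hRS.extClass rfl) =
      (Φ adj X S.X₃ n e).comp hS.extClass rfl := by
  rw [Φ_apply, Φ_apply, Ext.mapExactFunctor_comp, Ext.comp_assoc_of_third_deg_zero,
    key adj S hS hRS, Ext.comp_assoc_of_second_deg_zero]

attribute [local instance] Ext.subsingleton_of_injective in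
/-- **Main theorem**: `Φ` is bijective on `R`-acyclic objects. -/
theorem Φ_bijective [EnoughInjectives A] [HasDerivedCategory.{t} A] [HasDerivedCategory.{t'} B]
    (X : B) (F : A) (hF : ∀ i : ℕ, 0 < i → IsZero ((R.rightDerived i).obj F)) (n : ℕ) :
    Function.Bijective (Φ adj X F n) := by
  haveI : PreservesFiniteLimits R := by
    have := adj.rightAdjoint_preservesLimits
    infer_instance
  induction n generalizing F with
  | zero =>
    constructor
    · intro e₁ e₂ h
      obtain ⟨g₁, rfl⟩ := (Ext.mk₀_bijective _ _).2 e₁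
      obtain ⟨g₂, rfl⟩ := (Ext.mk₀_bijective _ _).2 e₂
      rw [Φ_mk₀, Φ_mk₀] at h
      rw [(adj.homEquiv X F).symm.injective ((Ext.mk₀_bijective _ _).1 h)]
    · intro y
      obtain ⟨g, rfl⟩ := (Ext.mk₀_bijective _ _).2 y
      exact ⟨Ext.mk₀ (adj.homEquiv X F g), by rw [Φ_mk₀, Equiv.symm_apply_apply]⟩
  | succ n hn =>
    let I : InjectivePresentation F := Classical.arbitrary _
    let S := ShortComplex.mk _ _ (cokernel.condition I.f)
    have hS : S.ShortExact := { exact := ShortComplex.exact_cokernel I.f }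
    have hI : ∀ i : ℕ, 0 < i → IsZero ((R.rightDerived i).obj I.J) := by
      intro i hi
      obtain ⟨m, rfl⟩ : ∃ m, i = m + 1 := ⟨i - 1, by omega⟩
      haveI := I.injective
      exact Functor.isZero_rightDerived_obj_injective_succ R m I.J
    obtain ⟨hQ, hRS'⟩ := Groth.Agent.Helper3.RDTwo.two_of_three R S hS hF hI
    have hRS : (RS R S).ShortExact := hRS'
    haveI : Injective I.J := I.injective
    haveI : Injective (R.obj I.J) := adj.map_injective _ I.injective
    exact AddMonoidHom.bijective_of_surjective_of_bijective_of_right_exact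
      ((Ext.mk₀ (R.map S.g)).postcomp X (add_zero n)) (hRS.extClass.postcomp X rfl)
      ((Ext.mk₀ S.g).postcomp (L.obj X) (add_zero n)) (hS.extClass.postcomp (L.obj X) rfl)
      (Φ adj X I.J n) (Φ adj X S.X₃ n) (Φ adj X F (n + 1))
      (AddMonoidHom.ext fun e => (Φ_comp_mk₀ adj X S.g n e).symm)
      (AddMonoidHom.ext fun e => (Φ_comp_extClass adj X hS hRS n e).symm)
      ((ShortComplex.ab_exact_iff_function_exact _).mp
        (Ext.covariant_sequence_exact₃' X hRS n (n + 1) rfl))
      ((ShortComplex.ab_exact_iff_function_exact _).mp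
        (Ext.covariant_sequence_exact₃' (L.obj X) hS n (n + 1) rfl))
      (hn I.J hI).surjective (hn S.X₃ hQ)
      (fun x₁ ↦ Ext.covariant_sequence_exact₁ _ hRS x₁ (by subsingleton) rfl)
      (fun y₁ ↦ Ext.covariant_sequence_exact₁ _ hS y₁ (by subsingleton) rfl)

end Groth.Agent.Lib.Helper5.ExtAdjAcyc
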