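import Mathlib
import Groth.Prelude.Def_CohTop
import Groth.Agent.Lib.Helper5.Misc.ShriekAb
import Groth.Agent.Lib.Helper5.Misc.KInjAdj

/-!
# Extension by zero from an open subspace, abelian sheaves (helper5)
-/
set_option autoImplicit false
universe u
open CategoryTheory CategoryTheory.Limits Opposite TopologicalSpace

namespace Groth.Agent.Lib.Helper5.Misc.ShriekTop

open Groth.Agent.Lib.Helper5.Misc.ShriekAb

variable {X : TopCat.{u}} (U : Opens X)

/-- extension by zero from an open subspace -/
noncomputable abbrev shriekTop : CohTop.Ab (TopCat.of U) ⥤ CohTop.Ab X :=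
  (U.sheafEquivOver (A := AddCommGrpCat.{u})).inverse ⋙
    shriek U (Opens.grothendieckTopology X)

/-- `j_! ⊣ j^*` for an open subspace -/
noncomputable def adjTop : shriekTop U ⊣ CohTop.restrFunctor U :=
  ((U.sheafEquivOver (A := AddCommGrpCat.{u})).symm.toAdjunction.comp
    (adj U (Opens.grothendieckTopology X))).ofNatIsoRight
    (U.overPullbackSheafEquivOver (A := AddCommGrpCat.{u}))

instance : PreservesFiniteLimits (shriekTop U) := comp_preservesFiniteLimits _ _

instance : PreservesFiniteColimits (shriekTop U) := comp_preservesFiniteColimits _ _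

instance : (shriekTop U).Additive :=
  haveI := preservesBinaryBiproducts_of_preservesBinaryCoproducts (shriekTop U)
  Functor.additive_of_preservesBinaryBiproducts _

theorem isKInjective_restr (I : CochainComplex (CohTop.Ab X) ℤ) (h : I.IsKInjective) :
    CochainComplex.IsKInjective
      (((CohTop.restrFunctor U).mapHomologicalComplex (ComplexShape.up ℤ)).obj I) :=
  KInjAdj.isKInjective_map (adjTop U) I

end Groth.Agent.Lib.Helper5.Misc.ShriekTop
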