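import Mathlib
import Groth.Agent.Lib.Helper5.Misc.ShriekTop
import Groth.Agent.Lib.Helper5.Misc.ShriekAbConst

/-!
# `j_! ℤ_U ≅ ℤ[h_U]` for an open subspace; cohomology over an open as cohomology of the subspace
(helper5)
-/
set_option autoImplicit false
universe u
open CategoryTheory CategoryTheory.Limits Opposite TopologicalSpace

namespace Groth.Agent.Lib.Helper5.Misc.ShriekTop

open Groth.Agent.Lib.Helper5.Misc.ShriekAb

variable {X : TopCat.{u}} (U : Opens X)

/-- the terminal object of `Over U` coming from `⊤ : Opens U` -/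
noncomputable abbrev tOver : Over U := U.overEquivalence.inverse.obj ⊤

noncomputable def tOverIsTerminal : IsTerminal (tOver U) :=
  IsTerminal.isTerminalObj U.overEquivalence.inverse ⊤ isTerminalTop

/-- the equivalence of sheaf categories sends constant sheaves to constant sheaves -/
noncomputable def constIso :
    constantSheaf (Opens.grothendieckTopology (TopCat.of U)) AddCommGrpCat.{u} ⋙
      (U.sheafEquivOver (A := AddCommGrpCat.{u})).inverse ≅
    constantSheaf ((Opens.grothendieckTopology X).over U) AddCommGrpCat.{u} :=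
  ((constantSheafAdj (Opens.grothendieckTopology (TopCat.of U)) AddCommGrpCat.{u}
      isTerminalTop).comp
    (U.sheafEquivOver (A := AddCommGrpCat.{u})).symm.toAdjunction).leftAdjointUniq
    ((constantSheafAdj ((Opens.grothendieckTopology X).over U) AddCommGrpCat.{u}
      (tOverIsTerminal U)).ofNatIsoRight (NatIso.ofComponents (fun G => Iso.refl _)))

/-- `j_! ℤ_U ≅ ℤ[h_U]` -/
noncomputable def shriekTopConstIso :
    (shriekTop U).obj ((constantSheaf (Opens.grothendieckTopology (TopCat.of U))
      AddCommGrpCat.{u}).obj (AddCommGrpCat.of (ULift.{u} ℤ))) ≅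
    (presheafToSheaf (Opens.grothendieckTopology X) AddCommGrpCat.{u}).obj
      (yoneda.obj U ⋙ AddCommGrpCat.free.{u}) :=
  (shriek U (Opens.grothendieckTopology X)).mapIso
    ((constIso U).app (AddCommGrpCat.of (ULift.{u} ℤ))) ≪≫
    shriekConstIso U (Opens.grothendieckTopology X)

instance : (CohTop.restrFunctor U).IsRightAdjoint := (adjTop U).isRightAdjoint

instance : PreservesFiniteColimits (CohTop.restrFunctor U) := by
  have : PreservesFiniteColimits ((Opens.grothendieckTopology X).overPullback AddCommGrpCat.{u} U ⋙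
      (U.sheafEquivOver (A := AddCommGrpCat.{u})).functor) :=
    comp_preservesFiniteColimits _ _
  exact preservesFiniteColimits_of_natIso (U.overPullbackSheafEquivOver (A := AddCommGrpCat.{u}))

theorem nonempty_HU_addEquiv_H (F : CohTop.Ab X) (n : ℕ) :
    Nonempty (CohTop.HU F n U ≃+ CohTop.H (CohTop.restr F U) n) :=
  ⟨(extAddEquivOfIso (shriekTopConstIso U).symm F n).trans
    (ExtAdj.extAddEquiv (adjTop U) _ F n)⟩

end Groth.Agent.Lib.Helper5.Misc.ShriekTop
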