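import Mathlib

/-!
# Comparing Ext groups along an exact functor by dimension shifting (helper5)
-/
set_option autoImplicit false
universe w₁ w₂
open CategoryTheory Limits Abelian

namespace Groth.Agent.Lib.Helper5.Misc.ExtShift

section one

variable {𝒞 : Type*} [Category 𝒞] [Abelian 𝒞] [HasExt.{w₁} 𝒞]
  {S : ShortComplex 𝒞} (hS : S.ShortExact) (X : 𝒞)

/-- the connecting map on `Hom` -/
noncomputable def δ₀ : (X ⟶ S.X₃) →+ Ext X S.X₁ 1 :=
  (hS.extClass.postcomp X (zero_add 1)).comp (Ext.addEquiv₀ (X := X) (Y := S.X₃)).symm.toAddMonoidHom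

lemma δ₀_apply (p : X ⟶ S.X₃) : δ₀ hS X p = (Ext.mk₀ p).comp hS.extClass (zero_add 1) := rfl

lemma δ₀_surjective (h1 : ∀ x : Ext X S.X₂ 1, x = 0) : Function.Surjective (δ₀ hS X) := by
  intro x₁
  obtain ⟨x₃, hx₃⟩ := Ext.covariant_sequence_exact₁ X hS x₁ (h1 _) (zero_add 1)
  obtain ⟨p, rfl⟩ := (Ext.addEquiv₀ (X := X) (Y := S.X₃)).symm.surjective x₃
  exact ⟨p, hx₃⟩

lemma δ₀_eq_zero_iff (p : X ⟶ S.X₃) : δ₀ hS X p = 0 ↔ ∃ q : X ⟶ S.X₂, q ≫ S.g = p := by
  constructor
  · intro h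
    obtain ⟨x₂, hx₂⟩ := Ext.covariant_sequence_exact₃ X hS (Ext.mk₀ p) (zero_add 1) h
    obtain ⟨q, rfl⟩ := (Ext.addEquiv₀ (X := X) (Y := S.X₂)).symm.surjective x₂
    refine ⟨q, ?_⟩
    have : Ext.mk₀ (q ≫ S.g) = Ext.mk₀ p := by
      rw [← Ext.mk₀_comp_mk₀]
      exact hx₂
    exact (Ext.addEquiv₀ (X := X) (Y := S.X₃)).symm.injective this
  · rintro ⟨q, rfl⟩
    rw [δ₀_apply, ← Ext.mk₀_comp_mk₀, Ext.comp_assoc_of_second_deg_zero]
    · rw [hS.comp_extClass, Ext.comp_zero]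

/-- the connecting map in higher degrees is bijective when the middle term is acyclic -/
lemma δ_bijective (n : ℕ) (h1 : ∀ x : Ext X S.X₂ (n + 1), x = 0)
    (h2 : ∀ x : Ext X S.X₂ (n + 2), x = 0) :
    Function.Bijective (hS.extClass.postcomp X (rfl : (n + 1) + 1 = n + 2)) := by
  constructor
  · rw [injective_iff_map_eq_zero]
    intro x₃ hx₃
    obtain ⟨x₂, hx₂⟩ := Ext.covariant_sequence_exact₃ X hS x₃ rfl hx₃
    rw [← hx₂, h1 x₂, Ext.zero_comp]
  · intro x₁
    exact Ext.covariant_sequence_exact₁ X hS x₁ (h2 _) rfl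

end one


/-- two surjections with corresponding kernels have isomorphic targets -/
lemma nonempty_addEquiv_of_surjective {A A' B B' : Type*} [AddCommGroup A] [AddCommGroup A']
    [AddCommGroup B] [AddCommGroup B'] (f : A →+ A') (g : B →+ B') (hf : Function.Surjective f)
    (hg : Function.Surjective g) (e : A ≃+ B) (h : ∀ a, f a = 0 ↔ g (e a) = 0) :
    Nonempty (A' ≃+ B') := by
  have hmap : f.ker.map e.toAddMonoidHom = g.ker := by
    ext b
    constructor
    · rintro ⟨a, ha, rfl⟩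
      exact (h a).1 ha
    · intro hb
      refine ⟨e.symm b, (h _).2 ?_, e.apply_symm_apply b⟩
      rw [e.apply_symm_apply]
      exact hb
  exact ⟨(QuotientAddGroup.quotientKerEquivOfSurjective f hf).symm.trans
    ((QuotientAddGroup.congr f.ker g.ker e hmap).trans
      (QuotientAddGroup.quotientKerEquivOfSurjective g hg))⟩

section two

variable {𝒜 ℬ : Type*} [Category 𝒜] [Abelian 𝒜] [HasExt.{w₁} 𝒜] [EnoughInjectives 𝒜]
  [Category ℬ] [Abelian ℬ] [HasExt.{w₂} ℬ]
  (U : 𝒜 ⥤ ℬ) [U.Additive] [PreservesFiniteLimits U] [PreservesFiniteColimits U]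
  (P : 𝒜) (Q : ℬ) (φ : ∀ M, (P ⟶ M) ≃+ (Q ⟶ U.obj M))
  (hφ : ∀ {M N : 𝒜} (g : M ⟶ N) (p : P ⟶ M), φ N (p ≫ g) = φ M p ≫ U.map g)
  (hacyc : ∀ (I : 𝒜) [Injective I] (n : ℕ) (x : Ext Q (U.obj I) (n + 1)), x = 0)

/-- the short exact sequence `0 → M → I → I/M → 0` with `I` injective -/
noncomputable def ses (M : 𝒜) : ShortComplex 𝒜 :=
  ShortComplex.mk (Injective.ι M) (cokernel.π (Injective.ι M)) (cokernel.condition _)

omit [HasExt.{w₁} 𝒜] in
lemma ses_shortExact (M : 𝒜) : (ses M).ShortExact where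
  exact := ShortComplex.exact_of_g_is_cokernel _ (cokernelIsCokernel _)
  mono_f := by dsimp [ses]; infer_instance
  epi_g := by dsimp [ses]; infer_instance

instance (M : 𝒜) : Injective (ses M).X₂ := by dsimp [ses]; infer_instance

include hφ hacyc in
/-- **Dimension shifting.** -/
theorem nonempty_ext_addEquiv (n : ℕ) :
    ∀ M : 𝒜, Nonempty (Ext P M n ≃+ Ext Q (U.obj M) n) := by
  induction n with
  | zero =>
    intro M
    exact ⟨(Ext.addEquiv₀ (X := P) (Y := M)).trans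
      ((φ M).trans (Ext.addEquiv₀ (X := Q) (Y := U.obj M)).symm)⟩
  | succ n ih =>
    intro M
    have hS := ses_shortExact M
    have hS' : ((ses M).map U).ShortExact := hS.map_of_exact U
    cases n with
    | zero =>
      refine nonempty_addEquiv_of_surjective (δ₀ hS P) (δ₀ hS' Q)
        (δ₀_surjective hS P (fun x => Ext.eq_zero_of_injective x))
        (δ₀_surjective hS' Q (fun x => hacyc (ses M).X₂ 0 x)) (φ (ses M).X₃) ?_
      intro p
      refine (δ₀_eq_zero_iff hS P p).trans (Iff.trans ?_ (δ₀_eq_zero_iff hS' Q _).symm)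
      constructor
      · rintro ⟨q, rfl⟩
        exact ⟨φ _ q, (hφ _ _).symm⟩
      · rintro ⟨q', hq'⟩
        obtain ⟨q, rfl⟩ := (φ (ses M).X₂).surjective q'
        refine ⟨q, (φ (ses M).X₃).injective ?_⟩
        rw [hφ]
        exact hq'
    | succ k =>
      obtain ⟨e⟩ := ih (ses M).X₃
      have b1 := δ_bijective hS P k (fun x => Ext.eq_zero_of_injective x)
        (fun x => Ext.eq_zero_of_injective x)
      have b2 := δ_bijective hS' Q k (fun x => hacyc (ses M).X₂ k x)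
        (fun x => hacyc (ses M).X₂ (k + 1) x)
      exact ⟨(AddEquiv.ofBijective _ b1).symm.trans (e.trans (AddEquiv.ofBijective _ b2))⟩

end two

end Groth.Agent.Lib.Helper5.Misc.ExtShift
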