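import Mathlib
import Groth.Agent.Lib.Helper3.FreeQI
import Groth.Agent.Lib.Helper3.AcyRes

/-!
# Free presheaves of modules on an augmented simplicial presheaf with objectwise extra degeneracy
(helper5)
-/
set_option autoImplicit false
universe u
open CategoryTheory Limits Opposite Simplicial AlgebraicTopology

namespace Groth.Agent.Lib.Helper5.Misc.FreeModQI

open Groth.Agent.Helper3

variable {C : Type u} [SmallCategory C] (R₀ : Cᵒᵖ ⥤ RingCat.{u})
  (Aset : SimplicialObject.Augmented (Cᵒᵖ ⥤ Type u))

/-- the augmented simplicial presheaf of modules freely generated by an augmented simplicial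
presheaf of sets -/
noncomputable abbrev freeModAug : SimplicialObject.Augmented (PresheafOfModules.{u} R₀) :=
  ((SimplicialObject.Augmented.whiskering _ _).obj (PresheafOfModules.free R₀)).obj Aset

/-- evaluation at `W` to abelian groups -/
noncomputable abbrev EW (W : Cᵒᵖ) : PresheafOfModules.{u} R₀ ⥤ AddCommGrpCat.{u} :=
  PresheafOfModules.toPresheaf R₀ ⋙ (evaluation Cᵒᵖ AddCommGrpCat.{u}).obj W

/-- the free module functor followed by the forgetful functor to abelian groups -/
noncomputable abbrev FW (W : Cᵒᵖ) : Type u ⥤ AddCommGrpCat.{u} :=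
  ModuleCat.free (R₀.obj W) ⋙ forget₂ (ModuleCat.{u} (R₀.obj W)) AddCommGrpCat.{u}

noncomputable def evalFreeModIso (W : Cᵒᵖ) :
    ((SimplicialObject.Augmented.whiskering _ _).obj (FW R₀ W)).obj (FreeQI.evalAug Aset W) ≅
      ((SimplicialObject.Augmented.whiskering _ _).obj (EW R₀ W)).obj (freeModAug R₀ Aset) := by
  refine Comma.isoMk ?_ ?_ ?_
  · exact @NatIso.ofComponents SimplexCategoryᵒᵖ _ AddCommGrpCat.{u} _ _ _
      (fun n => Iso.refl ((FW R₀ W).obj ((Aset.left.obj n).obj W))) (by
      intro i j f
      exact (Category.comp_id _).trans (Category.id_comp _).symm)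
  · exact Iso.refl ((FW R₀ W).obj (Aset.right.obj W))
  · apply NatTrans.ext
    funext n
    simp [SimplicialObject.Augmented.whiskering, SimplicialObject.Augmented.whiskeringObj]
    refine (Category.id_comp _).trans (Eq.trans ?_ (Category.comp_id _).symm)
    simp [freeModAug, FreeQI.evalAug, SimplicialObject.Augmented.whiskering,
      SimplicialObject.Augmented.whiskeringObj]
    rfl


instance (W : Cᵒᵖ) : (EW R₀ W).Additive := by
  dsimp only [EW]
  infer_instance

instance : (PresheafOfModules.toPresheaf R₀).PreservesHomology := by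
  infer_instance

instance : (PresheafOfModules.toPresheaf R₀).ReflectsIsomorphisms := by
  infer_instance

theorem quasiIso_ε_freeModAug
    (h : ∀ W : Cᵒᵖ, Nonempty (SimplicialObject.Augmented.ExtraDegeneracy (FreeQI.evalAug Aset W))) :
    QuasiIso (AlternatingFaceMapComplex.ε.app (freeModAug R₀ Aset)) := by
  rw [← HomologicalComplex.quasiIso_map_iff_of_preservesHomology _ (PresheafOfModules.toPresheaf R₀)]
  rw [HomologicalComplex.quasiIso_iff_evaluation]
  intro W
  have key : QuasiIso (((EW R₀ W).mapHomologicalComplex _).map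
      (AlternatingFaceMapComplex.ε.app (freeModAug R₀ Aset))) := by
    apply FreeQI.quasiIso_ε_of_whiskering
    have ed := ((h W).some.map (FW R₀ W)).ofIso (evalFreeModIso R₀ Aset W)
    exact (inferInstance : QuasiIso (SimplicialObject.Augmented.ExtraDegeneracy.homotopyEquiv ed).hom)
  exact key


/-- maps from a resolution into an injective object: `Hom(P_•, I)` is exact in positive degrees -/
theorem cexact_of_injective {𝒜 : Type*} [Category 𝒜] [Abelian 𝒜] (P : ChainComplex 𝒜 ℕ) (Z : 𝒜)
    (π : P ⟶ (ChainComplex.single₀ 𝒜).obj Z) [QuasiIso π] (I : 𝒜) [Injective I] (m : ℕ)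
    (x : P.X (m + 1) ⟶ I) (hx : P.d (m + 2) (m + 1) ≫ x = 0) :
    ∃ y : P.X m ⟶ I, P.d (m + 1) m ≫ y = x := by
  have h1 : P.ExactAt (m + 1) := (_root_.quasiIsoAt_iff_exactAt' π (m + 1)
    (HomologicalComplex.exactAt_single_obj _ _ _ _ (by simp))).1 inferInstance
  have h2 := (P.exactAt_iff' (m + 2) (m + 1) m (by simp) (by simp)).1 h1
  exact ⟨h2.descToInjective x hx, h2.comp_descToInjective x hx⟩

end Groth.Agent.Lib.Helper5.Misc.FreeModQI
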