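import Mathlib
import Groth.Prelude.Def_CohCx
import Groth.Agent.Lib.Helper3.TCech
import Groth.Agent.Lib.Helper5.Misc.FreeModQI

/-!
# Injective sheaves of modules have totally acyclic underlying abelian sheaves (helper5)
-/
set_option autoImplicit false
universe u
open CategoryTheory Limits Opposite Simplicial AlgebraicTopology

namespace Groth.Agent.Lib.Helper5.Misc.InjTotAcyc

open Groth.Agent.Helper3

variable {C : Type u} [SmallCategory C] {J : GrothendieckTopology C} (R : Sheaf J RingCat.{u})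

/-- the sheafification adjunction, with right adjoint the forgetful functor -/
noncomputable def shAdj : PresheafOfModules.sheafification.{u} (𝟙 R.obj) ⊣ SheafOfModules.forget.{u} R :=
  PresheafOfModules.sheafificationAdjunction (𝟙 R.obj)

instance : (SheafOfModules.forget.{u} R).PreservesInjectiveObjects :=
  Functor.preservesInjectiveObjects_of_adjunction_of_preservesMonomorphisms (shAdj R)

variable {R}

/-- sections over a sheaf of sets `K` of a sheaf of modules, as maps of presheaves of sets -/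
def secEquiv (K : Sheaf J (Type u)) (M : SheafOfModules.{u} R) :
    (K.obj ⟶ (PresheafOfModules.toPresheaf R.obj ⋙
      (Functor.whiskeringRight _ _ _).obj (forget Ab)).obj M.val) ≃
    (K ⟶ (sheafCompose J (forget AddCommGrpCat.{u})).obj ((SheafOfModules.toSheaf R).obj M)) where
  toFun a := ⟨a⟩
  invFun b := b.hom
  left_inv _ := rfl
  right_inv _ := rfl

/-- maps from the free presheaf of modules on `K` correspond to maps from the free abelian
sheaf on `K` -/
noncomputable def Φ (K : Sheaf J (Type u)) (M : SheafOfModules.{u} R) :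
    ((PresheafOfModules.free R.obj).obj K.obj ⟶ M.val) ≃
      (TCech.L.obj K ⟶ (SheafOfModules.toSheaf R).obj M) :=
  (((PresheafOfModules.freeAdjunction R.obj).homEquiv K.obj M.val).trans (secEquiv K M)).trans
    (TCech.adjF.homEquiv K ((SheafOfModules.toSheaf R).obj M)).symm

lemma Φ_naturality {K₁ K₂ : Sheaf J (Type u)} (a : K₁ ⟶ K₂) (M : SheafOfModules.{u} R)
    (g : (PresheafOfModules.free R.obj).obj K₂.obj ⟶ M.val) :
    Φ K₁ M ((PresheafOfModules.free R.obj).map a.hom ≫ g) = TCech.L.map a ≫ Φ K₂ M g := by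
  dsimp only [Φ, Equiv.trans_apply]
  rw [← Adjunction.homEquiv_naturality_left_symm]
  congr 1
  rw [Adjunction.homEquiv_naturality_left]
  rfl


lemma e₁_add (K : Sheaf J (Type u)) (M : SheafOfModules.{u} R)
    (g g' : (PresheafOfModules.free R.obj).obj K.obj ⟶ M.val) (W : Cᵒᵖ) (k : K.obj.obj W) :
    (show M.val.obj W from
      ((PresheafOfModules.freeAdjunction R.obj).homEquiv K.obj M.val (g + g')).app W k) =
    (show M.val.obj W from
      ((PresheafOfModules.freeAdjunction R.obj).homEquiv K.obj M.val g).app W k) +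
    (show M.val.obj W from
      ((PresheafOfModules.freeAdjunction R.obj).homEquiv K.obj M.val g').app W k) := by
  rw [PresheafOfModules.freeAdjunction_homEquiv]
  rfl

lemma e₂_add (K : Sheaf J (Type u)) (A : Sheaf J AddCommGrpCat.{u})
    (x x' : TCech.L.obj K ⟶ A) (W : Cᵒᵖ) (k : K.obj.obj W) :
    (show A.obj.obj W from (TCech.adjF.homEquiv K A (x + x')).hom.app W k) =
    (show A.obj.obj W from (TCech.adjF.homEquiv K A x).hom.app W k) +
    (show A.obj.obj W from (TCech.adjF.homEquiv K A x').hom.app W k) := by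
  simp only [Adjunction.homEquiv_unit]
  change ((x + x').hom.app W).hom _ = (x.hom.app W).hom _ + (x'.hom.app W).hom _
  rw [Sheaf.Hom.add_app]
  rfl

lemma Φ_add (K : Sheaf J (Type u)) (M : SheafOfModules.{u} R)
    (g g' : (PresheafOfModules.free R.obj).obj K.obj ⟶ M.val) :
    Φ K M (g + g') = Φ K M g + Φ K M g' := by
  apply (TCech.adjF.homEquiv K ((SheafOfModules.toSheaf R).obj M)).injective
  apply Sheaf.hom_ext
  apply NatTrans.ext
  funext W
  refine ConcreteCategory.hom_ext _ _ (fun k => ?_)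
  refine Eq.trans ?_ (e₂_add K _ (Φ K M g) (Φ K M g') W k).symm
  dsimp only [Φ, Equiv.trans_apply]
  rw [Equiv.apply_symm_apply, Equiv.apply_symm_apply, Equiv.apply_symm_apply]
  exact e₁_add K M g g' W k


/-- `Φ` as an additive map -/
noncomputable def ΦAdd (K : Sheaf J (Type u)) (M : SheafOfModules.{u} R) :
    ((PresheafOfModules.free R.obj).obj K.obj ⟶ M.val) →+
      (TCech.L.obj K ⟶ (SheafOfModules.toSheaf R).obj M) :=
  AddMonoidHom.mk' (Φ K M) (Φ_add K M)

/-- transporting the differential of alternating face map complexes along additive maps natural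
with respect to the faces -/
lemma afmc_transport {𝒜 ℬ : Type*} [Category 𝒜] [Category ℬ] [Preadditive 𝒜] [Preadditive ℬ]
    (X : SimplicialObject 𝒜) (Y : SimplicialObject ℬ) (A : 𝒜) (B : ℬ) (n : ℕ)
    (φ₁ : (X _⦋n + 1⦌ ⟶ A) →+ (Y _⦋n + 1⦌ ⟶ B)) (φ₀ : (X _⦋n⦌ ⟶ A) →+ (Y _⦋n⦌ ⟶ B))
    (h : ∀ (j : Fin (n + 2)) (g : X _⦋n⦌ ⟶ A), φ₁ (X.δ j ≫ g) = Y.δ j ≫ φ₀ g)
    (g : X _⦋n⦌ ⟶ A) :
    φ₁ ((AlternatingFaceMapComplex.obj X).d (n + 1) n ≫ g) =
      (AlternatingFaceMapComplex.obj Y).d (n + 1) n ≫ φ₀ g := by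
  have hX : (AlternatingFaceMapComplex.obj X).d (n + 1) n =
      ∑ j : Fin (n + 2), (-1 : ℤ) ^ (j : ℕ) • X.δ j := AlternatingFaceMapComplex.obj_d_eq X n
  have hY : (AlternatingFaceMapComplex.obj Y).d (n + 1) n =
      ∑ j : Fin (n + 2), (-1 : ℤ) ^ (j : ℕ) • Y.δ j := AlternatingFaceMapComplex.obj_d_eq Y n
  have e1 := congrArg (fun t : X _⦋n + 1⦌ ⟶ X _⦋n⦌ => φ₁ (t ≫ g)) hX
  have e2 := congrArg (fun t : Y _⦋n + 1⦌ ⟶ Y _⦋n⦌ => t ≫ φ₀ g) hY
  refine e1.trans (Eq.trans ?_ e2.symm)
  rw [Preadditive.sum_comp, Preadditive.sum_comp, map_sum]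
  refine Finset.sum_congr rfl fun j _ => ?_
  rw [Preadditive.zsmul_comp, Preadditive.zsmul_comp, map_zsmul, h]

section cech

variable {K' K : Sheaf J (Type u)} (f : K' ⟶ K)

/-- the Čech chain complex of free presheaves of modules -/
noncomputable abbrev QQ : ChainComplex (PresheafOfModules.{u} R.obj) ℕ :=
  AlternatingFaceMapComplex.obj (FreeModQI.freeModAug R.obj (NerveRes.AugIm J f)).left

/-- the `n`-th term of the Čech nerve -/
noncomputable abbrev KK (n : ℕ) : Sheaf J (Type u) :=
  (Arrow.mk f).cechNerve.obj (op ⦋n⦌)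

lemma Φ_d (M : SheafOfModules.{u} R) (n : ℕ)
    (g : (PresheafOfModules.free R.obj).obj (KK f n).obj ⟶ M.val) :
    Φ (KK f (n + 1)) M ((QQ (R := R) f).d (n + 1) n ≫ g) =
      (TCech.PP f).d (n + 1) n ≫ Φ (KK f n) M g :=
  afmc_transport (FreeModQI.freeModAug R.obj (NerveRes.AugIm J f)).left (NerveRes.Xs J f).left
    M.val ((SheafOfModules.toSheaf R).obj M) n (ΦAdd (KK f (n + 1)) M) (ΦAdd (KK f n) M)
    (fun j g => Φ_naturality ((Arrow.mk f).cechNerve.δ j) M g) g

instance quasiIso_QQ [Epi f] :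
    QuasiIso (AlternatingFaceMapComplex.ε.app
      (FreeModQI.freeModAug R.obj (NerveRes.AugIm J f))) :=
  FreeModQI.quasiIso_ε_freeModAug R.obj (NerveRes.AugIm J f)
    (NerveRes.nonempty_extraDegeneracy J f)

end cech

/-- an injective sheaf of modules is Čech-acyclic for all epimorphisms of sheaves of sets -/
theorem pc_of_injective (I : SheafOfModules.{u} R) [Injective I] :
    TCech.Pc ((SheafOfModules.toSheaf R).obj I) := by
  intro K' K f hf m x hx
  have hI : Injective I.val := (SheafOfModules.forget.{u} R).injective_obj I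
  let g : (QQ (R := R) f).X (m + 1) ⟶ I.val := (Φ (KK f (m + 1)) I).symm x
  have hg : (QQ (R := R) f).d (m + 2) (m + 1) ≫ g = 0 := by
    apply (Φ (KK f (m + 2)) I).injective
    refine (Φ_d f I (m + 1) g).trans ?_
    rw [Equiv.apply_symm_apply]
    exact hx.trans (map_zero (ΦAdd (KK f (m + 2)) I)).symm
  obtain ⟨g', hg'⟩ := FreeModQI.cexact_of_injective (QQ (R := R) f) _
    (AlternatingFaceMapComplex.ε.app (FreeModQI.freeModAug R.obj (NerveRes.AugIm J f)))
    I.val m g hg
  refine ⟨Φ (KK f m) I g', ?_⟩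
  refine (Φ_d f I m g').symm.trans ?_
  exact (congrArg (Φ (KK f (m + 1)) I) hg').trans (Equiv.apply_symm_apply _ x)

/-- **Injective sheaves of modules have totally acyclic underlying abelian sheaves.** -/
theorem isTotallyAcyclic_of_injective (I : SheafOfModules.{u} R) [Injective I] :
    CohCx.IsTotallyAcyclic ((SheafOfModules.toSheaf R).obj I) :=
  TCech.totallyAcyclic_of_pc _ (pc_of_injective I)

end Groth.Agent.Lib.Helper5.Misc.InjTotAcyc
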