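import Mathlib
import Groth.Agent.Lib.Helper5.Misc.InjTotAcyc
import Groth.Agent.Lib.Helper5.Misc.ExtShift
import Groth.Agent.Lib.Helper5.Misc.SheafModGen
import Groth.Agent.S0485

/-!
# `Ext` out of free sheaves of modules agrees with cohomology of the underlying abelian sheaf
(helper5)
-/
set_option autoImplicit false
universe u
open CategoryTheory Limits Opposite Abelian

namespace Groth.Agent.Lib.Helper5.Misc.ExtFreeHK

open Groth.Agent.Helper3 Groth.Agent.Lib.Helper5.Misc.InjTotAcyc

variable {C : Type u} [SmallCategory C] {J : GrothendieckTopology C} {R : Sheaf J RingCat.{u}}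

lemma Φ_naturality_right (K : Sheaf J (Type u)) {M N : SheafOfModules.{u} R} (g : M ⟶ N)
    (h : (PresheafOfModules.free R.obj).obj K.obj ⟶ M.val) :
    Φ K N (h ≫ g.val) = Φ K M h ≫ (SheafOfModules.toSheaf R).map g := by
  dsimp only [Φ, Equiv.trans_apply]
  rw [← Adjunction.homEquiv_naturality_right_symm]
  congr 1

/-- the free sheaf of modules on a sheaf of sets -/
noncomputable abbrev freeSh (K : Sheaf J (Type u)) : SheafOfModules.{u} R :=
  (PresheafOfModules.sheafification.{u} (𝟙 R.obj)).obj ((PresheafOfModules.free R.obj).obj K.obj)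

/-- maps out of the free sheaf of modules on `K` are maps out of the free abelian sheaf on `K` -/
noncomputable def φ (K : Sheaf J (Type u)) (M : SheafOfModules.{u} R) :
    (freeSh K ⟶ M) ≃+ (TCech.L.obj K ⟶ (SheafOfModules.toSheaf R).obj M) :=
  AddEquiv.mk' (((shAdj R).homEquiv _ M).trans (Φ K M)) (by
    intro a b
    have h : (shAdj R).homEquiv ((PresheafOfModules.free R.obj).obj K.obj) M (a + b) =
        ((shAdj R).homEquiv _ M a : _ ⟶ M.val) + ((shAdj R).homEquiv _ M b : _ ⟶ M.val) := by
      simp only [Adjunction.homEquiv_unit]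
      exact Preadditive.comp_add _ _ _ _ _ _
    exact (congrArg (Φ K M) h).trans (Φ_add K M _ _))

lemma φ_naturality (K : Sheaf J (Type u)) {M N : SheafOfModules.{u} R} (g : M ⟶ N)
    (p : freeSh K ⟶ M) : φ K N (p ≫ g) = φ K M p ≫ (SheafOfModules.toSheaf R).map g := by
  change Φ K N ((shAdj R).homEquiv _ N (p ≫ g)) = Φ K M ((shAdj R).homEquiv _ M p) ≫ _
  rw [Adjunction.homEquiv_naturality_right]
  exact Φ_naturality_right K g _


/-- **`Ext^p_R(R[K], F) ≅ H^p(K, F_ab)`.** -/
theorem nonempty_ext_addEquiv_HK [HasExt.{u} (SheafOfModules.{u} R)] (K : Sheaf J (Type u))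
    (F : SheafOfModules.{u} R) (p : ℕ) :
    Nonempty (Ext (freeSh (R := R) K) F p ≃+ CohCx.HK K ((SheafOfModules.toSheaf R).obj F) p) := by
  have := Groth.Agent.S0485.result J R
  have : PreservesFiniteColimits (SheafOfModules.toSheaf.{u} R) :=
    PreservesColimitsOfSize.preservesFiniteColimits _
  exact ExtShift.nonempty_ext_addEquiv (SheafOfModules.toSheaf.{u} R) (freeSh K) (TCech.L.obj K)
    (φ K) (fun g p => φ_naturality K g p)
    (fun I _ n x => (isTotallyAcyclic_of_injective I K n).elim x 0) p F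

end Groth.Agent.Lib.Helper5.Misc.ExtFreeHK
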