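import Mathlib
import Groth.Prelude.Def_CohCx
import Groth.Prelude.Def_CohSite

/-!
# Morphisms out of the free abelian sheaf on a representable are sections (helper5)

`secEquiv : (freeSheaf J U ⟶ G) ≃ G(U)`, natural in `G` and in `U`.
-/
set_option autoImplicit false
universe u
open CategoryTheory CategoryTheory.Limits Opposite Abelian

namespace Groth.Agent.Lib.Helper5.Misc.FreeSec

variable {C : Type u} [SmallCategory C] (J : GrothendieckTopology C)

/-- the adjunction between free abelian sheaves on presheaves of sets and the underlying presheaf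
of sets -/
noncomputable def adjF :
    (Functor.whiskeringRight Cᵒᵖ _ _).obj AddCommGrpCat.free.{u} ⋙
      presheafToSheaf J AddCommGrpCat.{u} ⊣
    sheafToPresheaf J AddCommGrpCat.{u} ⋙
      (Functor.whiskeringRight Cᵒᵖ _ _).obj (forget AddCommGrpCat.{u}) :=
  ((AddCommGrpCat.adj.{u}).whiskerRight Cᵒᵖ).comp (sheafificationAdjunction J AddCommGrpCat.{u})

/-- morphisms out of the free abelian sheaf on `h_U` are sections over `U` -/
noncomputable def secEquiv (U : C) (G : Sheaf J AddCommGrpCat.{u}) :
    (CohCx.freeSheaf J U ⟶ G) ≃ G.obj.obj (op U) :=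
  ((adjF J).homEquiv (yoneda.obj U) G).trans yonedaEquiv

lemma secEquiv_comp {U : C} {G G' : Sheaf J AddCommGrpCat.{u}} (φ : CohCx.freeSheaf J U ⟶ G)
    (ψ : G ⟶ G') : secEquiv J U G' (φ ≫ ψ) = ψ.hom.app (op U) (secEquiv J U G φ) := by
  unfold secEquiv
  simp only [Equiv.trans_apply]
  rw [Adjunction.homEquiv_naturality_right]
  rfl

lemma secEquiv_res {U V : C} (g : V ⟶ U) {G : Sheaf J AddCommGrpCat.{u}}
    (φ : CohCx.freeSheaf J U ⟶ G) :
    secEquiv J V G (CohCx.freeSheafMap J g ≫ φ) = G.obj.map g.op (secEquiv J U G φ) := by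
  unfold secEquiv
  simp only [Equiv.trans_apply]
  have := (adjF J).homEquiv_naturality_left (yoneda.map g) φ
  erw [this]
  exact (yonedaEquiv_naturality _ g).symm

end Groth.Agent.Lib.Helper5.Misc.FreeSec
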