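import Mathlib
import Groth.Prelude.Def_CohCx
import Groth.Prelude.Def_CohSite
import Groth.Agent.Lib.Helper5.Misc.ShriekAbFree

/-!
# The free abelian sheaf on a presheaf of sets and on its sheafification (helper5)
-/
set_option autoImplicit false
universe u
open CategoryTheory CategoryTheory.Limits Opposite Abelian

namespace Groth.Agent.Lib.Helper5.Misc.ShriekAb

variable {C : Type u} [SmallCategory C] (J : GrothendieckTopology C)

/-- `ℤ[P] ≅ ℤ[P^#]` for presheaves of sets `P` -/
noncomputable def freePresheafIso :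
    (Functor.whiskeringRight Cᵒᵖ _ _).obj AddCommGrpCat.free.{u} ⋙
      presheafToSheaf J AddCommGrpCat.{u} ≅
    presheafToSheaf J (Type u) ⋙ freeSh J :=
  (((AddCommGrpCat.adj.{u}).whiskerRight Cᵒᵖ).comp
    (sheafificationAdjunction J AddCommGrpCat.{u})).leftAdjointUniq
    (((sheafificationAdjunction J (Type u)).comp (freeAdj J)).ofNatIsoRight
      (NatIso.ofComponents (fun F => Iso.refl _)))

theorem subsingleton_HU_of_isTotallyAcyclic (F : Sheaf J AddCommGrpCat.{u})
    (hF : CohCx.IsTotallyAcyclic F) (U : C) (p : ℕ) :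
    Subsingleton (CohSite.HU F (p + 1) U) := by
  have e := extEquivOfIso ((freePresheafIso J).app (yoneda.obj U)) F (p + 1)
  have h3 : Subsingleton (Abelian.Ext ((presheafToSheaf J (Type u) ⋙ freeSh J).obj (yoneda.obj U))
      F (p + 1)) := hF ((presheafToSheaf J (Type u)).obj (yoneda.obj U)) p
  exact e.subsingleton

end Groth.Agent.Lib.Helper5.Misc.ShriekAb
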