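import Mathlib
import Groth.Agent.Lib.Helper5.Misc.FreeSec
import Groth.Agent.Lib.Helper5.Misc.FreeShYoneda

/-!
# Totally acyclic abelian sheaves: two out of three, surjectivity of sections (helper5)
-/
set_option autoImplicit false
universe u
open CategoryTheory CategoryTheory.Limits Opposite Abelian

namespace Groth.Agent.Lib.Helper5.Misc.TotAcyc

section General

variable {A : Type*} [Category A] [Abelian A] [HasExt A]

/-- lifting through `S.g` when `Ext¹(X, S.X₁)` vanishes -/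
lemma exists_lift (S : ShortComplex A) (hS : S.ShortExact) (X : A)
    (h : Subsingleton (Ext X S.X₁ 1)) (s : X ⟶ S.X₃) : ∃ τ : X ⟶ S.X₂, τ ≫ S.g = s := by
  have h0 : (Ext.mk₀ s).comp hS.extClass (zero_add 1) = 0 := Subsingleton.elim _ _
  obtain ⟨x₂, hx₂⟩ := Ext.covariant_sequence_exact₃ _ hS (Ext.mk₀ s) (zero_add 1) h0
  obtain ⟨τ, rfl⟩ := (Ext.mk₀_bijective _ _).2 x₂
  refine ⟨τ, ?_⟩
  rw [Ext.mk₀_comp_mk₀] at hx₂
  exact (Ext.mk₀_bijective _ _).1 hx₂

/-- vanishing of `Ext^{n+1}(X, S.X₃)` from that of `Ext^{n+1}(X, S.X₂)` and `Ext^{n+2}(X, S.X₁)` -/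
lemma subsingleton_ext_X₃ (S : ShortComplex A) (hS : S.ShortExact) (X : A) (n : ℕ)
    (h₂ : Subsingleton (Ext X S.X₂ (n + 1))) (h₁ : Subsingleton (Ext X S.X₁ (n + 1 + 1))) :
    Subsingleton (Ext X S.X₃ (n + 1)) := by
  refine subsingleton_of_forall_eq 0 fun x₃ => ?_
  have h0 : x₃.comp hS.extClass rfl = 0 := Subsingleton.elim _ _
  obtain ⟨x₂, hx₂⟩ := Ext.covariant_sequence_exact₃ _ hS x₃ rfl h0
  rw [← hx₂, Subsingleton.elim x₂ 0, Ext.zero_comp]

/-- vanishing of `Ext^{n+2}(X, S.X₁)` from that of `Ext^{n+2}(X, S.X₂)` and `Ext^{n+1}(X, S.X₃)` -/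
lemma subsingleton_ext_X₁ (S : ShortComplex A) (hS : S.ShortExact) (X : A) (n : ℕ)
    (h₂ : Subsingleton (Ext X S.X₂ (n + 1 + 1))) (h₃ : Subsingleton (Ext X S.X₃ (n + 1))) :
    Subsingleton (Ext X S.X₁ (n + 1 + 1)) := by
  refine subsingleton_of_forall_eq 0 fun x₁ => ?_
  have h0 : x₁.comp (Ext.mk₀ S.f) (add_zero _) = 0 := Subsingleton.elim _ _
  obtain ⟨x₃, hx₃⟩ := Ext.covariant_sequence_exact₁ _ hS x₁ h0 rfl
  rw [← hx₃, Subsingleton.elim x₃ 0, Ext.zero_comp]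

end General

variable {C : Type u} [SmallCategory C] {J : GrothendieckTopology C}

lemma isTotallyAcyclic_of_injective (I : Sheaf J AddCommGrpCat.{u}) [Injective I] :
    CohCx.IsTotallyAcyclic I :=
  fun _ _ => subsingleton_of_forall_eq 0 fun x => Ext.eq_zero_of_injective x

lemma isTotallyAcyclic_X₃ (S : ShortComplex (Sheaf J AddCommGrpCat.{u})) (hS : S.ShortExact)
    (h₁ : CohCx.IsTotallyAcyclic S.X₁) (h₂ : CohCx.IsTotallyAcyclic S.X₂) :
    CohCx.IsTotallyAcyclic S.X₃ :=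
  fun K p => subsingleton_ext_X₃ S hS _ p (h₂ K p) (h₁ K (p + 1))

/-- sections of the quotient lift when the kernel is totally acyclic -/
lemma sections_surjective (S : ShortComplex (Sheaf J AddCommGrpCat.{u})) (hS : S.ShortExact)
    (h₁ : CohCx.IsTotallyAcyclic S.X₁) (U : C) :
    Function.Surjective (S.g.hom.app (op U)) := by
  intro t
  have h : Subsingleton (Ext (CohCx.freeSheaf J U) S.X₁ 1) :=
    ShriekAb.subsingleton_HU_of_isTotallyAcyclic J S.X₁ h₁ U 0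
  obtain ⟨τ, hτ⟩ := exists_lift S hS (CohCx.freeSheaf J U) h ((FreeSec.secEquiv J U S.X₃).symm t)
  refine ⟨FreeSec.secEquiv J U S.X₂ τ, ?_⟩
  rw [← FreeSec.secEquiv_comp, hτ, Equiv.apply_symm_apply]

end Groth.Agent.Lib.Helper5.Misc.TotAcyc
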