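import Mathlib

set_option autoImplicit false
set_option linter.unusedSectionVars false
set_option linter.unusedVariables false
set_option linter.style.haveILetI false
universe v₁ u₁ v₂ u₂
open CategoryTheory CategoryTheory.Limits HomologicalComplex

namespace Groth.Agent.Lib.Helper5.Misc.ProjTot

variable {A : Type u₁} [Category.{v₁} A] [Abelian A] {B : Type u₂} [Category.{v₂} B] [Abelian B]
  (TA : A ⥤ A ⥤ A) [TA.PreservesZeroMorphisms] [∀ X, (TA.obj X).PreservesZeroMorphisms]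
  [∀ (K₁ K₂ : CochainComplex A ℤ), HasMapBifunctor K₁ K₂ TA (ComplexShape.up ℤ)]
  (TB : B ⥤ B ⥤ B) [TB.PreservesZeroMorphisms] [∀ X, (TB.obj X).PreservesZeroMorphisms]
  [∀ (K₁ K₂ : CochainComplex B ℤ), HasMapBifunctor K₁ K₂ TB (ComplexShape.up ℤ)]
  (G : A ⥤ B) [G.Additive] (R : B ⥤ A) [R.Additive]
  [∀ n : ℤ, PreservesColimitsOfShape (Discrete ((ComplexShape.π (ComplexShape.up ℤ)
    (ComplexShape.up ℤ) (ComplexShape.up ℤ)) ⁻¹' {n})) G]
  (φ : ∀ (P : A) (N : B), G.obj ((TA.obj P).obj (R.obj N)) ≅ (TB.obj (G.obj P)).obj N)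
  (hφ₁ : ∀ {P P' : A} (f : P ⟶ P') (N : B),
    G.map ((TA.map f).app (R.obj N)) ≫ (φ P' N).hom = (φ P N).hom ≫ (TB.map (G.map f)).app N)
  (hφ₂ : ∀ (P : A) {N N' : B} (g : N ⟶ N'),
    G.map ((TA.obj P).map (R.map g)) ≫ (φ P N').hom = (φ P N).hom ≫ (TB.obj (G.obj P)).map g)
  (F : CochainComplex A ℤ) (K : CochainComplex B ℤ)

/-- the complex `Tot (F ⊗ R K)` -/
noncomputable abbrev totA : CochainComplex A ℤ :=
  mapBifunctor F ((R.mapHomologicalComplex _).obj K) TA (ComplexShape.up ℤ)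

/-- the complex `Tot (G F ⊗ K)` -/
noncomputable abbrev totB : CochainComplex B ℤ :=
  mapBifunctor ((G.mapHomologicalComplex _).obj F) K TB (ComplexShape.up ℤ)

/-- the degreewise isomorphism -/
noncomputable def eIso (n : ℤ) : G.obj ((totA TA R F K).X n) ≅ (totB TB G F K).X n :=
  IsColimit.coconePointsIsoOfNatIso
    (isColimitOfPreserves G
      ((((TA.mapBifunctorHomologicalComplex _ _).obj F).obj
        ((R.mapHomologicalComplex _).obj K)).toGradedObject.isColimitCofanMapObj _ n))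
    ((((TB.mapBifunctorHomologicalComplex _ _).obj ((G.mapHomologicalComplex _).obj F)).obj
        K).toGradedObject.isColimitCofanMapObj _ n)
    (Discrete.natIso (fun i => φ (F.X i.as.1.1) (K.X i.as.1.2)))

/-- summand inclusions with normalised types -/
noncomputable def ιA (p q n : ℤ) (h : p + q = n) :
    (TA.obj (F.X p)).obj (R.obj (K.X q)) ⟶ (totA TA R F K).X n :=
  ιMapBifunctor F ((R.mapHomologicalComplex _).obj K) TA (ComplexShape.up ℤ) p q n h

noncomputable def ιB (p q n : ℤ) (h : p + q = n) :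
    (TB.obj (G.obj (F.X p))).obj (K.X q) ⟶ (totB TB G F K).X n :=
  ιMapBifunctor ((G.mapHomologicalComplex _).obj F) K TB (ComplexShape.up ℤ) p q n h

lemma ι_eIso (p q n : ℤ) (h : p + q = n) :
    G.map (ιA TA R F K p q n h) ≫ (eIso TA TB G R φ F K n).hom =
      (φ (F.X p) (K.X q)).hom ≫ ιB TB G F K p q n h := by
  unfold eIso
  exact IsColimit.comp_coconePointsIsoOfNatIso_hom
    (isColimitOfPreserves G
      ((((TA.mapBifunctorHomologicalComplex _ _).obj F).obj
        ((R.mapHomologicalComplex _).obj K)).toGradedObject.isColimitCofanMapObj _ n))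
    ((((TB.mapBifunctorHomologicalComplex _ _).obj ((G.mapHomologicalComplex _).obj F)).obj
        K).toGradedObject.isColimitCofanMapObj _ n)
    (Discrete.natIso (fun i => φ (F.X i.as.1.1) (K.X i.as.1.2)))
    (⟨⟨(p, q), h⟩⟩ : Discrete ((ComplexShape.π (ComplexShape.up ℤ)
      (ComplexShape.up ℤ) (ComplexShape.up ℤ)) ⁻¹' {n}))

lemma hom_ext_G {Y : B} {n : ℤ} {f g : G.obj ((totA TA R F K).X n) ⟶ Y}
    (h : ∀ (p q : ℤ) (hpq : p + q = n),
      G.map (ιA TA R F K p q n hpq) ≫ f = G.map (ιA TA R F K p q n hpq) ≫ g) :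
    f = g :=
  (isColimitOfPreserves G
      ((((TA.mapBifunctorHomologicalComplex _ _).obj F).obj
        ((R.mapHomologicalComplex _).obj K)).toGradedObject.isColimitCofanMapObj _ n)).hom_ext
    (fun ⟨⟨(p, q), hpq⟩⟩ => h p q hpq)

omit [Abelian A] in
lemma ι_d_raw {A₁ : Type*} [Category A₁] [Preadditive A₁] {A₂ : Type*} [Category A₂] [Preadditive A₂]
    (T : A₁ ⥤ A₂ ⥤ A) [Preadditive A] [T.PreservesZeroMorphisms] [∀ X, (T.obj X).PreservesZeroMorphisms]
    (K₁ : CochainComplex A₁ ℤ) (K₂ : CochainComplex A₂ ℤ)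
    [HasMapBifunctor K₁ K₂ T (ComplexShape.up ℤ)]
    (p q n : ℤ) (hpq : p + q = n) (h1 : p + 1 + q = n + 1) (h2 : p + (q + 1) = n + 1) :
    ιMapBifunctor K₁ K₂ T (ComplexShape.up ℤ) p q n hpq ≫
        (mapBifunctor K₁ K₂ T (ComplexShape.up ℤ)).d n (n + 1) =
      ComplexShape.ε₁ (ComplexShape.up ℤ) (ComplexShape.up ℤ) (ComplexShape.up ℤ) (p, q) •
        ((T.map (K₁.d p (p + 1))).app (K₂.X q) ≫
          ιMapBifunctor K₁ K₂ T (ComplexShape.up ℤ) (p + 1) q (n + 1) h1) +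
      ComplexShape.ε₂ (ComplexShape.up ℤ) (ComplexShape.up ℤ) (ComplexShape.up ℤ) (p, q) •
        ((T.obj (K₁.X p)).map (K₂.d q (q + 1)) ≫
          ιMapBifunctor K₁ K₂ T (ComplexShape.up ℤ) p (q + 1) (n + 1) h2) := by
  rw [mapBifunctor.d_eq, Preadditive.comp_add, mapBifunctor.ι_D₁, mapBifunctor.ι_D₂,
    mapBifunctor.d₁_eq K₁ K₂ T (ComplexShape.up ℤ) (i₁ := p) (i₁' := p + 1) (by simp) q (n + 1) h1,
    mapBifunctor.d₂_eq K₁ K₂ T (ComplexShape.up ℤ) p (i₂ := q) (i₂' := q + 1) (by simp) (n + 1) h2]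

lemma ιB_d (p q n : ℤ) (hpq : p + q = n) (h1 : p + 1 + q = n + 1) (h2 : p + (q + 1) = n + 1) :
    ιB TB G F K p q n hpq ≫ (totB TB G F K).d n (n + 1) =
      ComplexShape.ε₁ (ComplexShape.up ℤ) (ComplexShape.up ℤ) (ComplexShape.up ℤ) (p, q) •
        ((TB.map (G.map (F.d p (p + 1)))).app (K.X q) ≫ ιB TB G F K (p + 1) q (n + 1) h1) +
      ComplexShape.ε₂ (ComplexShape.up ℤ) (ComplexShape.up ℤ) (ComplexShape.up ℤ) (p, q) •
        ((TB.obj (G.obj (F.X p))).map (K.d q (q + 1)) ≫ ιB TB G F K p (q + 1) (n + 1) h2) :=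
  ι_d_raw TB ((G.mapHomologicalComplex _).obj F) K p q n hpq h1 h2

lemma ιA_d (p q n : ℤ) (hpq : p + q = n) (h1 : p + 1 + q = n + 1) (h2 : p + (q + 1) = n + 1) :
    ιA TA R F K p q n hpq ≫ (totA TA R F K).d n (n + 1) =
      ComplexShape.ε₁ (ComplexShape.up ℤ) (ComplexShape.up ℤ) (ComplexShape.up ℤ) (p, q) •
        ((TA.map (F.d p (p + 1))).app (R.obj (K.X q)) ≫ ιA TA R F K (p + 1) q (n + 1) h1) +
      ComplexShape.ε₂ (ComplexShape.up ℤ) (ComplexShape.up ℤ) (ComplexShape.up ℤ) (p, q) •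
        ((TA.obj (F.X p)).map (R.map (K.d q (q + 1))) ≫ ιA TA R F K p (q + 1) (n + 1) h2) :=
  ι_d_raw TA F ((R.mapHomologicalComplex _).obj K) p q n hpq h1 h2

include hφ₁ hφ₂ in
lemma eIso_comm (n : ℤ) :
    (eIso TA TB G R φ F K n).hom ≫ (totB TB G F K).d n (n + 1) =
      G.map ((totA TA R F K).d n (n + 1)) ≫ (eIso TA TB G R φ F K (n + 1)).hom := by
  apply hom_ext_G TA G R F K
  intro p q hpq
  have h1 : p + 1 + q = n + 1 := by omega
  have h2 : p + (q + 1) = n + 1 := by omega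
  rw [← Category.assoc, ι_eIso, Category.assoc, ιB_d TB G F K p q n hpq h1 h2,
    ← Category.assoc, ← G.map_comp, ιA_d TA R F K p q n hpq h1 h2,
    G.map_add, Functor.map_units_smul, Functor.map_units_smul, G.map_comp, G.map_comp,
    Preadditive.add_comp, Preadditive.comp_add, Linear.units_smul_comp, Linear.units_smul_comp,
    Linear.comp_units_smul, Linear.comp_units_smul, Category.assoc, Category.assoc,
    ι_eIso, ι_eIso, ← Category.assoc (G.map _), hφ₁, ← Category.assoc (G.map _), hφ₂,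
    Category.assoc, Category.assoc]

include hφ₁ hφ₂ in
/-- the projection-formula isomorphism of total complexes `G (Tot (F ⊗ R K)) ≅ Tot (G F ⊗ K)` -/
noncomputable def totIso :
    (G.mapHomologicalComplex (ComplexShape.up ℤ)).obj (totA TA R F K) ≅ totB TB G F K :=
  HomologicalComplex.Hom.isoOfComponents (fun n => eIso TA TB G R φ F K n) (by
    intro i j hij
    have hj : j = i + 1 := by
      simp only [ComplexShape.up_Rel] at hij
      omega
    subst hj
    exact eIso_comm TA TB G R φ hφ₁ hφ₂ F K i)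

end Groth.Agent.Lib.Helper5.Misc.ProjTot
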