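import Mathlib
import Groth.Agent.Lib.Helper5.Misc.ExtFreeHK

/-!
# The structure sheaf as a free module; cohomology as Ext out of the structure sheaf (helper5)
-/
set_option autoImplicit false
universe u
open CategoryTheory Limits Opposite Abelian

namespace Groth.Agent.Lib.Helper5.Misc.UnitFree

open Groth.Agent.Helper3 Groth.Agent.Lib.Helper5.Misc.InjTotAcyc
  Groth.Agent.Lib.Helper5.Misc.ExtFreeHK

section presheaf

variable {C : Type u} [SmallCategory C] (R₀ : Cᵒᵖ ⥤ RingCat.{u})

/-- the constant presheaf with value a point -/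
abbrev pt : Cᵒᵖ ⥤ Type u := (Functor.const Cᵒᵖ).obj PUnit.{u + 1}

/-- the section `1` of the unit presheaf of modules -/
noncomputable def one : pt (C := C) ⟶ (PresheafOfModules.unit R₀).presheaf ⋙ forget _ where
  app W := TypeCat.ofHom (fun _ => (1 : R₀.obj W))
  naturality W W' f := by
    ext u
    exact (PresheafOfModules.unit_map_one R₀ f).symm

noncomputable def toUnit : (PresheafOfModules.free R₀).obj pt ⟶ PresheafOfModules.unit R₀ :=
  PresheafOfModules.freeObjDesc (one R₀)

noncomputable def ofUnit : PresheafOfModules.unit R₀ ⟶ (PresheafOfModules.free R₀).obj pt :=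
  (PresheafOfModules.unitHomEquiv _).symm
    (PresheafOfModules.sectionsMk (fun W => ModuleCat.freeMk PUnit.unit) (by
      intro W W' f
      exact ModuleCat.freeDesc_apply _ _))

lemma toUnit_app_freeMk (W : Cᵒᵖ) (u : PUnit.{u + 1}) :
    (toUnit R₀).app W (ModuleCat.freeMk u) = (1 : R₀.obj W) :=
  ModuleCat.freeDesc_apply _ _

lemma ofUnit_app_one (W : Cᵒᵖ) :
    (ofUnit R₀).app W (1 : R₀.obj W) = ModuleCat.freeMk PUnit.unit := by
  have h := congrArg (fun s => s.val W)
    ((PresheafOfModules.unitHomEquiv ((PresheafOfModules.free R₀).obj pt)).apply_symm_apply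
      (PresheafOfModules.sectionsMk (fun W => ModuleCat.freeMk PUnit.unit) (by
        intro W W' f
        exact ModuleCat.freeDesc_apply _ _)))
  exact h

/-- the free presheaf of modules on a point is the unit -/
noncomputable def freePtIso : (PresheafOfModules.free R₀).obj pt ≅ PresheafOfModules.unit R₀ where
  hom := toUnit R₀
  inv := ofUnit R₀
  hom_inv_id := by
    apply PresheafOfModules.free_hom_ext
    ext W u
    change (ofUnit R₀).app W ((toUnit R₀).app W (ModuleCat.freeMk u)) = ModuleCat.freeMk u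
    rw [toUnit_app_freeMk, ofUnit_app_one]
    rfl
  inv_hom_id := by
    apply (PresheafOfModules.unitHomEquiv _).injective
    ext W
    change (toUnit R₀).app W ((ofUnit R₀).app W (1 : R₀.obj W)) = (1 : R₀.obj W)
    rw [ofUnit_app_one, toUnit_app_freeMk]

end presheaf


section ext

variable {𝒜 : Type*} [Category 𝒜] [Abelian 𝒜] [HasExt.{u} 𝒜]

/-- `Ext` only depends on the isomorphism class of the first variable -/
noncomputable def extAddEquivOfIso {X X' : 𝒜} (e : X ≅ X') (Y : 𝒜) (n : ℕ) :
    Ext X Y n ≃+ Ext X' Y n where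
  toFun x := (Ext.mk₀ e.inv).comp x (zero_add n)
  invFun y := (Ext.mk₀ e.hom).comp y (zero_add n)
  left_inv x := by
    simp only
    rw [Ext.mk₀_comp_mk₀_assoc, e.hom_inv_id, Ext.mk₀_id_comp]
  right_inv y := by
    simp only
    rw [Ext.mk₀_comp_mk₀_assoc, e.inv_hom_id, Ext.mk₀_id_comp]
  map_add' x y := Ext.comp_add _ _ _ _

end ext

section sheaf

variable {C : Type u} [SmallCategory C] (J : GrothendieckTopology C) (R : Sheaf J RingCat.{u})

/-- the terminal sheaf of sets -/
abbrev K₀ : Sheaf J (Type u) := Sheaf.terminal J Types.isTerminalPUnit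

/-- the structure sheaf is the free sheaf of modules on a point -/
noncomputable def unitIso : SheafOfModules.unit R ≅ freeSh (R := R) (K₀ J) :=
  (asIso ((shAdj R).counit.app (SheafOfModules.unit R))).symm ≪≫
    (PresheafOfModules.sheafification.{u} (𝟙 R.obj)).mapIso (freePtIso R.obj).symm

/-- the group of integers as the free abelian group on a point -/
noncomputable def zIso : AddCommGrpCat.of (ULift.{u} ℤ) ≅ AddCommGrpCat.free.{u}.obj PUnit.{u + 1} :=
  (AddEquiv.ulift.trans (FreeAbelianGroup.uniqueEquiv PUnit.{u + 1}).symm).toAddCommGrpIso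

/-- the constant sheaf `ℤ` is the free abelian sheaf on a point -/
noncomputable def constIso :
    (constantSheaf J AddCommGrpCat.{u}).obj (AddCommGrpCat.of (ULift.{u} ℤ)) ≅ TCech.L.obj (K₀ J) :=
  (presheafToSheaf J AddCommGrpCat.{u}).mapIso
    (NatIso.ofComponents (fun _ => zIso) (by
      intro W W' f
      change 𝟙 _ ≫ zIso.hom = zIso.hom ≫ AddCommGrpCat.free.{u}.map (𝟙 _)
      rw [Category.id_comp, CategoryTheory.Functor.map_id, Category.comp_id]))

/-- **`Ext^n_R(R, M) ≅ H^n(M_ab)`.** -/
theorem nonempty_ext_unit_addEquiv_H [HasExt.{u} (SheafOfModules.{u} R)]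
    (M : SheafOfModules.{u} R) (n : ℕ) :
    Nonempty (Ext (SheafOfModules.unit R) M n ≃+
      Sheaf.H.{u} ((SheafOfModules.toSheaf R).obj M) n) := by
  obtain ⟨e⟩ := nonempty_ext_addEquiv_HK (R := R) (K₀ J) M n
  exact ⟨(extAddEquivOfIso (unitIso J R) M n).trans
    (e.trans (extAddEquivOfIso (constIso J) ((SheafOfModules.toSheaf R).obj M) n).symm)⟩

end sheaf

end Groth.Agent.Lib.Helper5.Misc.UnitFree
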