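import Mathlib
import Groth.Agent.Lib.Helper5.Misc.TotAcyc

/-!
# Direct images of totally acyclic sheaves along a morphism of sites (helper5)
-/
set_option autoImplicit false
universe u
open CategoryTheory CategoryTheory.Limits Opposite Abelian

namespace Groth.Agent.Lib.Helper5.Misc.PushTotAcyc

open ShriekAb

variable {C D : Type u} [SmallCategory C] [SmallCategory D] (J : GrothendieckTopology C)
  (K : GrothendieckTopology D) (u : D ⥤ C) [u.IsContinuous K J]

/-- direct image of abelian sheaves -/
noncomputable abbrev push : Sheaf J AddCommGrpCat.{u} ⥤ Sheaf K AddCommGrpCat.{u} :=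
  u.sheafPushforwardContinuous AddCommGrpCat.{u} K J

/-- inverse image of abelian sheaves -/
noncomputable abbrev pull : Sheaf K AddCommGrpCat.{u} ⥤ Sheaf J AddCommGrpCat.{u} :=
  u.sheafPullback AddCommGrpCat.{u} K J

noncomputable abbrev adjAb : pull J K u ⊣ push J K u :=
  u.sheafAdjunctionContinuous AddCommGrpCat.{u} K J

/-- inverse image of sheaves of sets -/
noncomputable abbrev pullSet : Sheaf K (Type u) ⥤ Sheaf J (Type u) :=
  u.sheafPullback (Type u) K J

noncomputable abbrev adjSet : pullSet J K u ⊣ u.sheafPushforwardContinuous (Type u) K J :=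
  u.sheafAdjunctionContinuous (Type u) K J

/-- `u⁻¹ ℤ[K'] ≅ ℤ[u⁻¹ K']` -/
noncomputable def pullFreeIso : freeSh K ⋙ pull J K u ≅ pullSet J K u ⋙ freeSh J :=
  ((freeAdj K).comp (adjAb J K u)).leftAdjointUniq
    (((adjSet J K u).comp (freeAdj J)).ofNatIsoRight (NatIso.ofComponents (fun F => Iso.refl _)))

instance : (push J K u).Additive :=
  haveI := preservesBinaryBiproducts_of_preservesBinaryProducts (push J K u)
  Functor.additive_of_preservesBinaryBiproducts _

/-- the direct image of a short exact sequence with totally acyclic kernel is short exact -/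
lemma shortExact_push (S : ShortComplex (Sheaf J AddCommGrpCat.{u})) (hS : S.ShortExact)
    (h₁ : CohCx.IsTotallyAcyclic S.X₁) : (S.map (push J K u)).ShortExact := by
  have h1 := (Functor.preservesFiniteLimits_iff_forall_exact_map_and_mono (push J K u)).1
    inferInstance S hS
  have h2 : Sheaf.IsLocallySurjective ((push J K u).map S.g) := by
    apply Presheaf.isLocallySurjective_of_surjective
    intro V
    exact TotAcyc.sections_surjective S hS h₁ (u.obj V.unop)
  have h3 : Epi ((push J K u).map S.g) := inferInstance
  exact { exact := h1.1, mono_f := h1.2, epi_g := h3 }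

variable [PreservesFiniteLimits (pull J K u)]

instance injective_push (I : Sheaf J AddCommGrpCat.{u}) [Injective I] :
    Injective ((push J K u).obj I) :=
  Injective.injective_of_adjoint (adjAb J K u) I

/-- the standard embedding of `F` in an injective, with its cokernel -/
noncomputable abbrev sesInj (F : Sheaf J AddCommGrpCat.{u}) :
    ShortComplex (Sheaf J AddCommGrpCat.{u}) :=
  ShortComplex.mk (Injective.ι F) (cokernel.π (Injective.ι F)) (cokernel.condition _)

lemma sesInj_shortExact (F : Sheaf J AddCommGrpCat.{u}) : (sesInj J F).ShortExact :=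
  { exact := ShortComplex.exact_cokernel _ }

theorem subsingleton_ext_push (n : ℕ) : ∀ (F : Sheaf J AddCommGrpCat.{u}),
    CohCx.IsTotallyAcyclic F → ∀ (K' : Sheaf K (Type u)),
      Subsingleton (Ext ((freeSh K).obj K') ((push J K u).obj F) (n + 1)) := by
  induction n with
  | zero =>
    intro F hF K'
    have hS := sesInj_shortExact J F
    have hS' := shortExact_push J K u (sesInj J F) hS hF
    have : Injective ((sesInj J F).map (push J K u)).X₂ :=
      injective_push J K u (Injective.under F)
    refine subsingleton_of_forall_eq 0 fun x₁ => ?_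
    have h0 : x₁.comp (Ext.mk₀ ((sesInj J F).map (push J K u)).f) (add_zero 1) = 0 :=
      Ext.eq_zero_of_injective _
    obtain ⟨x₃, hx₃⟩ := Ext.covariant_sequence_exact₁ _ hS' x₁ h0 (zero_add 1)
    obtain ⟨s, rfl⟩ := (Ext.mk₀_bijective _ _).2 x₃
    -- transpose `s` and lift
    have h : Subsingleton (Ext ((pull J K u).obj ((freeSh K).obj K')) F 1) :=
      (extEquivOfIso ((pullFreeIso J K u).app K') F 1).subsingleton_congr.2
        (hF ((pullSet J K u).obj K') 0)
    obtain ⟨τ', hτ'⟩ := TotAcyc.exists_lift (sesInj J F) hS _ h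
      (((adjAb J K u).homEquiv _ _).symm s)
    let τ : (freeSh K).obj K' ⟶ ((sesInj J F).map (push J K u)).X₂ :=
      ((adjAb J K u).homEquiv _ _) τ'
    have hs : s = τ ≫ ((sesInj J F).map (push J K u)).g := by
      have := (adjAb J K u).homEquiv_naturality_right τ' (sesInj J F).g
      rw [hτ', Equiv.apply_symm_apply] at this
      exact this
    rw [← hx₃, hs, ← Ext.mk₀_comp_mk₀, Ext.comp_assoc_of_second_deg_zero, hS'.comp_extClass,
      Ext.comp_zero]
    rfl
  | succ n ih =>
    intro F hF K'
    have hS := sesInj_shortExact J F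
    have hS' := shortExact_push J K u (sesInj J F) hS hF
    have hQ : CohCx.IsTotallyAcyclic (sesInj J F).X₃ :=
      TotAcyc.isTotallyAcyclic_X₃ _ hS hF (TotAcyc.isTotallyAcyclic_of_injective _)
    have : Injective ((sesInj J F).map (push J K u)).X₂ :=
      injective_push J K u (Injective.under F)
    refine TotAcyc.subsingleton_ext_X₁ _ hS' _ n ?_ (ih _ hQ K')
    exact subsingleton_of_forall_eq 0 fun x => Ext.eq_zero_of_injective x

theorem isTotallyAcyclic_push (F : Sheaf J AddCommGrpCat.{u}) (hF : CohCx.IsTotallyAcyclic F) :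
    CohCx.IsTotallyAcyclic ((push J K u).obj F) :=
  fun K' p => subsingleton_ext_push J K u p F hF K'

end Groth.Agent.Lib.Helper5.Misc.PushTotAcyc
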