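import Mathlib

/-!
# Right derived functors of an exact functor vanish in positive degrees (helper5)
-/
set_option autoImplicit false
universe v₁ v₂ u₁ u₂
open CategoryTheory CategoryTheory.Limits

namespace Groth.Agent.Lib.Helper5.Misc.RDExact

variable {C : Type u₁} [Category.{v₁} C] [Abelian C] {D : Type u₂} [Category.{v₂} D] [Abelian D]
  [HasInjectiveResolutions C] (F : C ⥤ D) [F.Additive]
  [PreservesFiniteLimits F] [PreservesFiniteColimits F]

theorem isZero_rightDerived_succ (X : C) (n : ℕ) : IsZero ((F.rightDerived (n + 1)).obj X) := by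
  let I := injectiveResolution X
  refine IsZero.of_iso ?_ (I.isoRightDerivedObj F (n + 1))
  have h : ((F.mapHomologicalComplex (ComplexShape.up ℕ)).obj I.cocomplex).ExactAt (n + 1) :=
    (I.cocomplex_exactAt_succ n).map F
  exact h.isZero_homology

end Groth.Agent.Lib.Helper5.Misc.RDExact
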