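import Mathlib
import Groth.Agent.Lib.Helper5.Misc.FreeSec

/-!
# Higher cohomology classes die on a covering (helper5)
-/
set_option autoImplicit false
universe u
open CategoryTheory CategoryTheory.Limits Opposite Abelian

namespace Groth.Agent.Lib.Helper5.Misc.KillClass

variable {C : Type u} [SmallCategory C] (J : GrothendieckTopology C)

open FreeSec

/-- a morphism from a free sheaf on `h_U` to the target of an epimorphism lifts locally -/
theorem local_lift {I Q : Sheaf J AddCommGrpCat.{u}} (π : I ⟶ Q) [Epi π] (U : C)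
    (s : CohCx.freeSheaf J U ⟶ Q) :
    ∃ S ∈ J U, ∀ ⦃V : C⦄ (g : V ⟶ U), S g →
      ∃ τ : CohCx.freeSheaf J V ⟶ I, τ ≫ π = CohCx.freeSheafMap J g ≫ s := by
  have h1 : Sheaf.IsLocallySurjective π :=
    (Sheaf.isLocallySurjective_iff_epi' AddCommGrpCat.{u} π).2 inferInstance
  refine ⟨Presheaf.imageSieve π.hom (secEquiv J U Q s), Presheaf.imageSieve_mem J π.hom _, ?_⟩
  rintro V g ⟨t, ht⟩
  refine ⟨(secEquiv J V I).symm t, ?_⟩
  apply (secEquiv J V Q).injective
  rw [secEquiv_comp, secEquiv_res, Equiv.apply_symm_apply]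
  exact ht

theorem kill (n : ℕ) : ∀ (F : Sheaf J AddCommGrpCat.{u}) (U : C)
    (ξ : Ext (CohCx.freeSheaf J U) F (n + 1)),
    ∃ S ∈ J U, ∀ ⦃V : C⦄ (g : V ⟶ U), S g →
      (Ext.mk₀ (CohCx.freeSheafMap J g)).comp ξ (zero_add (n + 1)) = 0 := by
  induction n with
  | zero =>
    intro F U ξ
    let S : ShortComplex (Sheaf J AddCommGrpCat.{u}) :=
      ShortComplex.mk (Injective.ι F) (cokernel.π (Injective.ι F)) (cokernel.condition _)
    have hS : S.ShortExact := { exact := ShortComplex.exact_cokernel _ }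
    have h0 : ξ.comp (Ext.mk₀ S.f) (add_zero 1) = 0 := Ext.eq_zero_of_injective _
    obtain ⟨η, hη⟩ := Ext.covariant_sequence_exact₁ _ hS ξ h0 (zero_add 1)
    obtain ⟨s, rfl⟩ := (Ext.mk₀_bijective _ _).2 η
    have : Epi S.g := hS.epi_g
    obtain ⟨T, hT, hT'⟩ := local_lift J S.g U s
    refine ⟨T, hT, fun V g hg => ?_⟩
    obtain ⟨τ, hτ⟩ := hT' g hg
    rw [← hη, ← Ext.comp_assoc_of_second_deg_zero, Ext.mk₀_comp_mk₀, ← hτ, ← Ext.mk₀_comp_mk₀,
      Ext.comp_assoc_of_second_deg_zero, hS.comp_extClass, Ext.comp_zero]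
  | succ n ih =>
    intro F U ξ
    let S : ShortComplex (Sheaf J AddCommGrpCat.{u}) :=
      ShortComplex.mk (Injective.ι F) (cokernel.π (Injective.ι F)) (cokernel.condition _)
    have hS : S.ShortExact := { exact := ShortComplex.exact_cokernel _ }
    have h0 : ξ.comp (Ext.mk₀ S.f) (add_zero (n + 1 + 1)) = 0 := Ext.eq_zero_of_injective _
    obtain ⟨η, hη⟩ := Ext.covariant_sequence_exact₁ _ hS ξ h0 rfl
    obtain ⟨T, hT, hT'⟩ := ih S.X₃ U η
    refine ⟨T, hT, fun V g hg => ?_⟩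
    have e := Ext.comp_assoc (Ext.mk₀ (CohCx.freeSheafMap J g)) η hS.extClass
      (zero_add (n + 1)) rfl (by omega : 0 + (n + 1) + 1 = n + 1 + 1)
    rw [← hη, ← e, hT' g hg, Ext.zero_comp]

end Groth.Agent.Lib.Helper5.Misc.KillClass
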