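import Mathlib

/-!
# Right derived functors of composites (degenerate Grothendieck spectral sequences)

* `preIso`: if `G` is exact and preserves injectives then `R^n(G ⋙ F) X ≅ R^n F (G X)`.
* `postIso`: if `E` is exact then `R^n(F ⋙ E) X ≅ E (R^n F X)`.
* `natIso`: right derived functors of isomorphic functors are isomorphic.
-/

open CategoryTheory CategoryTheory.Limits

namespace Groth.Agent.Lib.Helper5.Misc.RDComp

universe v₁ v₂ v₃ u₁ u₂ u₃
variable {A : Type u₁} [Category.{v₁} A] [Abelian A]
  {B : Type u₂} [Category.{v₂} B] [Abelian B]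
  {C : Type u₃} [Category.{v₃} C] [Abelian C]

/-- image of an injective resolution under an exact functor preserving injectives -/
noncomputable def mapInjectiveResolution (G : A ⥤ B) [G.Additive]
    [G.PreservesInjectiveObjects] [G.PreservesHomology] {Z : A} (I : InjectiveResolution Z) :
    InjectiveResolution (G.obj Z) where
  cocomplex := (G.mapHomologicalComplex _).obj I.cocomplex
  injective n := G.injective_obj_of_injective (I.injective n)
  ι := (HomologicalComplex.singleMapHomologicalComplex G (ComplexShape.up ℕ) 0).inv.app Z ≫
    (G.mapHomologicalComplex _).map I.ι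
  quasiIso := inferInstance

/-- right derived functors of isomorphic functors are isomorphic -/
noncomputable def natIso [HasInjectiveResolutions A] {F G : A ⥤ B}
    [F.Additive] [G.Additive] (e : F ≅ G) (n : ℕ) : F.rightDerived n ≅ G.rightDerived n where
  hom := NatTrans.rightDerived e.hom n
  inv := NatTrans.rightDerived e.inv n
  hom_inv_id := by
    rw [← NatTrans.rightDerived_comp, e.hom_inv_id, NatTrans.rightDerived_id]
  inv_hom_id := by
    rw [← NatTrans.rightDerived_comp, e.inv_hom_id, NatTrans.rightDerived_id]

/-- `R^n(G ⋙ F) X ≅ R^n F (G X)` for `G` exact preserving injectives. -/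
noncomputable def preIso [HasInjectiveResolutions A] [HasInjectiveResolutions B]
    (G : A ⥤ B) (F : B ⥤ C) [G.Additive] [F.Additive]
    [G.PreservesInjectiveObjects] [G.PreservesHomology] (X : A) (n : ℕ) :
    ((G ⋙ F).rightDerived n).obj X ≅ (F.rightDerived n).obj (G.obj X) :=
  (injectiveResolution X).isoRightDerivedObj (G ⋙ F) n ≪≫
    (HomologicalComplex.homologyFunctor C _ n).mapIso
      (HomologicalComplex.Hom.isoOfComponents (fun _ => Iso.refl _) (by intros; simp)) ≪≫
    ((mapInjectiveResolution G (injectiveResolution X)).isoRightDerivedObj F n).symm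

/-- `R^n(F ⋙ E) X ≅ E (R^n F X)` for `E` exact. -/
noncomputable def postIso [HasInjectiveResolutions A]
    (F : A ⥤ B) (E : B ⥤ C) [F.Additive] [E.Additive] [E.PreservesHomology] (X : A) (n : ℕ) :
    ((F ⋙ E).rightDerived n).obj X ≅ E.obj ((F.rightDerived n).obj X) :=
  (injectiveResolution X).isoRightDerivedObj (F ⋙ E) n ≪≫
    (HomologicalComplex.homologyFunctor C _ n).mapIso
      (HomologicalComplex.Hom.isoOfComponents (fun _ => Iso.refl _) (by intros; simp)) ≪≫
    (show ((E.mapHomologicalComplex _).obj ((F.mapHomologicalComplex _).obj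
        (injectiveResolution X).cocomplex)).homology n ≅
        E.obj (((F.mapHomologicalComplex _).obj (injectiveResolution X).cocomplex).homology n) from
      (((F.mapHomologicalComplex _).obj (injectiveResolution X).cocomplex).sc n).mapHomologyIso E) ≪≫
    E.mapIso ((injectiveResolution X).isoRightDerivedObj F n).symm

end Groth.Agent.Lib.Helper5.Misc.RDComp
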