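import Mathlib
import Groth.Agent.Lib.Helper3.FreeQI
import Groth.Agent.Lib.Helper5.Misc.FreeModQI

/-!
# Free presheaves of modules tensored with a fixed presheaf of modules: objectwise contractibility
(helper5)
-/
set_option autoImplicit false
universe u
open CategoryTheory Limits Opposite Simplicial AlgebraicTopology MonoidalCategory

namespace Groth.Agent.Lib.Helper5.Misc.FreeTensorQI

open Groth.Agent.Helper3 Groth.Agent.Lib.Helper5.Misc.FreeModQI

variable {C : Type u} [SmallCategory C] (R : Cᵒᵖ ⥤ CommRingCat.{u})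
  (Fp : PresheafOfModules.{u} (R ⋙ forget₂ CommRingCat.{u} RingCat.{u}))
  (Aset : SimplicialObject.Augmented (Cᵒᵖ ⥤ Type u))

/-- free presheaf of modules tensored with `Fp` -/
noncomputable abbrev Θ : (Cᵒᵖ ⥤ Type u) ⥤ PresheafOfModules.{u} (R ⋙ forget₂ CommRingCat.{u} RingCat.{u}) :=
  PresheafOfModules.free (R ⋙ forget₂ CommRingCat.{u} RingCat.{u}) ⋙ tensorRight Fp

/-- the augmented simplicial presheaf of modules `R[A_•] ⊗ Fp` -/
noncomputable abbrev freeTensorAug :
    SimplicialObject.Augmented (PresheafOfModules.{u} (R ⋙ forget₂ CommRingCat.{u} RingCat.{u})) :=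
  ((SimplicialObject.Augmented.whiskering _ _).obj (Θ R Fp)).obj Aset

/-- the objectwise version of `Θ` -/
noncomputable abbrev ΘW (W : Cᵒᵖ) : Type u ⥤ AddCommGrpCat.{u} :=
  ModuleCat.free (R.obj W) ⋙ tensorRight (Fp.obj W : ModuleCat.{u} (R.obj W)) ⋙
    forget₂ (ModuleCat.{u} (R.obj W)) AddCommGrpCat.{u}

noncomputable def evalIso (W : Cᵒᵖ) :
    ((SimplicialObject.Augmented.whiskering _ _).obj (ΘW R Fp W)).obj (FreeQI.evalAug Aset W) ≅
      ((SimplicialObject.Augmented.whiskering _ _).obj
        (EW (R ⋙ forget₂ CommRingCat.{u} RingCat.{u}) W)).obj (freeTensorAug R Fp Aset) := by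
  refine Comma.isoMk ?_ ?_ ?_
  · exact @NatIso.ofComponents SimplexCategoryᵒᵖ _ AddCommGrpCat.{u} _ _ _
      (fun n => Iso.refl ((ΘW R Fp W).obj ((Aset.left.obj n).obj W))) (by
      intro i j f
      exact (Category.comp_id _).trans (Category.id_comp _).symm)
  · exact Iso.refl ((ΘW R Fp W).obj (Aset.right.obj W))
  · apply NatTrans.ext
    funext n
    simp [SimplicialObject.Augmented.whiskering, SimplicialObject.Augmented.whiskeringObj]
    refine (Category.id_comp _).trans (Eq.trans ?_ (Category.comp_id _).symm)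
    simp [freeTensorAug, FreeQI.evalAug, SimplicialObject.Augmented.whiskering,
      SimplicialObject.Augmented.whiskeringObj]
    rfl

theorem quasiIso_ε_freeTensorAug
    (h : ∀ W : Cᵒᵖ, Nonempty (SimplicialObject.Augmented.ExtraDegeneracy (FreeQI.evalAug Aset W))) :
    QuasiIso (AlternatingFaceMapComplex.ε.app (freeTensorAug R Fp Aset)) := by
  rw [← HomologicalComplex.quasiIso_map_iff_of_preservesHomology _
    (PresheafOfModules.toPresheaf (R ⋙ forget₂ CommRingCat.{u} RingCat.{u}))]
  rw [HomologicalComplex.quasiIso_iff_evaluation]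
  intro W
  have key : QuasiIso (((EW (R ⋙ forget₂ CommRingCat.{u} RingCat.{u}) W).mapHomologicalComplex _).map
      (AlternatingFaceMapComplex.ε.app (freeTensorAug R Fp Aset))) := by
    apply FreeQI.quasiIso_ε_of_whiskering
    have ed := ((h W).some.map (ΘW R Fp W)).ofIso (evalIso R Fp Aset W)
    exact (inferInstance : QuasiIso (SimplicialObject.Augmented.ExtraDegeneracy.homotopyEquiv ed).hom)
  exact key

end Groth.Agent.Lib.Helper5.Misc.FreeTensorQI
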