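import Mathlib
import Groth.Prelude.Def_ModSite
import Groth.Agent.Lib.Helper5.Misc.ExtFreeHK
import Groth.Agent.Lib.Helper5.Misc.FreeTensorQI
import Groth.Agent.Lib.Helper5.Misc.TensorSheaf
import Groth.Agent.Lib.Helper5.Misc.TensorLocal
import Groth.Agent.Lib.Helper5.Misc.TensorSES

/-!
# The internal hom into an injective module is totally acyclic (helper5)
-/
set_option autoImplicit false
universe u
open CategoryTheory Limits Opposite Simplicial AlgebraicTopology MonoidalCategory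

namespace Groth.Agent.Lib.Helper5.Misc.SheafHomTA

open Groth.Agent.Helper3 Groth.Agent.Lib.Helper5.Misc.InjTotAcyc
  Groth.Agent.Lib.Helper5.Misc.ExtFreeHK Groth.Agent.Lib.Helper5.TensorSheaf

variable {C : Type u} [SmallCategory C] {J : GrothendieckTopology C}
  (O : Sheaf J CommRingCat.{u}) (F : ModSite.Mod O)

/-- `a(P ⊗ F) ≅ aP ⊗ F` -/
noncomputable def tensIso (P : PM O) :
    (shf O).obj (P ⊗ (fgt O).obj F) ≅ ((ModSite.tensorBi O).flip.obj F).obj ((shf O).obj P) :=
  @asIso _ _ _ _ ((shf O).map ((unit' O).app P ▷ (fgt O).obj F)) (isIso_shf_map_of_W _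
    (Groth.Agent.Lib.Helper5.TensorLocal.W_whiskerRight J ((fgt O).obj F) _ (W_unit' P)))

lemma tensIso_naturality {P P' : PM O} (α : P ⟶ P') :
    (shf O).map (α ▷ (fgt O).obj F) ≫ (tensIso O F P').hom =
      (tensIso O F P).hom ≫ ((ModSite.tensorBi O).flip.obj F).map ((shf O).map α) := by
  change (shf O).map (α ▷ (fgt O).obj F) ≫ (shf O).map ((unit' O).app P' ▷ (fgt O).obj F) =
    (shf O).map ((unit' O).app P ▷ (fgt O).obj F) ≫
      (shf O).map ((fgt O).map ((shf O).map α) ▷ (fgt O).obj F)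
  rw [← Functor.map_comp, ← Functor.map_comp, ← comp_whiskerRight, ← comp_whiskerRight]
  congr 2
  exact (unit' O).naturality α


/-- precomposition with an isomorphism, additively -/
def precompAdd {𝒜 : Type*} [Category 𝒜] [Preadditive 𝒜] {X Y : 𝒜} (e : X ≅ Y) (Z : 𝒜) :
    (X ⟶ Z) ≃+ (Y ⟶ Z) where
  toFun g := e.inv ≫ g
  invFun h := e.hom ≫ h
  left_inv g := by simp
  right_inv h := by simp
  map_add' g g' := Preadditive.comp_add _ _ _ _ _ _

instance shfAdditive :
    (PresheafOfModules.sheafification.{u} (𝟙 (ModSite.ringSh O).obj)).Additive :=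
  (shAdj (ModSite.ringSh O)).left_adjoint_additive

variable (G : ModSite.Mod O) [ModSite.HasSheafHom F]

/-- the presheaf of modules `R[K] ⊗ F` -/
noncomputable abbrev AK (K : Sheaf J (Type u)) : PM O :=
  (FreeTensorQI.Θ O.obj ((fgt O).obj F)).obj K.obj

/-- maps `R[K] ⊗ F ⟶ G` of presheaves of modules correspond to maps `ℤ[K] ⟶ Hom(F, G)` of
abelian sheaves -/
noncomputable def Ξ (K : Sheaf J (Type u)) :
    (AK O F K ⟶ (fgt O).obj G) ≃+
      (TCech.L.obj K ⟶ ModSite.toAb ((ModSite.sheafHom F).obj G)) :=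
  (((shAdj (ModSite.ringSh O)).homAddEquiv (AK O F K) G).symm.trans
    (precompAdd (tensIso O F _) G)).trans
    (((ModSite.sheafHomAdj F).homAddEquiv _ G).trans
      (φ K ((ModSite.sheafHom F).obj G)))


lemma φ_naturality_left {R : Sheaf J RingCat.{u}} {K₁ K₂ : Sheaf J (Type u)} (a : K₁ ⟶ K₂)
    (M : SheafOfModules.{u} R) (p : freeSh (R := R) K₂ ⟶ M) :
    φ K₁ M ((PresheafOfModules.sheafification.{u} (𝟙 R.obj)).map
      ((PresheafOfModules.free R.obj).map a.hom) ≫ p) = TCech.L.map a ≫ φ K₂ M p := by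
  change Φ K₁ M ((shAdj R).homEquiv _ M _) = _ ≫ Φ K₂ M ((shAdj R).homEquiv _ M p)
  rw [Adjunction.homEquiv_naturality_left]
  exact Φ_naturality a M _

lemma iso_nat_inv {𝒜 : Type*} [Category 𝒜] {A₁ A₂ B₁ B₂ : 𝒜} (ι₁ : A₁ ≅ B₁) (ι₂ : A₂ ≅ B₂)
    (X : A₁ ⟶ A₂) (Y : B₁ ⟶ B₂) (N : X ≫ ι₂.hom = ι₁.hom ≫ Y) {Z : 𝒜} (x : A₂ ⟶ Z) :
    ι₁.inv ≫ (X ≫ x) = Y ≫ (ι₂.inv ≫ x) := by
  rw [Iso.inv_comp_eq, ← Category.assoc, ← Category.assoc, ← N, Category.assoc, Category.assoc,
    Iso.hom_inv_id_assoc]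

lemma Ξ_naturality {K₁ K₂ : Sheaf J (Type u)} (a : K₁ ⟶ K₂) (g : AK O F K₂ ⟶ (fgt O).obj G) :
    Ξ O F G K₁ ((FreeTensorQI.Θ O.obj ((fgt O).obj F)).map a.hom ≫ g) =
      TCech.L.map a ≫ Ξ O F G K₂ g := by
  have h1 : ((shAdj (ModSite.ringSh O)).homEquiv (AK O F K₁) G).symm
      ((FreeTensorQI.Θ O.obj ((fgt O).obj F)).map a.hom ≫ g) =
      (shf O).map ((FreeTensorQI.Θ O.obj ((fgt O).obj F)).map a.hom) ≫
        ((shAdj (ModSite.ringSh O)).homEquiv (AK O F K₂) G).symm g :=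
    Adjunction.homEquiv_naturality_left_symm _ _ _
  have h2 := iso_nat_inv (tensIso O F ((PresheafOfModules.free (ModSite.ringSh O).obj).obj K₁.obj))
    (tensIso O F ((PresheafOfModules.free (ModSite.ringSh O).obj).obj K₂.obj))
    ((shf O).map ((FreeTensorQI.Θ O.obj ((fgt O).obj F)).map a.hom))
    (((ModSite.tensorBi O).flip.obj F).map ((shf O).map
        ((PresheafOfModules.free (ModSite.ringSh O).obj).map a.hom)))
    (tensIso_naturality O F _) (((shAdj (ModSite.ringSh O)).homEquiv (AK O F K₂) G).symm g)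
  have h3 := Adjunction.homEquiv_naturality_left (ModSite.sheafHomAdj F)
    ((shf O).map ((PresheafOfModules.free (ModSite.ringSh O).obj).map a.hom))
    ((tensIso O F ((PresheafOfModules.free (ModSite.ringSh O).obj).obj K₂.obj)).inv ≫
      ((shAdj (ModSite.ringSh O)).homEquiv (AK O F K₂) G).symm g)
  have h4 := φ_naturality_left a ((ModSite.sheafHom F).obj G)
    ((ModSite.sheafHomAdj F).homEquiv _ G
      ((tensIso O F ((PresheafOfModules.free (ModSite.ringSh O).obj).obj K₂.obj)).inv ≫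
        ((shAdj (ModSite.ringSh O)).homEquiv (AK O F K₂) G).symm g))
  refine Eq.trans ?_ h4
  refine congrArg (φ K₁ ((ModSite.sheafHom F).obj G)) ?_
  refine Eq.trans ?_ h3
  refine congrArg ((ModSite.sheafHomAdj F).homEquiv _ G) ?_
  refine Eq.trans ?_ h2
  exact congrArg (fun t => (tensIso O F
    ((PresheafOfModules.free (ModSite.ringSh O).obj).obj K₁.obj)).inv ≫ t) h1

section cech

variable {K' K : Sheaf J (Type u)} (f : K' ⟶ K)

/-- the Čech chain complex `R[K_•] ⊗ F` of presheaves of modules -/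
noncomputable abbrev QT : ChainComplex (PM O) ℕ :=
  AlternatingFaceMapComplex.obj
    (FreeTensorQI.freeTensorAug O.obj ((fgt O).obj F) (NerveRes.AugIm J f)).left

lemma Ξ_d (n : ℕ) (g : AK O F (KK f n) ⟶ (fgt O).obj G) :
    Ξ O F G (KK f (n + 1)) ((QT O F f).d (n + 1) n ≫ g) =
      (TCech.PP f).d (n + 1) n ≫ Ξ O F G (KK f n) g :=
  afmc_transport (FreeTensorQI.freeTensorAug O.obj ((fgt O).obj F) (NerveRes.AugIm J f)).left
    (NerveRes.Xs J f).left ((fgt O).obj G) (ModSite.toAb ((ModSite.sheafHom F).obj G)) n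
    (Ξ O F G (KK f (n + 1))).toAddMonoidHom (Ξ O F G (KK f n)).toAddMonoidHom
    (fun j g => Ξ_naturality O F G ((Arrow.mk f).cechNerve.δ j) g) g

instance quasiIso_QT [Epi f] :
    QuasiIso (AlternatingFaceMapComplex.ε.app
      (FreeTensorQI.freeTensorAug O.obj ((fgt O).obj F) (NerveRes.AugIm J f))) :=
  FreeTensorQI.quasiIso_ε_freeTensorAug O.obj ((fgt O).obj F) (NerveRes.AugIm J f)
    (NerveRes.nonempty_extraDegeneracy J f)

end cech

/-- the internal hom into an injective module is Čech-acyclic -/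
theorem pc_sheafHom [Injective G] :
    TCech.Pc (ModSite.toAb ((ModSite.sheafHom F).obj G)) := by
  intro K' K f hf m x hx
  have hI : Injective ((fgt O).obj G) :=
    (SheafOfModules.forget.{u} (ModSite.ringSh O)).injective_obj G
  let g : (QT O F f).X (m + 1) ⟶ (fgt O).obj G := (Ξ O F G (KK f (m + 1))).symm x
  have hg : (QT O F f).d (m + 2) (m + 1) ≫ g = 0 := by
    apply (Ξ O F G (KK f (m + 2))).injective
    refine (Ξ_d O F G f (m + 1) g).trans ?_
    rw [AddEquiv.apply_symm_apply]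
    exact hx.trans (map_zero (Ξ O F G (KK f (m + 2)))).symm
  obtain ⟨g', hg'⟩ := FreeModQI.cexact_of_injective (QT O F f) _
    (AlternatingFaceMapComplex.ε.app
      (FreeTensorQI.freeTensorAug O.obj ((fgt O).obj F) (NerveRes.AugIm J f)))
    ((fgt O).obj G) m g hg
  refine ⟨Ξ O F G (KK f m) g', ?_⟩
  refine (Ξ_d O F G f m g').symm.trans ?_
  exact (congrArg (Ξ O F G (KK f (m + 1))) hg').trans (AddEquiv.apply_symm_apply _ x)

/-- **The internal hom into an injective module is totally acyclic.** -/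
theorem isTotallyAcyclic_sheafHom [Injective G] :
    CohCx.IsTotallyAcyclic (ModSite.toAb ((ModSite.sheafHom F).obj G)) :=
  TCech.totallyAcyclic_of_pc _ (pc_sheafHom O F G)

end Groth.Agent.Lib.Helper5.Misc.SheafHomTA
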