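import Mathlib

/-!
# Sheaves on a closed subspace (helper5)

For a closed embedding `i : Z ⟶ X` of topological spaces and sheaves valued in a concrete
category `A` (as in Mathlib's `TopCat.Sheaf.pullback`):

* `gFun`: the right adjoint `V ↦ X ∖ i(Z ∖ V)` of `Opens.map i`; `adj0`;
* `presheafAdj`: `i_* ⊣ (gFun)^p` on presheaves, with invertible unit;
* `fullyFaithfulPushforward`: `i_*` on sheaves is fully faithful; the counit `i⁻¹ i_* ⟶ 𝟭` is iso;
* `stalkIso`, `isTerminal_stalk_pushforward`, `pullStalkIso`;
* `essImage_iff`: essential image of `i_*` = sheaves whose stalks outside `i(Z)` are terminal.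
-/

set_option autoImplicit false
open CategoryTheory CategoryTheory.Limits Opposite TopologicalSpace TopCat

universe u

namespace Groth.Agent.Lib.Helper5.ClosedEmbSh

variable {Z X : TopCat.{u}} (i : Z ⟶ X) (hi : Topology.IsClosedEmbedding i)

/-- `V ↦ X ∖ i(Z ∖ V)`. -/
def gObj (V : Opens Z) : Opens X :=
  ⟨(i '' (V : Set Z)ᶜ)ᶜ, (hi.isClosedMap _ V.isOpen.isClosed_compl).isOpen_compl⟩

include hi in
lemma map_gObj (V : Opens Z) : (Opens.map i).obj (gObj i hi V) = V := by
  ext z
  simp only [gObj, Opens.map_coe, Opens.coe_mk, Set.mem_preimage, Set.mem_compl_iff, Set.mem_image,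
    not_exists, not_and, SetLike.mem_coe]
  constructor
  · intro h
    by_contra hz
    exact h z hz rfl
  · intro hz w hw e
    exact hw (hi.injective e ▸ hz)

lemma le_gObj_iff (U : Opens X) (V : Opens Z) : U ≤ gObj i hi V ↔ (Opens.map i).obj U ≤ V := by
  constructor
  · intro h
    exact le_trans ((Opens.map i).monotone h) (map_gObj i hi V).le
  · intro h x hx
    rintro ⟨z, hz, rfl⟩
    exact hz (h hx)

/-- The functor `V ↦ X ∖ i(Z ∖ V)`. -/
def gFun : Opens Z ⥤ Opens X where
  obj := gObj i hi
  map {V V'} f := homOfLE ((le_gObj_iff i hi _ _).2 ((map_gObj i hi V).le.trans (leOfHom f)))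

/-- `i⁻¹ ⊣ gFun` on opens. -/
def adj0 : Opens.map i ⊣ gFun i hi :=
  Adjunction.mkOfHomEquiv
    { homEquiv := fun U V =>
        { toFun := fun f => homOfLE ((le_gObj_iff i hi U V).2 (leOfHom f))
          invFun := fun f => homOfLE ((le_gObj_iff i hi U V).1 (leOfHom f))
          left_inv := fun _ => Subsingleton.elim _ _
          right_inv := fun _ => Subsingleton.elim _ _ }
      homEquiv_naturality_left_symm := fun _ _ => Subsingleton.elim _ _
      homEquiv_naturality_right := fun _ _ => Subsingleton.elim _ _ }

instance isIso_adj0_counit : IsIso (adj0 i hi).counit := by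
  haveI : ∀ V, IsIso ((adj0 i hi).counit.app V) := fun V =>
    ⟨⟨homOfLE (map_gObj i hi V).ge, Subsingleton.elim _ _, Subsingleton.elim _ _⟩⟩
  exact NatIso.isIso_of_isIso_app _

instance isIso_adj0_op_unit : IsIso (adj0 i hi).op.unit := by
  rw [Adjunction.op_unit]
  infer_instance

variable (A : Type (u + 1)) [Category.{u} A]

/-- `i_* ⊣ gFun^p` on presheaves. -/
def presheafAdj :
    Presheaf.pushforward A i ⊣ (Functor.whiskeringLeft _ _ A).obj (gFun i hi).op :=
  Adjunction.whiskerLeft A (adj0 i hi).op

instance isIso_presheafAdj_unit : IsIso (presheafAdj i hi A).unit := by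
  haveI : ∀ P, IsIso ((presheafAdj i hi A).unit.app P) := fun P => by
    dsimp [presheafAdj, Adjunction.whiskerLeft]
    haveI : IsIso (Functor.whiskerRight (adj0 i hi).op.unit P) :=
      Functor.isIso_whiskerRight _ _
    infer_instance
  exact NatIso.isIso_of_isIso_app _

/-- `i_*` on presheaves is fully faithful. -/
noncomputable def fullyFaithfulPresheafPushforward : (Presheaf.pushforward A i).FullyFaithful :=
  (presheafAdj i hi A).fullyFaithfulLOfIsIsoUnit

/-- `i_*` on sheaves is fully faithful. -/
noncomputable def fullyFaithfulPushforward : (Sheaf.pushforward A i).FullyFaithful :=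
  Functor.FullyFaithful.ofCompFaithful (G := Sheaf.forget A X)
    (((fullyFaithfulSheafToPresheaf _ _).comp (fullyFaithfulPresheafPushforward i hi A)))

section Concrete

variable {FA : A → A → Type*} {CA : A → Type u} [∀ X Y, FunLike (FA X Y) (CA X) (CA Y)]
  [ConcreteCategory.{u} A FA] [HasColimits A] [HasLimits A] [PreservesLimits (forget A)]
  [PreservesFilteredColimits (forget A)] [(forget A).ReflectsIsomorphisms]

include hi in
/-- The counit `i⁻¹ i_* ⟶ 𝟭` is an isomorphism. -/
lemma isIso_counit : IsIso (Sheaf.pullbackPushforwardAdjunction A i).counit := by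
  haveI := (fullyFaithfulPushforward i hi A).full
  haveI := (fullyFaithfulPushforward i hi A).faithful
  infer_instance

/-- The stalk functor on sheaves. -/
noncomputable abbrev Sx (X : TopCat.{u}) (x : X) : Sheaf A X ⥤ A :=
  Sheaf.forget A X ⋙ Presheaf.stalkFunctor A x

/-- `(i_* F)_{i z} ≅ F_z`, naturally in `F`, for an inducing map `i`. -/
noncomputable def stalkIso (hf : Topology.IsInducing i) (z : Z) :
    Sheaf.pushforward A i ⋙ Sx A X (i z) ≅ Sx A Z z :=
  NatIso.ofComponents
    (fun F =>
      @asIso _ _ _ _ (Presheaf.stalkPushforward A i F.1 z)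
        (Presheaf.stalkPushforward.stalkPushforward_iso_of_isInducing A hf F.1 z))
    (fun {F G} φ => by
      dsimp
      refine Presheaf.stalk_hom_ext _ fun U hU => ?_
      change Presheaf.germ ((Presheaf.pushforward _ i).obj F.1) U (i z) hU ≫
          (Presheaf.stalkFunctor A (i z)).map
            ((Presheaf.pushforward _ i).map φ.hom) ≫
          Presheaf.stalkPushforward A i G.1 z =
        Presheaf.germ ((Presheaf.pushforward _ i).obj F.1) U (i z) hU ≫
          Presheaf.stalkPushforward A i F.1 z ≫
            (Presheaf.stalkFunctor A z).map φ.hom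
      rw [Presheaf.stalkFunctor_map_germ_assoc, Presheaf.stalkPushforward_germ_assoc,
        Presheaf.stalkFunctor_map_germ]
      erw [Presheaf.stalkPushforward_germ]
      rfl)

/-- `(i⁻¹ G)_z ≅ G_{i z}`, naturally in the sheaf `G` (by uniqueness of left adjoints). -/
noncomputable def pullStalkIso (z : Z) :
    Sheaf.pullback A i ⋙ Sx A Z z ≅ Sx A X (i z) :=
  letI instZ : ∀ U : Opens Z, Decidable (z ∈ U) := fun _ => Classical.dec _
  letI instX : ∀ U : Opens X, Decidable (i z ∈ U) :=
    fun U => Classical.dec (z ∈ (Opens.map i).obj U)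
  let adjL : Sheaf.pullback A i ⋙ Sx A Z z ⊣
      @skyscraperSheafFunctor X (i z) instX A _ _ :=
    (Sheaf.pullbackPushforwardAdjunction A i).comp (@stalkSkyscraperSheafAdjunction Z z instZ A _ _ _)
  let adjR : Sx A X (i z) ⊣ @skyscraperSheafFunctor X (i z) instX A _ _ :=
    @stalkSkyscraperSheafAdjunction X (i z) instX A _ _ _
  adjL.leftAdjointUniq adjR

/-- Underlying type of a terminal object is a singleton. -/
@[instance_reducible]
noncomputable def uniqueOfIsTerminal {T : A} (hT : IsTerminal T) : Unique (ToType T) :=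
  Types.isTerminalEquivUnique _ (IsTerminal.isTerminalObj (forget A) T hT)

include hi in
/-- The stalk of `i_* F` at a point outside `i(Z)` is terminal. -/
lemma isTerminal_stalk_pushforward {FA : A → A → Type*} {CA : A → Type u}
    [∀ X Y, FunLike (FA X Y) (CA X) (CA Y)]
    [ConcreteCategory.{u} A FA] [PreservesLimits (forget A)]
    [PreservesFilteredColimits (forget A)] [(forget A).ReflectsIsomorphisms]
    (F : Sheaf A Z) (x : X) (hx : x ∉ Set.range i) :
    Nonempty (IsTerminal ((Sheaf.pushforward A i ⋙ Sx A X x).obj F)) := by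
  let W : Opens X := ⟨(Set.range i)ᶜ, hi.isClosed_range.isOpen_compl⟩
  have hW : x ∈ W := hx
  let P : Presheaf A X := (Presheaf.pushforward A i).obj F.1
  have hT : ∀ (U : Opens X), U ≤ W → IsTerminal (P.obj (op U)) := fun U hU =>
    F.isTerminalOfEqEmpty (by
      ext z
      simp only [Opens.map_coe, Set.mem_preimage, SetLike.mem_coe, Opens.coe_bot,
        Set.mem_empty_iff_false, iff_false]
      intro hz
      exact (hU hz) ⟨z, rfl⟩)
  have h1 : IsIso (P.germ W x hW) := by
    have h2 : IsIso ((forget A).map (P.germ W x hW)) := by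
      rw [isIso_iff_bijective]
      constructor
      · intro a b _
        haveI := uniqueOfIsTerminal A (hT W le_rfl)
        exact Subsingleton.elim (α := ToType (P.obj (op W))) a b
      · intro t
        obtain ⟨U, hUW, hxU, s, rfl⟩ := P.exists_le_germ_eq (x := x) t hW
        let s₀ : ToType (P.obj (op W)) := (uniqueOfIsTerminal A (hT W le_rfl)).default
        refine ⟨s₀, ?_⟩
        have e : P.map (homOfLE hUW).op s₀ = s := by
          haveI := uniqueOfIsTerminal A (hT U hUW)
          exact Subsingleton.elim (α := ToType (P.obj (op U))) _ _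
        rw [← e]
        exact (Presheaf.germ_res_apply P (homOfLE hUW) x hxU s₀).symm
    exact isIso_of_reflects_iso _ (forget A)
  exact ⟨IsTerminal.ofIso (hT W le_rfl) (@asIso _ _ _ _ _ h1)⟩

include hi in
/-- The essential image of `i_*`: sheaves whose stalks outside `i(Z)` are terminal. -/
theorem essImage_iff {FA : A → A → Type*} {CA : A → Type u}
    [∀ X Y, FunLike (FA X Y) (CA X) (CA Y)]
    [ConcreteCategory.{u} A FA] [PreservesLimits (forget A)]
    [PreservesFilteredColimits (forget A)] [(forget A).ReflectsIsomorphisms]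
    (G : Sheaf A X) :
    (Sheaf.pushforward A i).essImage G ↔
      ∀ x : X, x ∉ Set.range i → Nonempty (IsTerminal ((Sx A X x).obj G)) := by
  constructor
  · rintro ⟨F, ⟨e⟩⟩ x hx
    obtain ⟨h⟩ := isTerminal_stalk_pushforward i hi A F x hx
    exact ⟨IsTerminal.ofIso h ((Sx A X x).mapIso e)⟩
  · intro h
    let adj := Sheaf.pullbackPushforwardAdjunction A i
    haveI : IsIso (adj.unit.app G) := by
      haveI : ∀ x : X, IsIso ((Presheaf.stalkFunctor A x).map (adj.unit.app G).hom) := by
        intro x
        by_cases hx : x ∈ Set.range i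
        · obtain ⟨z, rfl⟩ := hx
          haveI := isIso_counit i hi A
          have h1 : IsIso ((Sheaf.pullback A i).map (adj.unit.app G)) := by
            have e := adj.left_triangle_components G
            haveI : IsIso ((Sheaf.pullback A i).map (adj.unit.app G) ≫
                adj.counit.app ((Sheaf.pullback A i).obj G)) := by
              rw [e]
              exact IsIso.id _
            exact IsIso.of_isIso_comp_right _ (adj.counit.app ((Sheaf.pullback A i).obj G))
          have h2 : IsIso ((Sheaf.pullback A i ⋙ Sx A Z z).map (adj.unit.app G)) :=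
            Functor.map_isIso (Sx A Z z) _
          exact (NatIso.isIso_map_iff (pullStalkIso i A z) _).1 h2
        · obtain ⟨h1⟩ := h x hx
          obtain ⟨h2⟩ := isTerminal_stalk_pushforward i hi A ((Sheaf.pullback A i).obj G) x hx
          exact isIso_of_isTerminal h1 h2 _
      exact Presheaf.isIso_of_stalkFunctor_map_iso (adj.unit.app G)
    exact ⟨(Sheaf.pullback A i).obj G, ⟨(asIso (adj.unit.app G)).symm⟩⟩

end Concrete

end Groth.Agent.Lib.Helper5.ClosedEmbSh
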