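import Mathlib

/-!
# Pushforward of abelian sheaves along a closed embedding preserves colimits (helper5)

* `preservesColimit_of_jointly`: a criterion for preservation of a colimit using a jointly
  conservative family of colimit-preserving functors;
* `stalkIso`: `(f_* F)_{f x} ≅ F_x` naturally in the sheaf `F`, for `f` inducing;
* `isZero_stalk_pushforward`: `(f_* F)_y = 0` for `y` outside the closed range of `f`;
* `preservesColimits_pushforward`: `f_*` on abelian sheaves preserves colimits for `f` a closed
  embedding.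
-/

set_option autoImplicit false
open CategoryTheory CategoryTheory.Limits Opposite TopologicalSpace TopCat

universe u

namespace Groth.Agent.Lib.Helper5.ClosedPush

section General

theorem preservesColimit_of_jointly {A B K ι : Type*} [Category A] [Category B] [Category K]
    (F : A ⥤ B) (D : K ⥤ A) [HasColimit (D ⋙ F)]
    {Cx : ι → Type*} [∀ x, Category (Cx x)] (G : ∀ x, B ⥤ Cx x)
    (hG : ∀ {b b' : B} (φ : b ⟶ b'), (∀ x, IsIso ((G x).map φ)) → IsIso φ)
    [h1 : ∀ x, PreservesColimit (D ⋙ F) (G x)] [h2 : ∀ x, PreservesColimit D (F ⋙ G x)] :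
    PreservesColimit D F := by
  constructor
  intro c hc
  constructor
  let φ := colimit.desc (D ⋙ F) (F.mapCocone c)
  have : IsIso φ := by
    apply hG
    intro x
    let P1 := isColimitOfPreserves (G x) (colimit.isColimit (D ⋙ F))
    let P2 : IsColimit ((F ⋙ G x).mapCocone c) := isColimitOfPreserves (F ⋙ G x) hc
    let f : (G x).mapCocone (colimit.cocone (D ⋙ F)) ⟶ (G x).mapCocone (F.mapCocone c) :=
      { hom := (G x).map φ
        w := fun k => by
          dsimp
          rw [← Functor.map_comp, colimit.ι_desc]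
          rfl }
    haveI := IsColimit.hom_isIso P1 P2 f
    exact inferInstanceAs (IsIso ((Cocone.forget _).map f))
  haveI : IsIso ((colimit.isColimit (D ⋙ F)).desc (F.mapCocone c)) := this
  exact IsColimit.ofPointIso (colimit.isColimit (D ⋙ F))

end General

section Top

variable {X Y : TopCat.{u}} (f : X ⟶ Y)

/-- The stalk functor on abelian sheaves. -/
noncomputable abbrev Sx (Y : TopCat.{u}) (y : Y) :
    Sheaf AddCommGrpCat.{u} Y ⥤ AddCommGrpCat.{u} :=
  Sheaf.forget _ Y ⋙ Presheaf.stalkFunctor _ y

/-- `(f_* F)_{f x} ≅ F_x`, naturally in `F`, for an inducing map `f`. -/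
noncomputable def stalkIso (hf : Topology.IsInducing f) (x : X) :
    Sheaf.pushforward AddCommGrpCat.{u} f ⋙ Sx Y (f x) ≅ Sx X x :=
  NatIso.ofComponents
    (fun F =>
      @asIso _ _ _ _ (Presheaf.stalkPushforward AddCommGrpCat.{u} f F.1 x)
        (Presheaf.stalkPushforward.stalkPushforward_iso_of_isInducing AddCommGrpCat.{u} hf
          F.1 x))
    (fun {F G} φ => by
      dsimp
      refine Presheaf.stalk_hom_ext _ fun U hU => ?_
      change Presheaf.germ ((Presheaf.pushforward _ f).obj F.1) U (f x) hU ≫
          (Presheaf.stalkFunctor AddCommGrpCat (f x)).map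
            ((Presheaf.pushforward _ f).map φ.hom) ≫
          Presheaf.stalkPushforward AddCommGrpCat f G.1 x =
        Presheaf.germ ((Presheaf.pushforward _ f).obj F.1) U (f x) hU ≫
          Presheaf.stalkPushforward AddCommGrpCat f F.1 x ≫
            (Presheaf.stalkFunctor AddCommGrpCat x).map φ.hom
      rw [Presheaf.stalkFunctor_map_germ_assoc, Presheaf.stalkPushforward_germ_assoc,
        Presheaf.stalkFunctor_map_germ]
      erw [Presheaf.stalkPushforward_germ]
      rfl)

/-- The stalk of `f_* F` vanishes outside the closed range of `f`. -/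
lemma isZero_stalk_pushforward (hf : IsClosed (Set.range f)) (F : Sheaf AddCommGrpCat.{u} X)
    (y : Y) (hy : y ∉ Set.range f) :
    IsZero ((Sheaf.pushforward AddCommGrpCat.{u} f ⋙ Sx Y y).obj F) := by
  rw [IsZero.iff_id_eq_zero]
  refine Presheaf.stalk_hom_ext _ fun U hU => ?_
  let W : Opens Y := ⟨(Set.range f)ᶜ, hf.isOpen_compl⟩
  have hW : y ∈ U ⊓ W := ⟨hU, hy⟩
  have e : (Opens.map f).obj (U ⊓ W) = ⊥ := by
    ext z
    simp [W]
  have hz : IsZero (((Presheaf.pushforward _ f).obj F.1).obj (op (U ⊓ W))) :=
    (F.isTerminalOfEqEmpty e).isZero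
  change Presheaf.germ ((Presheaf.pushforward _ f).obj F.1) U y hU ≫ 𝟙 _ =
    Presheaf.germ ((Presheaf.pushforward _ f).obj F.1) U y hU ≫ 0
  rw [← Presheaf.germ_res _ (homOfLE inf_le_left : U ⊓ W ⟶ U) y hW]
  rw [Category.assoc, Category.assoc, hz.eq_of_src (Presheaf.germ _ (U ⊓ W) y hW ≫ 𝟙 _)
    (Presheaf.germ _ (U ⊓ W) y hW ≫ 0)]

/-- A functor whose values are all zero objects preserves colimits. -/
lemma preservesColimit_of_isZero {A B K : Type*} [Category A] [Category B] [Category K]
    [HasZeroMorphisms B] (F : A ⥤ B) (hF : ∀ a, IsZero (F.obj a)) (D : K ⥤ A) :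
    PreservesColimit D F := by
  constructor
  intro c hc
  exact ⟨{ desc := fun s => 0
           fac := fun s k => (hF _).eq_of_src _ _
           uniq := fun s m _ => (hF _).eq_of_src _ _ }⟩

/-- Stalks of abelian sheaves jointly reflect isomorphisms. -/
lemma isIso_of_stalks {F G : Sheaf AddCommGrpCat.{u} Y} (φ : F ⟶ G)
    (h : ∀ y, IsIso ((Sx Y y).map φ)) : IsIso φ := by
  haveI : ∀ y : Y, IsIso ((Presheaf.stalkFunctor AddCommGrpCat.{u} y).map φ.hom) := h
  exact Presheaf.isIso_of_stalkFunctor_map_iso φ

/-- Pushforward of abelian sheaves along a closed embedding preserves all (small) colimits. -/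
theorem preservesColimits_pushforward (hf : Topology.IsClosedEmbedding f) :
    PreservesColimitsOfSize.{u, u} (Sheaf.pushforward AddCommGrpCat.{u} f) := by
  constructor
  intro K _
  constructor
  intro D
  refine preservesColimit_of_jointly (Sheaf.pushforward AddCommGrpCat.{u} f) D (Sx Y)
    (fun φ h => isIso_of_stalks φ h) (h1 := ?_) (h2 := ?_)
  · intro y
    infer_instance
  · intro y
    by_cases hy : y ∈ Set.range f
    · obtain ⟨x, rfl⟩ := hy
      haveI : PreservesColimit D (Sx X x) := inferInstance
      exact preservesColimit_of_natIso D (stalkIso f hf.isInducing x).symm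
    · exact preservesColimit_of_isZero _
        (fun F => isZero_stalk_pushforward f hf.isClosed_range F y hy) D

end Top

end Groth.Agent.Lib.Helper5.ClosedPush
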