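import Mathlib
import Groth.Agent.Lib.Helper5.Misc.StupidTrunc

/-!
# Homology of the stupid truncation `σ^{≥ a} K ⟶ K`
-/

set_option autoImplicit false
set_option linter.style.haveILetI false

universe v u

open CategoryTheory CategoryTheory.Limits

namespace Groth.Agent.Lib.Helper5.Misc.StupidTrunc

variable {A : Type u} [Category.{v} A] [Abelian A] (K : CochainComplex A ℤ)

theorem ιGE_f (a n : ℤ) : (ιGE K a).f n = tι K a n := rfl

theorem isIso_ιGE_f {a n : ℤ} (h : a ≤ n) : IsIso ((ιGE K a).f n) := isIso_tι K h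

theorem isZero_sigmaGE_X {a n : ℤ} (h : n < a) : IsZero ((sigmaGE K a).X n) :=
  isZero_tX K (by omega)

theorem isIso_homologyMap_ιGE (a i : ℤ) (h : a < i) :
    IsIso (HomologicalComplex.homologyMap (ιGE K a) i) := by
  let ψ := (HomologicalComplex.shortComplexFunctor A (ComplexShape.up ℤ) i).map (ιGE K a)
  haveI : IsIso ψ.τ₁ := by
    change IsIso ((ιGE K a).f ((ComplexShape.up ℤ).prev i))
    exact isIso_ιGE_f K (by rw [CochainComplex.prev]; omega)
  haveI : IsIso ψ.τ₂ := by
    change IsIso ((ιGE K a).f i)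
    exact isIso_ιGE_f K (by omega)
  haveI : IsIso ψ.τ₃ := by
    change IsIso ((ιGE K a).f ((ComplexShape.up ℤ).next i))
    exact isIso_ιGE_f K (by rw [CochainComplex.next]; omega)
  have hq : ShortComplex.QuasiIso ψ := ShortComplex.quasiIso_of_epi_of_isIso_of_mono ψ
  exact hq.isIso

theorem epi_homologyMap_ιGE (a : ℤ) :
    Epi (HomologicalComplex.homologyMap (ιGE K a) a) := by
  let ψ := (HomologicalComplex.shortComplexFunctor A (ComplexShape.up ℤ) a).map (ιGE K a)
  have h2 : IsIso ψ.τ₂ := by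
    change IsIso ((ιGE K a).f a)
    exact isIso_ιGE_f K (le_refl a)
  have h3 : Mono ψ.τ₃ := by
    haveI : IsIso ((ιGE K a).f ((ComplexShape.up ℤ).next a)) :=
      isIso_ιGE_f K (by rw [CochainComplex.next]; omega)
    change Mono ((ιGE K a).f ((ComplexShape.up ℤ).next a))
    infer_instance
  haveI : IsIso (HomologicalComplex.cyclesMap (ιGE K a) a) :=
    ShortComplex.isIso_cyclesMap_of_isIso_of_mono' ψ h2 h3
  have hn := HomologicalComplex.homologyπ_naturality (ιGE K a) a
  haveI : Epi ((sigmaGE K a).homologyπ a ≫ HomologicalComplex.homologyMap (ιGE K a) a) := by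
    rw [hn]
    infer_instance
  exact epi_of_epi ((sigmaGE K a).homologyπ a) _

end Groth.Agent.Lib.Helper5.Misc.StupidTrunc
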