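import Mathlib

/-!
# A retraction of exact functors induces a retraction on derived categories (helper5)
-/

set_option autoImplicit false
open CategoryTheory CategoryTheory.Limits

namespace Groth.Agent.Lib.Helper5.DerFaithful

universe w₁ w₂ v₁ v₂ u₁ u₂

variable {A : Type u₁} [Category.{v₁} A] [Abelian A] [HasDerivedCategory.{w₁} A]
  {B : Type u₂} [Category.{v₂} B] [Abelian B] [HasDerivedCategory.{w₂} B]
  (F : A ⥤ B) (G : B ⥤ A) [F.Additive] [G.Additive]
  [PreservesFiniteLimits F] [PreservesFiniteColimits F]
  [PreservesFiniteLimits G] [PreservesFiniteColimits G] (e : F ⋙ G ≅ 𝟭 A)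

/-- the induced retraction on complexes -/
noncomputable def cxIso :
    F.mapHomologicalComplex (ComplexShape.up ℤ) ⋙ G.mapHomologicalComplex (ComplexShape.up ℤ) ≅
      𝟭 (CochainComplex A ℤ) :=
  NatIso.ofComponents
    (fun K => HomologicalComplex.Hom.isoOfComponents (fun i => e.app (K.X i))
      (fun i j _ => (e.hom.naturality (K.d i j)).symm))
    (fun {K L} f => by
      ext i
      exact e.hom.naturality (f.f i))

/-- the induced retraction on derived categories -/
noncomputable def mapDerivedCategoryCompIso :
    F.mapDerivedCategory ⋙ G.mapDerivedCategory ≅ 𝟭 (DerivedCategory A) :=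
  Localization.liftNatIso DerivedCategory.Q (HomologicalComplex.quasiIso A (ComplexShape.up ℤ))
    (DerivedCategory.Q ⋙ (F.mapDerivedCategory ⋙ G.mapDerivedCategory))
    (DerivedCategory.Q ⋙ 𝟭 (DerivedCategory A)) _ _
    ((Functor.associator _ _ _).symm ≪≫
      Functor.isoWhiskerRight F.mapDerivedCategoryFactors G.mapDerivedCategory ≪≫
      Functor.associator _ _ _ ≪≫
      Functor.isoWhiskerLeft (F.mapHomologicalComplex (ComplexShape.up ℤ))
        G.mapDerivedCategoryFactors ≪≫
      (Functor.associator _ _ _).symm ≪≫
      Functor.isoWhiskerRight (cxIso F G e) DerivedCategory.Q ≪≫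
      Functor.leftUnitor _ ≪≫ (Functor.rightUnitor _).symm)

include G e in
/-- a functor between derived categories induced by an exact functor admitting an exact
retraction is faithful -/
theorem faithful_mapDerivedCategory : F.mapDerivedCategory.Faithful :=
  Functor.Faithful.of_comp_iso (mapDerivedCategoryCompIso F G e)

end Groth.Agent.Lib.Helper5.DerFaithful
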