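import Mathlib
import Groth.Prelude.Def_KFlatSite
import Groth.Agent.Lib.Helper5.Misc.ProjTot
import Groth.Agent.Lib.Helper5.Misc.ShriekProjNat
import Groth.Agent.Lib.Helper5.Misc.ShriekFaith

set_option autoImplicit false
universe u
open CategoryTheory CategoryTheory.Limits Opposite HomologicalComplex
open Groth.Agent.Lib.Helper5 Groth.Agent.Lib.Helper5.ShriekSheaf

namespace Groth.Agent.Lib.Helper5.Misc.KFlatRestr

variable {C : Type u} [SmallCategory C] {J : GrothendieckTopology C} (O : Sheaf J CommRingCat.{u}) (U : C)

instance : (ModSite.restr O U).Additive :=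
  haveI := preservesBinaryBiproducts_of_preservesBinaryProducts (ModSite.restr O U)
  Functor.additive_of_preservesBinaryBiproducts _

instance : (ModSite.extZero O U).Additive := (ModSite.extZeroAdj O U).left_adjoint_additive

instance : (ModSite.extZero O U).IsLeftAdjoint := (ModSite.extZeroAdj O U).isLeftAdjoint

/-- the projection-formula isomorphism on total complexes -/
noncomputable def totIso (F : CochainComplex (ModSite.Mod (O.over U)) ℤ)
    (K : CochainComplex (ModSite.Mod O) ℤ) :
    ((ModSite.extZero O U).mapHomologicalComplex (ComplexShape.up ℤ)).obj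
      (((ModSite.tensorCx (O.over U)).obj F).obj
        (((ModSite.restr O U).mapHomologicalComplex (ComplexShape.up ℤ)).obj K)) ≅
    ((ModSite.tensorCx O).obj
      (((ModSite.extZero O U).mapHomologicalComplex (ComplexShape.up ℤ)).obj F)).obj K :=
  ProjTot.totIso (ModSite.tensorBi (O.over U)) (ModSite.tensorBi O) (ModSite.extZero O U)
    (ModSite.restr O U) (fun P N => projIso P N)
    (fun f N => projIso_naturality_left f N) (fun P _ _ g => projIso_naturality_right P g) F K

lemma acyclic_map_extZero (F : CochainComplex (ModSite.Mod (O.over U)) ℤ)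
    (hF : ∀ i : ℤ, IsZero (F.homology i)) (i : ℤ) :
    IsZero ((((ModSite.extZero O U).mapHomologicalComplex (ComplexShape.up ℤ)).obj F).homology i) := by
  have h1 : PreservesFiniteLimits (ModSite.extZero O U) := extZero_preservesFiniteLimits O U
  rw [← exactAt_iff_isZero_homology]
  have := (exactAt_iff_isZero_homology F i).mpr (hF i)
  exact this.map (ModSite.extZero O U)

lemma acyclic_of_map_extZero (F : CochainComplex (ModSite.Mod (O.over U)) ℤ)
    (hF : ∀ i : ℤ, IsZero
      ((((ModSite.extZero O U).mapHomologicalComplex (ComplexShape.up ℤ)).obj F).homology i))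
    (i : ℤ) : IsZero (F.homology i) := by
  rw [← exactAt_iff_isZero_homology]
  have := (exactAt_iff_isZero_homology _ i).mpr (hF i)
  exact exact_of_exact_map_extZero O U (F.sc i) this

theorem isKFlat_restr (K : CochainComplex (ModSite.Mod O) ℤ) (hK : ModSite.IsKFlat K) :
    ModSite.IsKFlat (((ModSite.restr O U).mapHomologicalComplex (ComplexShape.up ℤ)).obj K) := by
  intro F hF
  apply acyclic_of_map_extZero O U
  intro i
  exact (hK _ (acyclic_map_extZero O U F hF) i).of_iso
    ((HomologicalComplex.homologyFunctor _ _ i).mapIso (totIso O U F K))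

end Groth.Agent.Lib.Helper5.Misc.KFlatRestr
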