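import Mathlib
import Groth.Prelude.Def_ModSite
import Groth.Agent.Lib.Helper5.Misc.SheafModGen
import Groth.Agent.Lib.Helper5.Misc.ShriekSheaf
import Groth.Agent.Lib.Helper5.Misc.KFlatRestr

set_option autoImplicit false
universe u
open CategoryTheory CategoryTheory.Limits Opposite

namespace Groth.Agent.Lib.Helper5.RestrExact

variable {C : Type u} [SmallCategory C] {J : GrothendieckTopology C}
  (O : Sheaf J CommRingCat.{u}) (U : C)

/-- restriction of abelian sheaves to `C/U` -/
noncomputable abbrev restrAb : Sheaf J AddCommGrpCat.{u} ⥤ Sheaf (J.over U) AddCommGrpCat.{u} :=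
  (Over.forget U).sheafPushforwardContinuous AddCommGrpCat.{u} (J.over U) J

instance : (restrAb (J := J) U).IsLeftAdjoint :=
  ((Over.forget U).sheafAdjunctionCocontinuous AddCommGrpCat.{u} (J.over U) J).isLeftAdjoint

lemma epi_restr_map {M N : ModSite.Mod O} (g : M ⟶ N) [Epi g] :
    Epi ((ModSite.restr O U).map g) := by
  have h1 : Epi ((SheafOfModules.toSheaf (ModSite.ringSh O)).map g) := inferInstance
  have h2 : Epi ((restrAb U).map ((SheafOfModules.toSheaf (ModSite.ringSh O)).map g)) :=
    inferInstance
  have h3 : (SheafOfModules.toSheaf ((ModSite.ringSh O).over U)).map ((ModSite.restr O U).map g) =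
      (restrAb U).map ((SheafOfModules.toSheaf (ModSite.ringSh O)).map g) := rfl
  rw [← h3] at h2
  exact (SheafOfModules.toSheaf ((ModSite.ringSh O).over U)).epi_of_epi_map h2

instance preservesFiniteLimits_restr : PreservesFiniteLimits (ModSite.restr O U) := by
  haveI := (ModSite.extZeroAdj O U).rightAdjoint_preservesLimits
  exact PreservesLimitsOfSize.preservesFiniteLimits.{0, 0} (ModSite.restr O U)

instance preservesFiniteColimits_restr : PreservesFiniteColimits (ModSite.restr O U) := by
  rw [Functor.preservesFiniteColimits_iff_forall_exact_map_and_epi]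
  intro S hS
  have h := (Functor.preservesFiniteLimits_iff_forall_exact_map_and_mono (ModSite.restr O U)).1
    (preservesFiniteLimits_restr O U) S hS
  haveI := hS.epi_g
  exact ⟨h.1, epi_restr_map O U S.g⟩

instance preservesFiniteLimits_extZero : PreservesFiniteLimits (ModSite.extZero O U) :=
  Groth.Agent.Lib.Helper5.ShriekSheaf.extZero_preservesFiniteLimits O U

instance preservesFiniteColimits_extZero : PreservesFiniteColimits (ModSite.extZero O U) := by
  haveI := (ModSite.extZeroAdj O U).leftAdjoint_preservesColimits
  exact PreservesColimitsOfSize.preservesFiniteColimits.{0, 0} (ModSite.extZero O U)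

end Groth.Agent.Lib.Helper5.RestrExact
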