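import Mathlib
import Groth.Agent.Lib.Helper5.Misc.RDComp

/-!
# Natural versions of the isomorphisms of `RDComp`
-/

open CategoryTheory CategoryTheory.Limits

namespace Groth.Agent.Lib.Helper5.Misc.RDCompNat

open Groth.Agent.Lib.Helper5.Misc.RDComp

universe v₁ v₂ v₃ u₁ u₂ u₃
variable {A : Type u₁} [Category.{v₁} A] [Abelian A]
  {B : Type u₂} [Category.{v₂} B] [Abelian B]
  {C : Type u₃} [Category.{v₃} C] [Abelian C]

lemma mapInjectiveResolution_comm (G : A ⥤ B) [G.Additive]
    [G.PreservesInjectiveObjects] [G.PreservesHomology] {X Y : A} (f : X ⟶ Y)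
    (I : InjectiveResolution X) (I' : InjectiveResolution Y) (φ : I.cocomplex ⟶ I'.cocomplex)
    (comm : I.ι ≫ φ = (CochainComplex.single₀ A).map f ≫ I'.ι) :
    (mapInjectiveResolution G I).ι.f 0 ≫ ((G.mapHomologicalComplex _).map φ).f 0 =
      G.map f ≫ (mapInjectiveResolution G I').ι.f 0 := by
  have h : (mapInjectiveResolution G I).ι ≫ (G.mapHomologicalComplex _).map φ =
      (CochainComplex.single₀ B).map (G.map f) ≫ (mapInjectiveResolution G I').ι := by
    dsimp only [mapInjectiveResolution]
    rw [Category.assoc, ← Functor.map_comp, comm, Functor.map_comp]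
    have := (HomologicalComplex.singleMapHomologicalComplex G (ComplexShape.up ℕ) 0).inv.naturality f
    dsimp only [Functor.comp_map] at this
    rw [← Category.assoc, ← Category.assoc]
    congr 1
    exact this.symm
  have h0 := congrArg (fun k => k.f 0) h
  simp only [HomologicalComplex.comp_f] at h0
  rw [h0, CochainComplex.single₀_map_f_zero]
  rfl

/-- the componentwise-identity isomorphism `(G ⋙ F)(K) ≅ F(G(K))` of complexes. -/
noncomputable def compMapIso (G : A ⥤ B) (F : B ⥤ C) [G.Additive] [F.Additive]
    (K : CochainComplex A ℕ) :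
    ((G ⋙ F).mapHomologicalComplex (ComplexShape.up ℕ)).obj K ≅
      (F.mapHomologicalComplex _).obj ((G.mapHomologicalComplex _).obj K) :=
  HomologicalComplex.Hom.isoOfComponents (fun _ => Iso.refl _) (by
    intros
    exact (Category.id_comp _).trans (Category.comp_id _).symm)

lemma compMapIso_naturality (G : A ⥤ B) (F : B ⥤ C) [G.Additive] [F.Additive]
    {K L : CochainComplex A ℕ} (φ : K ⟶ L) :
    ((G ⋙ F).mapHomologicalComplex (ComplexShape.up ℕ)).map φ ≫ (compMapIso G F L).hom =
      (compMapIso G F K).hom ≫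
        (F.mapHomologicalComplex _).map ((G.mapHomologicalComplex _).map φ) := by
  ext i
  exact (Category.comp_id _).trans (Category.id_comp _).symm

lemma preIso_eq [HasInjectiveResolutions A] [HasInjectiveResolutions B]
    (G : A ⥤ B) (F : B ⥤ C) [G.Additive] [F.Additive]
    [G.PreservesInjectiveObjects] [G.PreservesHomology] (X : A) (n : ℕ) :
    preIso G F X n = (injectiveResolution X).isoRightDerivedObj (G ⋙ F) n ≪≫
      (HomologicalComplex.homologyFunctor C _ n).mapIso
        (compMapIso G F (injectiveResolution X).cocomplex) ≪≫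
      ((mapInjectiveResolution G (injectiveResolution X)).isoRightDerivedObj F n).symm := rfl

/-- `R^n(G ⋙ F) ≅ G ⋙ R^n F` for `G` exact preserving injectives, as functors. -/
noncomputable def preNatIso [HasInjectiveResolutions A] [HasInjectiveResolutions B]
    (G : A ⥤ B) (F : B ⥤ C) [G.Additive] [F.Additive]
    [G.PreservesInjectiveObjects] [G.PreservesHomology] (n : ℕ) :
    (G ⋙ F).rightDerived n ≅ G ⋙ F.rightDerived n :=
  NatIso.ofComponents (fun X => preIso G F X n) (by
    intro X Y f
    let φ := InjectiveResolution.desc f (injectiveResolution Y) (injectiveResolution X)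
    have comm : (injectiveResolution X).ι ≫ φ =
        (CochainComplex.single₀ A).map f ≫ (injectiveResolution Y).ι :=
      InjectiveResolution.desc_commutes f _ _
    have comm0 : (injectiveResolution X).ι.f 0 ≫ φ.f 0 = f ≫ (injectiveResolution Y).ι.f 0 :=
      InjectiveResolution.desc_commutes_zero f _ _
    have h1 := InjectiveResolution.isoRightDerivedObj_hom_naturality f (injectiveResolution X)
      (injectiveResolution Y) φ comm0 (G ⋙ F) n
    have h2 := InjectiveResolution.isoRightDerivedObj_inv_naturality (G.map f)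
      (mapInjectiveResolution G (injectiveResolution X))
      (mapInjectiveResolution G (injectiveResolution Y))
      ((G.mapHomologicalComplex _).map φ)
      (mapInjectiveResolution_comm G f _ _ φ comm) F n
    have h3 := congrArg (HomologicalComplex.homologyFunctor C (ComplexShape.up ℕ) n).map
      (compMapIso_naturality G F φ)
    simp only [Functor.map_comp] at h3
    rw [preIso_eq, preIso_eq]
    dsimp only [Iso.trans_hom, Iso.symm_hom, Functor.mapIso_hom, Functor.comp_map] at h1 h2 ⊢
    rw [reassoc_of% h1, reassoc_of% h3, Category.assoc, Category.assoc]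
    exact congrArg (fun t => _ ≫ _ ≫ t) h2.symm)

lemma comp_aux {𝒞 : Type*} [Category 𝒞] {X1 X2 X3 X4 X5 X5' X6 : 𝒞} (a : X1 ⟶ X2) (b : X2 ⟶ X3)
    (m : X3 ⟶ X4) (e1 : X4 ⟶ X5) (e2 : X5 ⟶ X6) (e3 : X4 ⟶ X5') (e4 : X5' ⟶ X6)
    (h : e3 ≫ e4 = e1 ≫ e2) : a ≫ b ≫ (m ≫ e1) ≫ e2 = (a ≫ b ≫ m ≫ e3) ≫ e4 := by
  simp [h]

/-- homology commutes with an exact functor, for complexes. -/
noncomputable def mapHomologyIsoCx (E : B ⥤ C) [E.Additive] [E.PreservesHomology]
    (K : CochainComplex B ℕ) (n : ℕ) :
    ((E.mapHomologicalComplex _).obj K).homology n ≅ E.obj (K.homology n) :=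
  (K.sc n).mapHomologyIso E

lemma mapHomologyIsoCx_naturality (E : B ⥤ C) [E.Additive] [E.PreservesHomology]
    {K L : CochainComplex B ℕ} (ψ : K ⟶ L) (n : ℕ) :
    (HomologicalComplex.homologyFunctor C _ n).map ((E.mapHomologicalComplex _).map ψ) ≫
        (mapHomologyIsoCx E L n).hom =
      (mapHomologyIsoCx E K n).hom ≫ E.map ((HomologicalComplex.homologyFunctor B _ n).map ψ) :=
  ShortComplex.mapHomologyIso_hom_naturality
    ((HomologicalComplex.shortComplexFunctor B (ComplexShape.up ℕ) n).map ψ) E

lemma postIso_eq [HasInjectiveResolutions A]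
    (F : A ⥤ B) (E : B ⥤ C) [F.Additive] [E.Additive] [E.PreservesHomology] (X : A) (n : ℕ) :
    postIso F E X n = (injectiveResolution X).isoRightDerivedObj (F ⋙ E) n ≪≫
      (HomologicalComplex.homologyFunctor C _ n).mapIso
        (compMapIso F E (injectiveResolution X).cocomplex) ≪≫
      mapHomologyIsoCx E ((F.mapHomologicalComplex _).obj (injectiveResolution X).cocomplex) n ≪≫
      E.mapIso ((injectiveResolution X).isoRightDerivedObj F n).symm := rfl

/-- `R^n(F ⋙ E) ≅ R^n F ⋙ E` for `E` exact, as functors. -/
noncomputable def postNatIso [HasInjectiveResolutions A]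
    (F : A ⥤ B) (E : B ⥤ C) [F.Additive] [E.Additive] [E.PreservesHomology] (n : ℕ) :
    (F ⋙ E).rightDerived n ≅ F.rightDerived n ⋙ E :=
  NatIso.ofComponents (fun X => postIso F E X n) (by
    intro X Y f
    let φ := InjectiveResolution.desc f (injectiveResolution Y) (injectiveResolution X)
    have comm0 : (injectiveResolution X).ι.f 0 ≫ φ.f 0 = f ≫ (injectiveResolution Y).ι.f 0 :=
      InjectiveResolution.desc_commutes_zero f _ _
    have h1 := InjectiveResolution.isoRightDerivedObj_hom_naturality f (injectiveResolution X)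
      (injectiveResolution Y) φ comm0 (F ⋙ E) n
    have h2 := InjectiveResolution.isoRightDerivedObj_inv_naturality f (injectiveResolution X)
      (injectiveResolution Y) φ comm0 F n
    have h3 := congrArg (HomologicalComplex.homologyFunctor C (ComplexShape.up ℕ) n).map
      (compMapIso_naturality F E φ)
    simp only [Functor.map_comp] at h3
    have h4 := mapHomologyIsoCx_naturality E ((F.mapHomologicalComplex _).map φ) n
    have h5 := congrArg E.map h2
    simp only [Functor.map_comp] at h5
    rw [postIso_eq, postIso_eq]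
    dsimp only [Iso.trans_hom, Iso.symm_hom, Functor.mapIso_hom, Functor.comp_map] at h1 h5 ⊢
    rw [reassoc_of% h1, reassoc_of% h3, reassoc_of% h4]
    exact comp_aux _ _ _ _ _ _ _ h5)

end Groth.Agent.Lib.Helper5.Misc.RDCompNat
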