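import Groth.Prelude.Def_WeilCoh

set_option autoImplicit false
universe u v w
open CategoryTheory AlgebraicGeometry
open WeilCoh

namespace Groth.Agent.Lib.Helper5.Misc.WeilLib

variable {k : Type u} [Field k] {P : ObjectProperty (Over (Spec (CommRingCat.of k)))}
variable {K : Type v} [Field K] (T : TheoryOn.{u, v, w} k P K)

/-- `d X` is the dimension of `X` as an integer. -/
noncomputable abbrev d (X : P.FullSubcategory) : ℤ := (WeilCoh.dim X.obj.left : ℤ)

lemma pairing_apply (X : P.FullSubcategory) (i j : ℤ) (a : T.gr X i) (b : T.gr X j) :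
    pairing K (T.gr X i) (T.gr X j) (T.tr X) a b = T.tr X ((a : T.H X) * (b : T.H X)) := rfl

lemma mem_of_eq {X : P.FullSubcategory} {m n : ℤ} (h : m = n) {c : T.H X} (hc : c ∈ T.gr X m) :
    c ∈ T.gr X n := h ▸ hc

lemma tr_mul_eq_zero_of_ne {X : P.FullSubcategory} {m n : ℤ} (h : m + n ≠ 2 * d X)
    {c b : T.H X} (hc : c ∈ T.gr X m) (hb : b ∈ T.gr X n) : T.tr X (c * b) = 0 :=
  T.tr_vanish X (m + n) (c * b) (SetLike.mul_mem_graded hc hb) h

/-- Nondegeneracy of the Poincaré pairing. -/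
lemma eq_zero_of_tr_mul_eq_zero {X : P.FullSubcategory} {m n : ℤ} (h : m + n = 2 * d X)
    {c : T.H X} (hc : c ∈ T.gr X m)
    (H : ∀ b ∈ T.gr X n, T.tr X (c * b) = 0) : c = 0 := by
  have hp := T.duality X m n h
  have hinj := (LinearMap.IsPerfPair.bijective_left (pairing K (T.gr X m) (T.gr X n) (T.tr X))).1
  have : (⟨c, hc⟩ : T.gr X m) = 0 := by
    apply hinj
    rw [map_zero]
    ext b
    exact H b.1 b.2
  exact congrArg Subtype.val this

lemma eq_of_tr_mul_eq {X : P.FullSubcategory} {m n : ℤ} (h : m + n = 2 * d X)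
    {c c' : T.H X} (hc : c ∈ T.gr X m) (hc' : c' ∈ T.gr X m)
    (H : ∀ b ∈ T.gr X n, T.tr X (c * b) = T.tr X (c' * b)) : c = c' := by
  have : c - c' = 0 := by
    refine eq_zero_of_tr_mul_eq_zero T h (Submodule.sub_mem _ hc hc') ?_
    intro b hb
    rw [sub_mul, map_sub, H b hb, sub_self]
  exact sub_eq_zero.mp this

/-- Nondegeneracy on the other side. -/
lemma eq_zero_of_tr_mul_eq_zero' {X : P.FullSubcategory} {m n : ℤ} (h : m + n = 2 * d X)
    {c : T.H X} (hc : c ∈ T.gr X n)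
    (H : ∀ b ∈ T.gr X m, T.tr X (b * c) = 0) : c = 0 := by
  have hp := T.duality X m n h
  have hinj := (LinearMap.IsPerfPair.bijective_right (pairing K (T.gr X m) (T.gr X n) (T.tr X))).1
  have : (⟨c, hc⟩ : T.gr X n) = 0 := by
    apply hinj
    rw [map_zero]
    ext b
    exact H b.1 b.2
  exact congrArg Subtype.val this

/-- The defining property of push-forward. -/
lemma tr_push_mul {X Y : P.FullSubcategory} (f : X ⟶ Y) (i : ℤ) (a : T.gr X i)
    {b : T.H Y} (hb : b ∈ T.gr Y (2 * d X - i)) :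
    T.tr Y ((T.push f i a : T.H Y) * b) = T.tr X ((a : T.H X) * T.pull f b) := by
  have := T.duality Y (i + 2 * (dim Y.obj.left : ℤ) - 2 * (dim X.obj.left : ℤ))
    (2 * (dim X.obj.left : ℤ) - i) (by omega)
  have h1 : (pairing K (T.gr Y (i + 2 * (dim Y.obj.left : ℤ) - 2 * (dim X.obj.left : ℤ)))
      (T.gr Y (2 * (dim X.obj.left : ℤ) - i)) (T.tr Y)) (T.push f i a) = T.pushFunctional f i a := by
    unfold TheoryOn.push
    simp only [LinearMap.coe_comp, LinearEquiv.coe_coe, Function.comp_apply]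
    exact LinearMap.apply_symm_toPerfPair_self _ _
  have h2 := congrArg (fun φ => φ ⟨b, hb⟩) h1
  exact h2

lemma push_mem {X Y : P.FullSubcategory} (f : X ⟶ Y) (i : ℤ) (a : T.gr X i) :
    (T.push f i a : T.H Y) ∈ T.gr Y (i + 2 * d Y - 2 * d X) := (T.push f i a).2

/-- Characterisation of push-forward by pairing. -/
lemma push_eq_of_tr {X Y : P.FullSubcategory} (f : X ⟶ Y) (i : ℤ) (a : T.gr X i)
    {c : T.H Y} {m : ℤ} (hm : m = i + 2 * d Y - 2 * d X) (hc : c ∈ T.gr Y m)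
    (H : ∀ b ∈ T.gr Y (2 * d X - i), T.tr Y (c * b) = T.tr X ((a : T.H X) * T.pull f b)) :
    (T.push f i a : T.H Y) = c := by
  subst hm
  refine eq_of_tr_mul_eq T (n := 2 * d X - i) (by ring) (push_mem T f i a) hc ?_
  intro b hb
  rw [tr_push_mul T f i a hb, H b hb]

/-- A class of top degree with trace one. -/
lemma exists_top (X : P.FullSubcategory) : ∃ a ∈ T.gr X (2 * d X), T.tr X a = 1 := by
  obtain ⟨a, ha⟩ := (T.tr_bijective X).2 1
  exact ⟨a.1, a.2, ha⟩

lemma top_eq {X : P.FullSubcategory} {a₀ : T.H X} (ha₀ : a₀ ∈ T.gr X (2 * d X))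
    (h1 : T.tr X a₀ = 1) {b : T.H X} (hb : b ∈ T.gr X (2 * d X)) : b = T.tr X b • a₀ := by
  have hinj := (T.tr_bijective X).1
  have : (⟨b, hb⟩ : T.gr X (2 * d X)) = ⟨T.tr X b • a₀, Submodule.smul_mem _ _ ha₀⟩ := by
    apply hinj
    show T.tr X b = T.tr X (T.tr X b • a₀)
    rw [map_smul, h1, smul_eq_mul, mul_one]
  exact congrArg Subtype.val this

lemma one_ne_zero' (X : P.FullSubcategory) : (1 : T.H X) ≠ 0 := by
  obtain ⟨a, -, h1⟩ := exists_top T X
  intro h
  have : a = 0 := by rw [← one_mul a, h, zero_mul]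
  rw [this, map_zero] at h1
  exact zero_ne_one h1

lemma one_mem (X : P.FullSubcategory) : (1 : T.H X) ∈ T.gr X 0 := SetLike.one_mem_graded (T.gr X)

/-- `H⁰(X)` is spanned by `1`. -/
lemma gr_zero_eq {X : P.FullSubcategory} {a₀ : T.H X} (ha₀ : a₀ ∈ T.gr X (2 * d X))
    (h1 : T.tr X a₀ = 1) {x : T.H X} (hx : x ∈ T.gr X 0) : x = T.tr X (x * a₀) • (1 : T.H X) := by
  refine eq_of_tr_mul_eq T (m := 0) (n := 2 * d X) (by ring) hx
    (Submodule.smul_mem _ _ (one_mem T X)) ?_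
  intro b hb
  rw [top_eq T ha₀ h1 hb]
  simp only [mul_smul_comm, smul_mul_assoc, map_smul, one_mul, smul_eq_mul, h1]
  ring

lemma gr_zero_bijective (X : P.FullSubcategory) :
    Function.Bijective (fun c : K =>
      (⟨c • (1 : T.H X), (T.gr X 0).smul_mem c (SetLike.one_mem_graded (T.gr X))⟩ : ↥(T.gr X 0))) := by
  obtain ⟨a₀, ha₀, h1⟩ := exists_top T X
  constructor
  · intro c c' h
    have h' : c • (1 : T.H X) = c' • (1 : T.H X) := congrArg Subtype.val h
    have h2 : (c - c') • (1 : T.H X) = 0 := by rw [sub_smul, h', sub_self]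
    rcases smul_eq_zero.mp h2 with h3 | h3
    · exact sub_eq_zero.mp h3
    · exact absurd h3 (one_ne_zero' T X)
  · intro x
    exact ⟨T.tr X ((x : T.H X) * a₀), Subtype.ext (gr_zero_eq T ha₀ h1 x.2).symm⟩

/-- Projection formula. -/
lemma push_mul_pull {X Y : P.FullSubcategory} (f : X ⟶ Y) (i j : ℤ) (a : T.gr X i) (c : T.gr Y j) :
    (T.push f (i + j) ⟨(a : T.H X) * T.pull f c,
      SetLike.mul_mem_graded a.2 (T.pull_mem f j c c.2)⟩ : T.H Y) = (T.push f i a : T.H Y) * c := by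
  refine push_eq_of_tr T f (i + j) _ (m := (i + 2 * d Y - 2 * d X) + j) (by ring)
    (SetLike.mul_mem_graded (push_mem T f i a) c.2) ?_
  intro b hb
  rw [mul_assoc, tr_push_mul T f i a (b := (c : T.H Y) * b)
    (mem_of_eq T (by ring) (SetLike.mul_mem_graded c.2 hb)), map_mul (T.pull f), mul_assoc]

/-- Functoriality of push-forward. -/
lemma push_comp {X Y Z : P.FullSubcategory} (f : X ⟶ Y) (g : Y ⟶ Z) (i : ℤ) (a : T.gr X i) :
    (T.push (f ≫ g) i a : T.H Z) =
      (T.push g (i + 2 * d Y - 2 * d X) (T.push f i a) : T.H Z) := by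
  refine push_eq_of_tr T (f ≫ g) i a (m := (i + 2 * d Y - 2 * d X) + 2 * d Z - 2 * d Y) (by ring)
    (push_mem T g _ _) ?_
  intro b hb
  rw [tr_push_mul T g _ (T.push f i a) (b := b) (mem_of_eq T (by ring) hb),
    tr_push_mul T f i a (T.pull_mem g _ b hb), T.pull_comp]
  rfl

end Groth.Agent.Lib.Helper5.Misc.WeilLib
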