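import Mathlib
import Groth.Prelude.Def_WeilCoh
import Groth.Agent.Lib.Helper1.ProjSpaceLib
import Groth.Agent.Lib.Helper5.Misc.WeilLib

set_option autoImplicit false
universe u v w
open CategoryTheory AlgebraicGeometry
open WeilCoh

namespace Groth.Agent.Lib.Helper5.Misc.WeilPt

variable (k : Type u) [Field k]

/-- The point `Spec k` over itself. -/
noncomputable def ptObj : Over (Spec (CommRingCat.of k)) := Over.mk (𝟙 _)

lemma isIso_toBase_zero (S : Scheme.{u}) : IsIso (CohB1.ProjSpaceOver.toBase 0 S) := by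
  have := Groth.Agent.Helper1.ProjSpaceLib.isIso_toSpec_zero (ULift.{u} ℤ)
  exact inferInstanceAs (IsIso (Limits.pullback.snd (CohB1.ProjSpace.toSpec 0 (ULift.{u} ℤ))
    (specULiftZIsTerminal.from S)))

lemma isProjectiveOver_pt : Neron.IsProjectiveOver k (ptObj k) := by
  have h := isIso_toBase_zero (Spec (CommRingCat.of k))
  refine ⟨0, (show Spec (CommRingCat.of k) ⟶ CohB1.ProjSpaceOver 0 (Spec (CommRingCat.of k)) from
    @inv _ _ _ _ (CohB1.ProjSpaceOver.toBase 0 (Spec (CommRingCat.of k))) h), ?_, ?_⟩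
  · show IsClosedImmersion (@inv _ _ _ _ (CohB1.ProjSpaceOver.toBase 0 (Spec (CommRingCat.of k))) h)
    infer_instance
  · show @inv _ _ _ _ (CohB1.ProjSpaceOver.toBase 0 (Spec (CommRingCat.of k))) h ≫
      CohB1.ProjSpaceOver.toBase 0 (Spec (CommRingCat.of k)) = 𝟙 _
    exact IsIso.inv_hom_id _

lemma isVar_pt : IsVar k (ptObj k) := by
  refine ⟨?_, isProjectiveOver_pt k, ?_⟩
  · exact inferInstanceAs (Smooth (𝟙 (Spec (CommRingCat.of k))))
  · exact inferInstanceAs (IrreducibleSpace (PrimeSpectrum k))

/-- The point as an object of `Var k`. -/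
noncomputable def pt : Var k := ⟨ptObj k, isVar_pt k⟩

/-- The structure morphism to the point. -/
noncomputable def toPt (X : Var k) : X ⟶ pt k :=
  ObjectProperty.homMk (Over.homMk X.obj.hom (by simp [pt, ptObj]))

lemma sm_toPt (X : Var k) : sm (toPt k X) = X.obj.hom := rfl

instance : Subsingleton ↥(pt k).obj.left :=
  inferInstanceAs (Subsingleton (PrimeSpectrum k))

instance : Nonempty ↥(pt k).obj.left :=
  inferInstanceAs (Nonempty (PrimeSpectrum k))

lemma natDim_of_subsingleton (T : Type u) [TopologicalSpace T] [Subsingleton T] [Nonempty T] :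
    natDim T = 0 := by
  have h1 : topologicalKrullDim T ≤ 0 := by
    have : DiscreteTopology T := inferInstance
    exact topologicalKrullDim_zero_of_discreteTopology T
  have h2 : 0 ≤ topologicalKrullDim T := by
    unfold topologicalKrullDim
    obtain ⟨x⟩ := ‹Nonempty T›
    have : Nonempty (TopologicalSpace.IrreducibleCloseds T) :=
      ⟨⟨{x}, isIrreducible_singleton, isClosed_singleton⟩⟩
    exact Order.krullDim_nonneg
  have h3 : topologicalKrullDim T = 0 := le_antisymm h1 h2
  unfold natDim
  rw [h3]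
  rfl

lemma dim_pt : dim (pt k).obj.left = 0 := natDim_of_subsingleton _

end Groth.Agent.Lib.Helper5.Misc.WeilPt
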