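import Mathlib
import Groth.Prelude.Def_WeilCoh
import Groth.Agent.Lib.Helper2.Sch.Reduced
import Groth.Agent.Lib.Helper5.Misc.WeilPt

set_option autoImplicit false
universe u v w
open CategoryTheory AlgebraicGeometry
open WeilCoh

namespace Groth.Agent.Lib.Helper5.Misc.WeilGen

open Groth.Agent.Lib.Helper5.Misc.WeilPt

variable {k : Type u} [Field k]

instance (X : Var k) : Smooth X.obj.hom := X.property.1

instance (X : Var k) : IrreducibleSpace ↥X.obj.left := X.property.2.2

instance isReduced_var (X : Var k) : IsReduced X.obj.left := by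
  haveI : IsReduced (Spec (CommRingCat.of k)) := by
    rw [affine_isReduced_iff]
    exact inferInstanceAs (IsReduced k)
  exact Groth.Agent.Helper2.SchLib.isReduced_of_smooth X.obj.hom

instance isIntegral_var (X : Var k) : IsIntegral X.obj.left :=
  isIntegral_of_irreducibleSpace_of_isReduced _

/-- The stalk at the generic point of an integral scheme is a field. -/
lemma isField_stalk (X : Scheme.{u}) [IsIntegral X] (x : X) (hx : x = genericPoint X) :
    IsField (X.presheaf.stalk x) := by
  subst hx
  exact Field.toIsField X.functionField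

/-- In a field, the kernel of a ring map to a nontrivial ring is zero. -/
lemma ker_eq_bot_of_isField {A B : Type*} [CommRing A] [CommRing B] [Nontrivial B]
    (hA : IsField A) (φ : A →+* B) : RingHom.ker φ = ⊥ := by
  rw [eq_bot_iff]
  intro a ha
  rw [RingHom.mem_ker] at ha
  rw [Submodule.mem_bot]
  by_contra h0
  obtain ⟨b, hb⟩ := hA.mul_inv_cancel h0
  have : φ (a * b) = 0 := by rw [map_mul, ha, zero_mul]
  rw [hb, map_one] at this
  exact one_ne_zero this

lemma length_self_of_isField {A : Type*} [CommRing A] (hA : IsField A) : Module.length A A = 1 := by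
  letI := hA.toField
  exact Module.length_eq_one A A

lemma isCompPt_univ_iff (X : Scheme.{u}) [IrreducibleSpace ↥X] (w : X) :
    IsCompPt (Set.univ : Set X) w ↔ w = genericPoint X := by
  constructor
  · intro h
    exact (h.2 (genericPoint X) (Set.mem_univ _) (genericPoint_specializes w)).symm
  · rintro rfl
    refine ⟨Set.mem_univ _, fun w' _ hw' => ?_⟩
    exact ((genericPoint_specializes w').antisymm hw').eq.symm

lemma natDim_congr {T : Type u} [TopologicalSpace T] {s t : Set T} (h : s = t) :
    natDim ↥s = natDim ↥t := by subst h; rfl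

lemma natDim_univ (T : Type u) [TopologicalSpace T] : natDim ↥(Set.univ : Set T) = natDim T := by
  unfold natDim
  rw [(Homeomorph.Set.univ T).isHomeomorph.topologicalKrullDim_eq]

lemma pdim_genericPoint (X : Scheme.{u}) [IrreducibleSpace ↥X] :
    pdim X (genericPoint X) = dim X := by
  unfold pdim dim
  rw [natDim_congr (genericPoint_closure (α := ↥X)), natDim_univ]

lemma pdim_of_isClosed {X : Scheme.{u}} {x : X} (hx : IsClosed ({x} : Set X)) : pdim X x = 0 := by
  unfold pdim
  rw [natDim_congr hx.closure_eq]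
  haveI : Nonempty ↥({x} : Set X) := ⟨⟨x, rfl⟩⟩
  exact natDim_of_subsingleton _

lemma pdim_of_subsingleton {X : Scheme.{u}} [Subsingleton ↥X] (x : X) : pdim X x = 0 := by
  unfold pdim
  haveI : Nonempty ↥(closure ({x} : Set X)) := ⟨⟨x, subset_closure rfl⟩⟩
  exact natDim_of_subsingleton _

lemma preimMult_toPt (X : Var k) (ξ : ↥(pt k).obj.left) (w : ↥X.obj.left)
    (hw : w = genericPoint ↥X.obj.left)
    (h : sm (toPt k X) w ∈ closure ({ξ} : Set ↥(pt k).obj.left)) :
    preimMult (sm (toPt k X)) ξ w h = 1 := by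
  unfold preimMult
  have hker : RingHom.ker (Cyc.specMap (sm (toPt k X) w) ξ (specializes_iff_mem_closure.mpr h)) = ⊥ :=
    ker_eq_bot_of_isField
      (isField_stalk (pt k).obj.left (sm (toPt k X) w) (Subsingleton.elim _ _)) _
  rw [hker, Ideal.map_bot, (Submodule.quotEquivOfEqBot (⊥ : Ideal (X.obj.left.presheaf.stalk w)) rfl).length_eq,
    length_self_of_isField (isField_stalk X.obj.left w hw)]
  rfl

lemma preimage_toPt (X : Var k) (ξ : ↥(pt k).obj.left) :
    (sm (toPt k X)) ⁻¹' closure ({ξ} : Set ↥(pt k).obj.left) = Set.univ := by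
  ext w
  simp only [Set.mem_preimage, Set.mem_univ, iff_true]
  rw [Subsingleton.elim (sm (toPt k X) w) ξ]
  exact subset_closure rfl

/-- The class of the generic point is `1`. -/
theorem cl_genericPoint {K : Type v} [Field K] (T : TheoryOn.{u, v, w} k (IsVar k) K) (X : Var k) :
    T.cl X (genericPoint ↥X.obj.left) = 1 := by
  obtain ⟨ξ⟩ := (inferInstance : Nonempty ↥(pt k).obj.left)
  have hpre := preimage_toPt X ξ
  have hη : IsCompPt ((sm (toPt k X)) ⁻¹' closure ({ξ} : Set ↥(pt k).obj.left))
      (genericPoint ↥X.obj.left) := by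
    rw [hpre]; exact (isCompPt_univ_iff _ _).mpr rfl
  have hw_eq : ∀ w : ↥X.obj.left,
      IsCompPt ((sm (toPt k X)) ⁻¹' closure ({ξ} : Set ↥(pt k).obj.left)) w →
        w = genericPoint ↥X.obj.left := by
    intro w hw
    rw [hpre] at hw
    exact (isCompPt_univ_iff _ _).mp hw
  have h := T.cl_pull (toPt k X) ξ (by
      intro w hw
      rw [hw_eq w hw, pdim_genericPoint, pdim_of_subsingleton, dim_pt]
      simp) (Or.inr (by
      intro w hw
      exact preimMult_toPt X ξ w (hw_eq w hw) hw.1))
  rw [(T.point (pt k) (dim_pt k)).1 ξ, map_one] at h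
  rw [finsum_eq_single _ (⟨genericPoint ↥X.obj.left, hη⟩ :
      {w : ↥X.obj.left // IsCompPt ((sm (toPt k X)) ⁻¹' closure ({ξ} : Set ↥(pt k).obj.left)) w})
      (fun w hw => absurd (Subtype.ext (hw_eq w.1 w.2)) hw)] at h
  rw [preimMult_toPt X ξ _ rfl hη.1, Nat.cast_one, one_smul] at h
  exact h.symm

/-- The structure map `k → κ(x)`. -/
noncomputable def resStr (X : Var k) (x : ↥X.obj.left) :
    CommRingCat.of k ⟶ X.obj.left.residueField x :=
  Spec.preimage (X.obj.left.fromSpecResidueField x ≫ X.obj.hom)

lemma map_resStr (X : Var k) (x : ↥X.obj.left) :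
    Spec.map (resStr X x) = X.obj.left.fromSpecResidueField x ≫ X.obj.hom :=
  Spec.map_preimage _

lemma resStr_comp {X Y : Var k} (f : X ⟶ Y) (x : ↥X.obj.left) :
    resStr Y (sm f x) ≫ (sm f).residueFieldMap x = resStr X x := by
  apply Spec.map_injective
  rw [Spec.map_comp, map_resStr, map_resStr,
    Scheme.Hom.SpecMap_residueFieldMap_fromSpecResidueField_assoc]
  congr 1
  exact Over.w f.hom

lemma resStr_surjective [IsAlgClosed k] (X : Var k) (x : ↥X.obj.left)
    (hx : IsClosed ({x} : Set ↥X.obj.left)) : Function.Surjective (resStr X x).hom := by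
  haveI := isClosed_singleton_iff_isClosedImmersion.mp hx
  haveI : IsFinite (Spec.map (resStr X x)) := by
    rw [map_resStr]
    exact isFinite_iff_locallyOfFiniteType_of_jacobsonSpace.mpr inferInstance
  have h1 : (resStr X x).hom.Finite := (IsFinite.SpecMap_iff (resStr X x)).mp inferInstance
  exact IsAlgClosed.ringHom_bijective_of_isIntegral _ h1.to_isIntegral |>.2

lemma residueDegree_of_isClosed [IsAlgClosed k] {X Y : Var k} (f : X ⟶ Y) (x : ↥X.obj.left)
    (hx : IsClosed ({x} : Set ↥X.obj.left)) : (sm f).residueDegree x = 1 := by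
  have hs : Function.Surjective ((sm f).residueFieldMap x).hom := by
    intro a
    obtain ⟨c, hc⟩ := resStr_surjective X x hx a
    refine ⟨(resStr Y (sm f x)).hom c, ?_⟩
    rw [← hc, ← resStr_comp f x]
    rfl
  unfold Scheme.Hom.residueDegree
  letI := ((sm f).residueFieldMap x).hom.toAlgebra
  have e : (Y.obj.left.residueField (sm f x)) ≃ₗ[Y.obj.left.residueField (sm f x)]
      (X.obj.left.residueField x) :=
    LinearEquiv.ofBijective (Algebra.linearMap _ _)
      ⟨((sm f).residueFieldMap x).hom.injective, hs⟩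
  rw [← e.finrank_eq, Module.finrank_self]

open Groth.Agent.Lib.Helper5.Misc.WeilLib in
/-- The trace of the class of a closed point is `1`. -/
theorem tr_cl_closedPoint [IsAlgClosed k] {K : Type v} [Field K]
    (T : TheoryOn.{u, v, w} k (IsVar k) K) (X : Var k) (x : ↥X.obj.left)
    (hx : IsClosed ({x} : Set ↥X.obj.left)) : T.tr X (T.cl X x) = 1 := by
  have h := T.cl_push (toPt k X) x 1 (by
    rw [pdim_of_isClosed hx]; simpa using one_mem T (pt k))
  rw [map_one, mul_one, residueDegree_of_isClosed _ x hx, (T.point (pt k) (dim_pt k)).1, mul_one,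
    (T.point (pt k) (dim_pt k)).2] at h
  simpa using h

/-- Trace and pull-back along a dominant morphism of varieties of the same dimension. -/
theorem tr_pull_of_dominant {K : Type v} [Field K]
    (T : TheoryOn.{u, v, w} k (IsVar k) K) {X Y : Var k} (f : X ⟶ Y)
    (hdom : sm f (genericPoint ↥X.obj.left) = genericPoint ↥Y.obj.left)
    (hdim : dim X.obj.left = dim Y.obj.left) (a : T.H Y)
    (ha : a ∈ T.gr Y (2 * (dim Y.obj.left : ℤ))) :
    T.tr X (T.pull f a) = ((sm f).residueDegree (genericPoint ↥X.obj.left) : K) * T.tr Y a := by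
  have h := T.cl_push f (genericPoint ↥X.obj.left) a (by rw [pdim_genericPoint, hdim]; exact ha)
  rw [cl_genericPoint, one_mul, hdom, cl_genericPoint, one_mul] at h
  exact h

end Groth.Agent.Lib.Helper5.Misc.WeilGen
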