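import Mathlib
import Groth.Prelude.Def_WeilCoh
import Groth.Agent.Lib.Helper5.Misc.WeilGen
import Groth.Agent.Lib.Helper8.TopDim2

set_option autoImplicit false
universe u v w
open CategoryTheory AlgebraicGeometry
open WeilCoh

namespace Groth.Agent.Lib.Helper5.Misc.WeilGeo

open Groth.Agent.Lib.Helper5.Misc.WeilPt Groth.Agent.Lib.Helper5.Misc.WeilGen

section Proj

variable (n : ℕ) (R : Type u) [CommRing R]

instance finiteType_poly :
    Algebra.FiniteType (CohB1.polyGrading n R 0) (MvPolynomial (Fin (n + 1)) R) := by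
  classical
  refine ⟨⟨Finset.univ.image MvPolynomial.X, ?_⟩⟩
  rw [eq_top_iff]
  intro p _
  clear ‹p ∈ ⊤›
  induction p using MvPolynomial.induction_on with
  | C r =>
    have : (MvPolynomial.C r : MvPolynomial (Fin (n + 1)) R) =
        algebraMap (CohB1.polyGrading n R 0) _
          ⟨MvPolynomial.C r, MvPolynomial.isHomogeneous_C _ r⟩ := rfl
    rw [this]; exact Subalgebra.algebraMap_mem _ _
  | add p q hp hq => exact Subalgebra.add_mem _ hp hq
  | mul_X p i hp => exact Subalgebra.mul_mem _ hp (Algebra.subset_adjoin (by simp))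

instance isSeparated_toSpec : IsSeparated (CohB1.ProjSpace.toSpec n R) :=
  inferInstanceAs (IsSeparated (Proj.toSpecZero (CohB1.polyGrading n R) ≫
    Spec.map (CommRingCat.ofHom (algebraMap R (CohB1.polyGrading n R 0)))))

instance quasiCompact_toSpec : QuasiCompact (CohB1.ProjSpace.toSpec n R) :=
  inferInstanceAs (QuasiCompact (Proj.toSpecZero (CohB1.polyGrading n R) ≫
    Spec.map (CommRingCat.ofHom (algebraMap R (CohB1.polyGrading n R 0)))))

instance isSeparated_toBase (S : Scheme.{u}) : IsSeparated (CohB1.ProjSpaceOver.toBase n S) :=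
  inferInstanceAs (IsSeparated (Limits.pullback.snd (CohB1.ProjSpace.toSpec n (ULift.{u} ℤ))
    (specULiftZIsTerminal.from S)))

instance quasiCompact_toBase (S : Scheme.{u}) : QuasiCompact (CohB1.ProjSpaceOver.toBase n S) :=
  inferInstanceAs (QuasiCompact (Limits.pullback.snd (CohB1.ProjSpace.toSpec n (ULift.{u} ℤ))
    (specULiftZIsTerminal.from S)))

end Proj

variable {k : Type u} [Field k]

instance isSeparated_hom (X : Var k) : IsSeparated X.obj.hom := by
  obtain ⟨n, i, hi, hcomp⟩ := X.property.2.1
  rw [← hcomp]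
  infer_instance

instance quasiCompact_hom (X : Var k) : QuasiCompact X.obj.hom := by
  obtain ⟨n, i, hi, hcomp⟩ := X.property.2.1
  rw [← hcomp]
  infer_instance

instance compactSpace_var (X : Var k) : CompactSpace ↥X.obj.left :=
  QuasiCompact.compactSpace_of_compactSpace X.obj.hom

instance isSeparated_sm {X Y : Var k} (f : X ⟶ Y) : IsSeparated (sm f) := by
  haveI : IsSeparated (sm f ≫ Y.obj.hom) := by
    have : sm f ≫ Y.obj.hom = X.obj.hom := Over.w f.hom
    rw [this]; infer_instance
  exact IsSeparated.of_comp (sm f) Y.obj.hom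

section FiniteDim

lemma ringKrullDim_lt_top_of_finiteType {F A : Type u} [Field F] [CommRing A] (φ : F →+* A)
    (hφ : φ.FiniteType) : ringKrullDim A < ⊤ := by
  letI := φ.toAlgebra
  have hft : Algebra.FiniteType F A := hφ
  obtain ⟨n, f, hf⟩ := Algebra.FiniteType.iff_quotient_mvPolynomial''.mp hft
  have h1 := ringKrullDim_le_of_surjective (f : MvPolynomial (Fin n) F →+* A) hf
  have h2 : ringKrullDim (MvPolynomial (Fin n) F) = ringKrullDim F + Nat.card (Fin n) :=
    MvPolynomial.ringKrullDim_of_isNoetherianRing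
  rw [h2, ringKrullDim_eq_zero_of_field, zero_add] at h1
  exact lt_of_le_of_lt h1 (WithBot.coe_lt_coe.mpr (ENat.natCast_lt_top _))

lemma exists_nat_of_lt_top {a : WithBot ℕ∞} (h : a < ⊤) : ∃ N : ℕ, a ≤ (N : WithBot ℕ∞) := by
  induction a using WithBot.recBotCoe with
  | bot => exact ⟨0, bot_le⟩
  | coe a =>
    have h' : a < ⊤ := WithBot.coe_lt_coe.mp h
    obtain ⟨m, rfl⟩ := ENat.ne_top_iff_exists.mp h'.ne
    exact ⟨m, le_rfl⟩

/-- A quasi-compact scheme locally of finite type over a field has finite dimension. -/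
lemma dim_lt_top_of_finiteType {X : Scheme.{u}} (f : X ⟶ Spec (CommRingCat.of k))
    [LocallyOfFiniteType f] [CompactSpace ↥X] : topologicalKrullDim ↥X < ⊤ := by
  let 𝒰 := X.affineCover.finiteSubcover
  have hcov : ⨆ i, (𝒰.f i).opensRange = ⊤ := 𝒰.iSup_opensRange
  rw [Groth.Agent.Helper8.TopDim2.dim_eq_iSup_of_open_cover ↥X (fun i => (𝒰.f i).opensRange) hcov]
  have hfin : ∀ i, topologicalKrullDim ↥((𝒰.f i).opensRange) < ⊤ := by
    intro i
    have hU : IsAffineOpen (𝒰.f i).opensRange := isAffineOpen_opensRange _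
    have e1 : topologicalKrullDim ↥((𝒰.f i).opensRange) =
        ringKrullDim Γ(X, (𝒰.f i).opensRange) := by
      rw [← PrimeSpectrum.topologicalKrullDim_eq_ringKrullDim]
      exact IsHomeomorph.topologicalKrullDim_eq _ hU.isoSpec.hom.homeomorph.isHomeomorph
    rw [e1]
    have h1 : (f.appLE ⊤ (𝒰.f i).opensRange le_top).hom.FiniteType :=
      LocallyOfFiniteType.finiteType_appLE f (isAffineOpen_top _) hU _
    have h2 : ((Scheme.ΓSpecIso (CommRingCat.of k)).inv ≫
        f.appLE ⊤ (𝒰.f i).opensRange le_top).hom.FiniteType := by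
      rw [CommRingCat.hom_comp]
      refine h1.comp (RingHom.FiniteType.of_surjective _ ?_)
      exact ((ConcreteCategory.isIso_iff_bijective
        (Scheme.ΓSpecIso (CommRingCat.of k)).inv).mp inferInstance).2
    exact ringKrullDim_lt_top_of_finiteType _ h2
  choose N hN using fun i => exists_nat_of_lt_top (hfin i)
  haveI : Finite 𝒰.I₀ := inferInstance
  haveI := Fintype.ofFinite 𝒰.I₀
  refine lt_of_le_of_lt (iSup_le (fun i => le_trans (hN i) ?_))
    (WithBot.coe_lt_coe.mpr (ENat.natCast_lt_top (Finset.univ.sup N)))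
  exact_mod_cast Finset.le_sup (f := N) (Finset.mem_univ i)

lemma dim_lt_top (X : Var k) : topologicalKrullDim ↥X.obj.left < ⊤ :=
  dim_lt_top_of_finiteType X.obj.hom

end FiniteDim

section Dims

lemma natDim_le_of_le {S T : Type u} [TopologicalSpace S] [TopologicalSpace T]
    (h : topologicalKrullDim S ≤ topologicalKrullDim T) (hT : topologicalKrullDim T < ⊤) :
    natDim S ≤ natDim T := by
  unfold natDim
  apply ENat.toNat_le_toNat
  · generalize topologicalKrullDim S = a at h
    generalize topologicalKrullDim T = b at h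
    induction a using WithBot.recBotCoe with
    | bot => simp
    | coe a =>
      induction b using WithBot.recBotCoe with
      | bot => exact absurd h (by simp)
      | coe b => exact WithBot.coe_le_coe.mp h
  · generalize topologicalKrullDim T = b at hT
    induction b using WithBot.recBotCoe with
    | bot => simp
    | coe b => exact (WithBot.coe_lt_coe.mp hT).ne

lemma pdim_le_dim (X : Var k) (ξ : ↥X.obj.left) : pdim X.obj.left ξ ≤ dim X.obj.left :=
  natDim_le_of_le (topologicalKrullDim_subspace_le _ _) (dim_lt_top X)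

lemma natDim_homeomorph {S T : Type u} [TopologicalSpace S] [TopologicalSpace T] (e : S ≃ₜ T) :
    natDim S = natDim T := by
  unfold natDim
  rw [e.isHomeomorph.topologicalKrullDim_eq]

lemma pdim_closedEmbedding {X P : Scheme.{u}} (j : X ⟶ P) (hj : Topology.IsClosedEmbedding j)
    (x : X) : pdim P (j x) = pdim X x := by
  unfold pdim
  have h1 : closure ({j x} : Set P) = j '' closure ({x} : Set X) := by
    rw [← Set.image_singleton, hj.closure_image_eq]
  rw [natDim_congr h1]
  exact (natDim_homeomorph (hj.isEmbedding.homeomorphImage _)).symm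

end Dims

section Sections

lemma residueFieldMap_surjective_of_eq_id {X : Scheme.{u}} (g : X ⟶ X) (hg : g = 𝟙 X) (x : X) :
    Function.Surjective (g.residueFieldMap x).hom := by
  subst hg
  rw [Scheme.residueFieldMap_id]
  exact fun a => ⟨a, rfl⟩

lemma residueDegree_eq_one_of_surjective {X Y : Scheme.{u}} (f : X ⟶ Y) (x : X)
    (hs : Function.Surjective (f.residueFieldMap x).hom) : f.residueDegree x = 1 := by
  unfold Scheme.Hom.residueDegree
  letI := (f.residueFieldMap x).hom.toAlgebra
  have e : (Y.residueField (f x)) ≃ₗ[Y.residueField (f x)] (X.residueField x) :=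
    LinearEquiv.ofBijective (Algebra.linearMap _ _) ⟨(f.residueFieldMap x).hom.injective, hs⟩
  rw [← e.finrank_eq, Module.finrank_self]

lemma residueDegree_section {X P : Scheme.{u}} (j : X ⟶ P) (p : P ⟶ X) (h : j ≫ p = 𝟙 X) (x : X) :
    j.residueDegree x = 1 := by
  apply residueDegree_eq_one_of_surjective
  have h1 := residueFieldMap_surjective_of_eq_id (j ≫ p) h x
  rw [Scheme.residueFieldMap_comp] at h1
  intro a
  obtain ⟨b, hb⟩ := h1 a
  exact ⟨(p.residueFieldMap (j x)).hom b, hb⟩

lemma isClosedImmersion_section {X P : Var k} (j : X ⟶ P) (p : P ⟶ X) (h : j ≫ p = 𝟙 X) :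
    IsClosedImmersion (sm j) := by
  have h' : sm j ≫ sm p = 𝟙 _ := congrArg (fun φ => sm φ) h
  haveI : IsClosedImmersion (sm j ≫ sm p) := by rw [h']; infer_instance
  exact IsClosedImmersion.of_comp (sm j) (sm p)

end Sections

end Groth.Agent.Lib.Helper5.Misc.WeilGeo
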