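import Mathlib
import Groth.Agent.S2536

open TensorProduct

namespace Groth.Agent.Lib.Helper5.Misc.HopfNil

universe u

theorem isReduced_tensor_of_perfect' (k : Type*) [Field k] [PerfectField k]
    (A B : Type*) [CommRing A] [Algebra k A] [IsReduced A] [CommRing B] [Algebra k B] [IsReduced B] :
    IsReduced (A ⊗[k] B) := by
  refine Groth.Agent.S2536.isReduced_tensor_of_residueFields A B fun p => ?_
  have : IsReduced (B ⊗[k] p.asIdeal.ResidueField) :=
    Groth.Agent.S2536.isReduced_tensor_of_perfect k B p.asIdeal.ResidueField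
  exact isReduced_of_injective
    (Algebra.TensorProduct.comm k p.asIdeal.ResidueField B).toRingEquiv.toRingHom
    (Algebra.TensorProduct.comm k p.asIdeal.ResidueField B).injective

theorem nilradical_isHopfIdeal (k : Type u) [Field k] [PerfectField k] (A : Type u) [CommRing A]
    [HopfAlgebra k A] : (nilradical A).IsHopfIdeal k := by
  set N := nilradical A with hN
  have hmem : ∀ x : A, x ∈ N ↔ IsNilpotent x := fun x => mem_nilradical
  let q : A →ₐ[k] A ⧸ N := Ideal.Quotient.mkₐ k N
  have : IsReduced (A ⧸ N) :=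
    (Ideal.isRadical_iff_quotient_reduced N).1 (Ideal.radical_isRadical ⊥)
  have : IsReduced ((A ⧸ N) ⊗[k] (A ⧸ N)) := isReduced_tensor_of_perfect' k _ _
  have hex : Function.Exact (N.restrictScalars k).subtype q.toLinearMap := by
    intro y
    constructor
    · intro hy
      have : y ∈ N := (Ideal.Quotient.eq_zero_iff_mem).1 hy
      exact ⟨⟨y, this⟩, rfl⟩
    · rintro ⟨z, rfl⟩
      exact (Ideal.Quotient.eq_zero_iff_mem).2 z.2
  have hsurj : Function.Surjective q.toLinearMap := Ideal.Quotient.mk_surjective
  rw [Ideal.isHopfIdeal_iff, Submodule.isCoideal_iff_comul_mem]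
  refine ⟨⟨?_, ?_⟩, ?_⟩
  · intro x hx
    have hx' : IsNilpotent x := (hmem x).1 hx
    have : IsNilpotent (Bialgebra.counitAlgHom k A x) := hx'.map _
    exact this.eq_zero
  · intro x hx
    have hx' : IsNilpotent x := (hmem x).1 hx
    rw [← TensorProduct.map_ker hex hsurj hex hsurj, LinearMap.mem_ker]
    have h1 : IsNilpotent (Bialgebra.comulAlgHom k A x) := hx'.map _
    have h2 : IsNilpotent (Algebra.TensorProduct.map q q (Bialgebra.comulAlgHom k A x)) := h1.map _
    exact h2.eq_zero
  · intro x hx
    have hx' : IsNilpotent x := (hmem x).1 hx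
    have : IsNilpotent (HopfAlgebra.antipodeAlgHom k A x) := hx'.map _
    exact (hmem _).2 this

end Groth.Agent.Lib.Helper5.Misc.HopfNil
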