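import Mathlib
import Groth.Prelude.Def_DescFam

set_option autoImplicit false
universe w'' w' w u
open CategoryTheory CategoryTheory.Limits AlgebraicGeometry Opposite Desc

namespace Groth.Agent.Lib.Helper5.DescFam

section Lifts

variable {Y : Scheme.{u}}

/-- the universal point of a scheme over `Y` -/
def univ (V : Over Y) : Lifts V V.hom := ⟨𝟙 _, Category.id_comp _⟩

@[simp] lemma univ_val (V : Over Y) : (univ V).1 = 𝟙 _ := rfl

/-- restriction of a point along `g`. -/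
def res {V : Over Y} {T T' : Scheme.{u}} (g : T' ⟶ T) {x : T ⟶ Y} (v : Lifts V x)
    {y : T' ⟶ Y} (hy : g ≫ x = y) : Lifts V y :=
  ⟨g ≫ v.1, by rw [Category.assoc, v.2, hy]⟩

@[simp] lemma res_val {V : Over Y} {T T' : Scheme.{u}} (g : T' ⟶ T) {x : T ⟶ Y} (v : Lifts V x)
    {y : T' ⟶ Y} (hy : g ≫ x = y) : (res g v hy).1 = g ≫ v.1 := rfl

lemma equiv_symm_nat {Y' : Scheme.{u}} {V : Over Y} {V' : Over Y'} {T T' : Scheme.{u}}
    (g : T' ⟶ T) {x : T ⟶ Y} {y : T' ⟶ Y} {x' : T ⟶ Y'} {y' : T' ⟶ Y'} (hy : g ≫ x = y)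
    (e : Lifts V x ≃ Lifts V' x') (e' : Lifts V y ≃ Lifts V' y')
    (nat : ∀ (v : Lifts V x) (v' : Lifts V y), v'.1 = g ≫ v.1 → (e' v').1 = g ≫ (e v).1)
    (w : Lifts V' x') (w' : Lifts V' y') (hw : w'.1 = g ≫ w.1) :
    (e'.symm w').1 = g ≫ (e.symm w).1 := by
  have h1 := nat (e.symm w) (res g (e.symm w) hy) rfl
  rw [Equiv.apply_symm_apply, ← hw] at h1
  have h2 : e' (res g (e.symm w) hy) = w' := Subtype.ext h1
  rw [← h2, Equiv.symm_apply_apply]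
  rfl

end Lifts

section Basic

variable {S : Scheme.{u}} {ι : Type w} {X : ι → Scheme.{u}} {f : ∀ i, X i ⟶ S}

@[simp] lemma push_val {D D' : SchDDFam f} (a : D ⟶ D') {T : Scheme.{u}} {i : ι} {x : T ⟶ X i}
    (v : Lifts (D.obj i) x) : (SchDDFam.Hom.push a v).1 = v.1 ≫ (a.hom i).left := rfl

lemma push_φ {D D' : SchDDFam f} (a : D ⟶ D') {T : Scheme.{u}} {i j : ι} (x₀ : T ⟶ X i)
    (x₁ : T ⟶ X j) (h : x₀ ≫ f i = x₁ ≫ f j) (v : Lifts (D.obj i) x₀) :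
    D'.φ x₀ x₁ h (SchDDFam.Hom.push a v) = SchDDFam.Hom.push a (D.φ x₀ x₁ h v) :=
  Subtype.ext (a.comm x₀ x₁ h v (SchDDFam.Hom.push a v) rfl)

lemma push_comp {D D' D'' : SchDDFam f} (a : D ⟶ D') (b : D' ⟶ D'') {T : Scheme.{u}} {i : ι}
    {x : T ⟶ X i} (v : Lifts (D.obj i) x) :
    SchDDFam.Hom.push (a ≫ b) v = SchDDFam.Hom.push b (SchDDFam.Hom.push a v) :=
  Subtype.ext (by simp)

lemma push_id {D : SchDDFam f} {T : Scheme.{u}} {i : ι}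
    {x : T ⟶ X i} (v : Lifts (D.obj i) x) :
    SchDDFam.Hom.push (𝟙 D) v = v :=
  Subtype.ext (by simp)

lemma push_nat {D D' : SchDDFam f} (a : D ⟶ D') {T T' : Scheme.{u}} (g : T' ⟶ T) {i : ι}
    {x : T ⟶ X i} {y : T' ⟶ X i} (v : Lifts (D.obj i) x) (v' : Lifts (D.obj i) y)
    (hv : v'.1 = g ≫ v.1) :
    (SchDDFam.Hom.push a v').1 = g ≫ (SchDDFam.Hom.push a v).1 := by
  simp [hv]

lemma hom_ext_push {D D' : SchDDFam f} {a b : D ⟶ D'}
    (h : ∀ i, SchDDFam.Hom.push a (univ (D.obj i)) = SchDDFam.Hom.push b (univ (D.obj i))) :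
    a = b := by
  apply SchDDFam.hom_ext
  funext i
  apply Over.OverMorphism.ext
  have := congrArg Subtype.val (h i)
  simpa using this

/-- A morphism of descent data given on points. -/
structure PtMap (D D' : SchDDFam f) where
  m : ∀ ⦃T : Scheme.{u}⦄ ⦃i : ι⦄ (x : T ⟶ X i), Lifts (D.obj i) x → Lifts (D'.obj i) x
  nat : ∀ ⦃T T' : Scheme.{u}⦄ (g : T' ⟶ T) ⦃i : ι⦄ (x : T ⟶ X i) (y : T' ⟶ X i)
    (v : Lifts (D.obj i) x) (v' : Lifts (D.obj i) y), v'.1 = g ≫ v.1 → (m y v').1 = g ≫ (m x v).1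
  comm : ∀ ⦃T : Scheme.{u}⦄ ⦃i j : ι⦄ (x₀ : T ⟶ X i) (x₁ : T ⟶ X j) (h : x₀ ≫ f i = x₁ ≫ f j)
    (v : Lifts (D.obj i) x₀), m x₁ (D.φ x₀ x₁ h v) = D'.φ x₀ x₁ h (m x₀ v)

lemma PtMap.m_val {D D' : SchDDFam f} (M : PtMap D D') {T : Scheme.{u}} {i : ι} (x : T ⟶ X i)
    (v : Lifts (D.obj i) x) :
    (M.m x v).1 = v.1 ≫ (M.m (D.obj i).hom (univ _)).1 :=
  M.nat v.1 (D.obj i).hom x (univ _) v (by simp)

/-- The morphism of descent data attached to a map on points. -/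
def PtMap.toHom {D D' : SchDDFam f} (M : PtMap D D') : D ⟶ D' where
  hom i := Over.homMk (M.m (D.obj i).hom (univ _)).1 (M.m _ _).2
  comm T i j x₀ x₁ h v w hw := by
    have ew : w = M.m x₀ v := Subtype.ext (hw.trans (M.m_val x₀ v).symm)
    rw [ew, ← M.comm]
    exact M.m_val x₁ _

lemma PtMap.toHom_push {D D' : SchDDFam f} (M : PtMap D D') {T : Scheme.{u}} {i : ι}
    (x : T ⟶ X i) (v : Lifts (D.obj i) x) : SchDDFam.Hom.push M.toHom v = M.m x v :=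
  Subtype.ext (M.m_val x v).symm

/-- An isomorphism of descent data given on points. -/
structure PtEquiv (D D' : SchDDFam f) where
  e : ∀ ⦃T : Scheme.{u}⦄ ⦃i : ι⦄ (x : T ⟶ X i), Lifts (D.obj i) x ≃ Lifts (D'.obj i) x
  nat : ∀ ⦃T T' : Scheme.{u}⦄ (g : T' ⟶ T) ⦃i : ι⦄ (x : T ⟶ X i) (y : T' ⟶ X i)
    (v : Lifts (D.obj i) x) (v' : Lifts (D.obj i) y), v'.1 = g ≫ v.1 → (e y v').1 = g ≫ (e x v).1
  comm : ∀ ⦃T : Scheme.{u}⦄ ⦃i j : ι⦄ (x₀ : T ⟶ X i) (x₁ : T ⟶ X j) (h : x₀ ≫ f i = x₁ ≫ f j)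
    (v : Lifts (D.obj i) x₀), e x₁ (D.φ x₀ x₁ h v) = D'.φ x₀ x₁ h (e x₀ v)

def PtEquiv.toPtMap {D D' : SchDDFam f} (E : PtEquiv D D') : PtMap D D' where
  m _ _ x := E.e x
  nat := E.nat
  comm := E.comm

def PtEquiv.symm {D D' : SchDDFam f} (E : PtEquiv D D') : PtEquiv D' D where
  e T i x := (E.e x).symm
  nat T T' g i x y w w' hw := by
    have hy : g ≫ x = y := by
      rw [← w.2, ← w'.2, hw, Category.assoc]
    exact equiv_symm_nat g hy (E.e x) (E.e y) (fun v v' hv => E.nat g x y v v' hv) w w' hw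
  comm T i j x₀ x₁ h w := by
    apply (E.e x₁).injective
    rw [Equiv.apply_symm_apply, E.comm, Equiv.apply_symm_apply]

/-- The isomorphism of descent data attached to bijections on points. -/
def PtEquiv.toIso {D D' : SchDDFam f} (E : PtEquiv D D') : D ≅ D' where
  hom := E.toPtMap.toHom
  inv := E.symm.toPtMap.toHom
  hom_inv_id := by
    apply hom_ext_push
    intro i
    rw [push_comp, PtMap.toHom_push, PtMap.toHom_push, push_id]
    exact (E.e _).symm_apply_apply _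
  inv_hom_id := by
    apply hom_ext_push
    intro i
    rw [push_comp, PtMap.toHom_push, PtMap.toHom_push, push_id]
    exact (E.e _).apply_symm_apply _

lemma PtEquiv.toIso_hom_push {D D' : SchDDFam f} (E : PtEquiv D D') {T : Scheme.{u}} {i : ι}
    (x : T ⟶ X i) (v : Lifts (D.obj i) x) : SchDDFam.Hom.push E.toIso.hom v = E.e x v :=
  PtMap.toHom_push _ x v

end Basic


section Pull

variable {S : Scheme.{u}} {ι : Type w} {X : ι → Scheme.{u}} {f : ∀ i, X i ⟶ S}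
variable {S' : Scheme.{u}} {ι' : Type w'} {X' : ι' → Scheme.{u}} {f' : ∀ j, X' j ⟶ S'}

/-- `H` is a "pullback-type" functor along the map on points `Q`. -/
structure PullData (H : SchDDFam f ⥤ SchDDFam f') (β : ι' → ι)
    (Q : ∀ ⦃T : Scheme.{u}⦄ ⦃j : ι'⦄, (T ⟶ X' j) → (T ⟶ X (β j))) where
  Q_nat : ∀ ⦃T T' : Scheme.{u}⦄ (g : T' ⟶ T) ⦃j : ι'⦄ (x : T ⟶ X' j), Q (g ≫ x) = g ≫ Q x
  compat : ∀ ⦃T : Scheme.{u}⦄ ⦃j₀ j₁ : ι'⦄ (x₀ : T ⟶ X' j₀) (x₁ : T ⟶ X' j₁),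
    x₀ ≫ f' j₀ = x₁ ≫ f' j₁ → Q x₀ ≫ f (β j₀) = Q x₁ ≫ f (β j₁)
  E : ∀ (D : SchDDFam f) ⦃T : Scheme.{u}⦄ ⦃j : ι'⦄ (x : T ⟶ X' j),
    Lifts ((H.obj D).obj j) x ≃ Lifts (D.obj (β j)) (Q x)
  E_nat : ∀ (D : SchDDFam f) ⦃T T' : Scheme.{u}⦄ (g : T' ⟶ T) ⦃j : ι'⦄ (x : T ⟶ X' j)
    (y : T' ⟶ X' j) (v : Lifts ((H.obj D).obj j) x) (v' : Lifts ((H.obj D).obj j) y),
    v'.1 = g ≫ v.1 → (E D y v').1 = g ≫ (E D x v).1
  E_φ : ∀ (D : SchDDFam f) ⦃T : Scheme.{u}⦄ ⦃j₀ j₁ : ι'⦄ (x₀ : T ⟶ X' j₀) (x₁ : T ⟶ X' j₁)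
    (h : x₀ ≫ f' j₀ = x₁ ≫ f' j₁) (v : Lifts ((H.obj D).obj j₀) x₀),
    E D x₁ ((H.obj D).φ x₀ x₁ h v) = D.φ (Q x₀) (Q x₁) (compat x₀ x₁ h) (E D x₀ v)
  E_map : ∀ {D D' : SchDDFam f} (b : D ⟶ D') ⦃T : Scheme.{u}⦄ ⦃j : ι'⦄ (x : T ⟶ X' j)
    (v : Lifts ((H.obj D).obj j) x),
    E D' x (SchDDFam.Hom.push (H.map b) v) = SchDDFam.Hom.push b (E D x v)

lemma hom_eq_of_lifts {Y : Scheme.{u}} {V : Over Y} {T T' : Scheme.{u}} (g : T' ⟶ T)
    {x : T ⟶ Y} {y : T' ⟶ Y} (v : Lifts V x) (v' : Lifts V y) (hv : v'.1 = g ≫ v.1) :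
    g ≫ x = y := by
  rw [← v.2, ← v'.2, hv, Category.assoc]

@[simp] lemma liftsPullbackEquiv_apply_val {Y Y' : Scheme.{u}} (V : Over Y) (q : Y' ⟶ Y)
    {T : Scheme.{u}} (x : T ⟶ Y') (v : Lifts (Over.mk (pullback.snd V.hom q)) x) :
    (liftsPullbackEquiv V q x v).1 = v.1 ≫ pullback.fst V.hom q := rfl

@[simp] lemma liftsPullbackEquiv_symm_apply_val {Y Y' : Scheme.{u}} (V : Over Y) (q : Y' ⟶ Y)
    {T : Scheme.{u}} (x : T ⟶ Y') (u : Lifts V (x ≫ q)) :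
    ((liftsPullbackEquiv V q x).symm u).1 = pullback.lift u.1 x u.2 := rfl

/-- The pullback functor is of pullback type. -/
noncomputable def pullData {α : ι' → ι} {p : S' ⟶ S} {p' : ∀ j, X' j ⟶ X (α j)}
    (w : ∀ j, p' j ≫ f (α j) = f' j ≫ p) :
    PullData (pullDDFam w) α (fun _ j x => x ≫ p' j) where
  Q_nat _ _ g j x := Category.assoc _ _ _
  compat _ _ _ x₀ x₁ h := pull_compat w x₀ x₁ h
  E D _ j x := liftsPullbackEquiv (D.obj (α j)) (p' j) x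
  E_nat D T T' g j x y v v' hv := by
    change v'.1 ≫ pullback.fst _ _ = g ≫ (v.1 ≫ pullback.fst _ _)
    rw [hv, Category.assoc]
  E_φ D T j₀ j₁ x₀ x₁ h v := by
    change liftsPullbackEquiv (D.obj (α j₁)) (p' j₁) x₁
      (((liftsPullbackEquiv (D.obj (α j₀)) (p' j₀) x₀).trans
        ((D.φ (x₀ ≫ p' j₀) (x₁ ≫ p' j₁) (pull_compat w x₀ x₁ h)).trans
          (liftsPullbackEquiv (D.obj (α j₁)) (p' j₁) x₁).symm)) v) = _
    rw [Equiv.trans_apply, Equiv.trans_apply, Equiv.apply_symm_apply]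
    rfl
  E_map {D D'} b T j x v := by
    apply Subtype.ext
    change (v.1 ≫ (((pullDDFam w).map b).hom j).left) ≫ pullback.fst _ _ =
      (v.1 ≫ pullback.fst _ _) ≫ (b.hom (α j)).left
    rw [Category.assoc, Category.assoc]
    congr 1
    exact pullback.lift_fst _ _ _

/-- The identity functor is of pullback type. -/
def idData : PullData (𝟭 (SchDDFam f)) id (fun _ _ x => x) where
  Q_nat _ _ _ _ _ := rfl
  compat _ _ _ _ _ h := h
  E _ _ _ _ := Equiv.refl _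
  E_nat _ _ _ _ _ _ _ _ _ hv := hv
  E_φ _ _ _ _ _ _ _ _ := rfl
  E_map _ _ _ _ _ := rfl

variable {S'' : Scheme.{u}} {ι'' : Type w''} {X'' : ι'' → Scheme.{u}} {f'' : ∀ j, X'' j ⟶ S''}

/-- Composites of functors of pullback type are of pullback type. -/
def PullData.comp {H : SchDDFam f ⥤ SchDDFam f'} {β : ι' → ι}
    {Q : ∀ ⦃T : Scheme.{u}⦄ ⦃j : ι'⦄, (T ⟶ X' j) → (T ⟶ X (β j))} (P : PullData H β Q)
    {H' : SchDDFam f' ⥤ SchDDFam f''} {β' : ι'' → ι'}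
    {Q' : ∀ ⦃T : Scheme.{u}⦄ ⦃j : ι''⦄, (T ⟶ X'' j) → (T ⟶ X' (β' j))} (P' : PullData H' β' Q') :
    PullData (H ⋙ H') (fun j => β (β' j)) (fun _ _ x => Q (Q' x)) where
  Q_nat T T' g j x := by rw [P'.Q_nat, P.Q_nat]
  compat T j₀ j₁ x₀ x₁ h := P.compat _ _ (P'.compat _ _ h)
  E D T j x := (P'.E (H.obj D) x).trans (P.E D (Q' x))
  E_nat D T T' g j x y v v' hv := by
    have hy := hom_eq_of_lifts g v v' hv
    subst hy
    exact P.E_nat D g (Q' x) (Q' (g ≫ x)) _ _ (P'.E_nat (H.obj D) g x (g ≫ x) v v' hv)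
  E_φ D T j₀ j₁ x₀ x₁ h v := by
    simp only [Equiv.trans_apply, Functor.comp_obj]
    rw [P'.E_φ (H.obj D) x₀ x₁ h v, P.E_φ D]
  E_map {D D'} b T j x v := by
    simp only [Equiv.trans_apply, Functor.comp_obj, Functor.comp_map]
    rw [P'.E_map (H.map b) x v, P.E_map b]

section Iso

variable {H H' : SchDDFam f ⥤ SchDDFam f'} {β β' : ι' → ι}
  {Q : ∀ ⦃T : Scheme.{u}⦄ ⦃j : ι'⦄, (T ⟶ X' j) → (T ⟶ X (β j))}
  {Q' : ∀ ⦃T : Scheme.{u}⦄ ⦃j : ι'⦄, (T ⟶ X' j) → (T ⟶ X (β' j))}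
  (P : PullData H β Q) (P' : PullData H' β' Q')
  (hQ : ∀ ⦃T : Scheme.{u}⦄ ⦃j : ι'⦄ (x : T ⟶ X' j), Q x ≫ f (β j) = Q' x ≫ f (β' j))

/-- the bijections on points between two functors of pullback type over the same base map. -/
def ptEquivOfPullData (D : SchDDFam f) : PtEquiv (H.obj D) (H'.obj D) where
  e T j x := (P.E D x).trans ((D.φ (Q x) (Q' x) (hQ x)).trans (P'.E D x).symm)
  nat T T' g j x y v v' hv := by
    have hy := hom_eq_of_lifts g v v' hv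
    subst hy
    simp only [Equiv.trans_apply]
    refine equiv_symm_nat g rfl (P'.E D x) (P'.E D (g ≫ x))
      (fun v v' hv => P'.E_nat D g x (g ≫ x) v v' hv) _ _ ?_
    exact D.φ_natural g (Q x) (Q' x) (hQ x) (Q (g ≫ x)) (Q' (g ≫ x)) (P.Q_nat g x).symm
      (P'.Q_nat g x).symm (hQ _) _ _ (P.E_nat D g x (g ≫ x) v v' hv)
  comm T j₀ j₁ x₀ x₁ h v := by
    simp only [Equiv.trans_apply]
    apply (P'.E D x₁).injective
    rw [Equiv.apply_symm_apply, P'.E_φ, Equiv.apply_symm_apply, P.E_φ, D.φ_comp, D.φ_comp]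

/-- Two functors of pullback type over the same base map are isomorphic. -/
def isoOfPullData : H ≅ H' :=
  NatIso.ofComponents (fun D => (ptEquivOfPullData P P' hQ D).toIso) (by
    intro D D' b
    apply hom_ext_push
    intro j
    rw [push_comp, push_comp, PtEquiv.toIso_hom_push, PtEquiv.toIso_hom_push]
    simp only [ptEquivOfPullData, Equiv.trans_apply]
    apply (P'.E D' _).injective
    rw [Equiv.apply_symm_apply, P'.E_map, Equiv.apply_symm_apply, P.E_map, push_φ])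

end Iso

end Pull

end Groth.Agent.Lib.Helper5.DescFam
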