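import Mathlib
import Groth.Prelude.Def_DescFam
import Groth.Agent.Lib.Helper5.Misc.DescFam

set_option autoImplicit false
set_option backward.isDefEq.respectTransparency false
universe w'' w' w u
open CategoryTheory CategoryTheory.Limits AlgebraicGeometry Opposite Desc

namespace Groth.Agent.Lib.Helper5.DescFam

section Glue

/-- Morphisms of schemes glue along fpqc coverings. -/
theorem glue_fpqc {Y W : Scheme.{u}} {κ : Type w} {P : κ → Scheme.{u}} (π : ∀ k, P k ⟶ Y)
    (hπ : Presieve.ofArrows P π ∈ Scheme.fpqcPrecoverage Y) (x : ∀ k, P k ⟶ W)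
    (hx : ∀ (k l : κ) (Z : Scheme.{u}) (gk : Z ⟶ P k) (gl : Z ⟶ P l),
      gk ≫ π k = gl ≫ π l → gk ≫ x k = gl ≫ x l) :
    ∃! t : Y ⟶ W, ∀ k, π k ≫ t = x k := by
  have hs : Presieve.IsSheaf Scheme.fpqcTopology (yoneda.obj W) :=
    GrothendieckTopology.Subcanonical.isSheaf_of_isRepresentable _
  have h1 := hs _ (Precoverage.generate_mem_toGrothendieck hπ)
  rw [← Presieve.isSheafFor_iff_generate, Presieve.isSheafFor_arrows_iff] at h1
  exact h1 x (fun k l Z gk gl hkl => hx k l Z gk gl hkl)

lemma jointly_epi_of_fpqc {Y W : Scheme.{u}} {κ : Type w} {P : κ → Scheme.{u}} (π : ∀ k, P k ⟶ Y)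
    (hπ : Presieve.ofArrows P π ∈ Scheme.fpqcPrecoverage Y) (s t : Y ⟶ W)
    (h : ∀ k, π k ≫ s = π k ≫ t) : s = t := by
  obtain ⟨r, -, huniq⟩ := glue_fpqc π hπ (fun k => π k ≫ s) (fun k l Z gk gl hkl => by
    rw [← Category.assoc, hkl, Category.assoc])
  exact (huniq s (fun _ => rfl)).trans (huniq t (fun k => (h k).symm)).symm

end Glue


section ToDD

variable {S : Scheme.{u}} {ι : Type w} {X : ι → Scheme.{u}} (f : ∀ i, X i ⟶ S)

lemma cover_snd (hf : Presieve.ofArrows X f ∈ Scheme.fpqcPrecoverage S) (U : Over S) :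
    Presieve.ofArrows (fun i => pullback (f i) U.hom) (fun i => pullback.snd (f i) U.hom) ∈
      Scheme.fpqcPrecoverage U.left :=
  Precoverage.mem_coverings_of_isPullback f hf U.hom _ (fun i => pullback.fst (f i) U.hom)
    (fun i => (IsPullback.of_hasPullback (f i) U.hom).flip)

lemma cover_fst (hf : Presieve.ofArrows X f ∈ Scheme.fpqcPrecoverage S) {T : Scheme.{u}}
    (t : T ⟶ S) :
    Presieve.ofArrows (fun i => pullback t (f i)) (fun i => pullback.fst t (f i)) ∈
      Scheme.fpqcPrecoverage T :=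
  Precoverage.mem_coverings_of_isPullback f hf t _ (fun i => pullback.snd t (f i))
    (fun i => IsPullback.of_hasPullback t (f i))

theorem toDDFam_faithful (hf : Presieve.ofArrows X f ∈ Scheme.fpqcPrecoverage S) :
    (toDDFam f).Faithful := by
  refine ⟨fun {U U'} γ γ' hγ => ?_⟩
  apply Over.OverMorphism.ext
  apply jointly_epi_of_fpqc _ (cover_snd f hf U)
  intro i
  have h1 := congrArg (fun a : (toDDFam f).obj U ⟶ (toDDFam f).obj U' =>
    (a.hom i).left ≫ pullback.snd (f i) U'.hom) hγ
  simpa [toDDFam] using h1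

theorem toDDFam_full (hf : Presieve.ofArrows X f ∈ Scheme.fpqcPrecoverage S) :
    (toDDFam f).Full := by
  refine ⟨fun {U U'} a => ?_⟩
  obtain ⟨t, ht, -⟩ := glue_fpqc _ (cover_snd f hf U)
    (fun i => (a.hom i).left ≫ pullback.snd (f i) U'.hom) (by
      intro k l Z gk gl hkl
      have h : (gk ≫ pullback.fst (f k) U.hom) ≫ f k = (gl ≫ pullback.fst (f l) U.hom) ≫ f l := by
        rw [Category.assoc, pullback.condition, ← Category.assoc, hkl, Category.assoc,
          ← pullback.condition, Category.assoc]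
      let v : Lifts (((toDDFam f).obj U).obj k) (gk ≫ pullback.fst (f k) U.hom) := ⟨gk, rfl⟩
      have hv : (((toDDFam f).obj U).φ _ _ h v).1 = gl := by
        apply pullback.hom_ext
        · simp [toDDFam, canonicalDDFam]
        · simpa [toDDFam, canonicalDDFam, v] using hkl
      have h2 := a.comm _ _ h v (SchDDFam.Hom.push a v) rfl
      have h4 : ((((toDDFam f).obj U').φ _ _ h) (SchDDFam.Hom.push a v)).1 ≫
          pullback.snd (f l) U'.hom = (gk ≫ (a.hom k).left) ≫ pullback.snd (f k) U'.hom :=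
        pullback.lift_snd _ _ _
      rw [h2, hv] at h4
      simpa using h4.symm)
  have hS : t ≫ U'.hom = U.hom := by
    apply jointly_epi_of_fpqc _ (cover_snd f hf U)
    intro i
    rw [← Category.assoc, ht, Category.assoc, ← pullback.condition]
    have h1 : (a.hom i).left ≫ pullback.fst (f i) U'.hom = pullback.fst (f i) U.hom :=
      Over.w (a.hom i)
    rw [← Category.assoc, h1, pullback.condition]
  refine ⟨Over.homMk t hS, ?_⟩
  apply SchDDFam.hom_ext
  funext i
  apply Over.OverMorphism.ext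
  apply pullback.hom_ext
  · have h1 : (a.hom i).left ≫ pullback.fst (f i) U'.hom = pullback.fst (f i) U.hom :=
      Over.w (a.hom i)
    rw [h1]
    simp [toDDFam]
  · rw [← ht i]
    simp [toDDFam]

end ToDD

end Groth.Agent.Lib.Helper5.DescFam
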