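import Mathlib
import Groth.Prelude.Def_DescFam
import Groth.Agent.Lib.Helper5.Misc.DescFam
import Groth.Agent.Lib.Helper5.Misc.DescFam2

set_option autoImplicit false
set_option backward.isDefEq.respectTransparency false
universe w'' w' w u
open CategoryTheory CategoryTheory.Limits AlgebraicGeometry Opposite Desc

namespace Groth.Agent.Lib.Helper5.DescFam

section FF

variable {S : Scheme.{u}} {ι : Type w} {X : ι → Scheme.{u}} {f : ∀ i, X i ⟶ S}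
variable {S' : Scheme.{u}} {ι' : Type w'} {X' : ι' → Scheme.{u}} {f' : ∀ j, X' j ⟶ S'}

lemma φ_symm (D : SchDDFam f) {T : Scheme.{u}} {i j : ι} (x₀ : T ⟶ X i) (x₁ : T ⟶ X j)
    (h : x₀ ≫ f i = x₁ ≫ f j) (v : Lifts (D.obj j) x₁) :
    (D.φ x₀ x₁ h).symm v = D.φ x₁ x₀ h.symm v := by
  apply (D.φ x₀ x₁ h).injective
  rw [Equiv.apply_symm_apply, D.φ_comp, D.φ_self]

lemma φ_res (D : SchDDFam f) {T T' : Scheme.{u}} (g : T' ⟶ T) {i j : ι} (x₀ : T ⟶ X i)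
    (x₁ : T ⟶ X j) (h : x₀ ≫ f i = x₁ ≫ f j) (h' : (g ≫ x₀) ≫ f i = (g ≫ x₁) ≫ f j)
    (v : Lifts (D.obj i) x₀) :
    D.φ (g ≫ x₀) (g ≫ x₁) h' (res g v rfl) = res g (D.φ x₀ x₁ h v) rfl :=
  Subtype.ext (D.φ_natural g x₀ x₁ h (g ≫ x₀) (g ≫ x₁) rfl rfl h' v (res g v rfl) rfl)

variable {H : SchDDFam f ⥤ SchDDFam f'} {β : ι' → ι}
  {Q : ∀ ⦃T : Scheme.{u}⦄ ⦃j : ι'⦄, (T ⟶ X' j) → (T ⟶ X (β j))} (P : PullData H β Q)

include P in
lemma push_eq_of_map_eq {D D' : SchDDFam f} {b b' : D ⟶ D'} (hb : H.map b = H.map b')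
    {T : Scheme.{u}} {i : ι} {j : ι'} (x₀ : T ⟶ X i) (y : T ⟶ X' j)
    (h : x₀ ≫ f i = Q y ≫ f (β j)) (v : Lifts (D.obj i) x₀) :
    SchDDFam.Hom.push b v = SchDDFam.Hom.push b' v := by
  have key : ∀ w : Lifts (D.obj (β j)) (Q y),
      SchDDFam.Hom.push b w = SchDDFam.Hom.push b' w := by
    intro w
    have h1 := P.E_map b y ((P.E D y).symm w)
    have h2 := P.E_map b' y ((P.E D y).symm w)
    rw [Equiv.apply_symm_apply] at h1 h2
    rw [← h1, ← h2, hb]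
  apply (D'.φ x₀ (Q y) h).injective
  rw [push_φ, push_φ, key]

include P in
/-- A functor of pullback type is faithful as soon as every point of the `X i` lifts, locally
for a jointly epimorphic family, to a point of the `X' j` over `S`. -/
theorem faithful_of_locEpi
    (hloc : ∀ ⦃T : Scheme.{u}⦄ ⦃i : ι⦄ (x : T ⟶ X i), ∃ (K : Type u) (C : K → Scheme.{u})
      (π : ∀ k, C k ⟶ T), (∀ ⦃W : Scheme.{u}⦄ (s t : T ⟶ W), (∀ k, π k ≫ s = π k ≫ t) → s = t) ∧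
        ∀ k, ∃ (j : ι') (y : C k ⟶ X' j), (π k ≫ x) ≫ f i = Q y ≫ f (β j)) :
    H.Faithful := by
  refine ⟨fun {D D'} b b' hb => ?_⟩
  apply hom_ext_push
  intro i
  obtain ⟨K, C, π, hπ, hy⟩ := hloc (D.obj i).hom
  apply Subtype.ext
  apply hπ
  intro k
  obtain ⟨j, y, h⟩ := hy k
  have h1 := push_eq_of_map_eq P hb (π k ≫ (D.obj i).hom) y h (res (π k) (univ (D.obj i)) rfl)
  have h2 := congrArg Subtype.val h1
  simpa using h2

section Full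

variable {D D' : SchDDFam f} (c : H.obj D ⟶ H.obj D')

/-- transport of a point through `c`, using an auxiliary point `y` of some `X' j`. -/
def tr {T : Scheme.{u}} {i : ι} {j : ι'} (x₀ : T ⟶ X i) (y : T ⟶ X' j)
    (h : x₀ ≫ f i = Q y ≫ f (β j)) (v : Lifts (D.obj i) x₀) : Lifts (D'.obj i) x₀ :=
  D'.φ (Q y) x₀ h.symm
    (P.E D' y (SchDDFam.Hom.push c ((P.E D y).symm (D.φ x₀ (Q y) h v))))

lemma tr_indep
    (compat' : ∀ ⦃T : Scheme.{u}⦄ ⦃j₀ j₁ : ι'⦄ (x₀ : T ⟶ X' j₀) (x₁ : T ⟶ X' j₁),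
      Q x₀ ≫ f (β j₀) = Q x₁ ≫ f (β j₁) → x₀ ≫ f' j₀ = x₁ ≫ f' j₁)
    {T : Scheme.{u}} {i : ι} {j j' : ι'} (x₀ : T ⟶ X i) (y : T ⟶ X' j)
    (h : x₀ ≫ f i = Q y ≫ f (β j)) (y' : T ⟶ X' j') (h' : x₀ ≫ f i = Q y' ≫ f (β j'))
    (v : Lifts (D.obj i) x₀) : tr P c x₀ y h v = tr P c x₀ y' h' v := by
  have hyy' : y ≫ f' j = y' ≫ f' j' := compat' _ _ (h.symm.trans h')
  have e1 : (P.E D y').symm (D.φ x₀ (Q y') h' v) =
      (H.obj D).φ y y' hyy' ((P.E D y).symm (D.φ x₀ (Q y) h v)) := by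
    apply (P.E D y').injective
    rw [Equiv.apply_symm_apply, P.E_φ, Equiv.apply_symm_apply, D.φ_comp]
  unfold tr
  rw [e1, ← push_φ, P.E_φ, D'.φ_comp]

lemma tr_nat {T T' : Scheme.{u}} (g : T' ⟶ T) {i : ι} {j : ι'} (x₀ : T ⟶ X i) (y : T ⟶ X' j)
    (h : x₀ ≫ f i = Q y ≫ f (β j)) (x₀' : T' ⟶ X i) (y' : T' ⟶ X' j) (hx : g ≫ x₀ = x₀')
    (hy : g ≫ y = y') (h' : x₀' ≫ f i = Q y' ≫ f (β j)) (v : Lifts (D.obj i) x₀)
    (v' : Lifts (D.obj i) x₀') (hv : v'.1 = g ≫ v.1) :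
    (tr P c x₀' y' h' v').1 = g ≫ (tr P c x₀ y h v).1 := by
  subst hx hy
  have a1 : (D.φ (g ≫ x₀) (Q (g ≫ y)) h' v').1 = g ≫ (D.φ x₀ (Q y) h v).1 :=
    D.φ_natural g x₀ (Q y) h (g ≫ x₀) (Q (g ≫ y)) rfl (P.Q_nat g y).symm h' v v' hv
  have a2 : ((P.E D (g ≫ y)).symm (D.φ (g ≫ x₀) (Q (g ≫ y)) h' v')).1 =
      g ≫ ((P.E D y).symm (D.φ x₀ (Q y) h v)).1 :=
    equiv_symm_nat g rfl (P.E D y) (P.E D (g ≫ y))
      (fun v v' hv => P.E_nat D g y (g ≫ y) v v' hv) _ _ a1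
  have a3 := push_nat c g _ _ a2
  have a4 := P.E_nat D' g y (g ≫ y) _ _ a3
  exact D'.φ_natural g (Q y) x₀ h.symm (Q (g ≫ y)) (g ≫ x₀) (P.Q_nat g y).symm rfl h'.symm _ _ a4

lemma tr_φ {T : Scheme.{u}} {i i' : ι} {j : ι'} (x₀ : T ⟶ X i) (x₁ : T ⟶ X i')
    (hx : x₀ ≫ f i = x₁ ≫ f i') (y : T ⟶ X' j) (h₀ : x₀ ≫ f i = Q y ≫ f (β j))
    (h₁ : x₁ ≫ f i' = Q y ≫ f (β j)) (v : Lifts (D.obj i) x₀) :
    tr P c x₁ y h₁ (D.φ x₀ x₁ hx v) = D'.φ x₀ x₁ hx (tr P c x₀ y h₀ v) := by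
  unfold tr
  rw [D.φ_comp, D'.φ_comp]

lemma tr_val_congr
    (compat' : ∀ ⦃T : Scheme.{u}⦄ ⦃j₀ j₁ : ι'⦄ (x₀ : T ⟶ X' j₀) (x₁ : T ⟶ X' j₁),
      Q x₀ ≫ f (β j₀) = Q x₁ ≫ f (β j₁) → x₀ ≫ f' j₀ = x₁ ≫ f' j₁)
    {T : Scheme.{u}} {i : ι} {j j' : ι'} {x₀ x₀' : T ⟶ X i} (hx : x₀ = x₀') (y : T ⟶ X' j)
    (h : x₀ ≫ f i = Q y ≫ f (β j)) (y' : T ⟶ X' j') (h' : x₀' ≫ f i = Q y' ≫ f (β j'))
    (v : Lifts (D.obj i) x₀) (v' : Lifts (D.obj i) x₀') (hv : v.1 = v'.1) :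
    (tr P c x₀ y h v).1 = (tr P c x₀' y' h' v').1 := by
  subst hx
  have : v = v' := Subtype.ext hv
  subst this
  rw [tr_indep P c compat' x₀ y h y' h' v]

end Full


section FullThm

variable {D D' : SchDDFam f}

include P in
lemma h_res {T T' : Scheme.{u}} (g : T' ⟶ T) {i : ι} {j : ι'} {x₀ : T ⟶ X i} {y : T ⟶ X' j}
    (h : x₀ ≫ f i = Q y ≫ f (β j)) : (g ≫ x₀) ≫ f i = Q (g ≫ y) ≫ f (β j) := by
  rw [P.Q_nat, Category.assoc, Category.assoc, h]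

include P in
/-- A functor of pullback type (over a monomorphism of bases) is full as soon as every point of
the `X i` lifts, fpqc locally, to a point of the `X' j` over `S`. -/
theorem full_of_locFpqc
    (compat' : ∀ ⦃T : Scheme.{u}⦄ ⦃j₀ j₁ : ι'⦄ (x₀ : T ⟶ X' j₀) (x₁ : T ⟶ X' j₁),
      Q x₀ ≫ f (β j₀) = Q x₁ ≫ f (β j₁) → x₀ ≫ f' j₀ = x₁ ≫ f' j₁)
    (hloc : ∀ ⦃T : Scheme.{u}⦄ ⦃i : ι⦄ (x : T ⟶ X i), ∃ (K : Type u) (C : K → Scheme.{u})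
      (π : ∀ k, C k ⟶ T), Presieve.ofArrows C π ∈ Scheme.fpqcPrecoverage T ∧
        ∀ k, ∃ (j : ι') (y : C k ⟶ X' j), (π k ≫ x) ≫ f i = Q y ≫ f (β j)) :
    H.Full := by
  refine ⟨fun {D D'} c => ?_⟩
  -- step 1: the maps on the `D.obj i`
  have step1 : ∀ i : ι, ∃ b : (D.obj i).left ⟶ (D'.obj i).left,
      ∀ ⦃T' : Scheme.{u}⦄ ⦃j : ι'⦄ (x₀ : T' ⟶ X i) (y : T' ⟶ X' j)
        (h : x₀ ≫ f i = Q y ≫ f (β j)) (v : Lifts (D.obj i) x₀),
        v.1 ≫ b = (tr P c x₀ y h v).1 := by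
    intro i
    obtain ⟨K, C, π, hπ, hy⟩ := hloc (D.obj i).hom
    choose j y h using hy
    obtain ⟨b, hb, -⟩ := glue_fpqc π hπ
      (fun k => (tr P c (π k ≫ (D.obj i).hom) (y k) (h k) (res (π k) (univ _) rfl)).1) (by
        intro k l Z gk gl hkl
        rw [← tr_nat P c gk _ _ (h k) _ _ rfl rfl (h_res P gk (h k)) _
            (res gk (res (π k) (univ _) rfl) rfl) rfl,
          ← tr_nat P c gl _ _ (h l) _ _ rfl rfl (h_res P gl (h l)) _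
            (res gl (res (π l) (univ _) rfl) rfl) rfl]
        refine tr_val_congr P c compat' ?_ _ _ _ _ _ _ ?_
        · rw [← Category.assoc, hkl, Category.assoc]
        · simp [hkl])
    refine ⟨b, ?_⟩
    intro T' j' x₀ y' h' v
    have hcov := Precoverage.mem_coverings_of_isPullback π hπ v.1
      (fun k => pullback.fst v.1 (π k)) (fun k => pullback.snd v.1 (π k))
      (fun k => IsPullback.of_hasPullback _ _)
    apply jointly_epi_of_fpqc _ hcov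
    intro k
    rw [← tr_nat P c (pullback.fst v.1 (π k)) _ _ h' _ _ rfl rfl (h_res P _ h') _
      (res (pullback.fst v.1 (π k)) v rfl) rfl]
    rw [← Category.assoc, pullback.condition, Category.assoc, hb k]
    rw [← tr_nat P c (pullback.snd v.1 (π k)) _ _ (h k) _ _ rfl rfl (h_res P _ (h k)) _
      (res (pullback.snd v.1 (π k)) (res (π k) (univ _) rfl) rfl) rfl]
    refine tr_val_congr P c compat' ?_ _ _ _ _ _ _ ?_
    · rw [← Category.assoc, ← pullback.condition, Category.assoc, v.2]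
    · simp [pullback.condition]
  choose b hb using step1
  -- the maps are over the `X i`
  have hover : ∀ i, b i ≫ (D'.obj i).hom = (D.obj i).hom := by
    intro i
    obtain ⟨K, C, π, hπ, hy⟩ := hloc (D.obj i).hom
    apply jointly_epi_of_fpqc _ hπ
    intro k
    obtain ⟨j, y, h⟩ := hy k
    have h1 := hb i (π k ≫ (D.obj i).hom) y h (res (π k) (univ _) rfl)
    have h2 : π k ≫ b i = (tr P c (π k ≫ (D.obj i).hom) y h (res (π k) (univ _) rfl)).1 := by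
      rw [← h1]; simp
    rw [← Category.assoc, h2]
    exact (tr P c (π k ≫ (D.obj i).hom) y h (res (π k) (univ _) rfl)).2
  -- the morphism of descent data
  have hcomm : ∀ ⦃T : Scheme.{u}⦄ ⦃i i' : ι⦄ (x₀ : T ⟶ X i) (x₁ : T ⟶ X i')
      (hx : x₀ ≫ f i = x₁ ≫ f i') (v : Lifts (D.obj i) x₀) (w : Lifts (D'.obj i) x₀),
      w.1 = v.1 ≫ b i → (D'.φ x₀ x₁ hx w).1 = (D.φ x₀ x₁ hx v).1 ≫ b i' := by
    intro T i i' x₀ x₁ hx v w hw
    obtain ⟨K, C, π, hπ, hy⟩ := hloc x₀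
    apply jointly_epi_of_fpqc _ hπ
    intro k
    obtain ⟨j, y, h⟩ := hy k
    have hx' : (π k ≫ x₀) ≫ f i = (π k ≫ x₁) ≫ f i' := by
      rw [Category.assoc, hx, Category.assoc]
    have h₁ : (π k ≫ x₁) ≫ f i' = Q y ≫ f (β j) := hx'.symm.trans h
    have e1 : π k ≫ (D'.φ x₀ x₁ hx w).1 =
        (D'.φ (π k ≫ x₀) (π k ≫ x₁) hx' (res (π k) w rfl)).1 :=
      (D'.φ_natural (π k) x₀ x₁ hx (π k ≫ x₀) (π k ≫ x₁) rfl rfl hx' w
        (res (π k) w rfl) rfl).symm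
    have e2 : res (π k) w rfl = tr P c (π k ≫ x₀) y h (res (π k) v rfl) := by
      apply Subtype.ext
      rw [← hb i (π k ≫ x₀) y h (res (π k) v rfl)]
      simp [hw]
    have e3 : π k ≫ (D.φ x₀ x₁ hx v).1 =
        (D.φ (π k ≫ x₀) (π k ≫ x₁) hx' (res (π k) v rfl)).1 :=
      (D.φ_natural (π k) x₀ x₁ hx (π k ≫ x₀) (π k ≫ x₁) rfl rfl hx' v
        (res (π k) v rfl) rfl).symm
    rw [e1, e2, ← tr_φ P c (π k ≫ x₀) (π k ≫ x₁) hx' y h h₁, ← Category.assoc, e3,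
      hb i' (π k ≫ x₁) y h₁]
  refine ⟨⟨fun i => Over.homMk (b i) (hover i), hcomm⟩, ?_⟩
  apply hom_ext_push
  intro j
  apply (P.E D' _).injective
  rw [P.E_map]
  apply Subtype.ext
  have h1 := hb (β j) (Q ((H.obj D).obj j).hom) ((H.obj D).obj j).hom rfl
    (P.E D _ (univ ((H.obj D).obj j)))
  refine Eq.trans h1 ?_
  unfold tr
  rw [D.φ_self, D'.φ_self, Equiv.symm_apply_apply]

end FullThm

end FF


section Apps

variable {S : Scheme.{u}} {ι κ : Type u} {U : ι → Scheme.{u}} {V : κ → Scheme.{u}}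
  (u : ∀ i, U i ⟶ S) (v : ∀ j, V j ⟶ S) (α : ι → κ) (g : ∀ i, U i ⟶ V (α i))
  (w : ∀ i, g i ≫ v (α i) = u i ≫ 𝟙 S)

include w in
lemma compat'_pull ⦃T : Scheme.{u}⦄ ⦃j₀ j₁ : ι⦄ (x₀ : T ⟶ U j₀) (x₁ : T ⟶ U j₁)
    (h : (x₀ ≫ g j₀) ≫ v (α j₀) = (x₁ ≫ g j₁) ≫ v (α j₁)) : x₀ ≫ u j₀ = x₁ ≫ u j₁ := by
  have h0 := w j₀
  have h1 := w j₁
  rw [Category.comp_id] at h0 h1
  rw [← h0, ← h1, ← Category.assoc, h, Category.assoc]

include w in
lemma hloc_of_cover (hu : Presieve.ofArrows U u ∈ Scheme.fpqcPrecoverage S)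
    ⦃T : Scheme.{u}⦄ ⦃j : κ⦄ (x : T ⟶ V j) :
    ∃ (K : Type u) (C : K → Scheme.{u})
      (π : ∀ k, C k ⟶ T), Presieve.ofArrows C π ∈ Scheme.fpqcPrecoverage T ∧
        ∀ k, ∃ (i : ι) (y : C k ⟶ U i), (π k ≫ x) ≫ v j = (y ≫ g i) ≫ v (α i) := by
  refine ⟨ι, fun i => pullback (x ≫ v j) (u i), fun i => pullback.fst _ _,
    cover_fst u hu (x ≫ v j), fun i => ⟨i, pullback.snd _ _, ?_⟩⟩
  have h0 := w i
  rw [Category.comp_id] at h0
  rw [Category.assoc, pullback.condition, Category.assoc, h0]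

/-- If `(u i)` is an fpqc covering of `S`, pullback of descent data along any morphism of families
`u → v` over `S` is full and faithful. -/
theorem pull_full_faithful_of_cover (hu : Presieve.ofArrows U u ∈ Scheme.fpqcPrecoverage S) :
    (pullDDFam (f := v) (f' := u) (α := α) (p := 𝟙 S) (p' := g) w).Full ∧
      (pullDDFam (f := v) (f' := u) (α := α) (p := 𝟙 S) (p' := g) w).Faithful := by
  constructor
  · exact full_of_locFpqc (pullData w) (compat'_pull u v α g w) (hloc_of_cover u v α g w hu)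
  · refine faithful_of_locEpi (pullData w) ?_
    intro T j x
    obtain ⟨K, C, π, hπ, hy⟩ := hloc_of_cover u v α g w hu x
    exact ⟨K, C, π, fun W s t h => jointly_epi_of_fpqc π hπ s t h, hy⟩

include w in
lemma hloc_of_covers
    (hcov : ∀ j, Presieve.ofArrows (fun i : {i // α i = j} => U i.1)
      (fun i => g i.1 ≫ eqToHom (congrArg V i.2)) ∈ Scheme.fpqcPrecoverage (V j))
    ⦃T : Scheme.{u}⦄ ⦃j : κ⦄ (x : T ⟶ V j) :
    ∃ (K : Type u) (C : K → Scheme.{u})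
      (π : ∀ k, C k ⟶ T), Presieve.ofArrows C π ∈ Scheme.fpqcPrecoverage T ∧
        ∀ k, ∃ (i : ι) (y : C k ⟶ U i), (π k ≫ x) ≫ v j = (y ≫ g i) ≫ v (α i) := by
  refine ⟨{i // α i = j}, fun i => pullback x (g i.1 ≫ eqToHom (congrArg V i.2)),
    fun i => pullback.fst _ _, cover_fst _ (hcov j) x, fun i => ⟨i.1, pullback.snd _ _, ?_⟩⟩
  obtain ⟨i, rfl⟩ := i
  rw [pullback.condition]
  simp

/-- If for each `j` the `g i` with `α i = j` form an fpqc covering of `V j`, pullback of descent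
data along `(α, g)` is full and faithful. -/
theorem pull_full_faithful_of_covers
    (hcov : ∀ j, Presieve.ofArrows (fun i : {i // α i = j} => U i.1)
      (fun i => g i.1 ≫ eqToHom (congrArg V i.2)) ∈ Scheme.fpqcPrecoverage (V j)) :
    (pullDDFam (f := v) (f' := u) (α := α) (p := 𝟙 S) (p' := g) w).Full ∧
      (pullDDFam (f := v) (f' := u) (α := α) (p := 𝟙 S) (p' := g) w).Faithful := by
  constructor
  · exact full_of_locFpqc (pullData w) (compat'_pull u v α g w) (hloc_of_covers u v α g w hcov)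
  · refine faithful_of_locEpi (pullData w) ?_
    intro T j x
    obtain ⟨K, C, π, hπ, hy⟩ := hloc_of_covers u v α g w hcov x
    exact ⟨K, C, π, fun W s t h => jointly_epi_of_fpqc π hπ s t h, hy⟩

end Apps

end Groth.Agent.Lib.Helper5.DescFam
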