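import Mathlib

/-!
# Local standard-étale structure of étale morphisms (helper5)
-/

set_option autoImplicit false
universe u
open CategoryTheory AlgebraicGeometry

namespace Groth.Agent.Lib.Helper5.EtLocalStd

variable {U X : Scheme.{u}} (g : U ⟶ X) [Etale g]

/-- Around every point of the source of an étale morphism there is a basic open which is
standard étale over a given affine open of the target. -/
lemma exists_basicOpen_standardEtale {X₀ : X.Opens} (hX₀ : IsAffineOpen X₀) {U₁ : U.Opens}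
    (hU₁ : IsAffineOpen U₁) (e : U₁ ≤ g ⁻¹ᵁ X₀) (x : U) (hx : x ∈ U₁) :
    ∃ r : Γ(U, U₁), x ∈ U.basicOpen r ∧
      @Algebra.IsStandardEtale Γ(X, X₀) Γ(U, U.basicOpen r) _ _
        (g.appLE X₀ (U.basicOpen r) ((U.basicOpen_le r).trans e)).hom.toAlgebra := by
  letI alg1 : Algebra Γ(X, X₀) Γ(U, U₁) := (g.appLE X₀ U₁ e).hom.toAlgebra
  haveI et1 : Algebra.Etale Γ(X, X₀) Γ(U, U₁) := g.etale_appLE hX₀ hU₁ e
  haveI : Algebra.FinitePresentation Γ(X, X₀) Γ(U, U₁) := et1.finitePresentation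
  haveI hp : (hU₁.primeIdealOf ⟨x, hx⟩).asIdeal.IsPrime := (hU₁.primeIdealOf ⟨x, hx⟩).isPrime
  haveI : Algebra.IsEtaleAt Γ(X, X₀) (hU₁.primeIdealOf ⟨x, hx⟩).asIdeal := inferInstance
  obtain ⟨r, hr, hstd⟩ := Algebra.IsEtaleAt.exists_isStandardEtale (R := Γ(X, X₀))
    (hU₁.primeIdealOf ⟨x, hx⟩).asIdeal
  refine ⟨r, ?_, ?_⟩
  · have h1 : hU₁.primeIdealOf ⟨x, hx⟩ ∈ PrimeSpectrum.basicOpen r := hr
    rw [← hU₁.fromSpec_preimage_basicOpen] at h1
    have h2 := hU₁.fromSpec_primeIdealOf ⟨x, hx⟩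
    change hU₁.fromSpec (hU₁.primeIdealOf ⟨x, hx⟩) ∈ U.basicOpen r at h1
    rwa [h2] at h1
  · letI alg2 : Algebra Γ(X, X₀) Γ(U, U.basicOpen r) :=
      (g.appLE X₀ (U.basicOpen r) ((U.basicOpen_le r).trans e)).hom.toAlgebra
    haveI loc := hU₁.isLocalization_basicOpen r
    haveI tower : IsScalarTower Γ(X, X₀) Γ(U, U₁) Γ(U, U.basicOpen r) := by
      apply IsScalarTower.of_algebraMap_eq'
      simp only [RingHom.algebraMap_toAlgebra]
      rw [← CommRingCat.hom_comp, Scheme.Hom.appLE_map]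
    exact Algebra.IsStandardEtale.of_equiv
      ((IsLocalization.algEquiv (Submonoid.powers r) (Localization.Away r)
        Γ(U, U.basicOpen r)).restrictScalars Γ(X, X₀))

end Groth.Agent.Lib.Helper5.EtLocalStd
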