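import Mathlib

/-!
# Lifting standard étale algebras along surjections (helper5)
-/

set_option autoImplicit false
universe u
open Polynomial TensorProduct

namespace Groth.Agent.Lib.Helper5.StdEtLift

/-- Two standard étale pairs with the same universal property have isomorphic rings. -/
noncomputable def ringEquivOfHasMap {R : Type*} [CommRing R] (P₁ P₂ : StandardEtalePair R)
    (h12 : P₁.HasMap P₂.X) (h21 : P₂.HasMap P₁.X) : P₁.Ring ≃ₐ[R] P₂.Ring :=
  AlgEquiv.ofAlgHom (P₁.lift P₂.X h12) (P₂.lift P₁.X h21)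
    (P₂.hom_ext (by simp)) (P₁.hom_ext (by simp))

/-- The tautological presentation of the ring of a standard étale pair. -/
noncomputable def taut {R : Type*} [CommRing R] (P : StandardEtalePair R) :
    StandardEtalePresentation R P.Ring :=
  ⟨P, P.X, P.hasMap_X, by simpa [StandardEtalePair.lift_X_left] using Function.bijective_id⟩

theorem exists_lift {A A' B' : Type u} [CommRing A] [CommRing A'] [CommRing B'] [Algebra A A']
    [Algebra A' B'] (hsurj : Function.Surjective (algebraMap A A'))
    [Algebra.IsStandardEtale A' B'] :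
    ∃ P : StandardEtalePair A, Nonempty (A' ⊗[A] P.Ring ≃ₐ[A'] B') := by
  obtain ⟨Q⟩ := Algebra.IsStandardEtale.nonempty_standardEtalePresentation (R := A') (S := B')
  obtain ⟨p₁, p₂, n, e⟩ := Q.cond
  obtain ⟨F, hFmap, -, hFmonic⟩ := Polynomial.lifts_and_natDegree_eq_and_monic
    ((Polynomial.mem_lifts _).2 (Polynomial.map_surjective _ hsurj Q.f)) Q.monic_f
  obtain ⟨g₀, hg₀⟩ := Polynomial.map_surjective _ hsurj Q.g
  obtain ⟨q₁, hq₁⟩ := Polynomial.map_surjective _ hsurj p₁
  obtain ⟨q₂, hq₂⟩ := Polynomial.map_surjective _ hsurj p₂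
  let P : StandardEtalePair A :=
    ⟨F, hFmonic, g₀ * (derivative F * q₁ + F * q₂), ⟨g₀ * q₁, g₀ * q₂, 1, by ring⟩⟩
  have hPf : (P.map (algebraMap A A')).f = Q.f := hFmap
  have hPg : (P.map (algebraMap A A')).g = Q.g ^ (n + 1) := by
    change Polynomial.map (algebraMap A A') (g₀ * (derivative F * q₁ + F * q₂)) = _
    rw [Polynomial.map_mul, Polynomial.map_add, Polynomial.map_mul, Polynomial.map_mul,
      ← Polynomial.derivative_map, hFmap, hg₀, hq₁, hq₂, e]
    ring
  have hiff : ∀ {S : Type u} [CommRing S] [Algebra A' S] (x : S),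
      (P.map (algebraMap A A')).HasMap x ↔ Q.P.HasMap x := by
    intro S _ _ x
    unfold StandardEtalePair.HasMap
    rw [hPf, hPg, map_pow, isUnit_pow_iff (Nat.succ_ne_zero n)]
  refine ⟨P, ⟨?_⟩⟩
  exact ((taut P).baseChange (T := A')).equivRing.trans
    ((ringEquivOfHasMap (P.map (algebraMap A A')) Q.P
      ((hiff _).2 Q.P.hasMap_X) ((hiff _).1 (P.map (algebraMap A A')).hasMap_X)).trans
      Q.equivRing.symm)

end Groth.Agent.Lib.Helper5.StdEtLift
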