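import Mathlib
import Groth.Agent.Lib.Helper5.Misc.StdEtLift
import Groth.Agent.Lib.Helper5.Misc.EtLocalStd

/-!
# Étale schemes over a closed subscheme lift locally to the ambient scheme (helper5)
-/

set_option autoImplicit false
universe u
open CategoryTheory CategoryTheory.Limits AlgebraicGeometry TensorProduct

namespace Groth.Agent.Lib.Helper5.EtClosedLift

/-- The pushout square attached to an algebra isomorphism `A' ⊗[A] C ≃ₐ[A'] B'`. -/
lemma isPushout_of_equiv {A A' C B' : Type u} [CommRing A] [CommRing A'] [CommRing C]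
    [CommRing B'] [Algebra A A'] [Algebra A C] [Algebra A' B'] (e : A' ⊗[A] C ≃ₐ[A'] B') :
    IsPushout (CommRingCat.ofHom (algebraMap A C)) (CommRingCat.ofHom (algebraMap A A'))
      (CommRingCat.ofHom (e.toRingEquiv.toRingHom.comp
        (Algebra.TensorProduct.includeRight (R := A) (A := A') (B := C)).toRingHom))
      (CommRingCat.ofHom (algebraMap A' B')) := by
  refine (CommRingCat.isPushout_tensorProduct A A' C).flip.of_iso (Iso.refl _) (Iso.refl _)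
    (Iso.refl _) e.toRingEquiv.toCommRingCatIso ?_ ?_ ?_ ?_
  · simp
  · simp
  · ext x
    simp
  · ext x
    simp only [Iso.refl_hom, Category.id_comp, CommRingCat.hom_comp, CommRingCat.hom_ofHom,
      RingEquiv.toCommRingCatIso_hom, RingHom.comp_apply]
    have h := e.commutes x
    rw [Algebra.TensorProduct.algebraMap_apply] at h
    exact h

/-- **Local lifting of étale schemes along a closed immersion.**  For a closed immersion
`f : X ⟶ Y`, an étale `g : U ⟶ X` and a point `x` of `U` there are an étale `v : V ⟶ Y`, an open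
immersion `t : T ⟶ U` through `x` and a cartesian square identifying `T` with `V ×_Y X`. -/
theorem exists_lift {X Y : Scheme.{u}} (f : X ⟶ Y) [IsClosedImmersion f]
    {U : Scheme.{u}} (g : U ⟶ X) [Etale g] (x : U) :
    ∃ (V : Scheme.{u}) (v : V ⟶ Y) (_ : Etale v) (T : Scheme.{u}) (t : T ⟶ U)
      (_ : IsOpenImmersion t) (a : T ⟶ V), x ∈ Set.range t.base ∧ IsPullback a (t ≫ g) v f := by
  obtain ⟨Y₀, hY₀, hyY₀, -⟩ := exists_isAffineOpen_mem_and_subset (x := f (g x))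
    (U := (⊤ : Y.Opens)) trivial
  have hX₀ : IsAffineOpen (f ⁻¹ᵁ Y₀) := hY₀.preimage f
  obtain ⟨U₁, hU₁, hxU₁, hU₁le⟩ := exists_isAffineOpen_mem_and_subset (x := x)
    (U := g ⁻¹ᵁ (f ⁻¹ᵁ Y₀)) hyY₀
  obtain ⟨r, hxr, hstd⟩ := EtLocalStd.exists_basicOpen_standardEtale g hX₀ hU₁ hU₁le x hxU₁
  have hU₂ : IsAffineOpen (U.basicOpen r) := hU₁.basicOpen r
  have hle : U.basicOpen r ≤ g ⁻¹ᵁ (f ⁻¹ᵁ Y₀) := (U.basicOpen_le r).trans hU₁le
  letI algφ : Algebra Γ(Y, Y₀) Γ(X, f ⁻¹ᵁ Y₀) := (f.appLE Y₀ (f ⁻¹ᵁ Y₀) le_rfl).hom.toAlgebra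
  letI algψ : Algebra Γ(X, f ⁻¹ᵁ Y₀) Γ(U, U.basicOpen r) :=
    (g.appLE (f ⁻¹ᵁ Y₀) (U.basicOpen r) hle).hom.toAlgebra
  have hsurj : Function.Surjective (algebraMap Γ(Y, Y₀) Γ(X, f ⁻¹ᵁ Y₀)) := by
    have h := f.app_surjective Y₀ hY₀
    rw [Scheme.Hom.app_eq_appLE] at h
    exact h
  obtain ⟨P, ⟨eq⟩⟩ := StdEtLift.exists_lift (A := Γ(Y, Y₀)) (A' := Γ(X, f ⁻¹ᵁ Y₀))
    (B' := Γ(U, U.basicOpen r)) hsurj
  have hpush := isPushout_of_equiv eq
  have top := isPullback_SpecMap_of_isPushout _ _ _ _ hpush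
  have eφ : CommRingCat.ofHom (algebraMap Γ(Y, Y₀) Γ(X, f ⁻¹ᵁ Y₀)) =
      f.appLE Y₀ (f ⁻¹ᵁ Y₀) le_rfl := rfl
  have eψ : CommRingCat.ofHom (algebraMap Γ(X, f ⁻¹ᵁ Y₀) Γ(U, U.basicOpen r)) =
      g.appLE (f ⁻¹ᵁ Y₀) (U.basicOpen r) hle := rfl
  rw [eφ, eψ] at top
  have bot : IsPullback (Spec.map (f.appLE Y₀ (f ⁻¹ᵁ Y₀) le_rfl)) hX₀.fromSpec hY₀.fromSpec f :=
    IsOpenImmersion.isPullback _ _ _ _
      (IsAffineOpen.SpecMap_appLE_fromSpec f hY₀ hX₀ le_rfl).symm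
      (by rw [hY₀.opensRange_fromSpec, hX₀.opensRange_fromSpec])
  have big := top.paste_vert bot
  rw [IsAffineOpen.SpecMap_appLE_fromSpec g hX₀ hU₂ hle] at big
  haveI : Etale (Spec.map (CommRingCat.ofHom (algebraMap Γ(Y, Y₀) P.Ring))) := by
    rw [HasRingHomProperty.Spec_iff (P := @Etale)]
    exact RingHom.etale_algebraMap.2 inferInstance
  refine ⟨_, Spec.map (CommRingCat.ofHom (algebraMap Γ(Y, Y₀) P.Ring)) ≫ hY₀.fromSpec,
    inferInstance, _, hU₂.fromSpec, inferInstance, _, ?_, big⟩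
  rw [hU₂.range_fromSpec]
  exact hxr

end Groth.Agent.Lib.Helper5.EtClosedLift
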