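import Mathlib
import Groth.Prelude.Def_EtShriek2

/-!
# `compEtale j` is continuous for every étale morphism `j`
-/

set_option autoImplicit false
universe u
open CategoryTheory CategoryTheory.Limits AlgebraicGeometry Opposite

namespace Groth.Agent.Lib.Helper5.Misc.JContGen

variable {U X : Scheme.{u}} (j : U ⟶ X) [hj : Etale j]

section
variable {Y : U.Etale} {W : X.Etale} (f : W ⟶ (EtShriek.compEtale j).obj Y)

theorem w_left : f.left ≫ Y.hom ≫ j = W.hom := MorphismProperty.Over.w f

set_option backward.isDefEq.respectTransparency.types false in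
/-- the source of `f : W ⟶ compEtale j Y`, as an étale `U`-scheme -/
noncomputable def liftObj : U.Etale :=
  MorphismProperty.Over.mk ⊤ (f.left ≫ Y.hom)
    (EtCoh.etaleMP.of_postcomp (W' := EtCoh.etaleMP) (f.left ≫ Y.hom) j hj (by
      rw [Category.assoc, w_left j f]; exact W.prop))

set_option backward.isDefEq.respectTransparency.types false in
noncomputable def liftIso : (EtShriek.compEtale j).obj (liftObj j f) ≅ W :=
  MorphismProperty.Over.isoMk (Iso.refl _)
    ((Category.id_comp W.hom).trans ((w_left j f).symm.trans (Category.assoc _ _ _).symm))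

set_option backward.isDefEq.respectTransparency.types false in
/-- a morphism from `liftObj` given by a morphism of schemes over `U` -/
noncomputable def liftHom {Y₂ : U.Etale} (f₂ : W ⟶ (EtShriek.compEtale j).obj Y₂)
    (h : f₂.left ≫ Y₂.hom = f.left ≫ Y.hom) : liftObj j f ⟶ Y₂ :=
  MorphismProperty.Over.homMk f₂.left h

set_option backward.isDefEq.respectTransparency.types false in
theorem map_liftHom {Y₂ : U.Etale} (f₂ : W ⟶ (EtShriek.compEtale j).obj Y₂)
    (h : f₂.left ≫ Y₂.hom = f.left ≫ Y.hom) :
    (EtShriek.compEtale j).map (liftHom j f f₂ h) = (liftIso j f).hom ≫ f₂ := by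
  apply MorphismProperty.Over.Hom.ext
  change f₂.left = 𝟙 _ ≫ f₂.left
  rw [Category.id_comp]

end

set_option backward.isDefEq.respectTransparency.types false in
theorem compatiblePreserving :
    CompatiblePreserving X.smallEtaleTopology (EtShriek.compEtale j) where
  compatible ℱ Z T x hx Y₁ Y₂ W f₁ f₂ g₁ g₂ hg₁ hg₂ e := by
    have e' : f₁.left ≫ g₁.left = f₂.left ≫ g₂.left := congrArg (fun k => k.left) e
    have h21 : f₂.left ≫ Y₂.hom = f₁.left ≫ Y₁.hom := by
      have w₁ : g₁.left ≫ Z.hom = Y₁.hom := MorphismProperty.Over.w g₁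
      have w₂ : g₂.left ≫ Z.hom = Y₂.hom := MorphismProperty.Over.w g₂
      rw [← w₁, ← w₂]
      exact ((Category.assoc _ _ _).symm.trans (congrArg (· ≫ Z.hom) e'.symm)).trans
        (Category.assoc _ _ _)
    let h₁ : liftObj j f₁ ⟶ Y₁ := liftHom j f₁ f₁ rfl
    let h₂ : liftObj j f₁ ⟶ Y₂ := liftHom j f₁ f₂ h21
    have hh : h₁ ≫ g₁ = h₂ ≫ g₂ := by
      apply (EtShriek.compEtale j).map_injective
      rw [Functor.map_comp, Functor.map_comp, map_liftHom, map_liftHom, Category.assoc,
        Category.assoc, e]
    have hc := hx h₁ h₂ hg₁ hg₂ hh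
    change ℱ.obj.map ((EtShriek.compEtale j).map h₁).op (x g₁ hg₁) =
      ℱ.obj.map ((EtShriek.compEtale j).map h₂).op (x g₂ hg₂) at hc
    rw [map_liftHom, map_liftHom, op_comp, op_comp, Functor.map_comp, Functor.map_comp] at hc
    have hinj : Function.Injective (ℱ.obj.map (liftIso j f₁).hom.op) := by
      have : IsIso (ℱ.obj.map (liftIso j f₁).hom.op) := inferInstance
      exact ((isIso_iff_bijective _).1 this).1
    exact hinj hc

instance jCont : EtShriek.JCont j :=
  Functor.isContinuous_of_coverPreserving (compatiblePreserving j)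
    (EtShriek.coverPreserving_compEtale j)

end Groth.Agent.Lib.Helper5.Misc.JContGen
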