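import Mathlib
import Groth.Agent.Lib.Helper5.Misc.LanExact

/-!
# The left Kan extension along `(MorphismProperty.Over.map ⊤ hf).op` on abelian presheaves is
left exact (helper5)
-/
set_option autoImplicit false
universe w v u
open CategoryTheory CategoryTheory.Limits Opposite

namespace Groth.Agent.Lib.Helper5.Misc.ShriekMapMP

variable {T : Type u} [Category.{v} T] {P : MorphismProperty T} [P.IsStableUnderComposition]
  [P.HasOfPostcompProperty P] {X Y : T} {f : X ⟶ Y} (hf : P f)

/-- the functor `P.Over ⊤ X ⥤ P.Over ⊤ Y` of composition with `f` -/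
abbrev mapF : P.Over ⊤ X ⥤ P.Over ⊤ Y := MorphismProperty.Over.map ⊤ hf

/-- the index set of the components of the costructured arrow category -/
abbrev Idx (_ : P f) (V : P.Over ⊤ Y) : Type v := {φ : V.left ⟶ X // φ ≫ f = V.hom}

include hf in
lemma prop_idx {V : P.Over ⊤ Y} (φ : Idx hf V) : P φ.1 :=
  P.of_postcomp (W' := P) φ.1 f hf (by rw [φ.2]; exact V.prop)

/-- the functor picking, for each lift `φ : V ⟶ X`, the object `(Over.mk φ, 𝟙 V)` -/
def pick (V : P.Over ⊤ Y) : Discrete (Idx hf V) ⥤ CostructuredArrow (mapF hf).op (op V) :=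
  Discrete.functor (fun φ => CostructuredArrow.mk (S := (mapF hf).op)
    (Y := op (MorphismProperty.Over.mk ⊤ φ.1 (prop_idx hf φ)))
    (Quiver.Hom.op (MorphismProperty.Over.homMk (A := V)
      (B := (mapF hf).obj (MorphismProperty.Over.mk ⊤ φ.1 (prop_idx hf φ))) (𝟙 V.left)
      ((Category.id_comp _).trans φ.2))))

/-- the structure map of an object of the costructured arrow category -/
def phi {V : P.Over ⊤ Y} (d : CostructuredArrow (mapF hf).op (op V)) : Idx hf V :=
  ⟨d.hom.unop.left ≫ d.left.unop.hom, by
    have := MorphismProperty.Over.w d.hom.unop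
    exact (Category.assoc _ _ _).trans this⟩

/-- the canonical map from `d` to the picked object of its component -/
def toPick {V : P.Over ⊤ Y} (d : CostructuredArrow (mapF hf).op (op V)) :
    d ⟶ (pick hf V).obj ⟨phi hf d⟩ :=
  CostructuredArrow.homMk
    (Quiver.Hom.op (MorphismProperty.Over.homMk
      (A := MorphismProperty.Over.mk ⊤ (phi hf d).1 (prop_idx hf (phi hf d)))
      (B := d.left.unop) d.hom.unop.left rfl))
    (by
      apply Quiver.Hom.unop_inj
      apply MorphismProperty.Over.Hom.ext
      simp [pick]
      exact Category.id_comp _)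

lemma left_eq {V : P.Over ⊤ Y} (d : CostructuredArrow (mapF hf).op (op V))
    (x : StructuredArrow d (pick hf V)) :
    (x.hom.left.unop.left : V.left ⟶ d.left.unop.left) = d.hom.unop.left := by
  have h1 := CostructuredArrow.w x.hom
  have h3 := congrArg (fun k => k.unop.left) h1
  exact (Category.id_comp _).symm.trans h3

lemma right_eq {V : P.Over ⊤ Y} (d : CostructuredArrow (mapF hf).op (op V))
    (x : StructuredArrow d (pick hf V)) : x.right.as = phi hf d := by
  apply Subtype.ext
  have h2 : x.hom.left.unop.left ≫ d.left.unop.hom = x.right.as.1 :=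
    MorphismProperty.Over.w x.hom.left.unop
  have h3 := left_eq hf d x
  exact h2.symm.trans (congrArg (fun k => k ≫ d.left.unop.hom) h3)

instance final_pick (V : P.Over ⊤ Y) : (pick hf V).Final where
  out d := by
    refine isConnected_of_isInitial _ (x := StructuredArrow.mk (toPick hf d)) ?_
    refine IsInitial.ofUniqueHom
      (fun x => StructuredArrow.homMk (eqToHom (by
        apply Discrete.ext
        exact (right_eq hf d x).symm)) ?_) ?_
    · have h := right_eq hf d x
      have h3 := left_eq hf d x
      obtain ⟨_, ⟨φ⟩, g⟩ := x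
      dsimp only at h
      subst h
      dsimp
      simp only [CategoryTheory.Functor.map_id, Category.comp_id]
      apply CostructuredArrow.hom_ext
      apply Quiver.Hom.unop_inj
      apply MorphismProperty.Over.Hom.ext
      exact h3.symm
    · intro x m
      apply StructuredArrow.ext
      apply Subsingleton.elim

section

variable (A : Type*) [Category A] [HasFiniteLimits A]

lemma hasExactColimitsOfShape_costructuredArrow (K : (P.Over ⊤ Y)ᵒᵖ)
    [HasColimitsOfShape (CostructuredArrow (mapF hf).op K) A]
    [HasColimitsOfShape (Discrete (Idx hf K.unop)) A]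
    [HasExactColimitsOfShape (Discrete (Idx hf K.unop)) A] :
    HasExactColimitsOfShape (CostructuredArrow (mapF hf).op K) A := by
  have : (pick hf K.unop).Final := final_pick hf K.unop
  exact hasExactColimitsOfShape_of_final A (pick hf K.unop)

/-- the left Kan extension along `(Over.map ⊤ hf).op` is left exact when coproducts indexed by the
sets of lifts are exact -/
lemma preservesFiniteLimits_lan
    [∀ K, HasColimitsOfShape (CostructuredArrow (mapF hf).op K) A]
    [∀ V : P.Over ⊤ Y, HasColimitsOfShape (Discrete (Idx hf V)) A]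
    [∀ V : P.Over ⊤ Y, HasExactColimitsOfShape (Discrete (Idx hf V)) A] :
    PreservesFiniteLimits ((mapF hf).op.lan : ((P.Over ⊤ X)ᵒᵖ ⥤ A) ⥤ (P.Over ⊤ Y)ᵒᵖ ⥤ A) :=
  haveI := fun K => hasExactColimitsOfShape_costructuredArrow hf A K
  LanExact.preservesFiniteLimits_lan A (mapF hf).op

/-- `f_!` on sheaves (the left adjoint of restriction along `Over.map ⊤ hf`) is left exact -/
lemma preservesFiniteLimits_sheafPullback (J : GrothendieckTopology (P.Over ⊤ X))
    (K : GrothendieckTopology (P.Over ⊤ Y)) [(mapF hf).IsContinuous J K]
    [∀ K, HasColimitsOfShape (CostructuredArrow (mapF hf).op K) A]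
    [∀ V : P.Over ⊤ Y, HasColimitsOfShape (Discrete (Idx hf V)) A]
    [∀ V : P.Over ⊤ Y, HasExactColimitsOfShape (Discrete (Idx hf V)) A]
    [HasSheafify K A] :
    PreservesFiniteLimits ((mapF hf).sheafPullback A J K) := by
  have := preservesFiniteLimits_lan hf A
  have h1 : PreservesFiniteLimits ((mapF hf).op.lan ⋙ presheafToSheaf K A) :=
    comp_preservesFiniteLimits _ _
  have h2 : PreservesFiniteLimits
      (Functor.sheafPullbackConstruction.sheafPullback (mapF hf) A J K) := by
    unfold Functor.sheafPullbackConstruction.sheafPullback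
    exact comp_preservesFiniteLimits _ _
  exact preservesFiniteLimits_of_natIso
    (Functor.sheafPullbackConstruction.sheafPullbackIso (mapF hf) A J K).symm

end

end Groth.Agent.Lib.Helper5.Misc.ShriekMapMP
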