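import Mathlib
import Groth.Prelude.Def_EtBase
import Groth.Prelude.Def_EtShriek2
import Groth.Agent.Lib.Helper5.Misc.JContGen
import Groth.Agent.S0623

/-!
# Open immersions (monomorphic étale maps): `j⁻¹ j_* ≅ id` and `id ≅ j⁻¹ j_!` (helper5)
-/

set_option autoImplicit false
universe u
open CategoryTheory CategoryTheory.Limits AlgebraicGeometry Opposite

namespace Groth.Agent.Lib.Helper5.EtOpenImm

variable {U X : Scheme.{u}} (j : U ⟶ X) [hj : Etale j]

/-- The site-level adjunction `compEtale j ⊣ bc j`. -/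
noncomputable def siteAdj : EtShriek.compEtale j ⊣ EtCoh.bc j :=
  MorphismProperty.Over.mapPullbackAdj EtCoh.etaleMP.{u} ⊤ j hj trivial

instance isIso_unit_siteAdj [Mono j] : IsIso (siteAdj j).unit :=
  (siteAdj j).unit_isIso_of_L_fully_faithful

/-- `j_* ⋙ j⁻¹ ≅ id` on abelian sheaves, for a monomorphic étale `j`. -/
noncomputable def pushRestrIso [Mono j] [EtShriek.JCont j] :
    EtCoh.push j ⋙ EtShriek.restrAlong j ≅ 𝟭 (EtCoh.Ab U) :=
  haveI : (EtShriek.compEtale j ⋙ EtCoh.bc j).IsContinuous U.smallEtaleTopology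
      U.smallEtaleTopology :=
    Functor.isContinuous_comp _ _ _ X.smallEtaleTopology _
  Functor.sheafPushforwardContinuousComp (EtShriek.compEtale j) (EtCoh.bc j)
      AddCommGrpCat.{u + 1} U.smallEtaleTopology X.smallEtaleTopology U.smallEtaleTopology ≪≫
    Functor.sheafPushforwardContinuousId' (asIso (siteAdj j).unit).symm AddCommGrpCat.{u + 1}
      U.smallEtaleTopology

theorem isIso_counit_restrPush [Mono j] [EtShriek.JCont j] :
    IsIso (Groth.Agent.S0623.restrPushAdj j).counit :=
  (Groth.Agent.S0623.restrPushAdj j).isIso_counit_of_iso (pushRestrIso j)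

theorem isIso_counit_pullPush [Mono j] [EtShriek.JCont j] (F : EtCoh.Ab U) :
    IsIso ((EtCoh.pullPushAdj j).counit.app F) := by
  haveI := isIso_counit_restrPush j
  have h := Adjunction.leftAdjointUniq_hom_app_counit (EtCoh.pullPushAdj j)
    (Groth.Agent.S0623.restrPushAdj j) F
  rw [← h]
  infer_instance

theorem isIso_unit_extZero [Mono j] [EtShriek.JCont j] :
    IsIso (EtShriek.extZeroAdj j).unit :=
  (Adjunction.Triple.mk (EtShriek.extZeroAdj j)
    (Groth.Agent.S0623.restrPushAdj j)).isIso_unit_iff_isIso_counit.2 (isIso_counit_restrPush j)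

end Groth.Agent.Lib.Helper5.EtOpenImm
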