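import Mathlib
import Groth.Prelude.Def_FibSite

/-!
# The total topology of a (pre-)fibred site (helper5)

Description of the covering sieves of `FibSite.totalTopology`, (co)continuity of the fibre
inclusions, the sheaf criterion, and the induced topology on the fibres (SGA 4 VI 7.4).
-/

set_option autoImplicit false
universe w v₁ u₁ v₂ u₂ v₃ u₃
open CategoryTheory Opposite Pseudofunctor Pseudofunctor.CoGrothendieck Bicategory

namespace Groth.Agent.Lib.Helper5.FibTot

section General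

variable {C : Type u₁} [Category.{v₁} C] {D : Type u₂} [Category.{v₂} D]

/-- Separatedness is monotone in the presieve. -/
lemma isSeparatedFor_mono {P : Cᵒᵖ ⥤ Type w} {X : C} {R R' : Presieve X} (h : R ≤ R')
    (hR : Presieve.IsSeparatedFor P R) : Presieve.IsSeparatedFor P R' := by
  intro x t₁ t₂ h₁ h₂
  exact hR (x.restrict h) t₁ t₂ (Presieve.isAmalgamation_restrict h x t₁ h₁)
    (Presieve.isAmalgamation_restrict h x t₂ h₂)

/-- If `G^* P` is separated for `R` then `P` is separated for the image sieve. -/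
lemma isSeparatedFor_functorPushforward (G : C ⥤ D) (P : Dᵒᵖ ⥤ Type w) {U : C} (R : Sieve U)
    (h : Presieve.IsSeparatedFor (G.op ⋙ P) R.arrows) :
    Presieve.IsSeparatedFor P (R.functorPushforward G).arrows := by
  intro y t₁ t₂ h₁ h₂
  refine h.ext ?_
  intro V c hc
  have hm : (R.functorPushforward G).arrows (G.map c) := Sieve.image_mem_functorPushforward _ _ hc
  exact (h₁ (G.map c) hm).trans (h₂ (G.map c) hm).symm

/-- If `G^* P` is a sheaf for `R` then `P` is a sheaf for the image sieve. -/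
lemma isSheafFor_functorPushforward (G : C ⥤ D) (P : Dᵒᵖ ⥤ Type w) {U : C} (R : Sieve U)
    (h : Presieve.IsSheafFor (G.op ⋙ P) R.arrows) :
    Presieve.IsSheafFor P (R.functorPushforward G).arrows := by
  rw [← Presieve.isSeparatedFor_and_exists_isAmalgamation_iff_isSheafFor]
  refine ⟨isSeparatedFor_functorPushforward G P R h.isSeparatedFor, ?_⟩
  intro y hy
  have hm : ∀ ⦃V : C⦄ (c : V ⟶ U), R c → (R.functorPushforward G).arrows (G.map c) :=
    fun V c hc => Sieve.image_mem_functorPushforward _ _ hc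
  let x : Presieve.FamilyOfElements (G.op ⋙ P) R.arrows := fun V c hc => y (G.map c) (hm c hc)
  have hx : x.Compatible := by
    intro V₁ V₂ W e₁ e₂ c₁ c₂ h₁ h₂ he
    exact hy (G.map e₁) (G.map e₂) (hm c₁ h₁) (hm c₂ h₂)
      (by rw [← G.map_comp, ← G.map_comp, he])
  refine ⟨h.amalgamate x hx, ?_⟩
  rintro Z f ⟨V, c, b, hc, rfl⟩
  have h1 : P.map (G.map c).op (h.amalgamate x hx) = y (G.map c) (hm c hc) :=
    h.valid_glue hx c hc
  rw [op_comp, P.map_comp]
  change P.map b.op (P.map (G.map c).op (h.amalgamate x hx)) = _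
  rw [h1]
  have hy' := (Presieve.compatible_iff_sieveCompatible y).1 hy
  exact (hy' (G.map c) b (hm c hc)).symm

/-- A presheaf which is a sheaf for a pullback-stable (up to refinement) family of sieves
generating a topology is a sheaf. -/
lemma isSheaf_of_basis (K : GrothendieckTopology D) (P : Dᵒᵖ ⥤ Type w)
    (B : ∀ X : D, Set (Sieve X))
    (h1 : ∀ (X : D) (S : Sieve X), S ∈ K X → ∃ T ∈ B X, T ≤ S)
    (h2 : ∀ (X Y : D) (g : Y ⟶ X) (T : Sieve X), T ∈ B X → ∃ T' ∈ B Y, T' ≤ T.pullback g)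
    (h3 : ∀ (X : D) (T : Sieve X), T ∈ B X → Presieve.IsSheafFor P T.arrows) :
    Presieve.IsSheaf K P := by
  intro X S hS
  obtain ⟨T, hT, hle⟩ := h1 X S hS
  refine Presieve.isSheafFor_subsieve_aux P hle (h3 X T hT) ?_
  intro Y f _
  obtain ⟨T', hT', hle'⟩ := h2 X Y f T hT
  exact isSeparatedFor_mono hle' (h3 Y T' hT').isSeparatedFor

end General

variable {𝒮 : Type u₁} [Category.{v₁} 𝒮]
variable {F : Pseudofunctor (LocallyDiscrete 𝒮ᵒᵖ) Cat.{v₂, u₂}}

set_option backward.isDefEq.respectTransparency false in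
lemma ι_map_comp' {T : 𝒮} {X : ∫ᶜ F} {V Y₀ : F.obj ⟨op T⟩} (g : (⟨T, Y₀⟩ : ∫ᶜ F) ⟶ X) (a : V ⟶ Y₀) :
    (ι F T).map a ≫ g = (⟨g.base, a ≫ g.fiber⟩ : (⟨T, V⟩ : ∫ᶜ F) ⟶ X) := by
  let g' : (⟨T, V⟩ : ∫ᶜ F) ⟶ X := ⟨g.base, a ≫ g.fiber⟩
  have h : (ι F T).map a ≫ g = 𝟙 _ ≫ g' := by
    refine Hom.ext _ _ rfl ?_
    have nat := (F.mapId ⟨op T⟩).inv.toNatTrans.naturality a
    dsimp at nat
    rw [eqToHom_refl, Category.comp_id]
    change (a ≫ (F.mapId ⟨op T⟩).inv.toNatTrans.app Y₀) ≫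
      (F.map (𝟙 T).op.toLoc).toFunctor.map g.fiber ≫
        (F.mapComp g.base.op.toLoc (𝟙 T).op.toLoc).inv.toNatTrans.app X.fiber =
      (F.mapId ⟨op T⟩).inv.toNatTrans.app V ≫
        (F.map (𝟙 T).op.toLoc).toFunctor.map (a ≫ g.fiber) ≫
          (F.mapComp g.base.op.toLoc (𝟙 T).op.toLoc).inv.toNatTrans.app X.fiber
    rw [Functor.map_comp, Category.assoc, Category.assoc]
    exact (reassoc_of% nat) _
  exact h.trans (Category.id_comp g')

set_option backward.isDefEq.respectTransparency false in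
lemma comp_ι_map' {Z : ∫ᶜ F} {S : 𝒮} {W W' : F.obj ⟨op S⟩} (m : Z ⟶ (⟨S, W⟩ : ∫ᶜ F)) (c : W ⟶ W') :
    m ≫ (ι F S).map c =
      (⟨m.base, m.fiber ≫ (FibSite.invImage F m.base).map c⟩ : Z ⟶ (⟨S, W'⟩ : ∫ᶜ F)) := by
  let m' : Z ⟶ (⟨S, W'⟩ : ∫ᶜ F) := ⟨m.base, m.fiber ≫ (FibSite.invImage F m.base).map c⟩
  have h : m ≫ (ι F S).map c = m' ≫ 𝟙 _ := by
    refine Hom.ext _ _ rfl ?_
    rw [eqToHom_refl, Category.comp_id]
    change m.fiber ≫ (F.map m.base.op.toLoc).toFunctor.map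
        (c ≫ (F.mapId ⟨op S⟩).inv.toNatTrans.app W') ≫
        (F.mapComp (𝟙 S).op.toLoc m.base.op.toLoc).inv.toNatTrans.app W' =
      (m.fiber ≫ (F.map m.base.op.toLoc).toFunctor.map c) ≫
        (F.map m.base.op.toLoc).toFunctor.map ((F.mapId ⟨op S⟩).inv.toNatTrans.app W') ≫
        (F.mapComp (𝟙 S).op.toLoc m.base.op.toLoc).inv.toNatTrans.app W'
    rw [Functor.map_comp, Category.assoc, Category.assoc]
  exact h.trans (Category.comp_id m')

/-- Morphisms into/out of objects of the form `ι V`, from components. -/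
abbrev homMk {T : 𝒮} (V : F.obj ⟨op T⟩) (X : ∫ᶜ F) (f : T ⟶ X.base)
    (φ : V ⟶ (FibSite.invImage F f).obj X.fiber) : (ι F T).obj V ⟶ X := ⟨f, φ⟩

lemma ι_map_comp {Y X : ∫ᶜ F} (g : Y ⟶ X) {V : F.obj ⟨op Y.base⟩} (a : V ⟶ Y.fiber) :
    (ι F Y.base).map a ≫ g = homMk V X g.base (a ≫ g.fiber) := by
  rcases Y with ⟨T, Y₀⟩
  exact ι_map_comp' g a

lemma homMk_comp_ι_map {T S : 𝒮} (V : F.obj ⟨op T⟩) {W W' : F.obj ⟨op S⟩} (f : T ⟶ S)
    (d : V ⟶ (FibSite.invImage F f).obj W) (c : W ⟶ W') :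
    homMk V ((ι F S).obj W) f d ≫ (ι F S).map c =
      homMk V ((ι F S).obj W') f (d ≫ (FibSite.invImage F f).map c) :=
  comp_ι_map' (Z := (ι F T).obj V) (⟨f, d⟩ : (ι F T).obj V ⟶ (⟨S, W⟩ : ∫ᶜ F)) c

variable (J : FibSite.Topologies F)

/-- Key step: the pullback of the image of a fibre covering sieve contains the image of a fibre
covering sieve. -/
lemma exists_le_pullback (hF : FibSite.IsPreFibSite F J) {X Y : ∫ᶜ F} (g : Y ⟶ X)
    (R : Sieve X.fiber) (hR : R ∈ J X.base X.fiber) :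
    ∃ R' ∈ J Y.base Y.fiber, Sieve.functorPushforward (ι F Y.base) R' ≤
      (show Sieve X from Sieve.functorPushforward (ι F X.base) R).pullback g := by
  let f : Y.base ⟶ X.base := g.base
  let φ : Y.fiber ⟶ (FibSite.invImage F f).obj X.fiber := g.fiber
  haveI : (FibSite.invImage F f).IsContinuous (J X.base) (J Y.base) := hF f
  have h1 : Sieve.functorPushforward (FibSite.invImage F f) R ∈ J Y.base _ :=
    (CoverPreserving.of_isContinuous (FibSite.invImage F f) (J X.base) (J Y.base)).cover_preserve hR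
  refine ⟨(Sieve.functorPushforward (FibSite.invImage F f) R).pullback φ,
    (J Y.base).pullback_stable φ h1, ?_⟩
  rintro Z h ⟨V, a, b, ha, rfl⟩
  obtain ⟨W, c, d, hc, hd⟩ := ha
  refine ⟨W, c, b ≫ homMk V ((ι F X.base).obj W) f d, hc, ?_⟩
  have e1 : (ι F Y.base).map a ≫ g = homMk V ((ι F X.base).obj W) f d ≫ (ι F X.base).map c := by
    refine (ι_map_comp g a).trans (Eq.trans ?_ (homMk_comp_ι_map V f d c).symm)
    exact congrArg (fun t => homMk V X f t) hd
  exact (Category.assoc _ _ _).trans ((congrArg (fun t => b ≫ t) e1).trans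
    (Category.assoc _ _ _).symm)

/-- The image of a fibre sieve as a sieve on `X`. -/
abbrev img (X : ∫ᶜ F) (R : Sieve X.fiber) : Sieve X := Sieve.functorPushforward (ι F X.base) R

/-- The topology whose covering sieves are those containing the image of a fibre covering. -/
def ktop (hF : FibSite.IsPreFibSite F J) : GrothendieckTopology (∫ᶜ F) where
  sieves X := {S | ∃ R ∈ J X.base X.fiber, img X R ≤ S}
  top_mem' X := ⟨⊤, (J _).top_mem _, le_top⟩
  pullback_stable' := by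
    rintro X Y S g ⟨R, hR, hle⟩
    obtain ⟨R', hR', hle'⟩ := exists_le_pullback J hF g R hR
    exact ⟨R', hR', hle'.trans (Sieve.pullback_monotone g hle)⟩
  transitive' := by
    rintro X S ⟨R, hR, hle⟩ T hT
    have h2 : ∀ ⦃W : F.obj ⟨op X.base⟩⦄ (c : W ⟶ X.fiber), R c →
        ∃ R' ∈ J X.base W, img ((ι F X.base).obj W) R' ≤
          T.pullback (show (ι F X.base).obj W ⟶ X from (ι F X.base).map c) := by
      intro W c hc
      exact hT (hle _ (Sieve.image_mem_functorPushforward _ _ hc))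
    choose R' hR' hle' using h2
    refine ⟨Sieve.bind R (fun W c hc => R' c hc),
      (J X.base).bind_covering hR (fun W c hc => hR' c hc), ?_⟩
    rintro Z h ⟨V, a, b, ⟨W, e, c, hc, he, rfl⟩, rfl⟩
    have h3 : T ((show (ι F X.base).obj V ⟶ (ι F X.base).obj W from (ι F X.base).map e) ≫
        (show (ι F X.base).obj W ⟶ X from (ι F X.base).map c)) :=
      hle' c hc _ (Sieve.image_mem_functorPushforward _ _ he)
    have h4 := T.downward_closed h3 b
    refine (congrArg (fun t => T.arrows t) ?_).mp h4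
    exact congrArg (fun t => b ≫ t) ((ι F X.base).map_comp e c).symm

lemma ktop_eq (hF : FibSite.IsPreFibSite F J) : ktop J hF = FibSite.totalTopology F J := by
  apply le_antisymm
  · rintro X S ⟨R, hR, hle⟩
    exact (FibSite.totalTopology F J).superset_covering hle
      (FibSite.functorPushforward_mem_totalTopology hR)
  · refine FibSite.totalTopology_le ?_
    intro S U R hR
    exact ⟨R, hR, le_rfl⟩

theorem mem_totalTopology_iff (hF : FibSite.IsPreFibSite F J) (X : ∫ᶜ F) (S : Sieve X) :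
    S ∈ FibSite.totalTopology F J X ↔
      ∃ R ∈ J X.base X.fiber, Sieve.functorPushforward (ι F X.base) R ≤ S := by
  rw [← ktop_eq J hF]
  rfl

/-- The fibre inclusions are cocontinuous. -/
theorem isCocontinuous_ι (hF : FibSite.IsPreFibSite F J) (S : 𝒮) :
    (ι F S).IsCocontinuous (J S) (FibSite.totalTopology F J) where
  cover_lift {U T} hT := by
    obtain ⟨R, hR, hle⟩ := (mem_totalTopology_iff J hF _ T).1 hT
    refine (J S).superset_covering ?_ hR
    intro V c hc
    exact hle _ (Sieve.image_mem_functorPushforward _ _ hc)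

/-- A presheaf of types whose restrictions to the fibres are sheaves is a sheaf for the total
topology. -/
theorem isSheaf_type_of_fibres (hF : FibSite.IsPreFibSite F J) (P : (∫ᶜ F)ᵒᵖ ⥤ Type w)
    (h : ∀ S : 𝒮, Presieve.IsSheaf (J S) ((ι F S).op ⋙ P)) :
    Presieve.IsSheaf (FibSite.totalTopology F J) P := by
  refine isSheaf_of_basis (FibSite.totalTopology F J) P
    (fun X => {T | ∃ R ∈ J X.base X.fiber, T = img X R}) ?_ ?_ ?_
  · intro X S hS
    obtain ⟨R, hR, hle⟩ := (mem_totalTopology_iff J hF X S).1 hS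
    exact ⟨img X R, ⟨R, hR, rfl⟩, hle⟩
  · rintro X Y g T ⟨R, hR, rfl⟩
    obtain ⟨R', hR', hle'⟩ := exists_le_pullback J hF g R hR
    exact ⟨img Y R', ⟨R', hR', rfl⟩, hle'⟩
  · rintro X T ⟨R, hR, rfl⟩
    exact isSheafFor_functorPushforward (ι F X.base) P R (h X.base R hR)

/-- General coefficients. -/
theorem isSheaf_of_fibres (hF : FibSite.IsPreFibSite F J) {A : Type u₃} [Category.{v₃} A]
    (P : (∫ᶜ F)ᵒᵖ ⥤ A) (h : ∀ S : 𝒮, Presheaf.IsSheaf (J S) ((ι F S).op ⋙ P)) :
    Presheaf.IsSheaf (FibSite.totalTopology F J) P := by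
  intro E
  exact isSheaf_type_of_fibres J hF (P ⋙ coyoneda.obj (op E)) (fun S => h S E)

/-- The cartesian arrow over `k` with target `ι V`. -/
abbrev cart {T S : 𝒮} (k : T ⟶ S) (V : F.obj ⟨op S⟩) :
    (ι F T).obj ((FibSite.invImage F k).obj V) ⟶ (ι F S).obj V :=
  homMk ((FibSite.invImage F k).obj V) ((ι F S).obj V) k (𝟙 _)

lemma ι_map_comp_cart {T S : 𝒮} (k : T ⟶ S) {W V : F.obj ⟨op S⟩} (e : W ⟶ V) :
    (ι F T).map ((FibSite.invImage F k).map e) ≫ cart k V = cart k W ≫ (ι F S).map e := by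
  refine (ι_map_comp (cart k V) ((FibSite.invImage F k).map e)).trans
    (Eq.trans ?_ (homMk_comp_ι_map _ k (𝟙 _) e).symm)
  exact congrArg (fun t => homMk ((FibSite.invImage F k).obj W) ((ι F S).obj V) k t)
    ((Category.comp_id _).trans (Category.id_comp _).symm)

lemma ι_map_comp_cart' {T S : 𝒮} (k : T ⟶ S) {V : F.obj ⟨op S⟩} {Z₀ : F.obj ⟨op T⟩}
    (β : Z₀ ⟶ (FibSite.invImage F k).obj V) :
    (ι F T).map β ≫ cart k V = homMk Z₀ ((ι F S).obj V) k β := by
  refine (ι_map_comp (cart k V) β).trans ?_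
  exact congrArg (fun t => homMk Z₀ ((ι F S).obj V) k t) (Category.comp_id _)

/-- Restrictions of a separated presheaf on the total site to the fibres are separated. -/
lemma isSeparated_fibre (P : (∫ᶜ F)ᵒᵖ ⥤ Type w)
    (hP : Presieve.IsSeparated (FibSite.totalTopology F J) P) (T : 𝒮) :
    Presieve.IsSeparated (J T) ((ι F T).op ⋙ P) := by
  intro V R hR x t₁ t₂ h₁ h₂
  refine (hP _ (FibSite.functorPushforward_mem_totalTopology hR)).ext ?_
  rintro Z h ⟨W, e, b, he, rfl⟩
  rw [op_comp, P.map_comp]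
  exact congrArg (P.map b.op) ((h₁ e he).trans (h₂ e he).symm)

set_option backward.isDefEq.respectTransparency false in
/-- Core compatibility lemma for the continuity of the fibre inclusions. -/
lemma compat_core (hF : FibSite.IsPreFibSite F J) (P : (∫ᶜ F)ᵒᵖ ⥤ Type (max w u₂ v₂))
    (hP : Presieve.IsSeparated (FibSite.totalTopology F J) P) {S : 𝒮} {U : F.obj ⟨op S⟩}
    (R : Sieve U) (hR : R ∈ J S U)
    (x : Presieve.FamilyOfElements ((ι F S).op ⋙ P) R.arrows) (hx : x.Compatible)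
    {T : 𝒮} (k : T ⟶ S) (Z₀ : F.obj ⟨op T⟩) {V₁ V₂ : F.obj ⟨op S⟩}
    (c₁ : V₁ ⟶ U) (c₂ : V₂ ⟶ U) (h₁ : R c₁) (h₂ : R c₂)
    (β₁ : Z₀ ⟶ (FibSite.invImage F k).obj V₁) (β₂ : Z₀ ⟶ (FibSite.invImage F k).obj V₂)
    (hβ : β₁ ≫ (FibSite.invImage F k).map c₁ = β₂ ≫ (FibSite.invImage F k).map c₂) :
    P.map (homMk Z₀ ((ι F S).obj V₁) k β₁).op (x c₁ h₁) =
      P.map (homMk Z₀ ((ι F S).obj V₂) k β₂).op (x c₂ h₂) := by
  let Q' : (F.obj ⟨op T⟩)ᵒᵖ ⥤ Type (max w u₂ v₂) := (ι F T).op ⋙ P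
  have hQ' : Presieve.IsSeparated (J T) Q' := isSeparated_fibre J P hP T
  have hsep : ∀ (X : F.obj ⟨op T⟩) (S' : (J T).Cover X) (x y : Q'.obj (op X)),
      (∀ I : S'.Arrow, Q'.map I.f.op x = Q'.map I.f.op y) → x = y := by
    intro X S' x y hxy
    exact (hQ' S'.1 S'.2).ext (fun Y f hf => hxy ⟨Y, f, hf⟩)
  let G : (F.obj ⟨op T⟩)ᵒᵖ ⥤ Type (max w u₂ v₂) := (J T).plusObj Q'
  have hG : Presheaf.IsSheaf (J T) G := GrothendieckTopology.Plus.isSheaf_of_sep Q' hsep
  let η : Q' ⟶ G := (J T).toPlus Q'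
  have hη : ∀ X, Function.Injective (η.app (op X)) :=
    GrothendieckTopology.Plus.inj_of_sep Q' hsep
  haveI : (FibSite.invImage F k).IsContinuous (J S) (J T) := hF k
  have hH : Presieve.IsSheaf (J S) ((FibSite.invImage F k).op ⋙ G) :=
    Functor.op_comp_isSheaf_of_types (FibSite.invImage F k) (J S) (J T) ⟨G, hG⟩
  -- the transported family
  let x' : Presieve.FamilyOfElements ((FibSite.invImage F k).op ⋙ G) R.arrows :=
    fun V c hc => η.app (op ((FibSite.invImage F k).obj V)) (P.map (cart k V).op (x c hc))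
  have key : ∀ {W V : F.obj ⟨op S⟩} (e : W ⟶ V) (t : P.obj (op ((ι F S).obj V))),
      G.map ((FibSite.invImage F k).map e).op
        (η.app (op ((FibSite.invImage F k).obj V)) (P.map (cart k V).op t)) =
      η.app (op ((FibSite.invImage F k).obj W)) (P.map (cart k W).op (P.map ((ι F S).map e).op t)) := by
    intro W V e t
    have nat := NatTrans.naturality_apply η ((FibSite.invImage F k).map e).op (P.map (cart k V).op t)
    refine nat.symm.trans (congrArg (η.app (op ((FibSite.invImage F k).obj W))) ?_)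
    change P.map ((ι F T).map ((FibSite.invImage F k).map e)).op (P.map (cart k V).op t) =
      P.map (cart k W).op (P.map ((ι F S).map e).op t)
    rw [← Functor.map_comp_apply, ← Functor.map_comp_apply, ← op_comp, ← op_comp,
      ι_map_comp_cart]
  have hx' : x'.Compatible := by
    intro W₁ W₂ W e₁ e₂ d₁ d₂ hd₁ hd₂ he
    change G.map ((FibSite.invImage F k).map e₁).op (x' d₁ hd₁) =
      G.map ((FibSite.invImage F k).map e₂).op (x' d₂ hd₂)
    rw [key e₁, key e₂]
    exact congrArg (fun t => η.app (op ((FibSite.invImage F k).obj W)) (P.map (cart k W).op t))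
      (hx e₁ e₂ hd₁ hd₂ he)
  obtain ⟨z, hz, -⟩ := hH R hR x' hx'
  -- final computation
  have fin : ∀ {V : F.obj ⟨op S⟩} (c : V ⟶ U) (hc : R c)
      (β : Z₀ ⟶ (FibSite.invImage F k).obj V),
      η.app (op Z₀) (P.map (homMk Z₀ ((ι F S).obj V) k β).op (x c hc)) =
        G.map (β ≫ (FibSite.invImage F k).map c).op z := by
    intro V c hc β
    have e1 : P.map (homMk Z₀ ((ι F S).obj V) k β).op (x c hc) =
        Q'.map β.op (P.map (cart k V).op (x c hc)) := by
      change _ = P.map ((ι F T).map β).op (P.map (cart k V).op (x c hc))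
      rw [← Functor.map_comp_apply, ← op_comp, ι_map_comp_cart']
    rw [e1]
    have nat := NatTrans.naturality_apply η β.op (P.map (cart k V).op (x c hc))
    refine nat.trans ?_
    change G.map β.op (x' c hc) = _
    rw [← hz c hc, op_comp, Functor.map_comp_apply]
    rfl
  apply hη Z₀
  rw [fin c₁ h₁ β₁, fin c₂ h₂ β₂, hβ]

lemma wd (hF : FibSite.IsPreFibSite F J) (P : (∫ᶜ F)ᵒᵖ ⥤ Type (max w u₂ v₂))
    (hP : Presieve.IsSeparated (FibSite.totalTopology F J) P) {S : 𝒮} {U : F.obj ⟨op S⟩}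
    (R : Sieve U) (hR : R ∈ J S U)
    (x : Presieve.FamilyOfElements ((ι F S).op ⋙ P) R.arrows) (hx : x.Compatible)
    {Z : ∫ᶜ F} {V₁ V₂ : F.obj ⟨op S⟩}
    (c₁ : V₁ ⟶ U) (c₂ : V₂ ⟶ U) (h₁ : R c₁) (h₂ : R c₂)
    (b₁ : Z ⟶ (ι F S).obj V₁) (b₂ : Z ⟶ (ι F S).obj V₂)
    (hb : b₁ ≫ (ι F S).map c₁ = b₂ ≫ (ι F S).map c₂) :
    P.map b₁.op (x c₁ h₁) = P.map b₂.op (x c₂ h₂) := by
  rcases Z with ⟨T, Z₀⟩
  rcases b₁ with ⟨k₁, β₁⟩
  rcases b₂ with ⟨k₂, β₂⟩
  have e := ((homMk_comp_ι_map Z₀ k₁ β₁ c₁).symm.trans hb).trans (homMk_comp_ι_map Z₀ k₂ β₂ c₂)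
  obtain ⟨hk, hfib⟩ := (Hom.ext_iff _ _).1 e
  change k₁ = k₂ at hk
  subst hk
  refine compat_core J hF P hP R hR x hx k₁ Z₀ c₁ c₂ h₁ h₂ β₁ β₂ ?_
  have h' := hfib
  simp only [eqToHom_refl, Category.comp_id] at h'
  exact h'

/-- Restriction of a sheaf of (large enough) types on the total site to a fibre is a sheaf. -/
theorem isSheaf_fibre_type (hF : FibSite.IsPreFibSite F J) (P : (∫ᶜ F)ᵒᵖ ⥤ Type (max w u₂ v₂))
    (hP : Presieve.IsSheaf (FibSite.totalTopology F J) P) (S : 𝒮) :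
    Presieve.IsSheaf (J S) ((ι F S).op ⋙ P) := by
  intro U R hR
  rw [← Presieve.isSeparatedFor_and_exists_isAmalgamation_iff_isSheafFor]
  refine ⟨isSeparated_fibre J P hP.isSeparated S R hR, ?_⟩
  intro x hx
  have hm : ∀ ⦃V : F.obj ⟨op S⟩⦄ (c : V ⟶ U), R c →
      (R.functorPushforward (ι F S)).arrows ((ι F S).map c) :=
    fun V c hc => Sieve.image_mem_functorPushforward _ _ hc
  -- the extended family on the image sieve
  have hex : ∀ ⦃Z : ∫ᶜ F⦄ (h : Z ⟶ (ι F S).obj U), (R.functorPushforward (ι F S)).arrows h →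
      ∃ t : P.obj (op Z), ∀ (V : F.obj ⟨op S⟩) (c : V ⟶ U) (b : Z ⟶ (ι F S).obj V) (hc : R c),
        h = b ≫ (ι F S).map c → t = P.map b.op (x c hc) := by
    rintro Z h ⟨V₀, c₀, b₀, hc₀, rfl⟩
    refine ⟨P.map b₀.op (x c₀ hc₀), ?_⟩
    intro V c b hc e
    exact wd J hF P hP.isSeparated R hR x hx c₀ c hc₀ hc b₀ b e
  choose y hy using hex
  have hyc : Presieve.FamilyOfElements.Compatible (P := P) (R := (R.functorPushforward (ι F S)).arrows) y := by
    rw [Presieve.compatible_iff_sieveCompatible]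
    rintro Z Z' h g ⟨V₀, c₀, b₀, hc₀, rfl⟩
    rw [hy _ _ V₀ c₀ b₀ hc₀ rfl, hy _ _ V₀ c₀ (g ≫ b₀) hc₀ (Category.assoc _ _ _).symm,
      op_comp, Functor.map_comp_apply]
  obtain ⟨t, ht, -⟩ := hP _ (FibSite.functorPushforward_mem_totalTopology hR) y hyc
  refine ⟨t, ?_⟩
  intro V c hc
  have h1 := ht ((ι F S).map c) (hm c hc)
  have h2 := hy ((ι F S).map c) (hm c hc) V c (𝟙 _) hc (Category.id_comp _).symm
  refine h1.trans (h2.trans ?_)
  simp

/-- The fibre inclusions are continuous. -/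
theorem isContinuous_ι (hF : FibSite.IsPreFibSite F J) (S : 𝒮) :
    (ι F S).IsContinuous (J S) (FibSite.totalTopology F J) where
  op_comp_isSheaf_of_types G :=
    isSheaf_fibre_type.{max u₁ v₁} J hF G.obj ((isSheaf_iff_isSheaf_of_type _ _).1 G.2) S

set_option backward.isDefEq.respectTransparency false in
/-- If `ι c` factors through `ι c'` in the total category, then `c` factors through `c'`. -/
lemma factor_of_ι_map_eq {S : 𝒮} {U V V' : F.obj ⟨op S⟩} (c : V ⟶ U) (c' : V' ⟶ U)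
    (b : (ι F S).obj V ⟶ (ι F S).obj V') (e : (ι F S).map c = b ≫ (ι F S).map c') :
    ∃ β' : V ⟶ V', c = β' ≫ c' := by
  rcases b with ⟨k, β⟩
  have e' := e.trans (homMk_comp_ι_map V k β c')
  obtain ⟨hk, hfib⟩ := (Hom.ext_iff _ _).1 e'
  change 𝟙 S = k at hk
  subst hk
  have h' : c ≫ (F.mapId ⟨op S⟩).inv.toNatTrans.app U =
      β ≫ (F.map (𝟙 S).op.toLoc).toFunctor.map c' := by
    have h'' := hfib
    simp only [eqToHom_refl, Category.comp_id] at h''
    exact h''
  refine ⟨β ≫ (F.mapId ⟨op S⟩).hom.toNatTrans.app V', ?_⟩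
  have nat := (F.mapId ⟨op S⟩).hom.toNatTrans.naturality c'
  dsimp at nat
  have iso : (F.mapId ⟨op S⟩).inv.toNatTrans.app U ≫ (F.mapId ⟨op S⟩).hom.toNatTrans.app U = 𝟙 _ := by
    rw [← Cat.Hom₂.comp_app]
    simp
  calc c = c ≫ (F.mapId ⟨op S⟩).inv.toNatTrans.app U ≫ (F.mapId ⟨op S⟩).hom.toNatTrans.app U := by
        rw [iso]; exact (Category.comp_id c).symm
    _ = (β ≫ (F.map (𝟙 S).op.toLoc).toFunctor.map c') ≫ (F.mapId ⟨op S⟩).hom.toNatTrans.app U := by
        rw [← Category.assoc, h']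
    _ = (β ≫ (F.mapId ⟨op S⟩).hom.toNatTrans.app V') ≫ c' := by
        rw [Category.assoc, Category.assoc]
        exact congrArg (fun t => β ≫ t) nat

/-- Restriction of a sheaf (any coefficients) on the total site to a fibre is a sheaf. -/
theorem isSheaf_fibre (hF : FibSite.IsPreFibSite F J) {A : Type u₃} [Category.{v₃} A]
    (P : (∫ᶜ F)ᵒᵖ ⥤ A) (hP : Presheaf.IsSheaf (FibSite.totalTopology F J) P) (S : 𝒮) :
    Presheaf.IsSheaf (J S) ((ι F S).op ⋙ P) := by
  haveI := isContinuous_ι J hF S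
  exact Functor.op_comp_isSheaf_of_isSheaf (ι F S) (J S) (FibSite.totalTopology F J) P hP

/-- Sheaves on the total site are the presheaves whose restrictions to the fibres are sheaves. -/
theorem isSheaf_iff (hF : FibSite.IsPreFibSite F J) {A : Type u₃} [Category.{v₃} A]
    (P : (∫ᶜ F)ᵒᵖ ⥤ A) :
    Presheaf.IsSheaf (FibSite.totalTopology F J) P ↔
      ∀ S : 𝒮, Presheaf.IsSheaf (J S) ((ι F S).op ⋙ P) :=
  ⟨fun hP S => isSheaf_fibre J hF P hP S, fun h => isSheaf_of_fibres J hF P h⟩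

/-- Continuity out of the total site is tested on the fibres. -/
theorem isContinuous_iff (hF : FibSite.IsPreFibSite F J) {D : Type u₃} [Category.{v₃} D]
    (K : GrothendieckTopology D) (m : ∫ᶜ F ⥤ D) :
    m.IsContinuous (FibSite.totalTopology F J) K ↔
      ∀ S : 𝒮, (ι F S ⋙ m).IsContinuous (J S) K := by
  constructor
  · intro h S
    haveI := isContinuous_ι J hF S
    exact Functor.isContinuous_comp (ι F S) m (J S) (FibSite.totalTopology F J) K
  · intro h
    refine ⟨fun G => ?_⟩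
    refine isSheaf_type_of_fibres J hF (m.op ⋙ G.obj) (fun S => ?_)
    haveI := h S
    exact Functor.op_comp_isSheaf_of_types (ι F S ⋙ m) (J S) K G

/-- The total topology induces the given topology on each fibre. -/
theorem inducedTopology_ι_eq (hF : FibSite.IsPreFibSite F J) (S : 𝒮) :
    (ι F S).inducedTopology (FibSite.totalTopology F J) = J S := by
  apply le_antisymm
  · intro U R hR
    have h1 : R.functorPushforward (ι F S) ∈ FibSite.totalTopology F J ((ι F S).obj U) :=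
      (CoverPreserving.of_isContinuous (ι F S)
        ((ι F S).inducedTopology (FibSite.totalTopology F J))
        (FibSite.totalTopology F J)).cover_preserve hR
    obtain ⟨R', hR', hle⟩ := (mem_totalTopology_iff J hF _ _).1 h1
    refine (J S).superset_covering ?_ hR'
    intro V c hc
    obtain ⟨V', c', b, hc', e⟩ := hle _ (Sieve.image_mem_functorPushforward _ _ hc)
    obtain ⟨β', rfl⟩ := factor_of_ι_map_eq c c' b e
    exact R.downward_closed hc' β'
  · rw [Functor.le_inducedTopology_iff]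
    exact isContinuous_ι J hF S

end Groth.Agent.Lib.Helper5.FibTot
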