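import Mathlib

set_option autoImplicit false
universe u
open CategoryTheory CategoryTheory.Limits

namespace Groth.Agent.Lib.Helper5.Misc.TruncLEColim

section Gen
variable {ι ι' : Type*} {c : ComplexShape ι} {c' : ComplexShape ι'}
  {C : Type*} [Category C] [HasZeroMorphisms C] [HasZeroObject C]

theorem isIso_πTruncGE_f (K : HomologicalComplex C c') (e : c.Embedding c') [e.IsTruncGE]
    [∀ i', K.HasHomology i'] (i : ι) (hi : ¬ e.BoundaryGE i) :
    IsIso ((K.πTruncGE e).f (e.f i)) :=
  (e.isIso_liftExtend_f_iff (K.restrictionToTruncGE' e) (K.restrictionToTruncGE'_hasLift e)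
    rfl).2 (HomologicalComplex.isIso_restrictionToTruncGE' K e i hi)

theorem isIso_ιTruncLE_f (K : HomologicalComplex C c') (e : c.Embedding c') [e.IsTruncLE]
    [∀ i', K.HasHomology i'] (i : ι) (hi : ¬ e.BoundaryLE i) :
    IsIso ((K.ιTruncLE e).f (e.f i)) := by
  have h1 : IsIso ((K.op.πTruncGE e.op).f (e.op.f i)) :=
    isIso_πTruncGE_f K.op e.op i (by simpa using hi)
  show IsIso ((K.op.πTruncGE e.op).f (e.f i)).unop
  exact (isIso_unop_iff _).2 h1

end Gen

variable {C : Type*} [Category C] [Abelian C] (L : CochainComplex C ℤ)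

theorem isIso_ιTruncLE_f' (n i : ℤ) (h : i < n) : IsIso ((L.ιTruncLE n).f i) := by
  obtain ⟨k, hk⟩ : ∃ k : ℕ, (ComplexShape.embeddingUpIntLE n).f k = i :=
    ⟨(n - i).toNat, by show n - ((n - i).toNat : ℤ) = i; omega⟩
  have hk' : n - (k : ℤ) = i := hk
  have hb : ¬ (ComplexShape.embeddingUpIntLE n).BoundaryLE k := by
    rw [ComplexShape.boundaryLE_embeddingUpIntLE_iff]
    omega
  have := isIso_ιTruncLE_f L (ComplexShape.embeddingUpIntLE n) k hb
  rw [hk] at this
  exact this

/-- the transition maps between canonical truncations -/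
noncomputable def trLE {n n' : ℤ} (h : n ≤ n') : L.truncLE n ⟶ L.truncLE n' :=
  haveI : (L.truncLE n).IsStrictlyLE n' := CochainComplex.isStrictlyLE_of_le _ n n' h
  inv ((L.truncLE n).ιTruncLE n') ≫ CochainComplex.truncLEMap (L.ιTruncLE n) n'

@[reassoc]
lemma trLE_ι {n n' : ℤ} (h : n ≤ n') : trLE L h ≫ L.ιTruncLE n' = L.ιTruncLE n := by
  haveI : (L.truncLE n).IsStrictlyLE n' := CochainComplex.isStrictlyLE_of_le _ n n' h
  rw [trLE, Category.assoc, CochainComplex.ιTruncLE_naturality, IsIso.inv_hom_id_assoc]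

instance mono_ιTruncLE (n : ℤ) : Mono (L.ιTruncLE n) := by
  dsimp [CochainComplex.ιTruncLE]
  infer_instance

/-- the sequence of canonical truncations -/
noncomputable def seqLE : ℕ ⥤ CochainComplex C ℤ where
  obj m := L.truncLE m
  map {m m'} f := trLE L (by exact_mod_cast leOfHom f)
  map_id m := by
    rw [← cancel_mono (L.ιTruncLE m), trLE_ι, Category.id_comp]
  map_comp {m m' m''} f g := by
    rw [← cancel_mono (L.ιTruncLE m''), trLE_ι, Category.assoc, trLE_ι, trLE_ι]

noncomputable def seqLECocone : Cocone (seqLE L) where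
  pt := L
  ι :=
    { app := fun m => L.ιTruncLE m
      naturality := fun m m' f => by
        have hle : (m : ℤ) ≤ (m' : ℤ) := by exact_mod_cast leOfHom f
        show trLE L hle ≫ L.ιTruncLE m' = L.ιTruncLE m ≫ 𝟙 L
        rw [trLE_ι, Category.comp_id] }

/-- `L` is the colimit of its canonical truncations -/
noncomputable def seqLEIsColimit : IsColimit (seqLECocone L) := by
  refine HomologicalComplex.isColimitOfEval _ _ (fun i => ?_)
  have hN : i < ((i + 1).toNat : ℤ) := by
    have := Int.self_le_toNat (i + 1)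
    omega
  have h : ((seqLE L) ⋙ HomologicalComplex.eval C _ i).IsEventuallyConstantFrom (i + 1).toNat := by
    intro j f
    have hj : (i + 1).toNat ≤ j := leOfHom f
    have hle : (((i + 1).toNat : ℕ) : ℤ) ≤ (j : ℤ) := by exact_mod_cast hj
    show IsIso ((trLE L hle).f i)
    haveI h1 := isIso_ιTruncLE_f' L ((i + 1).toNat : ℤ) i hN
    haveI h2 := isIso_ιTruncLE_f' L (j : ℤ) i (by omega)
    have e : (trLE L hle).f i ≫ (L.ιTruncLE j).f i = (L.ιTruncLE ((i + 1).toNat : ℤ)).f i := by
      rw [← HomologicalComplex.comp_f, trLE_ι]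
    exact IsIso.of_isIso_fac_right e
  haveI : IsIso (((HomologicalComplex.eval C _ i).mapCocone (seqLECocone L)).ι.app (i + 1).toNat) :=
    isIso_ιTruncLE_f' L ((i + 1).toNat : ℤ) i hN
  exact h.isColimitOfIsIso _

instance (m : ℕ) : ((seqLE L).obj m).IsStrictlyLE m :=
  inferInstanceAs ((L.truncLE m).IsStrictlyLE m)

end Groth.Agent.Lib.Helper5.Misc.TruncLEColim
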