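import Mathlib
import Groth.Prelude.Def_BigSite
import Groth.Prelude.Def_SGA4b

/-!
# Basic lemmas on the small étale site (helper5)
-/

set_option autoImplicit false
universe u
open CategoryTheory CategoryTheory.Limits AlgebraicGeometry Opposite

namespace Groth.Agent.Lib.Helper5.EtSiteBasic

variable {X Y : Scheme.{u}}

set_option backward.isDefEq.respectTransparency.types false in
/-- Covering sieves of the small étale site: jointly surjective. -/
lemma mem_smallEtale_iff (U : X.Etale) (R : Sieve U) :
    R ∈ X.smallEtaleTopology U ↔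
      ∀ x : U.left, ∃ (W : X.Etale) (g : W ⟶ U) (y : W.left), R g ∧ g.left y = x := by
  have eX : X.smallEtaleTopology =
      (X.smallPretopology (P := EtCoh.etaleMP) (Q := EtCoh.etaleMP)).toGrothendieck :=
    Scheme.smallGrothendieckTopology_eq_toGrothendieck_smallPretopology X le_rfl
  constructor
  · intro h x
    rw [eX] at h
    obtain ⟨W, g, y, hg, -, hy⟩ := (Scheme.mem_toGrothendieck_smallPretopology U R).1 h x
    exact ⟨W, g, y, hg, hy⟩
  · intro h
    rw [eX]
    refine (Scheme.mem_toGrothendieck_smallPretopology U R).2 ?_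
    intro x
    obtain ⟨W, g, y, hg, hy⟩ := h x
    exact ⟨W, g, y, hg, inferInstance, hy⟩

/-- The étale `Y`-scheme given by an étale morphism. -/
noncomputable def ofEtale {V : Scheme.{u}} (v : V ⟶ Y) [hv : Etale v] : Y.Etale :=
  MorphismProperty.Over.mk ⊤ v hv

/-- A single surjective morphism generates a covering sieve. -/
lemma generate_singleton_mem {U W : X.Etale} (k : W ⟶ U) (hk : Function.Surjective k.left) :
    Sieve.generate (Presieve.singleton k) ∈ X.smallEtaleTopology U := by
  rw [mem_smallEtale_iff]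
  intro x
  obtain ⟨y, hy⟩ := hk x
  exact ⟨W, k, y, ⟨W, 𝟙 _, k, Presieve.singleton.mk, by simp⟩, hy⟩

/-- Sections of a sheaf of sets which agree on a covering sieve are equal. -/
lemma sect_ext (F : EtDesc.Sh X) {U : X.Etale} (R : Sieve U) (hR : R ∈ X.smallEtaleTopology U)
    (s t : F.obj.obj (op U))
    (h : ∀ ⦃W : X.Etale⦄ (g : W ⟶ U), R g → F.obj.map g.op s = F.obj.map g.op t) : s = t :=
  (((isSheaf_iff_isSheaf_of_type _ _).1 F.2).isSeparated _ hR).ext (fun _ g hg => h g hg)

/-- Monomorphisms of sheaves of sets are the sectionwise injective maps. -/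
lemma mono_iff {F G : EtDesc.Sh X} (a : F ⟶ G) :
    Mono a ↔ ∀ U : X.Etale, Function.Injective (a.hom.app (op U)) := by
  rw [Sheaf.Hom.mono_iff_presheaf_mono, NatTrans.mono_iff_mono_app]
  constructor
  · intro h U
    exact (mono_iff_injective _).1 (h (op U))
  · intro h U
    exact (mono_iff_injective _).2 (h U.unop)

/-- Epimorphisms of sheaves of sets are the locally surjective maps. -/
lemma epi_iff {F G : EtDesc.Sh X} (a : F ⟶ G) :
    Epi a ↔ ∀ (U : X.Etale) (t : G.obj.obj (op U)),
      Presheaf.imageSieve a.hom t ∈ X.smallEtaleTopology U := by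
  rw [← Sheaf.isLocallySurjective_iff_epi]
  constructor
  · intro h U t
    exact Presheaf.imageSieve_mem X.smallEtaleTopology a.hom t
  · intro h
    exact ⟨fun {U} t => h U t⟩

/-- The map `bc (ofEtale v) ⟶ U` induced by `h : X ×_Y V ⟶ U` over `X`. -/
noncomputable def homOfPropC (f : X ⟶ Y) (U : X.Etale) {V : Scheme.{u}} (v : V ⟶ Y) [Etale v]
    (h : pullback f v ⟶ U.left) (hh : h ≫ U.hom = pullback.fst f v) :
    (EtCoh.bc f).obj (ofEtale v) ⟶ U :=
  MorphismProperty.Over.homMk ((pullbackSymmetry v f).hom ≫ h) (by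
    rw [Category.assoc, hh]
    exact pullbackSymmetry_hom_comp_fst v f) trivial

/-- Condition (C) gives, for every étale `U ⟶ X`, a surjection from a base-changed object. -/
lemma exists_cover_of_propC (f : X ⟶ Y) (hC : BigSite.PropC f) (U : X.Etale) :
    ∃ (V : Y.Etale) (k : (EtCoh.bc f).obj V ⟶ U), Function.Surjective k.left := by
  haveI : Etale U.hom := U.prop
  obtain ⟨V, v, hv, h, hh, hs⟩ := hC U.left U.hom
  haveI := hv
  refine ⟨ofEtale v, homOfPropC f U v h hh, ?_⟩
  have h1 : Function.Surjective ((pullbackSymmetry v f).hom ≫ h) := by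
    rw [Scheme.Hom.comp_base, TopCat.coe_comp]
    exact hs.1.comp (pullbackSymmetry v f).hom.homeomorph.surjective
  exact h1

/-- If every object of `X.Etale` receives a surjection from a base-changed object, then `f_*`
reflects monomorphisms of sheaves of sets. -/
lemma mono_of_mono_pushSh (f : X ⟶ Y)
    (hcov : ∀ U : X.Etale, ∃ (V : Y.Etale) (k : (EtCoh.bc f).obj V ⟶ U),
      Function.Surjective k.left)
    {F G : EtDesc.Sh X} (a : F ⟶ G) (h : Mono ((EtDesc.pushSh f).map a)) : Mono a := by
  rw [mono_iff] at h ⊢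
  intro U s t hst
  obtain ⟨V, k, hk⟩ := hcov U
  have hV : Function.Injective (a.hom.app (op ((EtCoh.bc f).obj V))) := h V
  have e : F.obj.map k.op s = F.obj.map k.op t := by
    apply hV
    have n1 := ConcreteCategory.congr_hom (a.hom.naturality k.op) s
    have n2 := ConcreteCategory.congr_hom (a.hom.naturality k.op) t
    simp only [types_comp_apply] at n1 n2
    rw [n1, n2, hst]
  refine sect_ext F _ (generate_singleton_mem k hk) s t ?_
  rintro W g ⟨W', l, k', ⟨⟩, rfl⟩
  rw [op_comp, F.obj.map_comp]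
  simp only [types_comp_apply]
  rw [e]

/-- If every object of `X.Etale` receives a surjection from a base-changed object, then `f_*`
reflects epimorphisms of sheaves of sets. -/
lemma epi_of_epi_pushSh (f : X ⟶ Y)
    (hcov : ∀ U : X.Etale, ∃ (V : Y.Etale) (k : (EtCoh.bc f).obj V ⟶ U),
      Function.Surjective k.left)
    {F G : EtDesc.Sh X} (a : F ⟶ G) (h : Epi ((EtDesc.pushSh f).map a)) : Epi a := by
  rw [epi_iff] at h ⊢
  intro U t
  obtain ⟨V, k, hk⟩ := hcov U
  have hV := h V (G.obj.map k.op t)
  have hV' := (EtCoh.coverPreserving_bc f).cover_preserve hV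
  rw [mem_smallEtale_iff] at hV' ⊢
  intro x
  obtain ⟨y, hy⟩ := hk x
  obtain ⟨W, g, z, ⟨V', g', l, hg', rfl⟩, hz⟩ := hV' y
  refine ⟨W, (l ≫ (EtCoh.bc f).map g') ≫ k, z, ?_, ?_⟩
  · rw [Category.assoc]
    apply Sieve.downward_closed
    obtain ⟨s, hs⟩ := hg'
    refine ⟨s, ?_⟩
    rw [op_comp, G.obj.map_comp]
    exact hs
  · rw [← hy, ← hz]
    rfl

end Groth.Agent.Lib.Helper5.EtSiteBasic
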