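import Mathlib

/-!
# Families of points detecting covering sieves (helper5)

General lemmas: if a family of points of a site detects covering sieves, then the fibre
functors on sheaves with values in a concrete category (possibly in a bigger universe than
the points) detect equality of sections, monomorphisms and locally surjective morphisms.
-/

set_option autoImplicit false
universe w w' v v' u u'
open CategoryTheory CategoryTheory.Limits Opposite

namespace Groth.Agent.Lib.Helper5.PointDetect

variable {C : Type u} [Category.{v} C] {J : GrothendieckTopology C}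

/-- A family of points detects covering sieves. -/
def Detects {ι : Sort*} (P : ι → GrothendieckTopology.Point.{w} J) : Prop :=
  ∀ (U : C) (R : Sieve U),
    (∀ (i : ι) (x : (P i).fiber.obj U), ∃ (Y : C) (f : Y ⟶ U) (y : (P i).fiber.obj Y),
      R f ∧ (P i).fiber.map f y = x) → R ∈ J U

variable [LocallySmall.{w} C]
variable {A : Type u'} [Category.{v'} A] [HasColimitsOfSize.{w, w} A]
  {FC : A → A → Type*} {CC : A → Type w'} [∀ X Y, FunLike (FC X Y) (CC X) (CC Y)]
  [ConcreteCategory.{w'} A FC] [PreservesFilteredColimitsOfSize.{w, w} (forget A)]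

/-- Sections of a separated presheaf with equal germs at all points of a detecting family
are equal. -/
lemma eq_of_germs {ι : Sort*} {P : ι → GrothendieckTopology.Point.{w} J} (hP : Detects P)
    (F : Cᵒᵖ ⥤ A) (hF : Presieve.IsSeparated J (F ⋙ forget A)) {U : C}
    (s t : ToType (F.obj (op U)))
    (h : ∀ (i : ι) (x : (P i).fiber.obj U),
      (P i).toPresheafFiber U x F s = (P i).toPresheafFiber U x F t) : s = t := by
  let R : Sieve U :=
    { arrows := fun Y f => F.map f.op s = F.map f.op t
      downward_closed := by
        intro Y Z f hf g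
        simp only [op_comp, Functor.map_comp, ConcreteCategory.comp_apply]
        rw [hf] }
  have hR : R ∈ J U := by
    apply hP
    intro i x
    obtain ⟨Y, f, y, hy, hf⟩ := ((P i).toPresheafFiber_eq_iff' U x s t).1 (h i x)
    exact ⟨Y, f, y, hf, hy⟩
  exact (hF R hR).ext (fun Y f hf => hf)

variable [J.HasSheafCompose (forget A)]

/-- The underlying presheaf of sets of a sheaf is separated. -/
lemma isSeparated_of_sheaf (F : Sheaf J A) : Presieve.IsSeparated J (F.obj ⋙ forget A) :=
  ((isSheaf_iff_isSheaf_of_type _ _).1
    ((sheafCompose J (forget A)).obj F).2).isSeparated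

/-- Sections of a sheaf with equal germs at all points of a detecting family are equal. -/
lemma eq_of_germs_sheaf {ι : Sort*} {P : ι → GrothendieckTopology.Point.{w} J} (hP : Detects P)
    (F : Sheaf J A) {U : C} (s t : ToType (F.obj.obj (op U)))
    (h : ∀ (i : ι) (x : (P i).fiber.obj U),
      (P i).toPresheafFiber U x F.obj s = (P i).toPresheafFiber U x F.obj t) : s = t :=
  eq_of_germs hP F.obj (isSeparated_of_sheaf F) s t h

/-- A morphism of sheaves which is injective on all fibres of a detecting family is injective
on sections. -/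
lemma injective_app_of_injective_fibers {ι : Sort*} {P : ι → GrothendieckTopology.Point.{w} J}
    (hP : Detects P) {F G : Sheaf J A} (a : F ⟶ G)
    (h : ∀ i : ι, Function.Injective ((P i).sheafFiber.map a)) (U : C) :
    Function.Injective (a.hom.app (op U)) := by
  intro s t hst
  apply eq_of_germs_sheaf hP F
  intro i x
  apply h i
  have n1 := ConcreteCategory.congr_hom ((P i).toPresheafFiber_naturality a.hom U x) s
  have n2 := ConcreteCategory.congr_hom ((P i).toPresheafFiber_naturality a.hom U x) t
  simp only [ConcreteCategory.comp_apply] at n1 n2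
  exact n1.trans ((congrArg _ hst).trans n2.symm)

/-- A morphism of sheaves which is surjective on all fibres of a detecting family is locally
surjective. -/
lemma isLocallySurjective_of_surjective_fibers {ι : Sort*}
    {P : ι → GrothendieckTopology.Point.{w} J}
    (hP : Detects P) {F G : Sheaf J A} (a : F ⟶ G)
    (h : ∀ i : ι, Function.Surjective ((P i).sheafFiber.map a)) :
    Presheaf.IsLocallySurjective J a.hom := by
  refine ⟨fun {U} t => ?_⟩
  apply hP
  intro i x
  obtain ⟨σ, hσ⟩ := h i ((P i).toPresheafFiber U x G.obj t)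
  obtain ⟨U', x', s', rfl⟩ := (P i).toPresheafFiber_jointly_surjective σ
  have n1 := ConcreteCategory.congr_hom ((P i).toPresheafFiber_naturality a.hom U' x') s'
  simp only [ConcreteCategory.comp_apply] at n1
  have e1 : (P i).toPresheafFiber U' x' G.obj (a.hom.app (op U') s') =
      (P i).toPresheafFiber U x G.obj t := n1.symm.trans hσ
  -- common refinement
  obtain ⟨⟨U'', x''⟩, ⟨f₂, hf₂⟩, ⟨f₁, hf₁⟩, -⟩ :=
    IsCofilteredOrEmpty.cone_objs (C := (P i).fiber.Elements) ⟨U', x'⟩ ⟨U, x⟩
  dsimp at f₁ f₂ hf₁ hf₂
  have w1 := ConcreteCategory.congr_hom ((P i).toPresheafFiber_w f₁ x'' G.obj) t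
  have w2 := ConcreteCategory.congr_hom ((P i).toPresheafFiber_w f₂ x'' G.obj)
    (a.hom.app (op U') s')
  simp only [ConcreteCategory.comp_apply] at w1 w2
  rw [hf₁] at w1
  rw [hf₂] at w2
  have e2 : (P i).toPresheafFiber U'' x'' G.obj (G.obj.map f₂.op (a.hom.app (op U') s')) =
      (P i).toPresheafFiber U'' x'' G.obj (G.obj.map f₁.op t) :=
    w2.trans (e1.trans w1.symm)
  obtain ⟨Y, f, y, hy, hf⟩ := ((P i).toPresheafFiber_eq_iff' U'' x'' _ _).1 e2
  refine ⟨Y, f ≫ f₁, y, ⟨F.obj.map (f ≫ f₂).op s', ?_⟩, ?_⟩
  · have n3 := ConcreteCategory.congr_hom (a.hom.naturality (f ≫ f₂).op) s'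
    simp only [ConcreteCategory.comp_apply] at n3
    refine n3.trans ?_
    simp only [op_comp, Functor.map_comp, ConcreteCategory.comp_apply]
    exact hf
  · rw [Functor.map_comp]
    simp only [types_comp_apply]
    rw [hy, hf₁]

end Groth.Agent.Lib.Helper5.PointDetect
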