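import Mathlib
import Groth.Prelude.Def_EtBase
import Groth.Prelude.Def_SGA4b
import Groth.Agent.Lib.Helper5.Misc.EtSiteBasic
import Groth.Agent.Lib.Helper5.Misc.PointDetect

/-!
# Geometric points of the small étale site detect coverings (helper5)
-/

set_option autoImplicit false
universe u
open CategoryTheory CategoryTheory.Limits AlgebraicGeometry Opposite

namespace Groth.Agent.Lib.Helper5.EtStalk

open EtSiteBasic

/-- A geometric point of a scheme. -/
structure GeomPt (X : Scheme.{u}) where
  /-- the separably closed field -/
  Ω : Type u
  [field : Field Ω]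
  [sepClosed : IsSepClosed Ω]
  /-- the morphism -/
  ξ : Spec (CommRingCat.of Ω) ⟶ X

attribute [instance] GeomPt.field GeomPt.sepClosed

/-- The point of the small étale site attached to a geometric point. -/
noncomputable def GeomPt.point {X : Scheme.{u}} (g : GeomPt X) :
    GrothendieckTopology.Point.{u} X.smallEtaleTopology :=
  Scheme.pointSmallEtale g.ξ

set_option backward.isDefEq.respectTransparency false in
/-- A family of geometric points hitting every point of `X` detects the covering sieves of the
small étale site. -/
lemma detects_of_cover {X : Scheme.{u}} {ι : Sort*} (P : ι → GeomPt X)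
    (hcov : ∀ x : X, ∃ i, (P i).ξ (default : Spec (CommRingCat.of (P i).Ω)) = x) :
    PointDetect.Detects (fun i => (P i).point) := by
  intro U R h
  rw [mem_smallEtale_iff]
  intro p
  obtain ⟨i, hs₀⟩ := hcov (U.hom p)
  obtain ⟨x', hx'⟩ :=
    Scheme.pointSmallEtaleFiberObjToPreimage_surjective (P i).ξ hs₀ U ⟨p, rfl⟩
  obtain ⟨Y, f, y, hf, hy⟩ := h i x'
  refine ⟨Y, f, y.left (default : Spec (CommRingCat.of (P i).Ω)), hf, ?_⟩
  rw [Subtype.ext_iff] at hx'
  simp only [Scheme.pointSmallEtaleFiberObjToPreimage_coe] at hx'
  rw [← hx', ← hy]
  rfl

/-- The geometric point at `x` with values in the separable closure of the residue field. -/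
noncomputable def geomPtAt {X : Scheme.{u}} (x : X) : GeomPt X where
  Ω := SeparableClosure (X.residueField x)
  ξ := (Scheme.SpecToEquivOfField (SeparableClosure (X.residueField x)) X).2
      ⟨x, CommRingCat.ofHom (algebraMap (X.residueField x) _)⟩

set_option backward.isDefEq.respectTransparency false in
lemma geomPtAt_default {X : Scheme.{u}} (x : X) :
    (geomPtAt x).ξ (default : Spec (CommRingCat.of (geomPtAt x).Ω)) = x := by
  simp [geomPtAt, Scheme.SpecToEquivOfField]

/-- The geometric points detect the covering sieves of the small étale site. -/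
lemma detects (X : Scheme.{u}) : PointDetect.Detects (fun g : GeomPt X => g.point) :=
  detects_of_cover (fun g : GeomPt X => g) (fun x => ⟨geomPtAt x, geomPtAt_default x⟩)

section Sets

variable {X : Scheme.{u}} {F G : EtDesc.Sh X} (v : F ⟶ G)

/-- Monomorphisms of étale sheaves of sets are detected on geometric stalks. -/
lemma mono_iff_stalks :
    Mono v ↔ ∀ g : GeomPt X,
      Function.Injective ((g.point.sheafFiber (A := Type (u + 1))).map v) := by
  constructor
  · intro h g
    rw [mono_iff] at h
    haveI : Presheaf.IsLocallyInjective X.smallEtaleTopology v.hom :=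
      Presheaf.isLocallyInjective_of_injective _ _ (fun U => h U.unop)
    exact g.point.toPresheafFiber_map_injective v.hom
  · intro h
    rw [mono_iff]
    intro U
    exact PointDetect.injective_app_of_injective_fibers (detects X) v h U

/-- Epimorphisms of étale sheaves of sets are detected on geometric stalks. -/
lemma epi_iff_stalks :
    Epi v ↔ ∀ g : GeomPt X,
      Function.Surjective ((g.point.sheafFiber (A := Type (u + 1))).map v) := by
  rw [← Sheaf.isLocallySurjective_iff_epi]
  constructor
  · intro h g
    haveI : Presheaf.IsLocallySurjective X.smallEtaleTopology v.hom := h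
    exact g.point.toPresheafFiber_map_surjective v.hom
  · intro h
    exact PointDetect.isLocallySurjective_of_surjective_fibers (detects X) v h

end Sets

section Ab

theorem ab5' : AB5OfSize.{u, u} AddCommGrpCat.{u + 1} :=
  AB5OfSize_shrink.{u, u, u + 1, u + 1} AddCommGrpCat.{u + 1}

theorem pfc : PreservesFilteredColimitsOfSize.{u, u} (forget AddCommGrpCat.{u + 1}) :=
  preservesFilteredColimitsOfSize_shrink.{u, u + 1, u, u + 1} _

attribute [local instance] ab5' pfc

variable {X : Scheme.{u}} {F G : EtCoh.Ab X} (a : F ⟶ G)

/-- Monomorphisms of abelian étale sheaves are the sectionwise injective maps. -/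
lemma mono_iff_ab : Mono a ↔ ∀ U : X.Etale, Function.Injective (a.hom.app (op U)) := by
  rw [Sheaf.Hom.mono_iff_presheaf_mono, NatTrans.mono_iff_mono_app]
  constructor
  · intro h U
    exact (AddCommGrpCat.mono_iff_injective _).1 (h (op U))
  · intro h U
    exact (AddCommGrpCat.mono_iff_injective _).2 (h U.unop)

/-- Monomorphisms of abelian étale sheaves are detected on geometric stalks. -/
lemma mono_iff_stalks_ab :
    Mono a ↔ ∀ g : GeomPt X,
      Function.Injective ((g.point.sheafFiber (A := AddCommGrpCat.{u + 1})).map a) := by
  constructor
  · intro h g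
    rw [mono_iff_ab] at h
    haveI : Presheaf.IsLocallyInjective X.smallEtaleTopology a.hom :=
      Presheaf.isLocallyInjective_of_injective _ _ (fun U => h U.unop)
    exact g.point.toPresheafFiber_map_injective a.hom
  · intro h
    rw [mono_iff_ab]
    intro U
    exact PointDetect.injective_app_of_injective_fibers (detects X) a h U

/-- Epimorphisms of abelian étale sheaves are detected on geometric stalks. -/
lemma epi_iff_stalks_ab :
    Epi a ↔ ∀ g : GeomPt X,
      Function.Surjective ((g.point.sheafFiber (A := AddCommGrpCat.{u + 1})).map a) := by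
  rw [← Sheaf.isLocallySurjective_iff_epi']
  constructor
  · intro h g
    haveI : Presheaf.IsLocallySurjective X.smallEtaleTopology a.hom := h
    exact g.point.toPresheafFiber_map_surjective a.hom
  · intro h
    exact PointDetect.isLocallySurjective_of_surjective_fibers (detects X) a h

/-- An abelian étale sheaf all of whose geometric stalks vanish is zero. -/
lemma isZero_of_stalks (H : EtCoh.Ab X)
    (h : ∀ g : GeomPt X, IsZero ((g.point.sheafFiber (A := AddCommGrpCat.{u + 1})).obj H)) :
    IsZero H := by
  rw [IsZero.iff_id_eq_zero]
  ext U s
  apply PointDetect.eq_of_germs_sheaf (detects X) H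
  intro g x
  haveI : Subsingleton ((g.point.sheafFiber (A := AddCommGrpCat.{u + 1})).obj H) :=
    AddCommGrpCat.subsingleton_of_isZero (h g)
  exact Subsingleton.elim (α := ((g.point.sheafFiber (A := AddCommGrpCat.{u + 1})).obj H)) _ _

/-- Exactness of a short complex of abelian étale sheaves is detected on geometric stalks. -/
lemma exact_iff_stalks_ab (S : ShortComplex (EtCoh.Ab X)) :
    S.Exact ↔ ∀ g : GeomPt X,
      (S.map (g.point.sheafFiber (A := AddCommGrpCat.{u + 1}))).Exact := by
  constructor
  · intro h g
    exact h.map _
  · intro h
    rw [S.exact_iff_isZero_homology]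
    apply isZero_of_stalks
    intro g
    have h1 := h g
    rw [ShortComplex.exact_iff_isZero_homology] at h1
    exact h1.of_iso (S.mapHomologyIso (g.point.sheafFiber (A := AddCommGrpCat.{u + 1}))).symm

end Ab

section Family

variable {X : Scheme.{u}} {ι : Sort*} (P : ι → GeomPt X)
  (hcov : ∀ x : X, ∃ i, (P i).ξ (default : Spec (CommRingCat.of (P i).Ω)) = x)

attribute [local instance] ab5' pfc

include hcov in
/-- An abelian étale sheaf whose stalks vanish at a family of geometric points hitting every point
is zero. -/
lemma isZero_of_stalks_family (H : EtCoh.Ab X)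
    (h : ∀ i, IsZero (((P i).point.sheafFiber (A := AddCommGrpCat.{u + 1})).obj H)) :
    IsZero H := by
  rw [IsZero.iff_id_eq_zero]
  ext U s
  apply PointDetect.eq_of_germs_sheaf (detects_of_cover P hcov) H
  intro i x
  haveI : Subsingleton (((P i).point.sheafFiber (A := AddCommGrpCat.{u + 1})).obj H) :=
    AddCommGrpCat.subsingleton_of_isZero (h i)
  exact Subsingleton.elim
    (α := (((P i).point.sheafFiber (A := AddCommGrpCat.{u + 1})).obj H)) _ _

include hcov in
/-- Morphisms of étale sheaves of sets agreeing on the stalks at a family of geometric points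
hitting every point are equal. -/
lemma eq_of_stalks_family {F G : EtDesc.Sh X} (a b : F ⟶ G)
    (h : ∀ i, ((P i).point.sheafFiber (A := Type (u + 1))).map a =
      ((P i).point.sheafFiber (A := Type (u + 1))).map b) : a = b := by
  ext U s
  apply PointDetect.eq_of_germs_sheaf (detects_of_cover P hcov) G
  intro i x
  have n1 := ConcreteCategory.congr_hom ((P i).point.toPresheafFiber_naturality a.hom U.unop x) s
  have n2 := ConcreteCategory.congr_hom ((P i).point.toPresheafFiber_naturality b.hom U.unop x) s
  simp only [ConcreteCategory.comp_apply] at n1 n2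
  refine n1.symm.trans (Eq.trans ?_ n2)
  exact ConcreteCategory.congr_hom (h i) _

include hcov in
/-- A morphism of étale sheaves of sets which is bijective on the stalks at a family of
geometric points hitting every point is an isomorphism. -/
lemma isIso_of_stalks_family {F G : EtDesc.Sh X} (a : F ⟶ G)
    (h : ∀ i, Function.Bijective (((P i).point.sheafFiber (A := Type (u + 1))).map a)) :
    IsIso a := by
  haveI : Mono a := by
    rw [mono_iff]
    intro U
    exact PointDetect.injective_app_of_injective_fibers (detects_of_cover P hcov) a
      (fun i => (h i).1) U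
  haveI : Epi a := by
    rw [← Sheaf.isLocallySurjective_iff_epi]
    exact PointDetect.isLocallySurjective_of_surjective_fibers (detects_of_cover P hcov) a
      (fun i => (h i).2)
  exact isIso_of_mono_of_epi a

end Family

section Lift

variable {X : Scheme.{u}} {Ω : Type u} [Field Ω] [IsSepClosed Ω] (ξ : Spec (CommRingCat.of Ω) ⟶ X)

set_option backward.isDefEq.respectTransparency.types false in
/-- Elements of the fibre lift along a morphism of étale `X`-schemes through any point over the
centre. -/
lemma exists_lift_fiber {U V : X.Etale} (g : V ⟶ U) (x : (Scheme.pointSmallEtale ξ).fiber.obj U)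
    (v : V.left) (hv : g.left v = x.left (default : Spec (CommRingCat.of Ω))) :
    ∃ y : (Scheme.pointSmallEtale ξ).fiber.obj V,
      (Scheme.pointSmallEtale ξ).fiber.map g y = x ∧
        y.left (default : Spec (CommRingCat.of Ω)) = v := by
  obtain ⟨l, hl, hl'⟩ := Scheme.exists_fac_of_etale_of_isSepClosed g.left x.left v hv
  have hw : l ≫ V.hom = ξ := by
    have e1 : g.left ≫ U.hom = V.hom := Over.w g.hom
    have e2 : x.left ≫ U.hom = ξ := Over.w x
    rw [← e1, ← Category.assoc, hl]
    exact e2
  refine ⟨Over.homMk l hw, ?_, hl'⟩
  apply Over.OverMorphism.ext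
  exact hl

end Lift

end Groth.Agent.Lib.Helper5.EtStalk
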