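import Mathlib
import Groth.Prelude.Def_EtBase
import Groth.Prelude.Def_SGA4b
import Groth.Agent.Lib.Helper5.Misc.EtStalk

/-!
# Stalks of inverse images on the small étale site (helper5)
-/

set_option autoImplicit false
universe w u
open CategoryTheory CategoryTheory.Limits AlgebraicGeometry Opposite

namespace Groth.Agent.Lib.Helper5.EtStalkPull

section Elements

variable {C : Type*} [Category C] {F₁ F₂ : C ⥤ Type w}

/-- An isomorphism of functors induces an equivalence of categories of elements. -/
def elementsEquiv (e : F₁ ≅ F₂) : F₁.Elements ≌ F₂.Elements where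
  functor := CategoryOfElements.map e.hom
  inverse := CategoryOfElements.map e.inv
  unitIso := NatIso.ofComponents
    (fun t => CategoryOfElements.isoMk _ _ (Iso.refl _) (by
      change F₁.map (𝟙 t.fst) t.snd = e.inv.app t.fst (e.hom.app t.fst t.snd)
      rw [F₁.map_id]
      exact (ConcreteCategory.congr_hom (e.hom_inv_id_app t.fst) t.snd).symm))
    (by
      intro s t k
      ext
      change k.1 ≫ 𝟙 t.fst = 𝟙 s.fst ≫ k.1
      rw [Category.comp_id, Category.id_comp])
  counitIso := NatIso.ofComponents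
    (fun t => CategoryOfElements.isoMk _ _ (Iso.refl _) (by
      change F₂.map (𝟙 t.fst) (e.hom.app t.fst (e.inv.app t.fst t.snd)) = t.snd
      rw [F₂.map_id]
      exact ConcreteCategory.congr_hom (e.inv_hom_id_app t.fst) t.snd))
    (by
      intro s t k
      ext
      change k.1 ≫ 𝟙 t.fst = 𝟙 s.fst ≫ k.1
      rw [Category.comp_id, Category.id_comp])
  functor_unitIso_comp := by
    intro t
    ext
    change 𝟙 t.fst ≫ 𝟙 t.fst = 𝟙 t.fst
    rw [Category.comp_id]

lemma initiallySmall_of_iso (e : F₁ ≅ F₂) [InitiallySmall.{w} F₂.Elements] :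
    InitiallySmall.{w} F₁.Elements :=
  initiallySmall_of_initial_of_initiallySmall (elementsEquiv e).inverse

end Elements

section Pull

variable {X Y : Scheme.{u}} (f : X ⟶ Y) {Ω : Type u} [Field Ω] [IsSepClosed Ω]
  (ξ : Spec (CommRingCat.of Ω) ⟶ X)

set_option backward.isDefEq.respectTransparency false in
/-- The fibre functor of `ξ` composed with base change is the fibre functor of `ξ ≫ f`. -/
noncomputable def fiberIso :
    EtCoh.bc f ⋙ (Scheme.pointSmallEtale ξ).fiber ≅ (Scheme.pointSmallEtale (ξ ≫ f)).fiber :=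
  NatIso.ofComponents
    (fun V => Equiv.toIso
      ((Over.mapPullbackAdj f).homEquiv (Over.mk ξ) ((Scheme.Etale.forget Y).obj V)).symm)
    (by
      intro V V' g
      ext a
      exact (Over.mapPullbackAdj f).homEquiv_naturality_right_symm a
        ((Scheme.Etale.forget Y).map g))

noncomputable instance initiallySmall_comap :
    InitiallySmall.{u} (EtCoh.bc f ⋙ (Scheme.pointSmallEtale ξ).fiber).Elements :=
  initiallySmall_of_iso (fiberIso f ξ)

/-- The point of `Y_ét` obtained by pulling back the point `ξ` of `X_ét` along base change. -/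
noncomputable def comapPoint : GrothendieckTopology.Point.{u} Y.smallEtaleTopology :=
  (Scheme.pointSmallEtale ξ).comap (EtCoh.bc f) (EtCoh.coverPreserving_bc f)

/-- The pulled back point is the point `ξ ≫ f`. -/
noncomputable def pointIso : comapPoint f ξ ≅ Scheme.pointSmallEtale (ξ ≫ f) where
  hom := ⟨(fiberIso f ξ).inv⟩
  inv := ⟨(fiberIso f ξ).hom⟩
  hom_inv_id := by
    apply GrothendieckTopology.Point.hom_ext
    exact (fiberIso f ξ).hom_inv_id
  inv_hom_id := by
    apply GrothendieckTopology.Point.hom_ext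
    exact (fiberIso f ξ).inv_hom_id

end Pull

section PointIso

variable {C : Type*} [Category C] {J : GrothendieckTopology C}
  {A : Type*} [Category A] [HasColimitsOfSize.{w, w} A]

/-- Isomorphic points have isomorphic fibre functors on sheaves. -/
noncomputable def sheafFiberIsoOfIso {Φ₁ Φ₂ : GrothendieckTopology.Point.{w} J} (e : Φ₁ ≅ Φ₂) :
    Φ₁.sheafFiber (A := A) ≅ Φ₂.sheafFiber where
  hom := GrothendieckTopology.Point.Hom.sheafFiber e.inv
  inv := GrothendieckTopology.Point.Hom.sheafFiber e.hom
  hom_inv_id := by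
    rw [← GrothendieckTopology.Point.Hom.sheafFiber_comp, e.hom_inv_id,
      GrothendieckTopology.Point.Hom.sheafFiber_id]
  inv_hom_id := by
    rw [← GrothendieckTopology.Point.Hom.sheafFiber_comp, e.inv_hom_id,
      GrothendieckTopology.Point.Hom.sheafFiber_id]

end PointIso

section Main

variable {X Y : Scheme.{u}} (f : X ⟶ Y) {Ω : Type u} [Field Ω] [IsSepClosed Ω]
  (ξ : Spec (CommRingCat.of Ω) ⟶ X)

/-- The stalk of `f⁻¹` at `ξ` is the stalk at `ξ ≫ f`, naturally. -/
noncomputable def stalkPullIso :
    EtCoh.pull f ⋙ EtCoh.stalk ξ ≅ EtCoh.stalk (ξ ≫ f) :=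
  (GrothendieckTopology.Point.sheafFiberComapIso (Scheme.pointSmallEtale ξ) (EtCoh.bc f)
    (EtCoh.coverPreserving_bc f) AddCommGrpCat.{u + 1}).symm ≪≫
    sheafFiberIsoOfIso (pointIso f ξ)

/-- The stalk of `f⁻¹` at `ξ` is the stalk at `ξ ≫ f`, for sheaves of sets. -/
noncomputable def stalkPullShIso :
    EtDesc.pullSh f ⋙ (Scheme.pointSmallEtale ξ).sheafFiber (A := Type (u + 1)) ≅
      (Scheme.pointSmallEtale (ξ ≫ f)).sheafFiber (A := Type (u + 1)) :=
  (GrothendieckTopology.Point.sheafFiberComapIso (Scheme.pointSmallEtale ξ) (EtCoh.bc f)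
    (EtCoh.coverPreserving_bc f) (Type (u + 1))).symm ≪≫
    sheafFiberIsoOfIso (pointIso f ξ)

end Main

end Groth.Agent.Lib.Helper5.EtStalkPull
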