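import Mathlib
import Groth.Prelude.Def_BigSite
import Groth.Prelude.Def_SGA4b
import Groth.Agent.Lib.Helper5.Misc.EtSiteBasic

/-!
# Almost cocontinuity of base change under condition (C) + closedness (helper5)
-/

set_option autoImplicit false
universe u
open CategoryTheory CategoryTheory.Limits AlgebraicGeometry Opposite

namespace Groth.Agent.Lib.Helper5.AlmostCocont2

open EtSiteBasic

variable {X Y : Scheme.{u}}

/-- An object with empty underlying space is covered by the empty sieve. -/
lemma bot_mem_of_isEmpty (U : X.Etale) [IsEmpty U.left] :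
    (⊥ : Sieve U) ∈ X.smallEtaleTopology U := by
  rw [mem_smallEtale_iff]
  intro x
  exact isEmptyElim x

/-- The sieve of arrows `g : V ⟶ U` with `X ×_Y V` empty or `bc g ∈ R`. -/
noncomputable def answer (f : X ⟶ Y) (U : Y.Etale) (R : Sieve ((EtCoh.bc f).obj U)) : Sieve U where
  arrows V g := IsEmpty ((EtCoh.bc f).obj V).left ∨ R ((EtCoh.bc f).map g)
  downward_closed := by
    rintro V V' g (h | h) l
    · left
      exact Function.isEmpty ((EtCoh.bc f).map l).left
    · right
      rw [Functor.map_comp]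
      exact R.downward_closed h _

/-- Pure scheme-theoretic part of the key case. -/
lemma pure_fact {X Y U' V' W' : Scheme.{u}} (f : X ⟶ Y) (v : U' ⟶ Y) (v' : V' ⟶ U')
    (k' : W' ⟶ pullback v f) (h : pullback (pullback.snd f v) v' ⟶ W')
    (hh : h ≫ k' ≫ (pullbackSymmetry v f).hom = pullback.fst (pullback.snd f v) v') :
    ∃ m' : pullback (v' ≫ v) f ⟶ W',
      m' ≫ k' = pullback.lift (pullback.fst (v' ≫ v) f ≫ v') (pullback.snd (v' ≫ v) f)
        (by rw [Category.assoc, pullback.condition]) ∧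
      ∀ p : ↥(pullback (pullback.snd f v) v'),
        v' ((pullback.snd (pullback.snd f v) v') p) = (pullback.fst v f) (k' (h p)) := by
  let θ₁ : pullback (v' ≫ v) f ⟶ pullback f v :=
    pullback.lift (pullback.snd _ _) (pullback.fst _ _ ≫ v')
      (by rw [Category.assoc, pullback.condition])
  have θ₁_fst : θ₁ ≫ pullback.fst f v = pullback.snd _ _ := pullback.lift_fst _ _ _
  have θ₁_snd : θ₁ ≫ pullback.snd f v = pullback.fst _ _ ≫ v' := pullback.lift_snd _ _ _
  let θ : pullback (v' ≫ v) f ⟶ pullback (pullback.snd f v) v' :=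
    pullback.lift θ₁ (pullback.fst _ _) θ₁_snd
  have θ_fst : θ ≫ pullback.fst _ _ = θ₁ := pullback.lift_fst _ _ _
  have hh' : h ≫ k' = pullback.fst _ _ ≫ (pullbackSymmetry v f).inv := by
    rw [← hh, Category.assoc, Category.assoc, Iso.hom_inv_id, Category.comp_id]
  have hθk : (θ ≫ h) ≫ k' = θ₁ ≫ (pullbackSymmetry v f).inv := by
    rw [Category.assoc, hh', ← Category.assoc, θ_fst]
  refine ⟨θ ≫ h, ?_, ?_⟩
  · rw [hθk]
    apply pullback.hom_ext
    · rw [Category.assoc, pullbackSymmetry_inv_comp_fst, θ₁_snd, pullback.lift_fst]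
    · rw [Category.assoc, pullbackSymmetry_inv_comp_snd, θ₁_fst, pullback.lift_snd]
  · intro p
    rw [← Scheme.Hom.comp_apply, ← pullback.condition, ← hh, ← Scheme.Hom.comp_apply,
      ← Scheme.Hom.comp_apply]
    simp only [Category.assoc, pullbackSymmetry_hom_comp_snd]

/-- Key case: a point in the image of `X ×_Y U ⟶ U` is covered by an arrow of `answer`. -/
lemma exists_of_mem_range (f : X ⟶ Y)
    (hC : ∀ (V : Scheme.{u}) (v : V ⟶ Y) [Etale v], BigSite.PropC (pullback.snd f v))
    (U : Y.Etale) (R : Sieve ((EtCoh.bc f).obj U))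
    (hR : R ∈ X.smallEtaleTopology ((EtCoh.bc f).obj U))
    (x : ↥((EtCoh.bc f).obj U).left) :
    ∃ (V : Y.Etale) (g : V ⟶ U) (y' : V.left),
      R ((EtCoh.bc f).map g) ∧ g.left y' = (pullback.fst U.hom f) x := by
  rw [mem_smallEtale_iff] at hR
  obtain ⟨W, k, w, hk, hw⟩ := hR x
  obtain ⟨V', v', hv', h, hh, hs⟩ := hC U.left U.hom W.left (k.left ≫ (pullbackSymmetry U.hom f).hom)
  have := hv'
  obtain ⟨p, hp⟩ := hs.1 w
  obtain ⟨m', hm', hpt⟩ := pure_fact f U.hom v' k.left h hh
  -- the object and the arrow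
  let V : Y.Etale := ofEtale (v' ≫ U.hom)
  let g : V ⟶ U := MorphismProperty.Over.homMk v' rfl trivial
  have hWhom : W.hom = k.left ≫ pullback.snd U.hom f := (Over.w k.hom).symm
  let m : (EtCoh.bc f).obj V ⟶ W := MorphismProperty.Over.homMk m' (by
    change m' ≫ W.hom = pullback.snd (v' ≫ U.hom) f
    calc m' ≫ W.hom = m' ≫ (k.left ≫ pullback.snd U.hom f) := congrArg (m' ≫ ·) hWhom
      _ = (m' ≫ k.left) ≫ pullback.snd U.hom f := (Category.assoc _ _ _).symm
      _ = _ := congrArg (· ≫ pullback.snd U.hom f) hm'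
      _ = _ := pullback.lift_snd _ _ _) trivial
  have hm : m ≫ k = (EtCoh.bc f).map g := by
    apply MorphismProperty.Over.Hom.ext
    change m' ≫ k.left = ((EtCoh.bc f).map g).left
    refine hm'.trans ?_
    apply pullback.hom_ext
    · rw [pullback.lift_fst]
      exact (EtCoh.isPullback_bc_map f g).w.symm
    · rw [pullback.lift_snd]
      exact (Over.w ((EtCoh.bc f).map g).hom).symm
  refine ⟨V, g, (pullback.snd (pullback.snd f U.hom) v') p, ?_, ?_⟩
  · rw [← hm]
    exact R.downward_closed hk m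
  · change v' ((pullback.snd (pullback.snd f U.hom) v') p) = _
    rw [hpt p, hp]
    exact congrArg (fun z => (pullback.fst U.hom f) z) hw

/-- Other case: a point outside the (closed) image of `X ×_Y U ⟶ U` is covered by an open `U₀`
with `X ×_Y U₀` empty. -/
lemma exists_of_not_mem_range (f : X ⟶ Y) (U : Y.Etale)
    (hcl : IsClosed (Set.range (pullback.fst U.hom f).base)) (y : U.left)
    (hy : y ∉ Set.range (pullback.fst U.hom f).base) :
    ∃ (V : Y.Etale) (g : V ⟶ U) (y' : V.left),
      IsEmpty ((EtCoh.bc f).obj V).left ∧ g.left y' = y := by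
  let U0 : U.left.Opens := ⟨(Set.range (pullback.fst U.hom f).base)ᶜ, hcl.isOpen_compl⟩
  let V : Y.Etale := ofEtale (U0.ι ≫ U.hom)
  let g : V ⟶ U := MorphismProperty.Over.homMk U0.ι rfl trivial
  have hy' : y ∈ Set.range U0.ι.base := by
    rw [Scheme.Opens.range_ι]
    exact hy
  obtain ⟨y', hy'⟩ := hy'
  refine ⟨V, g, y', ⟨fun z => ?_⟩, hy'⟩
  have h1 : (pullback.fst U.hom f) (((EtCoh.bc f).map g).left z) =
      U0.ι ((pullback.fst V.hom f) z) := by
    exact congrArg (fun (q : ((EtCoh.bc f).obj V).left ⟶ U.left) => q z)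
      (EtCoh.isPullback_bc_map f g).w
  have h2 : U0.ι ((pullback.fst V.hom f) z) ∈ (U0 : Set U.left) := by
    rw [← Scheme.Opens.range_ι]
    exact ⟨_, rfl⟩
  exact h2 ⟨_, h1⟩

/-- The answering sieve is covering. -/
lemma answer_mem (f : X ⟶ Y)
    (hC : ∀ (V : Scheme.{u}) (v : V ⟶ Y) [Etale v], BigSite.PropC (pullback.snd f v))
    (hcl : ∀ (V : Scheme.{u}) (v : V ⟶ Y) [Etale v], IsClosedMap (pullback.snd f v).base)
    (U : Y.Etale) (R : Sieve ((EtCoh.bc f).obj U))
    (hR : R ∈ X.smallEtaleTopology ((EtCoh.bc f).obj U)) :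
    answer f U R ∈ Y.smallEtaleTopology U := by
  have hcl' : IsClosed (Set.range (pullback.fst U.hom f).base) := by
    have e : pullback.fst U.hom f = (pullbackSymmetry U.hom f).hom ≫ pullback.snd f U.hom :=
      (pullbackSymmetry_hom_comp_snd U.hom f).symm
    have hs : Function.Surjective ⇑(pullbackSymmetry U.hom f).hom :=
      (pullbackSymmetry U.hom f).hom.homeomorph.surjective
    rw [e, Scheme.Hom.comp_base, TopCat.coe_comp, hs.range_comp]
    exact (hcl U.left U.hom).isClosed_range
  rw [mem_smallEtale_iff]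
  intro y
  by_cases hy : y ∈ Set.range (pullback.fst U.hom f).base
  · obtain ⟨x, rfl⟩ := hy
    obtain ⟨V, g, y', hg, hy'⟩ := exists_of_mem_range f hC U R hR x
    exact ⟨V, g, y', Or.inr hg, hy'⟩
  · obtain ⟨V, g, y', hg, hy'⟩ := exists_of_not_mem_range f U hcl' y hy
    exact ⟨V, g, y', Or.inl hg, hy'⟩

/-- Base change is almost cocontinuous under (C) for all base changes and closedness. -/
theorem isAlmostCocontinuous (f : X ⟶ Y)
    (hC : ∀ (V : Scheme.{u}) (v : V ⟶ Y) [Etale v], BigSite.PropC (pullback.snd f v))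
    (hcl : ∀ (V : Scheme.{u}) (v : V ⟶ Y) [Etale v], IsClosedMap (pullback.snd f v).base) :
    BigSite.IsAlmostCocontinuous (EtCoh.bc f) Y.smallEtaleTopology X.smallEtaleTopology := by
  intro U R hR
  refine ⟨answer f U R, answer_mem f hC hcl U R hR, ?_⟩
  rintro V g (h | h)
  · left
    exact bot_mem_of_isEmpty _
  · right
    exact h

end Groth.Agent.Lib.Helper5.AlmostCocont2
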