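import Mathlib
import Groth.Prelude.Def_BigSite
import Groth.Prelude.Def_SGA4b
import Groth.Agent.Lib.Helper5.Misc.EtSiteBasic
import Groth.Agent.Lib.Helper5.Misc.AlmostCocont2

/-!
# Gluing sections of étale sheaves over disjoint decompositions (helper5)
-/

set_option autoImplicit false
universe u
open CategoryTheory CategoryTheory.Limits AlgebraicGeometry Opposite

namespace Groth.Agent.Lib.Helper5.EtGlue

open EtSiteBasic AlmostCocont2

variable {X Y : Scheme.{u}}

/-- A sheaf has at most one section over an empty object. -/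
lemma subsingleton_of_isEmpty (F : EtDesc.Sh X) (Z : X.Etale) [IsEmpty Z.left] :
    Subsingleton (F.obj.obj (op Z)) :=
  ⟨fun s t => sect_ext F ⊥ (bot_mem_of_isEmpty Z) s t (fun _ _ hg => hg.elim)⟩

/-- Sections over the pieces of a disjoint decomposition glue. -/
lemma glue_disjoint (F : EtDesc.Sh X) {P : X.Etale} {μ : Type*} (W : μ → X.Etale)
    (w : ∀ a, W a ⟶ P) (hmono : ∀ a, Mono (w a).left)
    (hdisj : ∀ a b, a ≠ b → Disjoint (Set.range (w a).left) (Set.range (w b).left))
    (hcov : ∀ x : P.left, ∃ a, x ∈ Set.range (w a).left)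
    (x : ∀ a, F.obj.obj (op (W a))) :
    ∃ s : F.obj.obj (op P), ∀ a, F.obj.map (w a).op s = x a := by
  have hS : Sieve.generate (Presieve.ofArrows W w) ∈ X.smallEtaleTopology P := by
    rw [mem_smallEtale_iff]
    intro p
    obtain ⟨a, y, hy⟩ := hcov p
    exact ⟨W a, w a, y, ⟨W a, 𝟙 _, w a, Presieve.ofArrows.mk a, by simp⟩, hy⟩
  have hsh : Presieve.IsSheafFor F.obj (Presieve.ofArrows W w) := by
    rw [Presieve.isSheafFor_iff_generate]
    exact ((isSheaf_iff_isSheaf_of_type _ _).1 F.2) _ hS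
  rw [Presieve.isSheafFor_arrows_iff] at hsh
  have compat : Presieve.Arrows.Compatible F.obj w x := by
    intro a b Z ga gb hab
    by_cases hne : a = b
    · subst hne
      have : ga = gb := by
        apply MorphismProperty.Over.Hom.ext
        haveI := hmono a
        apply (cancel_mono (w a).left).1
        exact congrArg (fun q => q.left) hab
      rw [this]
    · haveI : IsEmpty Z.left := ⟨fun z => by
        have h1 : (ga ≫ w a).left z ∈ Set.range (w a).left := ⟨ga.left z, rfl⟩
        have h2 : (ga ≫ w a).left z ∈ Set.range (w b).left := by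
          rw [hab]
          exact ⟨gb.left z, rfl⟩
        exact Set.disjoint_left.1 (hdisj a b hne) h1 h2⟩
      haveI := subsingleton_of_isEmpty F Z
      exact Subsingleton.elim _ _
  obtain ⟨s, hs, -⟩ := hsh x compat
  exact ⟨s, hs⟩

/-- Site-theoretic form of condition (B): every covering sieve of `X ×_Y V` can be refined,
locally on `V`, by a disjoint decomposition of `X ×_Y V'`. -/
def HasDisjointRefinement (f : X ⟶ Y) : Prop :=
  ∀ (V : Y.Etale) (R : Sieve ((EtCoh.bc f).obj V)),
    R ∈ X.smallEtaleTopology ((EtCoh.bc f).obj V) → ∀ y : V.left,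
    ∃ (V' : Y.Etale) (g : V' ⟶ V) (y' : V'.left), g.left y' = y ∧
      ∃ (μ : Type u) (W : μ → X.Etale) (w : ∀ a, W a ⟶ (EtCoh.bc f).obj V'),
        (∀ a, Mono (w a).left) ∧
        (∀ a b, a ≠ b → Disjoint (Set.range (w a).left) (Set.range (w b).left)) ∧
        (∀ x : ((EtCoh.bc f).obj V').left, ∃ a, x ∈ Set.range (w a).left) ∧
        ∀ a, R (w a ≫ (EtCoh.bc f).map g)

/-- Under the site-theoretic form of (B), `f_*` preserves epimorphisms of sheaves of sets. -/
lemma epi_pushSh_of_hasDisjointRefinement (f : X ⟶ Y) (hB : HasDisjointRefinement f)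
    {F G : EtDesc.Sh X} (a : F ⟶ G) (h : Epi a) : Epi ((EtDesc.pushSh f).map a) := by
  rw [epi_iff] at h ⊢
  intro V t
  have hR := h ((EtCoh.bc f).obj V) t
  rw [mem_smallEtale_iff]
  intro y
  obtain ⟨V', g, y', hy', μ, W, w, hmono, hdisj, hcov, hR'⟩ := hB V _ hR y
  refine ⟨V', g, y', ?_, hy'⟩
  choose x hx using hR'
  obtain ⟨s, hs⟩ := glue_disjoint F W w hmono hdisj hcov x
  refine ⟨s, ?_⟩
  have hS : Sieve.generate (Presieve.ofArrows W w) ∈
      X.smallEtaleTopology ((EtCoh.bc f).obj V') := by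
    rw [mem_smallEtale_iff]
    intro p
    obtain ⟨b, z, hz⟩ := hcov p
    exact ⟨W b, w b, z, ⟨W b, 𝟙 _, w b, Presieve.ofArrows.mk b, by simp⟩, hz⟩
  refine sect_ext G _ hS _ _ ?_
  rintro Z _ ⟨Z', l, _, ⟨b⟩, rfl⟩
  rw [op_comp, G.obj.map_comp]
  simp only [types_comp_apply]
  congr 1
  have n1 := ConcreteCategory.congr_hom (a.hom.naturality (w b).op) s
  simp only [types_comp_apply] at n1
  have hxb := hx b
  rw [op_comp, G.obj.map_comp] at hxb
  simp only [types_comp_apply] at hxb
  refine Eq.trans ?_ hxb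
  refine Eq.trans n1.symm ?_
  rw [hs b]

/-- Pure scheme-theoretic comparison of the two base-change maps. -/
lemma pure_symm {X Y V V' : Scheme.{u}} (f : X ⟶ Y) (v : V ⟶ Y) (v' : V' ⟶ V) :
    (pullbackSymmetry f (v' ≫ v)).hom ≫
      pullback.lift (pullback.fst (v' ≫ v) f ≫ v') (pullback.snd (v' ≫ v) f)
        (by rw [Category.assoc, pullback.condition]) =
    pullback.map f (v' ≫ v) f v (𝟙 X) v' (𝟙 Y) (by simp) (by simp) ≫
      (pullbackSymmetry v f).inv := by
  apply pullback.hom_ext
  · rw [Category.assoc, pullback.lift_fst, ← Category.assoc, pullbackSymmetry_hom_comp_fst,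
      Category.assoc, pullbackSymmetry_inv_comp_fst, pullback.lift_snd]
  · rw [Category.assoc, pullback.lift_snd, pullbackSymmetry_hom_comp_snd,
      Category.assoc, pullbackSymmetry_inv_comp_snd, pullback.lift_fst, Category.comp_id]

/-- The left part of `bc f` applied to an arrow, as a `pullback.lift`. -/
lemma bc_map_left (f : X ⟶ Y) {U V : Y.Etale} (g : V ⟶ U) :
    ((EtCoh.bc f).map g).left =
      pullback.lift (pullback.fst V.hom f ≫ g.left) (pullback.snd V.hom f)
        (by rw [Category.assoc, Over.w g.hom, pullback.condition]) := by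
  apply pullback.hom_ext
  · refine Eq.trans ?_ (pullback.lift_fst _ _ _).symm
    exact (EtCoh.isPullback_bc_map f g).w
  · refine Eq.trans ?_ (pullback.lift_snd _ _ _).symm
    exact Over.w ((EtCoh.bc f).map g).hom

/-- Pure scheme-theoretic factorisation used for condition (B). -/
lemma pure_fac {X Y V V' W' Z : Scheme.{u}} (f : X ⟶ Y) (v : V ⟶ Y) (v' : V' ⟶ V)
    (k' : W' ⟶ pullback v f) (ι : Z ⟶ pullback f (v' ≫ v)) (h : Z ⟶ W')
    (hh : h ≫ k' ≫ (pullbackSymmetry v f).hom =
      ι ≫ pullback.map f (v' ≫ v) f v (𝟙 X) v' (𝟙 Y) (by simp) (by simp)) :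
    h ≫ k' = (ι ≫ (pullbackSymmetry f (v' ≫ v)).hom) ≫
        pullback.lift (pullback.fst (v' ≫ v) f ≫ v') (pullback.snd (v' ≫ v) f)
          (by rw [Category.assoc, pullback.condition]) ∧
      h ≫ (k' ≫ pullback.snd v f) = ι ≫ pullback.fst f (v' ≫ v) := by
  constructor
  · rw [Category.assoc, pure_symm, ← Category.assoc ι, ← hh]
    simp only [Category.assoc, Iso.hom_inv_id, Category.comp_id]
  · have e : pullback.snd v f = (pullbackSymmetry v f).hom ≫ pullback.fst f v :=
      (pullbackSymmetry_hom_comp_fst v f).symm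
    calc h ≫ (k' ≫ pullback.snd v f)
        = (h ≫ k' ≫ (pullbackSymmetry v f).hom) ≫ pullback.fst f v := by
          rw [e]
          simp only [Category.assoc]
      _ = (ι ≫ pullback.map f (v' ≫ v) f v (𝟙 X) v' (𝟙 Y) (by simp) (by simp)) ≫
            pullback.fst f v := by rw [hh]
      _ = ι ≫ pullback.fst f (v' ≫ v) := by
          rw [Category.assoc, pullback.lift_fst, Category.comp_id]

/-- Condition (B) implies its site-theoretic form. -/
lemma hasDisjointRefinement_of_propB (f : X ⟶ Y) (hB : BigSite.PropB f) :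
    HasDisjointRefinement f := by
  intro V R hR y
  rw [mem_smallEtale_iff] at hR
  choose Wx kx wx hkx hwx using hR
  obtain ⟨κ, V', v', hv', hcov', hdec⟩ := hB V.left V.hom (↥(pullback f V.hom))
    (fun x => (Wx ((pullbackSymmetry V.hom f).inv x)).left)
    (fun x => (kx ((pullbackSymmetry V.hom f).inv x)).left ≫ (pullbackSymmetry V.hom f).hom)
    (fun x => inferInstance)
    (fun x => ⟨x, wx ((pullbackSymmetry V.hom f).inv x), by
      change (pullbackSymmetry V.hom f).hom
        ((kx ((pullbackSymmetry V.hom f).inv x)).left (wx ((pullbackSymmetry V.hom f).inv x))) = x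
      rw [hwx]
      simp⟩)
  obtain ⟨j, y', hy'⟩ := hcov' y
  haveI := hv' j
  obtain ⟨μ, W, hdisj, hsup, hfac⟩ := hdec j
  let V'o : Y.Etale := ofEtale (v' j ≫ V.hom)
  let g : V'o ⟶ V := MorphismProperty.Over.homMk (v' j) rfl trivial
  let Wo : μ → X.Etale := fun a => ofEtale ((W a).ι ≫ pullback.fst f (v' j ≫ V.hom))
  let w : ∀ a, Wo a ⟶ (EtCoh.bc f).obj V'o := fun a =>
    MorphismProperty.Over.homMk ((W a).ι ≫ (pullbackSymmetry f (v' j ≫ V.hom)).hom) (by
      change ((W a).ι ≫ (pullbackSymmetry f (v' j ≫ V.hom)).hom) ≫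
        pullback.snd (v' j ≫ V.hom) f = (W a).ι ≫ pullback.fst f (v' j ≫ V.hom)
      rw [Category.assoc, pullbackSymmetry_hom_comp_snd]) trivial
  refine ⟨V'o, g, y', hy', μ, Wo, w, ?_, ?_, ?_, ?_⟩
  · intro a
    change Mono ((W a).ι ≫ (pullbackSymmetry f (v' j ≫ V.hom)).hom)
    infer_instance
  · intro a b hab
    rw [Set.disjoint_left]
    rintro p ⟨za, rfl⟩ ⟨zb, hzb⟩
    have e : (W b).ι zb = (W a).ι za :=
      (pullbackSymmetry f (v' j ≫ V.hom)).hom.homeomorph.injective hzb
    have h1 : (W a).ι za ∈ (W a : Set ↥(pullback f (v' j ≫ V.hom))) := by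
      rw [← Scheme.Opens.range_ι]
      exact ⟨_, rfl⟩
    have h2 : (W a).ι za ∈ (W b : Set ↥(pullback f (v' j ≫ V.hom))) := by
      rw [← e, ← Scheme.Opens.range_ι]
      exact ⟨_, rfl⟩
    exact Set.disjoint_left.1 ((TopologicalSpace.Opens.coe_disjoint).2 (hdisj a b hab)) h1 h2
  · intro p
    have hq : (pullbackSymmetry f (v' j ≫ V.hom)).inv p ∈ (⨆ a, W a) := by
      rw [hsup]
      trivial
    obtain ⟨a, ha⟩ := TopologicalSpace.Opens.mem_iSup.1 hq
    have ha' : (pullbackSymmetry f (v' j ≫ V.hom)).inv p ∈ Set.range (W a).ι.base := by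
      rw [Scheme.Opens.range_ι]
      exact ha
    obtain ⟨z, hz⟩ := ha'
    refine ⟨a, z, ?_⟩
    change (pullbackSymmetry f (v' j ≫ V.hom)).hom ((W a).ι z) = p
    rw [hz]
    simp
  · intro a
    obtain ⟨i, h, hh⟩ := hfac a
    obtain ⟨e1, e2⟩ := pure_fac f V.hom (v' j) (kx ((pullbackSymmetry V.hom f).inv i)).left
      (W a).ι h hh
    let m : Wo a ⟶ Wx ((pullbackSymmetry V.hom f).inv i) :=
      MorphismProperty.Over.homMk h (by
        change h ≫ (Wx ((pullbackSymmetry V.hom f).inv i)).hom =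
          (W a).ι ≫ pullback.fst f (v' j ≫ V.hom)
        refine Eq.trans ?_ e2
        exact congrArg (h ≫ ·) (Over.w (kx ((pullbackSymmetry V.hom f).inv i)).hom).symm) trivial
    have hm : m ≫ kx ((pullbackSymmetry V.hom f).inv i) = w a ≫ (EtCoh.bc f).map g := by
      apply MorphismProperty.Over.Hom.ext
      change h ≫ (kx ((pullbackSymmetry V.hom f).inv i)).left =
        ((W a).ι ≫ (pullbackSymmetry f (v' j ≫ V.hom)).hom) ≫ ((EtCoh.bc f).map g).left
      refine e1.trans ?_
      exact congrArg (((W a).ι ≫ (pullbackSymmetry f (v' j ≫ V.hom)).hom) ≫ ·)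
        (bc_map_left f g).symm
    rw [← hm]
    exact R.downward_closed (hkx _) m

end Groth.Agent.Lib.Helper5.EtGlue
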