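import Mathlib

/-!
# Local equality of two lifts to an étale scheme (helper5)
-/
set_option autoImplicit false
universe u
open CategoryTheory CategoryTheory.Limits AlgebraicGeometry Opposite

namespace Groth.Agent.Lib.Helper5.EtEqLocus

variable {U U' W : Scheme.{u}}

/-- Two morphisms `W ⟶ U'` with the same composite to `U` which agree at the point `w` agree on
`Spec κ(w)` when `κ(φ a) → κ(a)` is bijective at `a = h₁ w`. -/
lemma fromSpecResidueField_comp_eq (φ : U' ⟶ U) (h₁ h₂ : W ⟶ U') (hc : h₁ ≫ φ = h₂ ≫ φ) (w : W)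
    (e : h₁ w = h₂ w) (hres : Function.Bijective (φ.residueFieldMap (h₁ w))) :
    W.fromSpecResidueField w ≫ h₁ = W.fromSpecResidueField w ≫ h₂ := by
  rw [← Scheme.Hom.SpecMap_residueFieldMap_fromSpecResidueField,
    ← Scheme.Hom.SpecMap_residueFieldMap_fromSpecResidueField]
  have key : h₁.residueFieldMap w = (U'.residueFieldCongr e).hom ≫ h₂.residueFieldMap w := by
    haveI : Epi (φ.residueFieldMap (h₁ w)) := by
      haveI : IsIso (φ.residueFieldMap (h₁ w)) :=
        (ConcreteCategory.isIso_iff_bijective _).2 hres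
      infer_instance
    rw [← cancel_epi (φ.residueFieldMap (h₁ w))]
    rw [← Scheme.residueFieldMap_comp, Scheme.Hom.residueFieldMap_congr'_assoc,
      ← Scheme.residueFieldMap_comp]
    exact Scheme.Hom.residueFieldMap_congr hc w
  rw [key, Spec.map_comp, Category.assoc, Scheme.residueFieldCongr_fromSpecResidueField]

/-- Two morphisms into an étale `U`-scheme with the same composite to `U`, which agree at `w` with
trivial residue field extension, agree on an open neighbourhood of `w`. -/
lemma exists_open_eq (φ : U' ⟶ U) [Etale φ] (h₁ h₂ : W ⟶ U') (hc : h₁ ≫ φ = h₂ ≫ φ) (w : W)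
    (e : h₁ w = h₂ w) (hres : Function.Bijective (φ.residueFieldMap (h₁ w))) :
    ∃ O : W.Opens, w ∈ O ∧ O.ι ≫ h₁ = O.ι ≫ h₂ := by
  haveI : IsOpenImmersion (pullback.diagonal φ) := inferInstance
  let h : W ⟶ pullback φ φ := pullback.lift h₁ h₂ hc
  let O : W.Opens := h ⁻¹ᵁ (pullback.diagonal φ).opensRange
  have hm := fromSpecResidueField_comp_eq φ h₁ h₂ hc w e hres
  have hw : w ∈ O := by
    change h w ∈ Set.range (pullback.diagonal φ)
    have e1 : W.fromSpecResidueField w ≫ h =
        (W.fromSpecResidueField w ≫ h₁) ≫ pullback.diagonal φ := by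
      have f1 : h ≫ pullback.fst φ φ = h₁ := pullback.lift_fst _ _ _
      have f2 : h ≫ pullback.snd φ φ = h₂ := pullback.lift_snd _ _ _
      apply pullback.hom_ext
      · rw [Category.assoc, f1, Category.assoc, pullback.diagonal_fst, Category.comp_id]
      · rw [Category.assoc, f2, Category.assoc, pullback.diagonal_snd, Category.comp_id, hm]
    have e2 : h w = (W.fromSpecResidueField w ≫ h) default := by
      rw [Scheme.Hom.comp_apply, Scheme.fromSpecResidueField_apply]
    rw [e2, e1, Scheme.Hom.comp_apply]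
    exact ⟨_, rfl⟩
  refine ⟨O, hw, ?_⟩
  have hrange : Set.range (O.ι ≫ h) ⊆ Set.range (pullback.diagonal φ) := by
    rintro _ ⟨x, rfl⟩
    rw [Scheme.Hom.comp_apply]
    exact x.2
  let k := IsOpenImmersion.lift (pullback.diagonal φ) (O.ι ≫ h) hrange
  have hk : k ≫ pullback.diagonal φ = O.ι ≫ h := IsOpenImmersion.lift_fac _ _ _
  have e1 : O.ι ≫ h₁ = k := by
    have f1 : h ≫ pullback.fst φ φ = h₁ := pullback.lift_fst _ _ _
    have := congrArg (fun m => m ≫ pullback.fst φ φ) hk
    simp only [Category.assoc, pullback.diagonal_fst, Category.comp_id, f1] at this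
    exact this.symm
  have e2 : O.ι ≫ h₂ = k := by
    have f2 : h ≫ pullback.snd φ φ = h₂ := pullback.lift_snd _ _ _
    have := congrArg (fun m => m ≫ pullback.snd φ φ) hk
    simp only [Category.assoc, pullback.diagonal_snd, Category.comp_id, f2] at this
    exact this.symm
  rw [e1, e2]

end Groth.Agent.Lib.Helper5.EtEqLocus
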