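import Mathlib

/-!
# Unit of `sheafPullback ⊣ pushforward` is an iso for fully faithful continuous & cocontinuous functors
-/

open CategoryTheory CategoryTheory.Limits Opposite

universe w v₁ v₂ u₁ u₂ v u

namespace Groth.Agent.Lib.Helper5.Misc.UnitIsoFF

variable {C : Type u₁} [Category.{v₁} C] {D : Type u₂} [Category.{v₂} D]
  (G : C ⥤ D) (A : Type u) [Category.{v} A]
  (J : GrothendieckTopology C) (K : GrothendieckTopology D)
  [G.IsContinuous J K] [G.IsCocontinuous J K]
  [∀ (F : Cᵒᵖ ⥤ A), G.op.HasPointwiseRightKanExtension F]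
  [G.Full] [G.Faithful]

instance isIso_counit_app (F : Sheaf J A) :
    IsIso ((G.sheafAdjunctionCocontinuous A J K).counit.app F) := by
  have h : IsIso ((sheafToPresheaf J A).map ((G.sheafAdjunctionCocontinuous A J K).counit.app F)) := by
    change IsIso ((G.sheafAdjunctionCocontinuous A J K).counit.app F).hom
    rw [Functor.sheafAdjunctionCocontinuous_counit_app_hom]
    have : IsIso (G.op.ranAdjunction A).counit := Functor.reflective' _
    exact NatIso.isIso_app_of_isIso (G.op.ranAdjunction A).counit F.obj
  exact isIso_of_reflects_iso _ (sheafToPresheaf J A)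

instance isIso_counit : IsIso (G.sheafAdjunctionCocontinuous A J K).counit :=
  NatIso.isIso_of_isIso_app _

theorem isIso_unit_of_adj {L : Sheaf J A ⥤ Sheaf K A}
    (adj : L ⊣ G.sheafPushforwardContinuous A J K) : IsIso adj.unit := by
  let t : Adjunction.Triple L (G.sheafPushforwardContinuous A J K)
      (G.sheafPushforwardCocontinuous A J K) :=
    { adj₁ := adj, adj₂ := G.sheafAdjunctionCocontinuous A J K }
  exact t.isIso_unit_iff_isIso_counit.2 (isIso_counit G A J K)

end Groth.Agent.Lib.Helper5.Misc.UnitIsoFF
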