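import Mathlib
import Groth.Agent.Lib.Helper5.Misc.EtStalk

/-!
# Detecting properties of abelian étale sheaves on a covering family of geometric points (helper5)
-/

set_option autoImplicit false
universe u
open CategoryTheory CategoryTheory.Limits AlgebraicGeometry Opposite

namespace Groth.Agent.Lib.Helper5.EtStalkFam

open EtStalk

attribute [local instance] ab5' pfc

variable {X : Scheme.{u}} {ι : Sort*} (P : ι → GeomPt X)
  (hcov : ∀ x : X, ∃ i, (P i).ξ (default : Spec (CommRingCat.of (P i).Ω)) = x)
  {F G : EtCoh.Ab X} (a : F ⟶ G)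

include hcov in
lemma mono_of_stalks
    (h : ∀ i, Function.Injective (((P i).point.sheafFiber (A := AddCommGrpCat.{u + 1})).map a)) :
    Mono a := by
  rw [mono_iff_ab]
  intro U
  exact PointDetect.injective_app_of_injective_fibers (detects_of_cover P hcov) a h U

include hcov in
lemma epi_of_stalks
    (h : ∀ i, Function.Surjective (((P i).point.sheafFiber (A := AddCommGrpCat.{u + 1})).map a)) :
    Epi a := by
  rw [← Sheaf.isLocallySurjective_iff_epi']
  exact PointDetect.isLocallySurjective_of_surjective_fibers (detects_of_cover P hcov) a h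

include hcov in
lemma isIso_of_stalks
    (h : ∀ i, IsIso (((P i).point.sheafFiber (A := AddCommGrpCat.{u + 1})).map a)) :
    IsIso a := by
  haveI := mono_of_stalks P hcov a (fun i =>
    ((ConcreteCategory.isIso_iff_bijective _).1 (h i)).1)
  haveI := epi_of_stalks P hcov a (fun i =>
    ((ConcreteCategory.isIso_iff_bijective _).1 (h i)).2)
  exact isIso_of_mono_of_epi a

include hcov in
lemma exact_of_stalks (S : ShortComplex (EtCoh.Ab X))
    (h : ∀ i, (S.map ((P i).point.sheafFiber (A := AddCommGrpCat.{u + 1}))).Exact) :
    S.Exact := by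
  rw [S.exact_iff_isZero_homology]
  apply isZero_of_stalks_family P hcov
  intro i
  have h1 := h i
  rw [ShortComplex.exact_iff_isZero_homology] at h1
  exact h1.of_iso (S.mapHomologyIso ((P i).point.sheafFiber (A := AddCommGrpCat.{u + 1}))).symm

include hcov in
/-- A complex which at every point of the family has either (`f` iso and `X₃ = 0`) or
(`X₁ = 0` and `g` iso) is short exact. -/
lemma shortExact_of_stalks (S : ShortComplex (EtCoh.Ab X))
    (h : ∀ i, (IsIso (((P i).point.sheafFiber (A := AddCommGrpCat.{u + 1})).map S.f) ∧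
        IsZero (((P i).point.sheafFiber (A := AddCommGrpCat.{u + 1})).obj S.X₃)) ∨
      (IsZero (((P i).point.sheafFiber (A := AddCommGrpCat.{u + 1})).obj S.X₁) ∧
        IsIso (((P i).point.sheafFiber (A := AddCommGrpCat.{u + 1})).map S.g))) :
    S.ShortExact := by
  haveI : Mono S.f := by
    apply mono_of_stalks P hcov
    intro i
    rcases h i with ⟨h1, -⟩ | ⟨h1, -⟩
    · exact ((ConcreteCategory.isIso_iff_bijective _).1 h1).1
    · haveI := AddCommGrpCat.subsingleton_of_isZero h1
      exact Function.injective_of_subsingleton _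
  haveI : Epi S.g := by
    apply epi_of_stalks P hcov
    intro i
    rcases h i with ⟨-, h2⟩ | ⟨-, h2⟩
    · haveI := AddCommGrpCat.subsingleton_of_isZero h2
      intro y
      exact ⟨0, Subsingleton.elim _ _⟩
    · exact ((ConcreteCategory.isIso_iff_bijective _).1 h2).2
  refine ShortComplex.ShortExact.mk (exact_of_stalks P hcov S ?_)
  intro i
  rcases h i with ⟨h1, h2⟩ | ⟨h1, h2⟩
  · haveI := h1
    refine (ShortComplex.exact_iff_epi _ (h2.eq_of_tgt _ _)).2 ?_
    change Epi (((P i).point.sheafFiber (A := AddCommGrpCat.{u + 1})).map S.f)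
    infer_instance
  · haveI := h2
    refine (ShortComplex.exact_iff_mono _ (h1.eq_of_src _ _)).2 ?_
    change Mono (((P i).point.sheafFiber (A := AddCommGrpCat.{u + 1})).map S.g)
    infer_instance

end Groth.Agent.Lib.Helper5.EtStalkFam
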