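import Mathlib

/-!
# Beck–Chevalley isomorphism for over categories

For a cartesian square `g' ≫ f = f' ≫ g`, `Over.pullback f' ⋙ Over.map g' ≅ Over.map g ⋙ Over.pullback f`.
-/

open CategoryTheory CategoryTheory.Limits

namespace Groth.Agent.Lib.Helper5.Misc.OverBC

variable {C : Type*} [Category C] [HasPullbacks C]
variable {T S T' S' : C} {f : T ⟶ S} {g : S' ⟶ S} {g' : T' ⟶ T} {f' : T' ⟶ S'}

theorem isPullback_paste (c : IsPullback g' f' f g) (U : Over S') :
    IsPullback (pullback.fst U.hom f') (pullback.snd U.hom f' ≫ g') (U.hom ≫ g) f :=
  (IsPullback.of_hasPullback U.hom f').paste_vert c.flip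

/-- Beck–Chevalley for over categories. -/
noncomputable def bcIso (c : IsPullback g' f' f g) :
    Over.pullback f' ⋙ Over.map g' ≅ Over.map g ⋙ Over.pullback f :=
  NatIso.ofComponents
    (fun U => Over.isoMk (isPullback_paste c U).isoPullback (by
      dsimp
      exact (isPullback_paste c U).isoPullback_hom_snd))
    (by
      intro U V φ
      ext
      dsimp
      have hU := isPullback_paste c U
      have hV := isPullback_paste c V
      apply pullback.hom_ext
      · simp only [Category.assoc, Over.isoMk_hom_left, Over.pullback_map_left, Over.map_map_left,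
          Over.map_obj_hom, Over.map_obj_left]
        rw [IsPullback.isoPullback_hom_fst hV, pullback.lift_fst, pullback.lift_fst,
          IsPullback.isoPullback_hom_fst_assoc hU]
      · simp only [Category.assoc, Over.isoMk_hom_left, Over.pullback_map_left, Over.map_map_left,
          Over.map_obj_hom, Over.map_obj_left]
        rw [IsPullback.isoPullback_hom_snd hV, pullback.lift_snd_assoc, pullback.lift_snd,
          IsPullback.isoPullback_hom_snd hU])

end Groth.Agent.Lib.Helper5.Misc.OverBC

namespace Groth.Agent.Lib.Helper5.Misc.OverBC

universe v' u'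

variable {C : Type*} [Category C] [HasPullbacks C]
variable {T S T' S' : C} {f : T ⟶ S} {g : S' ⟶ S} {g' : T' ⟶ T} {f' : T' ⟶ S'}

/-- base change for sheaves on over categories: `g⁻¹ f_* ≅ f'_* g'⁻¹` -/
noncomputable def pushPullIso (J : GrothendieckTopology C) (c : IsPullback g' f' f g)
    (A : Type u') [Category.{v'} A] :
    (Over.pullback f).sheafPushforwardContinuous A (J.over S) (J.over T) ⋙ J.overMapPullback A g ≅
      J.overMapPullback A g' ⋙
        (Over.pullback f').sheafPushforwardContinuous A (J.over S') (J.over T') :=
  haveI : (Over.pullback f' ⋙ Over.map g').IsContinuous (J.over S') (J.over T) :=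
    Functor.isContinuous_comp _ _ _ (J.over T') _
  Functor.sheafPushforwardContinuousComp' (bcIso c).symm A (J.over S') (J.over S) (J.over T) ≪≫
    (Functor.sheafPushforwardContinuousComp (Over.pullback f') (Over.map g') A
      (J.over S') (J.over T') (J.over T)).symm

end Groth.Agent.Lib.Helper5.Misc.OverBC
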