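import Mathlib

/-!
# Étale covers adjoining a root of a separable monic polynomial (helper5)
-/
set_option autoImplicit false
universe u
open CategoryTheory CategoryTheory.Limits AlgebraicGeometry Opposite Polynomial

namespace Groth.Agent.Lib.Helper5.EtRootCover

section Algebra

variable {A : Type u} [CommRing A]

/-- The standard étale pair `(f, 1)` for a monic polynomial `f` with `(f', f) = 1`. -/
noncomputable def pair (f : A[X]) (hf : f.Monic) (p₁ p₂ : A[X])
    (h : derivative f * p₁ + f * p₂ = 1) : StandardEtalePair A where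
  f := f
  monic_f := hf
  g := 1
  cond := ⟨p₁, p₂, 0, by rw [pow_zero]; exact h⟩

lemma aeval_X (f : A[X]) (hf : f.Monic) (p₁ p₂ : A[X])
    (h : derivative f * p₁ + f * p₂ = 1) :
    aeval (pair f hf p₁ p₂ h).X f = 0 :=
  (StandardEtalePair.hasMap_X (P := pair f hf p₁ p₂ h)).1

/-- Every prime of `A` lifts to the standard étale algebra of `(f, 1)` when `f` has positive
degree. -/
lemma comap_surjective (f : A[X]) (hf : f.Monic) (hdeg : f.natDegree ≠ 0) (p₁ p₂ : A[X])
    (h : derivative f * p₁ + f * p₂ = 1) :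
    Function.Surjective
      (PrimeSpectrum.comap (algebraMap A (pair f hf p₁ p₂ h).Ring)) := by
  intro 𝔭
  let K := AlgebraicClosure 𝔭.asIdeal.ResidueField
  let φ : A →+* K := (algebraMap 𝔭.asIdeal.ResidueField K).comp
    (algebraMap A 𝔭.asIdeal.ResidueField)
  letI : Algebra A K := φ.toAlgebra
  have hdeg' : (f.map φ).degree ≠ 0 := by
    have h1 : (f.map φ).natDegree ≠ 0 := by
      rw [hf.natDegree_map]
      exact hdeg
    exact Polynomial.degree_ne_of_natDegree_ne h1
  obtain ⟨x, hx⟩ := IsAlgClosed.exists_root (f.map φ) hdeg'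
  have hx' : aeval x f = 0 := by
    rw [Polynomial.aeval_def]
    rw [Polynomial.IsRoot.def, Polynomial.eval_map] at hx
    exact hx
  let P := pair f hf p₁ p₂ h
  have hmap : P.HasMap x := ⟨hx', by
    change IsUnit (aeval x (1 : A[X]))
    rw [map_one]
    exact isUnit_one⟩
  let ψ : P.Ring →ₐ[A] K := P.lift x hmap
  refine ⟨⟨RingHom.ker ψ.toRingHom, RingHom.ker_isPrime _⟩, ?_⟩
  apply PrimeSpectrum.ext
  change Ideal.comap (algebraMap A P.Ring) (RingHom.ker ψ.toRingHom) = 𝔭.asIdeal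
  rw [RingHom.comap_ker]
  have e : ψ.toRingHom.comp (algebraMap A P.Ring) = φ := by
    ext a
    exact ψ.commutes a
  rw [e]
  change RingHom.ker ((algebraMap 𝔭.asIdeal.ResidueField K).comp
    (algebraMap A 𝔭.asIdeal.ResidueField)) = _
  rw [← RingHom.comap_ker, (RingHom.injective_iff_ker_eq_bot _).1
    (algebraMap 𝔭.asIdeal.ResidueField K).injective, ← RingHom.ker_eq_comap_bot,
    Ideal.ker_algebraMap_residueField]

end Algebra

section Scheme

/-- Étale-locally, a monic polynomial `f` of positive degree with `(f', f) = 1` over the global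
functions acquires a root. -/
theorem exists_etale_root (V : Scheme.{u}) (v : V) (f : Γ(V, ⊤)[X]) (hf : f.Monic)
    (hdeg : f.natDegree ≠ 0) (p₁ p₂ : Γ(V, ⊤)[X]) (h : derivative f * p₁ + f * p₂ = 1) :
    ∃ (V' : Scheme.{u}) (g : V' ⟶ V) (_ : Etale g) (v' : V') (t : Γ(V', ⊤)),
      g v' = v ∧ (f.map g.appTop.hom).eval t = 0 := by
  obtain ⟨_, ⟨O, hO, rfl⟩, hv, -⟩ := V.isBasis_affineOpens.exists_subset_of_mem_open
    (Set.mem_univ v) isOpen_univ
  let A : CommRingCat.{u} := Γ(V, O)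
  let r : Γ(V, ⊤) ⟶ A := hO.fromSpec.appTop ≫ (Scheme.ΓSpecIso A).hom
  let fA : (A : Type u)[X] := f.map r.hom
  have hfA : fA.Monic := hf.map _
  haveI : Nontrivial A := by
    refine ⟨⟨0, 1, fun h01 => (hO.primeIdealOf ⟨v, hv⟩).isPrime.ne_top
      ((Ideal.eq_top_iff_one _).2 (h01 ▸ Ideal.zero_mem _))⟩⟩
  have hdegA : fA.natDegree ≠ 0 := by
    rw [hf.natDegree_map]
    exact hdeg
  have hA : derivative fA * p₁.map r.hom + fA * p₂.map r.hom = 1 := by
    have := congrArg (Polynomial.map r.hom) h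
    simpa [fA, Polynomial.derivative_map] using this
  let P := pair fA hfA _ _ hA
  let B : CommRingCat.{u} := CommRingCat.of P.Ring
  let φ : A ⟶ B := CommRingCat.ofHom (algebraMap A P.Ring)
  let g : Spec B ⟶ V := Spec.map φ ≫ hO.fromSpec
  haveI : Etale (Spec.map φ) := by
    rw [HasRingHomProperty.Spec_iff (P := @Etale)]
    change (algebraMap A P.Ring).Etale
    rw [RingHom.etale_algebraMap]
    infer_instance
  haveI : Etale g := inferInstance
  obtain ⟨𝔮, h𝔮⟩ := comap_surjective fA hfA hdegA _ _ hA (hO.primeIdealOf ⟨v, hv⟩)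
  let t : Γ(Spec B, ⊤) := (Scheme.ΓSpecIso B).inv.hom P.X
  refine ⟨Spec B, g, inferInstance, 𝔮, t, ?_, ?_⟩
  · change hO.fromSpec (Spec.map φ 𝔮) = v
    have e : Spec.map φ 𝔮 = hO.primeIdealOf ⟨v, hv⟩ := h𝔮
    rw [e, hO.fromSpec_primeIdealOf]
  · have e1 : g.appTop = r ≫ φ ≫ (Scheme.ΓSpecIso B).inv := by
      change (Spec.map φ ≫ hO.fromSpec).appTop = _
      have e0 : hO.fromSpec.appTop = r ≫ (Scheme.ΓSpecIso A).inv := by simp [r]
      rw [Scheme.Hom.comp_appTop, e0, Category.assoc, ← Scheme.ΓSpecIso_inv_naturality]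
    rw [Polynomial.eval_map, e1]
    change Polynomial.eval₂ (((Scheme.ΓSpecIso B).inv.hom).comp (φ.hom.comp r.hom))
      ((Scheme.ΓSpecIso B).inv.hom P.X) f = 0
    rw [← Polynomial.hom_eval₂, ← Polynomial.eval₂_map]
    have e2 : Polynomial.eval₂ φ.hom P.X (f.map r.hom) = 0 := aeval_X fA hfA _ _ hA
    rw [e2, map_zero]

end Scheme

end Groth.Agent.Lib.Helper5.EtRootCover
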