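import Mathlib

set_option autoImplicit false
universe u

namespace Groth.Agent.Helper5.DVRRam
open IsLocalRing

section
variable (A B : Type u) [CommRing A] [IsDomain A] [IsDiscreteValuationRing A]
  [CommRing B] [IsDomain B] [IsDiscreteValuationRing B] [Algebra A B]
  [IsLocalHom (algebraMap A B)]

/-- uniformizers adapted to the ramification index -/
theorem exists_uniformizers (hinj : Function.Injective (algebraMap A B)) :
    ∃ (ϖA : A) (ϖB : B) (w0 : Bˣ), Irreducible ϖA ∧ Irreducible ϖB ∧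
      algebraMap A B ϖA =
        w0 * ϖB ^ (Ideal.ramificationIdx' (maximalIdeal A) (maximalIdeal B)) ∧
      0 < Ideal.ramificationIdx' (maximalIdeal A) (maximalIdeal B) := by
  obtain ⟨ϖA, hA⟩ := IsDiscreteValuationRing.exists_irreducible A
  obtain ⟨ϖB, hB⟩ := IsDiscreteValuationRing.exists_irreducible B
  have hne : algebraMap A B ϖA ≠ 0 := by
    rw [Ne, map_eq_zero_iff _ hinj]
    exact hA.ne_zero
  obtain ⟨n, w0, hn⟩ := IsDiscreteValuationRing.eq_unit_mul_pow_irreducible hne hB
  have hn0 : n ≠ 0 := by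
    rintro rfl
    rw [pow_zero, mul_one] at hn
    have : IsUnit (algebraMap A B ϖA) := hn ▸ w0.isUnit
    exact hA.not_isUnit (isUnit_of_map_unit (algebraMap A B) ϖA this)
  have hram : Ideal.ramificationIdx' (maximalIdeal A) (maximalIdeal B) = n := by
    apply Ideal.ramificationIdx'_spec
    · rw [hA.maximalIdeal_eq, hB.maximalIdeal_eq, Ideal.map_span, Set.image_singleton,
        Ideal.span_singleton_pow, Ideal.span_singleton_le_span_singleton, hn]
      exact Dvd.intro_left _ rfl
    · rw [hA.maximalIdeal_eq, hB.maximalIdeal_eq, Ideal.map_span, Set.image_singleton,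
        Ideal.span_singleton_pow, Ideal.span_singleton_le_span_singleton, hn]
      rintro ⟨c, hc⟩
      rw [pow_succ, mul_assoc, mul_comm (w0 : B), ] at hc
      have h2 : (w0 : B) = ϖB * c :=
        mul_left_cancel₀ (pow_ne_zero n hB.ne_zero) hc
      exact hB.not_isUnit (isUnit_of_mul_isUnit_left (h2 ▸ w0.isUnit))
  exact ⟨ϖA, ϖB, w0, hA, hB, by rw [hram]; exact hn, by rw [hram]; exact Nat.pos_of_ne_zero hn0⟩

/-- image of a nonzero element of `A` in `B` -/
theorem map_eq {ϖA : A} {ϖB : B} {w0 : Bˣ} {e : ℕ} (hA : Irreducible ϖA)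
    (h : algebraMap A B ϖA = w0 * ϖB ^ e) (a : A) (ha : a ≠ 0) :
    ∃ (v : Bˣ) (k : ℕ), algebraMap A B a = v * ϖB ^ (e * k) := by
  obtain ⟨k, u, hk⟩ := IsDiscreteValuationRing.eq_unit_mul_pow_irreducible ha hA
  refine ⟨Units.map (algebraMap A B).toMonoidHom u * w0 ^ k, k, ?_⟩
  rw [hk, map_mul, map_pow, h, mul_pow, ← pow_mul]
  simp [mul_assoc]

end

section
variable (A B K L : Type u) [CommRing A] [IsDomain A]
    [IsDiscreteValuationRing A] [CommRing B] [IsDomain B] [IsDiscreteValuationRing B] [Algebra A B]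
    [IsLocalHom (algebraMap A B)]
    [Field K] [Field L] [Algebra A K] [IsFractionRing A K] [Algebra B L] [IsFractionRing B L]
    [Algebra K L] [Algebra A L] [IsScalarTower A K L] [IsScalarTower A B L]

/-- key relation: if `ψ α * φ (x)  = φ y`-type relation holds with `x = ϖ^j`, `y = w ϖ^j'`. -/
theorem exponent_relation {ϖA : A} {ϖB : B} {w0 : Bˣ} {e : ℕ} (hA : Irreducible ϖA)
    (hB : Irreducible ϖB) (h : algebraMap A B ϖA = w0 * ϖB ^ e)
    (α : K) (hα : α ≠ 0) (w : Bˣ) (j j' : ℕ)
    (hrel : algebraMap B L ϖB ^ j = algebraMap K L α * algebraMap B L w * algebraMap B L ϖB ^ j') :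
    ∃ k k' : ℕ, e * k' + j = e * k + j' := by
  obtain ⟨a, a', ha', rfl⟩ := IsFractionRing.div_surjective (A := A) α
  have ha'0 : a' ≠ 0 := nonZeroDivisors.ne_zero ha'
  have ha0 : a ≠ 0 := by
    rintro rfl
    simp at hα
  obtain ⟨v, k, hv⟩ := map_eq A B hA h a ha0
  obtain ⟨v', k', hv'⟩ := map_eq A B hA h a' ha'0
  refine ⟨k, k', ?_⟩
  have hKa' : algebraMap K L (algebraMap A K a') ≠ 0 := by
    rw [Ne, map_eq_zero, map_eq_zero_iff _ (IsFractionRing.injective A K)]
    exact ha'0
  have e1 : ∀ x : A, algebraMap K L (algebraMap A K x) = algebraMap B L (algebraMap A B x) :=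
    fun x => by
      rw [← IsScalarTower.algebraMap_apply A K L, ← IsScalarTower.algebraMap_apply A B L]
  have h2 : algebraMap B L (algebraMap A B a' * ϖB ^ j) =
      algebraMap B L (algebraMap A B a * w * ϖB ^ j') := by
    rw [map_mul, map_mul, map_mul, map_pow, map_pow, ← e1, ← e1, hrel, map_div₀]
    field_simp
  have h3 := IsFractionRing.injective B L h2
  have h4 : (v' : B) * ϖB ^ (e * k' + j) = ((v * w : Bˣ) : B) * ϖB ^ (e * k + j') := by
    rw [pow_add, pow_add, Units.val_mul, ← mul_assoc, ← hv', h3, hv]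
    ring
  exact IsDiscreteValuationRing.unit_mul_pow_congr_pow hB hB _ _ _ _ h4

end

end Groth.Agent.Helper5.DVRRam
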