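import Mathlib
import Groth.Prelude.Def_NonAbH1

set_option autoImplicit false
universe w' w v u
open CategoryTheory Opposite

namespace Groth.Agent.Lib.Helper5.Tors

variable {C : Type u} [Category.{v} C] {J : GrothendieckTopology C} {G : Sheaf J GrpCat.{w}}

section PT

variable {P : NonAbH1.GSheaf G} (hP : P.IsPseudoTorsor)

/-- the unique section of `G` carrying `p` to `q`. -/
noncomputable def diff {V : Cᵒᵖ} (p q : P.P.obj.obj V) : G.obj.obj V := (hP V p q).choose

lemma diff_smul {V : Cᵒᵖ} (p q : P.P.obj.obj V) : P.smul (diff hP p q) p = q :=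
  (hP V p q).choose_spec.1

lemma eq_diff {V : Cᵒᵖ} {p q : P.P.obj.obj V} {g : G.obj.obj V} (h : P.smul g p = q) :
    g = diff hP p q :=
  (hP V p q).choose_spec.2 g h

include hP in
lemma smul_cancel {V : Cᵒᵖ} {p : P.P.obj.obj V} {g g' : G.obj.obj V}
    (h : P.smul g p = P.smul g' p) : g = g' :=
  (eq_diff hP h).trans (eq_diff hP rfl).symm

lemma map_diff {V W : Cᵒᵖ} (f : V ⟶ W) (p q : P.P.obj.obj V) :
    G.obj.map f (diff hP p q) = diff hP (P.P.obj.map f p) (P.P.obj.map f q) := by
  apply eq_diff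
  rw [← P.map_smul, diff_smul]

end PT

lemma map_comp_apply' (F : Cᵒᵖ ⥤ Type w) {X Y Z : C} (a : X ⟶ Y) (b : Y ⟶ Z) (x : F.obj (op Z)) :
    F.map (a ≫ b).op x = F.map a.op (F.map b.op x) := by
  rw [op_comp, Functor.map_comp_apply]

section Cocycle

variable {P : NonAbH1.GSheaf G} (hP : P.IsPseudoTorsor) {I : Type w'} (U : I → C)
  (s : ∀ i, P.P.obj.obj (op (U i)))

/-- the cocycle cut out by a family of sections of a pseudo-torsor. -/
noncomputable def cocycleOf : PresheafOfGroups.OneCocycle G.obj U where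
  ev i j T a b := diff hP (P.P.obj.map b.op (s j)) (P.P.obj.map a.op (s i))
  ev_precomp i j T T' φ a b := by
    rw [map_diff, ← map_comp_apply', ← map_comp_apply']
  ev_trans i j k T a b c := by
    apply eq_diff
    rw [P.mul_smul, diff_smul, diff_smul]

lemma isCocycleOf_cocycleOf : P.IsCocycleOf U s (cocycleOf hP U s) := by
  intro i j T a b
  exact diff_smul hP _ _

include hP in
lemma cohomologous_of_isCocycleOf {s s' : ∀ i, P.P.obj.obj (op (U i))}
    {γ γ' : PresheafOfGroups.OneCocycle G.obj U} (h : P.IsCocycleOf U s γ)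
    (h' : P.IsCocycleOf U s' γ') : γ.IsCohomologous γ' := by
  refine ⟨fun i => diff hP (s i) (s' i), ?_⟩
  intro i j T a b
  apply smul_cancel hP (p := P.P.obj.map b.op (s j))
  rw [P.mul_smul, P.mul_smul, h i j a b, ← P.map_smul, ← P.map_smul, diff_smul, diff_smul,
    h' i j a b]

end Cocycle

theorem existsUnique_hasCechClass (P : NonAbH1.Torsor G) {I : Type w'} (U : I → C)
    (hP : P.TrivialisedBy U) : ∃! c : PresheafOfGroups.H1 G.obj U, P.HasCechClass U c := by
  have hpt := P.isTorsor.1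
  let s : ∀ i, P.P.obj.obj (op (U i)) := fun i => (hP i).some
  refine ⟨(cocycleOf hpt U s).class, ⟨s, _, isCocycleOf_cocycleOf hpt U s, rfl⟩, ?_⟩
  rintro c ⟨s', γ', h', rfl⟩
  exact (cohomologous_of_isCocycleOf hpt U h' (isCocycleOf_cocycleOf hpt U s)).class_eq

end Groth.Agent.Lib.Helper5.Tors
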