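import Mathlib
import Groth.Prelude.Def_NonAbH1
import Groth.Agent.Lib.Helper5.Misc.Tors1

set_option autoImplicit false
universe w' w v u
open CategoryTheory Opposite

namespace Groth.Agent.Lib.Helper5.Tors

variable {C : Type u} [Category.{v} C] {J : GrothendieckTopology C}

section Local

variable (good : C → Prop) (hpre : ∀ ⦃W W' : C⦄ (_ : W' ⟶ W), good W → good W')

/-- the sieve of arrows from good objects. -/
def goodSieve (V : C) : Sieve V where
  arrows W _ := good W
  downward_closed hf g := hpre g hf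

variable (hcov : ∀ V, goodSieve good hpre V ∈ J V) {P Q : Sheaf J (Type w)}

include hcov in
lemma hom_ext_of_good {φ φ' : P ⟶ Q}
    (h : ∀ (W : C), good W → ∀ p : P.obj.obj (op W), φ.hom.app (op W) p = φ'.hom.app (op W) p) :
    φ = φ' := by
  have hQ : Presieve.IsSheaf J Q.obj := (isSheaf_iff_isSheaf_of_type _ _).1 Q.property
  apply Sheaf.hom_ext
  ext V p
  obtain ⟨V⟩ := V
  refine (hQ _ (hcov V)).isSeparatedFor.ext ?_
  intro W f hf
  have h1 := NatTrans.naturality_apply φ.hom f.op p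
  have h2 := NatTrans.naturality_apply φ'.hom f.op p
  exact h1.symm.trans ((h W hf _).trans h2)

include hcov in
lemma exists_hom_of_good
    (ψ : ∀ (W : C), good W → P.obj.obj (op W) → Q.obj.obj (op W))
    (hψ : ∀ ⦃W W' : C⦄ (h : W' ⟶ W) (hW : good W) (hW' : good W') (p : P.obj.obj (op W)),
      ψ W' hW' (P.obj.map h.op p) = Q.obj.map h.op (ψ W hW p)) :
    ∃ φ : P ⟶ Q, ∀ (W : C) (hW : good W) (p : P.obj.obj (op W)),
      φ.hom.app (op W) p = ψ W hW p := by
  have hQ : Presieve.IsSheaf J Q.obj := (isSheaf_iff_isSheaf_of_type _ _).1 Q.property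
  -- the family attached to a section
  let x : ∀ (V : C) (p : P.obj.obj (op V)),
      Presieve.FamilyOfElements Q.obj (goodSieve good hpre V).arrows :=
    fun V p W f hf => ψ W hf (P.obj.map f.op p)
  have hx : ∀ (V : C) (p : P.obj.obj (op V)), (x V p).Compatible := by
    intro V p
    rw [Presieve.compatible_iff_sieveCompatible]
    intro W W' f h hf
    change ψ W' _ (P.obj.map (h ≫ f).op p) = Q.obj.map h.op (ψ W hf (P.obj.map f.op p))
    rw [← hψ h hf (hpre h hf), map_comp_apply']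
  let φ₀ : ∀ (V : C), P.obj.obj (op V) → Q.obj.obj (op V) :=
    fun V p => (hQ _ (hcov V)).amalgamate (x V p) (hx V p)
  have hφ₀ : ∀ (V : C) (p : P.obj.obj (op V)) ⦃W : C⦄ (f : W ⟶ V) (hf : good W),
      Q.obj.map f.op (φ₀ V p) = ψ W hf (P.obj.map f.op p) :=
    fun V p W f hf => (hQ _ (hcov V)).valid_glue (hx V p) f hf
  have hnat : ∀ ⦃V V' : C⦄ (h : V' ⟶ V) (p : P.obj.obj (op V)),
      φ₀ V' (P.obj.map h.op p) = Q.obj.map h.op (φ₀ V p) := by
    intro V V' h p
    refine (hQ _ (hcov V')).isSeparatedFor.ext ?_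
    intro W f hf
    rw [hφ₀ V' _ f hf, ← map_comp_apply', ← map_comp_apply', hφ₀ V p (f ≫ h) hf]
  refine ⟨⟨{ app := fun V => TypeCat.ofHom (fun p => φ₀ V.unop p), naturality := ?_ }⟩, ?_⟩
  · intro V V' h
    ext p
    exact hnat h.unop p
  · intro W hW p
    change φ₀ W p = ψ W hW p
    have := hφ₀ W p (𝟙 W) hW
    simpa using this

end Local

end Groth.Agent.Lib.Helper5.Tors
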