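import Mathlib
import Groth.Prelude.Def_NonAbH1
import Groth.Agent.Lib.Helper5.Misc.Tors1
import Groth.Agent.Lib.Helper5.Misc.Tors2

set_option autoImplicit false
universe w' w v u
open CategoryTheory Opposite

namespace Groth.Agent.Lib.Helper5.Tors

variable {C : Type u} [Category.{v} C] {J : GrothendieckTopology C} {G : Sheaf J GrpCat.{w}}
  {I : Type w'} (U : I → C)

/-- objects admitting a map to some `U i`. -/
def goodU (W : C) : Prop := ∃ i, Nonempty (W ⟶ U i)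

lemma goodU_pre ⦃W W' : C⦄ (h : W' ⟶ W) (hW : goodU U W) : goodU U W' := by
  obtain ⟨i, ⟨a⟩⟩ := hW
  exact ⟨i, ⟨h ≫ a⟩⟩

lemma goodU_cov (hU : J.CoversTop U) (V : C) : goodSieve (goodU U) (goodU_pre U) V ∈ J V := by
  refine J.superset_covering ?_ (hU V)
  intro W f hf
  exact hf

/-- A pseudo-torsor with sections over the `U i` cutting out the cocycle `γ`. -/
structure Triv (P : NonAbH1.GSheaf G) (γ : PresheafOfGroups.OneCocycle G.obj U) where
  hP : P.IsPseudoTorsor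
  s : ∀ i, P.P.obj.obj (op (U i))
  hs : P.IsCocycleOf U s γ

variable {U} {γ : PresheafOfGroups.OneCocycle G.obj U} {P Q : NonAbH1.GSheaf G}
  (T : Triv U P γ) (T' : Triv U Q γ)

lemma diff_smul_left {V : Cᵒᵖ} (g₀ : G.obj.obj V) (p q : P.P.obj.obj V) :
    diff T.hP p (P.smul g₀ q) = g₀ * diff T.hP p q := by
  symm
  apply eq_diff
  rw [P.mul_smul, diff_smul]

/-- the local formula for the comparison map. -/
noncomputable def ψ₀ {W : C} {i : I} (a : W ⟶ U i) (p : P.P.obj.obj (op W)) : Q.P.obj.obj (op W) :=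
  Q.smul (diff T.hP (P.P.obj.map a.op (T.s i)) p) (Q.P.obj.map a.op (T'.s i))

lemma ψ₀_indep {W : C} {i j : I} (a : W ⟶ U i) (b : W ⟶ U j) (p : P.P.obj.obj (op W)) :
    ψ₀ T T' a p = ψ₀ T T' b p := by
  unfold ψ₀
  have h1 : diff T.hP (P.P.obj.map b.op (T.s j)) p =
      diff T.hP (P.P.obj.map a.op (T.s i)) p * γ.ev i j a b := by
    symm
    apply eq_diff
    rw [P.mul_smul, T.hs i j a b, diff_smul]
  rw [h1, Q.mul_smul, T'.hs i j a b]

lemma ψ₀_nat {W W' : C} (h : W' ⟶ W) {i : I} (a : W ⟶ U i) (p : P.P.obj.obj (op W)) :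
    ψ₀ T T' (h ≫ a) (P.P.obj.map h.op p) = Q.P.obj.map h.op (ψ₀ T T' a p) := by
  unfold ψ₀
  rw [Q.map_smul, map_diff, ← map_comp_apply', ← map_comp_apply']

lemma ψ₀_smul {W : C} {i : I} (a : W ⟶ U i) (g₀ : G.obj.obj (op W)) (p : P.P.obj.obj (op W)) :
    ψ₀ T T' a (P.smul g₀ p) = Q.smul g₀ (ψ₀ T T' a p) := by
  unfold ψ₀
  rw [diff_smul_left T, Q.mul_smul]

lemma ψ₀_ψ₀ {W : C} {i : I} (a : W ⟶ U i) (p : P.P.obj.obj (op W)) :
    ψ₀ T' T a (ψ₀ T T' a p) = p := by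
  unfold ψ₀
  rw [diff_smul_left T']
  have : diff T'.hP (Q.P.obj.map a.op (T'.s i)) (Q.P.obj.map a.op (T'.s i)) = 1 := by
    symm
    apply eq_diff
    exact Q.one_smul _
  rw [this, mul_one, diff_smul]

variable (hU : J.CoversTop U)

include hU in
lemma exists_hom :
    ∃ φ : P ⟶ Q, ∀ (W : C) (i : I) (a : W ⟶ U i) (p : P.P.obj.obj (op W)),
      φ.hom.hom.app (op W) p = ψ₀ T T' a p := by
  obtain ⟨φ, hφ⟩ := exists_hom_of_good (P := P.P) (Q := Q.P) (goodU U) (goodU_pre U)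
    (goodU_cov U hU)
    (fun W hW p => ψ₀ T T' hW.choose_spec.some p) (by
      intro W W' h hW hW' p
      rw [ψ₀_indep T T' hW'.choose_spec.some (h ≫ hW.choose_spec.some), ψ₀_nat])
  have hφ' : ∀ (W : C) (i : I) (a : W ⟶ U i) (p : P.P.obj.obj (op W)),
      φ.hom.app (op W) p = ψ₀ T T' a p := by
    intro W i a p
    rw [hφ W ⟨i, ⟨a⟩⟩ p]
    exact ψ₀_indep T T' _ _ p
  have hQ : Presieve.IsSheaf J Q.P.obj := (isSheaf_iff_isSheaf_of_type _ _).1 Q.P.property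
  refine ⟨⟨φ, ?_⟩, hφ'⟩
  intro V g₀ p
  obtain ⟨V⟩ := V
  refine (hQ _ (goodU_cov U hU V)).isSeparatedFor.ext ?_
  intro W f hf
  obtain ⟨i, ⟨a⟩⟩ := hf
  have h1 := NatTrans.naturality_apply φ.hom f.op (P.smul g₀ p)
  have h2 := NatTrans.naturality_apply φ.hom f.op p
  rw [← h1, Q.map_smul, ← h2, P.map_smul, hφ' W i a, hφ' W i a, ψ₀_smul]

include hU T T' in
theorem nonempty_iso : Nonempty (P ≅ Q) := by
  obtain ⟨φ, hφ⟩ := exists_hom T T' hU
  obtain ⟨φ', hφ'⟩ := exists_hom T' T hU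
  refine ⟨⟨φ, φ', ?_, ?_⟩⟩
  · apply NonAbH1.GSheaf.hom_ext
    apply hom_ext_of_good (goodU U) (goodU_pre U) (goodU_cov U hU)
    rintro W ⟨i, ⟨a⟩⟩ p
    change φ'.hom.hom.app (op W) (φ.hom.hom.app (op W) p) = p
    rw [hφ W i a, hφ' W i a, ψ₀_ψ₀]
  · apply NonAbH1.GSheaf.hom_ext
    apply hom_ext_of_good (goodU U) (goodU_pre U) (goodU_cov U hU)
    rintro W ⟨i, ⟨a⟩⟩ p
    change φ.hom.hom.app (op W) (φ'.hom.hom.app (op W) p) = p
    rw [hφ' W i a, hφ W i a, ψ₀_ψ₀]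


section Main

variable {C : Type u} [Category.{v} C] {J : GrothendieckTopology C} {G : Sheaf J GrpCat.{w}}
  {I : Type w'} (U : I → C)

theorem iso_of_common_class (hU : J.CoversTop U) (P Q : NonAbH1.Torsor G)
    (c : PresheafOfGroups.H1 G.obj U) (hPc : P.HasCechClass U c) (hQc : Q.HasCechClass U c) :
    Nonempty (P.toGSheaf ≅ Q.toGSheaf) := by
  obtain ⟨s, γ, hs, hγ⟩ := hPc
  obtain ⟨t, δ, ht, hδ⟩ := hQc
  have hcoh : γ.IsCohomologous δ := (PresheafOfGroups.OneCocycle.class_eq_iff γ δ).1 (hγ.trans hδ.symm)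
  obtain ⟨α, hα⟩ := hcoh
  let T : Triv U P.toGSheaf γ := ⟨P.isTorsor.1, s, hs⟩
  let T' : Triv U Q.toGSheaf γ :=
    { hP := Q.isTorsor.1
      s := fun i => Q.smul (α i)⁻¹ (t i)
      hs := by
        intro i j W a b
        rw [Q.map_smul, Q.map_smul, ← Q.mul_smul, ← ht i j a b, ← Q.mul_smul]
        congr 1
        have h1 := hα i j a b
        rw [map_inv, map_inv]
        calc γ.ev i j a b * (G.obj.map b.op (α j))⁻¹
            = (G.obj.map a.op (α i))⁻¹ * (G.obj.map a.op (α i) * γ.ev i j a b) *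
                (G.obj.map b.op (α j))⁻¹ := by group
          _ = (G.obj.map a.op (α i))⁻¹ * (δ.ev i j a b * G.obj.map b.op (α j)) *
                (G.obj.map b.op (α j))⁻¹ := by rw [h1]
          _ = (G.obj.map a.op (α i))⁻¹ * δ.ev i j a b := by group }
  exact nonempty_iso T T' hU

end Main

end Groth.Agent.Lib.Helper5.Tors
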