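import Mathlib
import Groth.Prelude.Def_NonAbH1
import Groth.Agent.Lib.Helper5.Misc.Tors1
import Groth.Agent.Lib.Helper5.Misc.Tors2
import Groth.Agent.Lib.Helper5.Misc.Tors3

set_option autoImplicit false
universe w' w v u
open CategoryTheory Opposite

namespace Groth.Agent.Lib.Helper5.Tors

variable {C : Type u} [Category.{v} C] {J : GrothendieckTopology C}

/-- the underlying presheaf of sets of a sheaf of groups is a sheaf (any universes). -/
lemma isSheaf_forget (G : Sheaf J GrpCat.{w}) :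
    Presieve.IsSheaf J (G.obj ⋙ forget GrpCat.{w}) :=
  Presieve.isSheaf_iso J (Functor.isoWhiskerLeft G.obj GrpCat.coyonedaObjIsoForget)
    (G.property _)

section

variable (G : Sheaf J GrpCat.{w})

lemma G_ext {V : C} {S : Sieve V} (hS : S ∈ J V) {g g' : G.obj.obj (op V)}
    (h : ∀ ⦃W : C⦄ (f : W ⟶ V), S f → G.obj.map f.op g = G.obj.map f.op g') : g = g' :=
  ((isSheaf_forget G) S hS).isSeparatedFor.ext (fun W f hf => h f hf)

lemma G_glue {V : C} {S : Sieve V} (hS : S ∈ J V)
    (x : ∀ ⦃W : C⦄ (f : W ⟶ V), S f → G.obj.obj (op W))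
    (hx : ∀ ⦃W W' : C⦄ (h : W' ⟶ W) (f : W ⟶ V) (hf : S f),
      G.obj.map h.op (x f hf) = x (h ≫ f) (S.downward_closed hf h)) :
    ∃ g : G.obj.obj (op V), ∀ ⦃W : C⦄ (f : W ⟶ V) (hf : S f), G.obj.map f.op g = x f hf := by
  let y : Presieve.FamilyOfElements (G.obj ⋙ forget GrpCat.{w}) S.arrows := fun W f hf => x f hf
  have hy : y.Compatible := by
    rw [Presieve.compatible_iff_sieveCompatible]
    intro W W' f h hf
    exact (hx h f hf).symm
  exact ⟨((isSheaf_forget G) S hS).amalgamate y hy,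
    fun W f hf => ((isSheaf_forget G) S hS).valid_glue hy f hf⟩

end

section Coord

variable (G : Sheaf J GrpCat.{w}) {I : Type w'} {U : I → C}
  (γ : PresheafOfGroups.OneCocycle G.obj U)

/-- "coordinates" of a point of the twisted torsor over `V`. -/
@[ext]
structure Coord (V : C) where
  x : ∀ ⦃W : C⦄ (_ : W ⟶ V) (i : I) (_ : W ⟶ U i), G.obj.obj (op W)
  nat : ∀ ⦃W W' : C⦄ (h : W' ⟶ W) (f : W ⟶ V) (i : I) (a : W ⟶ U i),
    G.obj.map h.op (x f i a) = x (h ≫ f) i (h ≫ a)
  coc : ∀ ⦃W : C⦄ (f : W ⟶ V) (i j : I) (a : W ⟶ U i) (b : W ⟶ U j),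
    x f j b = x f i a * γ.ev i j a b

variable {G γ}

/-- restriction of coordinates. -/
def Coord.res {V V' : C} (h : V' ⟶ V) (p : Coord G γ V) : Coord G γ V' where
  x W f i a := p.x (f ≫ h) i a
  nat W W' k f i a := by
    rw [p.nat k (f ≫ h) i a, Category.assoc]
  coc W f i j a b := p.coc (f ≫ h) i j a b

@[simp]
lemma Coord.res_x {V V' : C} (h : V' ⟶ V) (p : Coord G γ V) {W : C} (f : W ⟶ V') (i : I)
    (a : W ⟶ U i) : (p.res h).x f i a = p.x (f ≫ h) i a := rfl

/-- the action on coordinates. -/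
def Coord.smul {V : C} (g : G.obj.obj (op V)) (p : Coord G γ V) : Coord G γ V where
  x W f i a := G.obj.map f.op g * p.x f i a
  nat W W' k f i a := by
    rw [map_mul, p.nat k f i a, op_comp, Functor.map_comp]
    rfl
  coc W f i j a b := by
    rw [p.coc f i j a b, mul_assoc]

@[simp]
lemma Coord.smul_x {V : C} (g : G.obj.obj (op V)) (p : Coord G γ V) {W : C} (f : W ⟶ V) (i : I)
    (a : W ⟶ U i) : (p.smul g).x f i a = G.obj.map f.op g * p.x f i a := rfl

variable (G γ) in
/-- the presheaf of coordinates (in a large universe). -/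
def coordPre : Cᵒᵖ ⥤ Type (max u v w' w) where
  obj V := Coord G γ V.unop
  map h := TypeCat.ofHom (fun p => p.res h.unop)
  map_id V := by
    ext p W f i a
    change p.x (f ≫ 𝟙 _) i a = p.x f i a
    rw [Category.comp_id]
  map_comp h k := by
    ext p W f i a
    change p.x (f ≫ k.unop ≫ h.unop) i a = p.x ((f ≫ k.unop) ≫ h.unop) i a
    rw [Category.assoc]

/-- the canonical sections. -/
def Coord.sec (k : I) : Coord G γ (U k) where
  x W f i a := γ.ev k i f a
  nat W W' h f i a := γ.ev_precomp k i h f a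
  coc W f i j a b := (γ.ev_trans k i j f a b).symm

lemma Coord.x_congr {V : C} (p : Coord G γ V) {W : C} {f f' : W ⟶ V} (hf : f = f') {i : I}
    {a a' : W ⟶ U i} (ha : a = a') : p.x f i a = p.x f' i a' := by
  subst hf ha
  rfl

lemma Coord.smul_one {V : C} (p : Coord G γ V) : p.smul 1 = p := by
  ext W f i a
  simp

lemma Coord.smul_mul {V : C} (g g' : G.obj.obj (op V)) (p : Coord G γ V) :
    p.smul (g * g') = (p.smul g').smul g := by
  ext W f i a
  simp [mul_assoc]

lemma Coord.res_smul {V V' : C} (h : V' ⟶ V) (g : G.obj.obj (op V)) (p : Coord G γ V) :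
    (p.smul g).res h = (p.res h).smul (G.obj.map h.op g) := by
  ext W f i a
  simp only [Coord.res_x, Coord.smul_x]
  rw [op_comp, Functor.map_comp]
  rfl

lemma Coord.res_res {V V' V'' : C} (h : V' ⟶ V) (k : V'' ⟶ V') (p : Coord G γ V) :
    (p.res h).res k = p.res (k ≫ h) := by
  ext W f i a
  simp

variable (hU : J.CoversTop U)

include hU in
/-- the coordinates form a pseudo-torsor. -/
lemma Coord.existsUnique_smul {V : C} (p q : Coord G γ V) :
    ∃! g : G.obj.obj (op V), p.smul g = q := by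
  have hcov := goodU_cov U hU V
  -- the local differences
  let δ : ∀ ⦃W : C⦄ (f : W ⟶ V), goodSieve (goodU U) (goodU_pre U) V f → G.obj.obj (op W) :=
    fun W f hf => q.x f hf.choose hf.choose_spec.some * (p.x f hf.choose hf.choose_spec.some)⁻¹
  have hδ : ∀ ⦃W : C⦄ (f : W ⟶ V) (hf : goodSieve (goodU U) (goodU_pre U) V f) (i : I)
      (a : W ⟶ U i), δ f hf = q.x f i a * (p.x f i a)⁻¹ := by
    intro W f hf i a
    change q.x f hf.choose hf.choose_spec.some * (p.x f hf.choose hf.choose_spec.some)⁻¹ = _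
    rw [q.coc f i hf.choose a hf.choose_spec.some, p.coc f i hf.choose a hf.choose_spec.some]
    group
  obtain ⟨g, hg⟩ := G_glue G hcov δ (by
    intro W W' h f hf
    obtain ⟨i, ⟨a⟩⟩ := hf
    rw [hδ f _ i a, hδ (h ≫ f) _ i (h ≫ a), map_mul, map_inv, p.nat, q.nat])
  refine ⟨g, ?_, ?_⟩
  · ext W f i a
    rw [Coord.smul_x, hg f ⟨i, ⟨a⟩⟩, hδ f _ i a]
    group
  · intro g' hg'
    apply G_ext G hcov
    intro W f hf
    obtain ⟨i, ⟨a⟩⟩ := hf
    rw [hg f ⟨i, ⟨a⟩⟩, hδ f _ i a, ← hg', Coord.smul_x]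
    group

omit hU in
/-- the presheaf of coordinates is a sheaf. -/
lemma coordPre_isSheaf : Presieve.IsSheaf J (coordPre G γ) := by
  intro V S hS x hx
  rw [Presieve.compatible_iff_sieveCompatible] at hx
  -- compatibility, unfolded
  have hx' : ∀ ⦃W W' : C⦄ (f : W ⟶ V) (h : W' ⟶ W) (hf : S f),
      x (h ≫ f) (S.downward_closed hf h) = (x f hf).res h := fun W W' f h hf => hx f h hf
  have hxc : ∀ ⦃W : C⦄ {f f' : W ⟶ V} (e : f = f') (hf : S f) (hf' : S f'),
      x f hf = x f' hf' := by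
    intro W f f' e hf hf'
    subst e
    rfl
  -- the glued coordinates
  have key : ∀ ⦃W : C⦄ (f : W ⟶ V) (i : I) (a : W ⟶ U i),
      ∃ g : G.obj.obj (op W), ∀ ⦃W' : C⦄ (h : W' ⟶ W) (hf : S (h ≫ f)),
        G.obj.map h.op g = (x (h ≫ f) hf).x (𝟙 W') i (h ≫ a) := by
    intro W f i a
    refine G_glue G (J.pullback_stable f hS)
      (fun W' h hf => (x (h ≫ f) hf).x (𝟙 W') i (h ≫ a)) ?_
    intro W' W'' k h hf
    have hf' : S ((k ≫ h) ≫ f) := by
      rw [Category.assoc]
      exact S.downward_closed hf k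
    change G.obj.map k.op ((x (h ≫ f) hf).x (𝟙 W') i (h ≫ a)) =
      (x ((k ≫ h) ≫ f) hf').x (𝟙 W'') i ((k ≫ h) ≫ a)
    rw [(x (h ≫ f) hf).nat k (𝟙 W') i (h ≫ a),
      hxc (Category.assoc k h f) hf' (S.downward_closed hf k), hx' (h ≫ f) k hf, Coord.res_x]
    exact Coord.x_congr _ (by simp) (by simp)
  choose X hX using key
  have hsep : ∀ ⦃W : C⦄ (f : W ⟶ V) {g g' : G.obj.obj (op W)},
      (∀ ⦃W' : C⦄ (h : W' ⟶ W), S (h ≫ f) → G.obj.map h.op g = G.obj.map h.op g') → g = g' :=
    fun W f g g' h => G_ext G (J.pullback_stable f hS) h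
  let p : Coord G γ V :=
    { x := X
      nat := by
        intro W W' h f i a
        apply hsep (h ≫ f)
        intro W'' k hk
        have hk' : S ((k ≫ h) ≫ f) := by rwa [Category.assoc]
        rw [hX (h ≫ f) i (h ≫ a) k hk, ← Functor.map_comp_apply, ← op_comp,
          hX f i a (k ≫ h) hk', hxc (Category.assoc k h f) hk' hk]
        exact Coord.x_congr _ rfl (by simp)
      coc := by
        intro W f i j a b
        apply hsep f
        intro W' h hh
        rw [map_mul, hX f j b h hh, hX f i a h hh, (x (h ≫ f) hh).coc (𝟙 W') i j (h ≫ a) (h ≫ b),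
          γ.ev_precomp] }
  refine ⟨p, ?_, ?_⟩
  · intro W f hf
    change p.res f = x f hf
    ext W' g i a
    rw [Coord.res_x]
    change X (g ≫ f) i a = _
    have h1 := hX (g ≫ f) i a (𝟙 W') (by rw [Category.id_comp]; exact S.downward_closed hf g)
    rw [op_id, CategoryTheory.Functor.map_id] at h1
    refine (show X (g ≫ f) i a = _ from h1).trans ?_
    rw [hxc (Category.id_comp (g ≫ f)) _ (S.downward_closed hf g), hx' f g hf, Coord.res_x]
    exact Coord.x_congr _ (by simp) (by simp)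
  · intro q hq
    refine Coord.ext (x := q) (y := p) ?_
    funext W f i a
    change Coord.x q f i a = X f i a
    apply hsep f
    intro W' h hh
    rw [hX f i a h hh, q.nat h f i a]
    have h2 : q.res (h ≫ f) = x (h ≫ f) hh := hq (h ≫ f) hh
    rw [← h2, Coord.res_x]
    exact Coord.x_congr _ (by simp) rfl

include hU in
lemma coord_small (V : C) : Small.{w} (Coord G γ V) := by
  by_cases h : Nonempty (Coord G γ V)
  · obtain ⟨p₀⟩ := h
    refine small_of_surjective (f := fun g : G.obj.obj (op V) => p₀.smul g) ?_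
    intro q
    obtain ⟨g, hg, -⟩ := Coord.existsUnique_smul hU p₀ q
    exact ⟨g, hg⟩
  · have : IsEmpty (Coord G γ V) := not_nonempty_iff.1 h
    infer_instance

end Coord

section Twist

variable {G : Sheaf J GrpCat.{w}} {I : Type w'} {U : I → C}
  (γ : PresheafOfGroups.OneCocycle G.obj U) [hs : ∀ V : C, Small.{w} (Coord G γ V)]

/-- shrink coordinates. -/
noncomputable def ofC {V : C} (p : Coord G γ V) : Shrink.{w} (Coord G γ V) := equivShrink _ p

variable {γ} in
/-- unshrink coordinates. -/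
noncomputable def toC {V : C} (p : Shrink.{w} (Coord G γ V)) : Coord G γ V := (equivShrink _).symm p

@[simp]
lemma toC_ofC {V : C} (p : Coord G γ V) : toC (ofC γ p) = p := Equiv.symm_apply_apply _ _

@[simp]
lemma ofC_toC {V : C} (p : Shrink.{w} (Coord G γ V)) : ofC γ (toC p) = p :=
  Equiv.apply_symm_apply _ _

variable {γ} in
lemma toC_injective {V : C} : Function.Injective (toC (γ := γ) (V := V)) :=
  (equivShrink _).symm.injective

/-- the underlying presheaf of the twisted torsor. -/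
noncomputable def twistPre : Cᵒᵖ ⥤ Type w where
  obj V := Shrink.{w} (Coord G γ V.unop)
  map h := TypeCat.ofHom (fun p => ofC γ ((toC p).res h.unop))
  map_id V := by
    refine ConcreteCategory.hom_ext _ _ (fun p => ?_)
    change ofC γ ((toC p).res (𝟙 _)) = p
    have : (toC p).res (𝟙 _) = toC p := by
      ext W f i a
      simp
    rw [this, ofC_toC]
  map_comp h k := by
    refine ConcreteCategory.hom_ext _ _ (fun p => ?_)
    change ofC γ ((toC p).res (k.unop ≫ h.unop)) =
      ofC γ ((toC (ofC γ ((toC p).res h.unop))).res k.unop)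
    rw [toC_ofC, Coord.res_res]

lemma twistPre_map {V V' : C} (h : V' ⟶ V) (p : (twistPre γ).obj (op V)) :
    (twistPre γ).map h.op p = ofC γ ((toC p).res h) := rfl

lemma twistPre_isSheaf : Presieve.IsSheaf J (twistPre γ) := by
  refine Presieve.isSheaf_of_nat_equiv (P₁ := coordPre G γ) (P₂ := twistPre γ)
    (fun X => equivShrink.{w} (Coord G γ X)) ?_ coordPre_isSheaf
  intro X Y f p
  change ofC γ (p.res f) = ofC γ ((toC (ofC γ p)).res f)
  rw [toC_ofC]

/-- the twisted torsor attached to a cocycle. -/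
noncomputable def twist : NonAbH1.GSheaf G where
  P := ⟨twistPre γ, (isSheaf_iff_isSheaf_of_type _ _).2 (twistPre_isSheaf γ)⟩
  smul := fun {V} g p => ofC γ ((toC p).smul g)
  one_smul := by
    intro V p
    rw [Coord.smul_one, ofC_toC]
  mul_smul := by
    intro V g h p
    rw [toC_ofC, Coord.smul_mul]
  map_smul := by
    intro V V' f g p
    change ofC γ ((toC (ofC γ ((toC p).smul g))).res f.unop) =
      ofC γ ((toC (ofC γ ((toC p).res f.unop))).smul (G.obj.map f g))
    rw [toC_ofC, toC_ofC, Coord.res_smul]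
    rfl

lemma twist_smul {V : C} (g : G.obj.obj (op V)) (p : (twist γ).P.obj.obj (op V)) :
    (twist γ).smul g p = ofC γ ((toC p).smul g) := rfl

lemma twist_map {V V' : C} (h : V' ⟶ V) (p : (twist γ).P.obj.obj (op V)) :
    (twist γ).P.obj.map h.op p = ofC γ ((toC p).res h) := rfl

variable (hU : J.CoversTop U)

include hU in
lemma twist_isTorsor : (twist γ).IsTorsor := by
  constructor
  · intro V p q
    obtain ⟨V⟩ := V
    obtain ⟨g, hg, hg'⟩ := Coord.existsUnique_smul hU (toC p) (toC q)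
    refine ⟨g, ?_, ?_⟩
    · change ofC γ ((toC p).smul g) = q
      rw [hg, ofC_toC]
    · intro g' h'
      apply hg'
      change ofC γ ((toC p).smul g') = q at h'
      rw [← h', toC_ofC]
  · intro V
    refine ⟨_, goodU_cov U hU V, ?_⟩
    rintro W f ⟨i, ⟨a⟩⟩
    exact ⟨ofC γ ((Coord.sec i).res a)⟩

lemma twist_isCocycleOf :
    (twist γ).IsCocycleOf U (fun i => ofC γ (Coord.sec i)) γ := by
  intro i j T a b
  rw [twist_map, twist_map, twist_smul, toC_ofC, toC_ofC, toC_ofC]
  congr 1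
  ext W f k c
  change G.obj.map f.op (γ.ev i j a b) * γ.ev j k (f ≫ b) c = γ.ev i k (f ≫ a) c
  rw [γ.ev_precomp, γ.ev_trans]

end Twist

theorem exists_torsor_of_cocycle {G : Sheaf J GrpCat.{w}} {I : Type w'} (U : I → C)
    (hU : J.CoversTop U) (c : PresheafOfGroups.H1 G.obj U) :
    ∃ P : NonAbH1.Torsor G, P.TrivialisedBy U ∧ P.HasCechClass U c := by
  obtain ⟨γ, rfl⟩ := Quot.exists_rep c
  haveI : ∀ V : C, Small.{w} (Coord G γ V) := fun V => coord_small hU V
  refine ⟨⟨twist γ, twist_isTorsor γ hU⟩, fun i => ⟨ofC γ (Coord.sec i)⟩,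
    ⟨fun i => ofC γ (Coord.sec i), γ, twist_isCocycleOf γ, rfl⟩⟩

end Groth.Agent.Lib.Helper5.Tors
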