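import Mathlib
import Groth.Prelude.Def_NonAbH1
import Groth.Agent.Lib.Helper5.Misc.Tors1
import Groth.Agent.Lib.Helper5.Misc.Tors2
import Groth.Agent.Lib.Helper5.Misc.Tors4

set_option autoImplicit false
universe w' w v u
open CategoryTheory Opposite

namespace Groth.Agent.Lib.Helper5.Tors

variable {C : Type u} [Category.{v} C] {J : GrothendieckTopology C}

section Basic

variable {F : Sheaf J GrpCat.{w}}

/-- a natural equivariant bijective family of maps gives an isomorphism of `F`-sheaves. -/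
lemma nonempty_iso_of_bijective {T T' : NonAbH1.GSheaf F}
    (φ : ∀ U : Cᵒᵖ, T.P.obj.obj U → T'.P.obj.obj U)
    (hnat : ∀ ⦃U V : Cᵒᵖ⦄ (f : U ⟶ V) (t : T.P.obj.obj U),
      φ V (T.P.obj.map f t) = T'.P.obj.map f (φ U t))
    (heq : ∀ (U : Cᵒᵖ) (g : F.obj.obj U) (t : T.P.obj.obj U),
      φ U (T.smul g t) = T'.smul g (φ U t))
    (hbij : ∀ U, Function.Bijective (φ U)) : Nonempty (T ≅ T') := by
  let e : ∀ U : Cᵒᵖ, T.P.obj.obj U ≃ T'.P.obj.obj U := fun U => Equiv.ofBijective (φ U) (hbij U)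
  have he : ∀ U t, e U t = φ U t := fun U t => rfl
  have hnat' : ∀ ⦃U V : Cᵒᵖ⦄ (f : U ⟶ V) (t : T'.P.obj.obj U),
      (e V).symm (T'.P.obj.map f t) = T.P.obj.map f ((e U).symm t) := by
    intro U V f t
    apply (e V).injective
    rw [Equiv.apply_symm_apply, he, hnat, ← he, Equiv.apply_symm_apply]
  have heq' : ∀ (U : Cᵒᵖ) (g : F.obj.obj U) (t : T'.P.obj.obj U),
      (e U).symm (T'.smul g t) = T.smul g ((e U).symm t) := by
    intro U g t
    apply (e U).injective
    rw [Equiv.apply_symm_apply, he, heq, ← he, Equiv.apply_symm_apply]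
  refine ⟨⟨⟨⟨{ app := fun U => TypeCat.ofHom (φ U), naturality := ?_ }⟩, ?_⟩,
    ⟨⟨{ app := fun U => TypeCat.ofHom (e U).symm, naturality := ?_ }⟩, ?_⟩, ?_, ?_⟩⟩
  · intro U V f
    ext t
    exact hnat f t
  · intro U g t
    exact heq U g t
  · intro U V f
    ext t
    exact hnat' f t
  · intro U g t
    exact heq' U g t
  · apply NonAbH1.GSheaf.hom_ext
    apply Sheaf.hom_ext
    ext U t
    exact (e U).symm_apply_apply t
  · apply NonAbH1.GSheaf.hom_ext
    apply Sheaf.hom_ext
    ext U t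
    exact (e U).apply_symm_apply t

lemma cl_eq_iff (P Q : NonAbH1.Torsor F) :
    P.cl = Q.cl ↔ Nonempty (P.toGSheaf ≅ Q.toGSheaf) := by
  constructor
  · intro h
    have h' := Quot.eqvGen_exact h
    clear h
    induction h' with
    | rel _ _ h => exact h
    | refl _ => exact ⟨Iso.refl _⟩
    | symm _ _ _ ih => exact ⟨ih.some.symm⟩
    | trans _ _ _ _ _ ih1 ih2 => exact ⟨ih1.some ≪≫ ih2.some⟩
  · intro h
    exact Quot.sound h

end Basic

section Good

variable (good : C → Prop) (hpre : ∀ ⦃W W' : C⦄ (_ : W' ⟶ W), good W → good W')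
  (hcov : ∀ V, goodSieve good hpre V ∈ J V) {P : Cᵒᵖ ⥤ Type w} (hP : Presieve.IsSheaf J P)

include hcov hP in
/-- a compatible family of sections over the good objects extends to a global section. -/
lemma exists_section_of_good (x : ∀ (W : C), good W → P.obj (op W))
    (hx : ∀ ⦃W W' : C⦄ (h : W' ⟶ W) (hW : good W) (hW' : good W'),
      x W' hW' = P.map h.op (x W hW)) :
    ∃ s : P.sections, ∀ (W : C) (hW : good W), s.1 (op W) = x W hW := by
  let y : ∀ (V : C), Presieve.FamilyOfElements P (goodSieve good hpre V).arrows :=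
    fun V W f hf => x W hf
  have hy : ∀ V, (y V).Compatible := by
    intro V
    rw [Presieve.compatible_iff_sieveCompatible]
    intro W W' f h hf
    exact hx h hf (hpre h hf)
  let s₀ : ∀ V : C, P.obj (op V) := fun V => (hP _ (hcov V)).amalgamate (y V) (hy V)
  have hs₀ : ∀ (V : C) ⦃W : C⦄ (f : W ⟶ V) (hf : good W), P.map f.op (s₀ V) = x W hf :=
    fun V W f hf => (hP _ (hcov V)).valid_glue (hy V) f hf
  refine ⟨⟨fun V => s₀ V.unop, ?_⟩, ?_⟩
  · intro V V' h
    obtain ⟨V⟩ := V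
    obtain ⟨V'⟩ := V'
    refine (hP _ (hcov V')).isSeparatedFor.ext ?_
    intro W f hf
    have h1 : P.map f.op (P.map h (s₀ V)) = P.map (f ≫ h.unop).op (s₀ V) := by
      rw [op_comp, Functor.map_comp_apply]
      rfl
    exact (h1.trans (hs₀ V (f ≫ h.unop) hf)).trans (hs₀ V' f hf).symm
  · intro W hW
    have := hs₀ W (𝟙 W) hW
    simpa using this

end Good

end Groth.Agent.Lib.Helper5.Tors
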