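import Mathlib

/-!
# A fully faithful right adjoint with coreflective essential image is also a left adjoint (helper5)

Let `P ⊣ Q` with `Q` fully faithful, and let `Γ ⟶ 𝟭` be a natural transformation with monic
components through which every morphism `Q G ⟶ F` factors, and such that each `Γ F` lies in the
essential image of `Q` (i.e. the unit at `Γ F` is an isomorphism).  Then `Q ⊣ Γ ⋙ P`.
-/

set_option autoImplicit false
open CategoryTheory

namespace Groth.Agent.Lib.Helper5.CoreflAdj

universe v₁ v₂ u₁ u₂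

variable {C : Type u₁} [Category.{v₁} C] {D : Type u₂} [Category.{v₂} D]
  {P : C ⥤ D} {Q : D ⥤ C} (adj : P ⊣ Q) (hff : Q.FullyFaithful)
  (Γ : C ⥤ C) (ι : Γ ⟶ 𝟭 C) [hm : ∀ F, Mono (ι.app F)]
  (hl : ∀ (G : D) (F : C) (φ : Q.obj G ⟶ F), ∃ ψ : Q.obj G ⟶ Γ.obj F, ψ ≫ ι.app F = φ)
  [hu : ∀ F, IsIso (adj.unit.app (Γ.obj F))]

include hl in
/-- The lift of `φ : Q G ⟶ F` through `Γ F`. -/
noncomputable def lift {G : D} {F : C} (φ : Q.obj G ⟶ F) : Q.obj G ⟶ Γ.obj F :=
  (hl G F φ).choose

@[reassoc (attr := simp)]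
lemma lift_ι {G : D} {F : C} (φ : Q.obj G ⟶ F) : lift Γ ι hl φ ≫ ι.app F = φ :=
  (hl G F φ).choose_spec

lemma lift_unique {G : D} {F : C} (φ : Q.obj G ⟶ F) (ψ : Q.obj G ⟶ Γ.obj F)
    (h : ψ ≫ ι.app F = φ) : ψ = lift Γ ι hl φ := by
  rw [← cancel_mono (ι.app F), h, lift_ι]

/-- The adjunction `Q ⊣ Γ ⋙ P`. -/
noncomputable def adjunction : Q ⊣ Γ ⋙ P :=
  Adjunction.mkOfHomEquiv
    { homEquiv := fun G F =>
        { toFun := fun φ => hff.preimage (lift Γ ι hl φ ≫ adj.unit.app (Γ.obj F))
          invFun := fun ψ => Q.map ψ ≫ inv (adj.unit.app (Γ.obj F)) ≫ ι.app F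
          left_inv := fun φ => by
            simp
          right_inv := fun ψ => by
            apply hff.map_injective
            rw [hff.map_preimage]
            rw [← lift_unique Γ ι hl (Q.map ψ ≫ inv (adj.unit.app (Γ.obj F)) ≫ ι.app F)
              (Q.map ψ ≫ inv (adj.unit.app (Γ.obj F))) (by simp)]
            simp }
      homEquiv_naturality_left_symm := fun f ψ => by
        simp
      homEquiv_naturality_right := fun {G F F'} φ g => by
        apply hff.map_injective
        simp only [Equiv.coe_fn_mk, Functor.map_comp, hff.map_preimage, Functor.comp_map]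
        have h1 : lift Γ ι hl (φ ≫ g) = lift Γ ι hl φ ≫ Γ.map g := by
          symm
          apply lift_unique
          rw [Category.assoc]
          have := ι.naturality g
          simp only [Functor.id_obj, Functor.id_map] at this
          rw [this, lift_ι_assoc]
        rw [h1, Category.assoc, Category.assoc]
        congr 1
        exact adj.unit.naturality (Γ.map g) }

end Groth.Agent.Lib.Helper5.CoreflAdj
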