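import Groth.Prelude.Def_LocCohZ
import Groth.Prelude.Def_CohPull
import Groth.Agent.Lib.Helper5.Misc.ClosedEmbSh
import Groth.Agent.Lib.Helper5.Misc.CoreflAdj

/-!
# `i_* ⊣ Γ_Z ⋙ i⁻¹` for the closed complement `Z` of an open `U` (helper5)
-/

set_option autoImplicit false
open CategoryTheory CategoryTheory.Limits Opposite TopologicalSpace TopCat

universe u

namespace Groth.Agent.Lib.Helper5.SectSuppAdj

open Groth.Agent.Lib.Helper5

variable {X : TopCat.{u}} (U : Opens X)


lemma additive_push {Y Z : TopCat.{u}} (f : Y ⟶ Z) : (CohTop.push f).Additive := inferInstance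

lemma hi : Topology.IsClosedEmbedding (CohCx.inclCompl U) :=
  U.isOpen.isClosed_compl.isClosedEmbedding_subtypeVal

lemma range_i : Set.range (CohCx.inclCompl U) = ((U : Set X)ᶜ : Set X) :=
  Subtype.range_coe

/-- A sheaf all of whose stalks vanish is zero. -/
lemma isZero_of_stalks {Y : TopCat.{u}} (H : CohTop.Ab Y)
    (h : ∀ y : Y, IsZero ((ClosedEmbSh.Sx AddCommGrpCat.{u} Y y).obj H)) : IsZero H := by
  haveI : ∀ y : Y, IsIso ((Presheaf.stalkFunctor AddCommGrpCat.{u} y).map (0 : H ⟶ H).hom) := by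
    intro y
    have e : (Presheaf.stalkFunctor AddCommGrpCat.{u} y).map (0 : H ⟶ H).hom = ((h y).iso (h y)).hom :=
      (h y).eq_of_src _ _
    rw [e]
    infer_instance
  haveI : IsIso (0 : H ⟶ H) := Presheaf.isIso_of_stalkFunctor_map_iso (0 : H ⟶ H)
  rw [IsZero.iff_id_eq_zero]
  rw [← IsIso.hom_inv_id (0 : H ⟶ H), zero_comp]

/-- The stalk functor preserves zero objects. -/
lemma isZero_Sx {Y : TopCat.{u}} (y : Y) {H : CohTop.Ab Y} (h : IsZero H) :
    IsZero ((ClosedEmbSh.Sx AddCommGrpCat.{u} Y y).obj H) := by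
  haveI : (ClosedEmbSh.Sx AddCommGrpCat.{u} Y y).IsLeftAdjoint := inferInstance
  haveI : (ClosedEmbSh.Sx AddCommGrpCat.{u} Y y).PreservesZeroMorphisms :=
    Functor.preservesZeroMorphisms_of_isLeftAdjoint _
  exact Functor.map_isZero _ h

/-- If `j⁻¹ H = 0` then the stalks of `H` at points of `U` vanish. -/
lemma isZero_stalk_of_isZero_pull' (H : CohTop.Ab X)
    (h : IsZero ((CohTop.pull (CohCx.incl U)).obj H)) (x' : U) :
    IsZero ((ClosedEmbSh.Sx AddCommGrpCat.{u} X ((CohCx.incl U) x')).obj H) :=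
  (isZero_Sx (Y := TopCat.of U) x' h).of_iso
    ((ClosedEmbSh.pullStalkIso (CohCx.incl U) AddCommGrpCat.{u} x').symm.app H)

lemma isZero_stalk_of_isZero_pull (H : CohTop.Ab X)
    (h : IsZero ((CohTop.pull (CohCx.incl U)).obj H)) (x : X) (hx : x ∈ U) :
    IsZero ((ClosedEmbSh.Sx AddCommGrpCat.{u} X x).obj H) :=
  isZero_stalk_of_isZero_pull' U H h ⟨x, hx⟩

/-- `j⁻¹ i_* G = 0`. -/
lemma isZero_pull_push (G : CohTop.Ab (TopCat.of ((U : Set X)ᶜ : Set X))) :
    IsZero ((CohTop.pull (CohCx.incl U)).obj ((CohTop.push (CohCx.inclCompl U)).obj G)) := by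
  apply isZero_of_stalks
  intro x'
  refine IsZero.of_iso ?_
    ((ClosedEmbSh.pullStalkIso (CohCx.incl U) AddCommGrpCat.{u} x').app _)
  have hx : (CohCx.incl U) x' ∉ Set.range (CohCx.inclCompl U) := by
    rw [range_i]
    intro h
    exact h x'.2
  obtain ⟨ht⟩ := ClosedEmbSh.isTerminal_stalk_pushforward (CohCx.inclCompl U) (hi U)
    AddCommGrpCat.{u} G _ hx
  exact ht.isZero

/-- The adjunction `j⁻¹ ⊣ j_*`. -/
noncomputable def adjJ : CohTop.pull (CohCx.incl U) ⊣ CohTop.push (CohCx.incl U) :=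
  TopCat.Sheaf.pullbackPushforwardAdjunction AddCommGrpCat.{u} (CohCx.incl U)

/-- The adjunction `i⁻¹ ⊣ i_*`. -/
noncomputable def adjI :
    CohTop.pull (CohCx.inclCompl U) ⊣ CohTop.push (CohCx.inclCompl U) :=
  TopCat.Sheaf.pullbackPushforwardAdjunction AddCommGrpCat.{u} (CohCx.inclCompl U)

/-- The inclusion `Γ_Z F ⟶ F`, as a natural transformation. -/
noncomputable def ι : LocCohZ.sectSuppF U ⟶ 𝟭 (CohTop.Ab X) where
  app F := kernel.ι ((adjJ U).unit.app F)
  naturality F G φ := by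
    dsimp [LocCohZ.sectSuppF]
    exact kernel.lift_ι _ _ _

instance (F : CohTop.Ab X) : Mono ((ι U).app F) :=
  inferInstanceAs (Mono (kernel.ι ((adjJ U).unit.app F)))

/-- `j⁻¹ Γ_Z F = 0`. -/
lemma isZero_pull_sectSupp (F : CohTop.Ab X) :
    IsZero ((CohTop.pull (CohCx.incl U)).obj ((LocCohZ.sectSuppF U).obj F)) := by
  let P := CohTop.pull (CohCx.incl U)
  haveI : PreservesFiniteLimits P := CohPull.preservesFiniteLimits_pull (CohCx.incl U)
  haveI : P.PreservesMonomorphisms := preservesMonomorphisms_of_preservesLimitsOfShape P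
  let η := (adjJ U).unit.app F
  have hm1 : Mono (P.map (kernel.ι η)) := P.map_mono _
  have h0 : P.map (kernel.ι η) ≫ P.map η = 0 := by
    rw [← P.map_comp, kernel.condition]
    haveI := CohPull.additive_pull (CohCx.incl U)
    exact P.map_zero _ _
  have hm2 : Mono (P.map η) :=
    (SplitMono.mk _ ((adjJ U).left_triangle_components F)).mono
  have h1 : P.map (kernel.ι η) = 0 := by
    rw [← cancel_mono (P.map η), h0, zero_comp]
  exact @IsZero.of_mono_eq_zero _ _ _ _ _ (P.map (kernel.ι η)) hm1 h1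

/-- Every morphism `i_* G ⟶ F` factors through `Γ_Z F`. -/
lemma exists_lift (G : CohTop.Ab (TopCat.of ((U : Set X)ᶜ : Set X))) (F : CohTop.Ab X)
    (φ : (CohTop.push (CohCx.inclCompl U)).obj G ⟶ F) :
    ∃ ψ : (CohTop.push (CohCx.inclCompl U)).obj G ⟶ (LocCohZ.sectSuppF U).obj F,
      ψ ≫ (ι U).app F = φ := by
  have h : φ ≫ (adjJ U).unit.app F = 0 := by
    have h1 : φ ≫ (adjJ U).unit.app F =
        (adjJ U).unit.app ((CohTop.push (CohCx.inclCompl U)).obj G) ≫
          (CohTop.push (CohCx.incl U)).map ((CohTop.pull (CohCx.incl U)).map φ) :=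
      (adjJ U).unit.naturality φ
    have hz : (CohTop.pull (CohCx.incl U)).map φ = 0 := (isZero_pull_push U G).eq_of_src _ _
    haveI : (CohTop.push (CohCx.incl U)).Additive := additive_push _
    rw [h1, hz, (CohTop.push (CohCx.incl U)).map_zero, comp_zero]
  exact ⟨kernel.lift _ φ h, kernel.lift_ι _ _ _⟩

/-- The unit `Γ_Z F ⟶ i_* i⁻¹ Γ_Z F` is an isomorphism. -/
instance isIso_unit_sectSupp (F : CohTop.Ab X) :
    IsIso ((adjI U).unit.app ((LocCohZ.sectSuppF U).obj F)) := by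
  have hff : (CohTop.push (CohCx.inclCompl U)).FullyFaithful :=
    ClosedEmbSh.fullyFaithfulPushforward (CohCx.inclCompl U) (hi U) AddCommGrpCat.{u}
  haveI := hff.full
  haveI := hff.faithful
  rw [Adjunction.isIso_unit_app_iff_mem_essImage]
  refine (ClosedEmbSh.essImage_iff (CohCx.inclCompl U) (hi U) AddCommGrpCat.{u} _).2 ?_
  intro x hx
  rw [range_i] at hx
  have hx' : x ∈ U := by
    by_contra h
    exact hx h
  exact ⟨(isZero_stalk_of_isZero_pull U _ (isZero_pull_sectSupp U F) x hx').isTerminal⟩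

/-- **`i_* ⊣ Γ_Z ⋙ i⁻¹`**. -/
noncomputable def adjunction :
    CohTop.push (CohCx.inclCompl U) ⊣ LocCohZ.sectSuppF U ⋙ CohTop.pull (CohCx.inclCompl U) :=
  CoreflAdj.adjunction (adjI U)
    (ClosedEmbSh.fullyFaithfulPushforward (CohCx.inclCompl U) (hi U) AddCommGrpCat.{u})
    (LocCohZ.sectSuppF U) (ι U) (exists_lift U)

end Groth.Agent.Lib.Helper5.SectSuppAdj
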