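import Groth.Prelude.Def_BigSite
import Mathlib

/-!
# Almost cocontinuous functors: `u^p` commutes with sheafification (helper5, for S6441 / S6440)
-/

set_option autoImplicit false
open CategoryTheory CategoryTheory.Limits Opposite
universe u

namespace Groth.Agent.Lib.Helper5.AlmostCocont

section
variable {C D : Type u} [SmallCategory C] [SmallCategory D]
    (J : GrothendieckTopology C) (K : GrothendieckTopology D) (u : C ⥤ D)

/-- A sheaf of types has at most one section over an object covered by the empty sieve. -/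
lemma subsingleton_of_bot {F : Dᵒᵖ ⥤ Type u} (hF : Presheaf.IsSheaf K F) (V : D)
    (hV : (⊥ : Sieve V) ∈ K V) : Subsingleton (F.obj (op V)) := by
  constructor
  intro a b
  have hs := ((isSheaf_iff_isSheaf_of_type K F).1 hF).isSeparated _ hV
  exact hs.ext (fun Y f hf => hf.elim)

lemma locInj (hu : BigSite.IsAlmostCocontinuous u J K) {G G' : Dᵒᵖ ⥤ Type u} (φ : G ⟶ G')
    (hG : ∀ V : D, (⊥ : Sieve V) ∈ K V → Subsingleton (G.obj (op V)))
    [Presheaf.IsLocallyInjective K φ] :
    Presheaf.IsLocallyInjective J (Functor.whiskerLeft u.op φ) := by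
  constructor
  intro X x y h
  have hR := Presheaf.equalizerSieve_mem K φ (X := op (u.obj X.unop)) x y h
  obtain ⟨R', hR', hR''⟩ := hu X.unop _ hR
  refine J.superset_covering ?_ hR'
  intro V g hg
  rcases hR'' g hg with h0 | h1
  · have := hG _ h0
    exact Subsingleton.elim _ _
  · exact h1

lemma locSurj (hu : BigSite.IsAlmostCocontinuous u J K) {G G' : Dᵒᵖ ⥤ Type u} (φ : G ⟶ G')
    (hG : ∀ V : D, (⊥ : Sieve V) ∈ K V → Nonempty (G.obj (op V)))
    (hG' : ∀ V : D, (⊥ : Sieve V) ∈ K V → Subsingleton (G'.obj (op V)))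
    [Presheaf.IsLocallySurjective K φ] :
    Presheaf.IsLocallySurjective J (Functor.whiskerLeft u.op φ) := by
  constructor
  intro U s
  have hR := Presheaf.imageSieve_mem K φ (U := op (u.obj U)) s
  obtain ⟨R', hR', hR''⟩ := hu U _ hR
  refine J.superset_covering ?_ hR'
  intro V g hg
  rcases hR'' g hg with h0 | h1
  · obtain ⟨t⟩ := hG _ h0
    have := hG' _ h0
    exact ⟨t, Subsingleton.elim _ _⟩
  · exact h1


/-- `u^p` of the sheafification unit is in `J.W`. -/
lemma W_whisker (hu : BigSite.IsAlmostCocontinuous u J K) (G : Dᵒᵖ ⥤ Type u)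
    (hG : ∀ V : D, (⊥ : Sieve V) ∈ K V → Nonempty (Unique (G.obj (op V)))) :
    J.W (Functor.whiskerLeft u.op (toSheafify K G)) := by
  have h1 : Presheaf.IsLocallyInjective J (Functor.whiskerLeft u.op (toSheafify K G)) :=
    locInj J K u hu _ (fun V hV => by
      obtain ⟨h⟩ := hG V hV
      infer_instance)
  have h2 : Presheaf.IsLocallySurjective J (Functor.whiskerLeft u.op (toSheafify K G)) :=
    locSurj J K u hu _ (fun V hV => by
      obtain ⟨h⟩ := hG V hV
      exact ⟨h.default⟩) (fun V hV =>
      subsingleton_of_bot K ((presheafToSheaf K (Type u)).obj G).property V hV)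
  exact J.W_of_isLocallyBijective _

end


end Groth.Agent.Lib.Helper5.AlmostCocont
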