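import Mathlib

/-!
# Colimits over "almost filtered" categories commute with finite connected limits (in `Type`)

helper5 library for S6437.
-/

set_option autoImplicit false
open CategoryTheory CategoryTheory.Limits
universe v

namespace Groth.Agent.Lib.Helper5.AlmostFiltered

section
variable {I : Type v} [SmallCategory I]

/-- Two objects admit a common target. -/
def Conn (X Y : I) : Prop := ∃ S : I, Nonempty (X ⟶ S) ∧ Nonempty (Y ⟶ S)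

lemma Conn.refl (X : I) : Conn X X := ⟨X, ⟨𝟙 X⟩, ⟨𝟙 X⟩⟩

lemma Conn.symm {X Y : I} (h : Conn X Y) : Conn Y X := by
  obtain ⟨S, a, b⟩ := h
  exact ⟨S, b, a⟩

lemma Conn.of_hom {X Y : I} (f : X ⟶ Y) : Conn X Y := ⟨Y, ⟨f⟩, ⟨𝟙 Y⟩⟩

lemma Conn.trans
    (h1 : ∀ ⦃w x y : I⦄ (a : w ⟶ x) (b : w ⟶ y), ∃ (z : I) (c : x ⟶ z) (d : y ⟶ z), a ≫ c = b ≫ d)
    {X Y Z : I} (h : Conn X Y) (h' : Conn Y Z) : Conn X Z := by
  obtain ⟨S, ⟨a⟩, ⟨b⟩⟩ := h
  obtain ⟨S', ⟨a'⟩, ⟨b'⟩⟩ := h'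
  obtain ⟨z, c, d, _⟩ := h1 b a'
  exact ⟨z, ⟨a ≫ c⟩, ⟨b' ≫ d⟩⟩

lemma exists_common
    (h1 : ∀ ⦃w x y : I⦄ (a : w ⟶ x) (b : w ⟶ y), ∃ (z : I) (c : x ⟶ z) (d : y ⟶ z), a ≫ c = b ≫ d)
    {ι : Type*} [Finite ι] (X : ι → I) (X0 : I) (h : ∀ i, Conn (X i) X0) :
    ∃ S : I, Nonempty (X0 ⟶ S) ∧ ∀ i, Nonempty (X i ⟶ S) := by
  classical
  cases nonempty_fintype ι
  suffices H : ∀ s : Finset ι, ∃ S : I, Nonempty (X0 ⟶ S) ∧ ∀ i ∈ s, Nonempty (X i ⟶ S) by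
    obtain ⟨S, h0, hS⟩ := H Finset.univ
    exact ⟨S, h0, fun i => hS i (Finset.mem_univ i)⟩
  intro s
  induction s using Finset.induction_on with
  | empty => exact ⟨X0, ⟨𝟙 X0⟩, by simp⟩
  | insert a s ha ih =>
    obtain ⟨S, ⟨t0⟩, ht⟩ := ih
    obtain ⟨Sa, ⟨p⟩, ⟨q⟩⟩ := h a
    obtain ⟨z, c, d, _⟩ := h1 t0 q
    refine ⟨z, ⟨t0 ≫ c⟩, ?_⟩
    intro i hi
    rcases Finset.mem_insert.1 hi with rfl | hi
    · exact ⟨p ≫ d⟩
    · obtain ⟨t⟩ := ht i hi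
      exact ⟨t ≫ c⟩

lemma exists_coeq
    (h2 : ∀ ⦃x y : I⦄ (a b : x ⟶ y), ∃ (z : I) (c : y ⟶ z), a ≫ c = b ≫ c)
    {ι : Type*} [Finite ι] {S : I} (X : ι → I) (u w : ∀ i, X i ⟶ S) :
    ∃ (z : I) (c : S ⟶ z), ∀ i, u i ≫ c = w i ≫ c := by
  classical
  cases nonempty_fintype ι
  suffices H : ∀ s : Finset ι, ∃ (z : I) (c : S ⟶ z), ∀ i ∈ s, u i ≫ c = w i ≫ c by
    obtain ⟨z, c, hc⟩ := H Finset.univ
    exact ⟨z, c, fun i => hc i (Finset.mem_univ i)⟩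
  intro s
  induction s using Finset.induction_on with
  | empty => exact ⟨S, 𝟙 S, by simp⟩
  | insert a s ha ih =>
    obtain ⟨z, c, hc⟩ := ih
    obtain ⟨z', c', hc'⟩ := h2 (u a ≫ c) (w a ≫ c)
    refine ⟨z', c ≫ c', ?_⟩
    intro i hi
    rcases Finset.mem_insert.1 hi with rfl | hi
    · simpa using hc'
    · rw [← Category.assoc, hc i hi, Category.assoc]

lemma colim_map_ι (F G : I ⥤ Type v) (α : F ⟶ G) (i : I) (x : F.obj i) :
    colim.map α (colimit.ι F i x) = colimit.ι G i (α.app i x) := colimit.ι_map_apply α i x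

lemma nat_apply {F G : I ⥤ Type v} (α : F ⟶ G) {i i' : I} (f : i ⟶ i') (x : F.obj i) :
    α.app i' (F.map f x) = G.map f (α.app i x) := NatTrans.naturality_apply α f x

lemma map_comp_apply' (F : I ⥤ Type v) {i i' i'' : I} (f : i ⟶ i') (g : i' ⟶ i'') (x : F.obj i) :
    F.map (f ≫ g) x = F.map g (F.map f x) := F.map_comp_apply f g x

lemma rel_equiv
    (h1 : ∀ ⦃w x y : I⦄ (a : w ⟶ x) (b : w ⟶ y), ∃ (z : I) (c : x ⟶ z) (d : y ⟶ z), a ≫ c = b ≫ d)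
    (F : I ⥤ Type v) : _root_.Equivalence (Types.FilteredColimit.Rel F) where
  refl x := ⟨x.1, 𝟙 x.1, 𝟙 x.1, rfl⟩
  symm := fun ⟨k, f, g, h⟩ => ⟨k, g, f, h.symm⟩
  trans {x y z} := fun ⟨k, f, g, h⟩ ⟨k', f', g', h'⟩ => by
    obtain ⟨m, c, d, hcd⟩ := h1 g f'
    refine ⟨m, f ≫ c, g' ≫ d, ?_⟩
    calc F.map (f ≫ c) x.2 = F.map c (F.map f x.2) := by simp
      _ = F.map c (F.map g y.2) := by rw [h]
      _ = F.map (g ≫ c) y.2 := by simp
      _ = F.map (f' ≫ d) y.2 := by rw [hcd]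
      _ = F.map d (F.map f' y.2) := by simp
      _ = F.map d (F.map g' z.2) := by rw [h']
      _ = F.map (g' ≫ d) z.2 := by simp

lemma colimit_eq_imp
    (h1 : ∀ ⦃w x y : I⦄ (a : w ⟶ x) (b : w ⟶ y), ∃ (z : I) (c : x ⟶ z) (d : y ⟶ z), a ≫ c = b ≫ d)
    (F : I ⥤ Type v) {i j : I} {xi : F.obj i} {xj : F.obj j}
    (h : colimit.ι F i xi = colimit.ι F j xj) :
    ∃ (k : I) (f : i ⟶ k) (g : j ⟶ k), F.map f xi = F.map g xj := by
  have := Types.colimit_eq h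
  have := Relation.EqvGen.mono (Types.FilteredColimit.rel_of_colimitTypeRel F) _ _ this
  exact ((rel_equiv h1 F).eqvGen_iff).1 this


variable {J : Type} [SmallCategory J] {K : J ⥤ I ⥤ Type v} {c : Cone K}

lemma pt_ext (hc : IsLimit c) (i : I) (x x' : c.pt.obj i)
    (h : ∀ j, (c.π.app j).app i x = (c.π.app j).app i x') : x = x' := by
  have hc' := isLimitOfPreserves ((evaluation I (Type v)).obj i) hc
  have := ((Types.isLimit_iff_bijective_sectionOfCone _).1 ⟨hc'⟩).1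
  apply this
  apply Subtype.ext
  funext j
  exact h j

lemma pt_exists (hc : IsLimit c) (i : I) (s : ∀ j, (K.obj j).obj i)
    (hs : ∀ {j j' : J} (f : j ⟶ j'), (K.map f).app i (s j) = s j') :
    ∃ x : c.pt.obj i, ∀ j, (c.π.app j).app i x = s j := by
  have hc' := isLimitOfPreserves ((evaluation I (Type v)).obj i) hc
  have := (Types.isLimit_iff _).1 ⟨hc'⟩ s (fun {j j'} f => hs f)
  obtain ⟨x, hx, -⟩ := this
  exact ⟨x, hx⟩


lemma inj_aux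
    (h1 : ∀ ⦃w x y : I⦄ (a : w ⟶ x) (b : w ⟶ y), ∃ (z : I) (c : x ⟶ z) (d : y ⟶ z), a ≫ c = b ≫ d)
    (h2 : ∀ ⦃x y : I⦄ (a b : x ⟶ y), ∃ (z : I) (c : y ⟶ z), a ≫ c = b ≫ c)
    [Finite J] [Nonempty J] (hc : IsLimit c) (X Y : colimit c.pt)
    (h : ∀ j, colim.map (c.π.app j) X = colim.map (c.π.app j) Y) : X = Y := by
  obtain ⟨kx, x, rfl⟩ := Types.jointly_surjective' X
  obtain ⟨ky, y, rfl⟩ := Types.jointly_surjective' Y
  have h' : ∀ j, ∃ (k : I) (f : kx ⟶ k) (g : ky ⟶ k),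
      (K.obj j).map f ((c.π.app j).app kx x) = (K.obj j).map g ((c.π.app j).app ky y) := by
    intro j
    have := (colim_map_ι _ _ (c.π.app j) kx x).symm.trans
      ((h j).trans (colim_map_ι _ _ (c.π.app j) ky y))
    exact colimit_eq_imp h1 _ this
  choose kk f g w using h'
  obtain ⟨j0⟩ := ‹Nonempty J›
  obtain ⟨S, ⟨T⟩, ht⟩ := exists_common h1 kk kx (fun j => (Conn.of_hom (f j)).symm)
  have t : ∀ j, kk j ⟶ S := fun j => (ht j).some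
  obtain ⟨z1, c1, hc1⟩ := exists_coeq h2 (fun _ : J => kx) (fun j => f j ≫ t j) (fun _ => T)
  obtain ⟨z2, c2, hc2⟩ := exists_coeq h2 (fun _ : J => ky) (fun j => g j ≫ t j ≫ c1)
    (fun _ => g j0 ≫ t j0 ≫ c1)
  apply Types.colimit_sound' (T ≫ c1 ≫ c2) (g j0 ≫ t j0 ≫ c1 ≫ c2)
  apply pt_ext hc
  intro j
  have e1 : f j ≫ t j ≫ c1 ≫ c2 = T ≫ c1 ≫ c2 := by
    have := congrArg (· ≫ c2) (hc1 j)
    simpa only [Category.assoc] using this
  have e2 : g j ≫ t j ≫ c1 ≫ c2 = g j0 ≫ t j0 ≫ c1 ≫ c2 := by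
    have := hc2 j
    simpa only [Category.assoc] using this
  have n1 := nat_apply (c.π.app j) (T ≫ c1 ≫ c2) x
  have n2 := nat_apply (c.π.app j) (g j0 ≫ t j0 ≫ c1 ≫ c2) y
  refine n1.trans (Eq.trans ?_ n2.symm)
  rw [← e1, ← e2, map_comp_apply', map_comp_apply' (K.obj j) (g j), w j]


lemma surj_aux
    (h1 : ∀ ⦃w x y : I⦄ (a : w ⟶ x) (b : w ⟶ y), ∃ (z : I) (c : x ⟶ z) (d : y ⟶ z), a ≫ c = b ≫ d)
    (h2 : ∀ ⦃x y : I⦄ (a b : x ⟶ y), ∃ (z : I) (c : y ⟶ z), a ≫ c = b ≫ c)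
    [FinCategory J] [IsConnected J] (hc : IsLimit c) (s : ∀ j, colimit (K.obj j))
    (hs : ∀ {j j' : J} (f : j ⟶ j'), colim.map (K.map f) (s j) = s j') :
    ∃ X : colimit c.pt, ∀ j, colim.map (c.π.app j) X = s j := by
  classical
  have z := fun j => Types.jointly_surjective' (s j)
  choose k y e using z
  -- the finite type of arrows of `J`
  let Arr := Σ (j j' : J), (j ⟶ j')
  have hw : ∀ α : Arr, ∃ (m : I) (a : k α.1 ⟶ m) (b : k α.2.1 ⟶ m),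
      (K.obj α.2.1).map a ((K.map α.2.2).app (k α.1) (y α.1)) = (K.obj α.2.1).map b (y α.2.1) := by
    rintro ⟨j, j', f⟩
    have := hs f
    rw [← e j, ← e j', colim_map_ι] at this
    exact colimit_eq_imp h1 _ this
  choose m a b w using hw
  obtain ⟨j0⟩ := (inferInstance : Nonempty J)
  have hk : ∀ j, Conn (k j) (k j0) := by
    intro j
    refine induct_on_objects {j | Conn (k j) (k j0)} (Conn.refl _) ?_ j
    intro j₁ j₂ f
    have h12 : Conn (k j₁) (k j₂) := ⟨m ⟨j₁, j₂, f⟩, ⟨a ⟨j₁, j₂, f⟩⟩, ⟨b ⟨j₁, j₂, f⟩⟩⟩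
    exact ⟨fun h => Conn.trans h1 h12.symm h, fun h => Conn.trans h1 h12 h⟩
  have hm : ∀ α, Conn (m α) (k j0) := fun α =>
    Conn.trans h1 (Conn.of_hom (a α)).symm (hk _)
  obtain ⟨S, -, hS⟩ := exists_common h1 (Sum.elim k m) (k j0)
    (fun i => by cases i <;> simp [hk, hm])
  have g0 : ∀ j, k j ⟶ S := fun j => (hS (Sum.inl j)).some
  have r0 : ∀ α, m α ⟶ S := fun α => (hS (Sum.inr α)).some
  obtain ⟨z1, c1, hc1⟩ := exists_coeq h2 (fun α : Arr => k α.1) (fun α => a α ≫ r0 α)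
    (fun α => g0 α.1)
  obtain ⟨z2, c2, hc2⟩ := exists_coeq h2 (fun α : Arr => k α.2.1) (fun α => b α ≫ r0 α ≫ c1)
    (fun α => g0 α.2.1 ≫ c1)
  let g : ∀ j, k j ⟶ z2 := fun j => g0 j ≫ c1 ≫ c2
  let r : ∀ α, m α ⟶ z2 := fun α => r0 α ≫ c1 ≫ c2
  have ea : ∀ α, a α ≫ r α = g α.1 := by
    intro α
    have := congrArg (· ≫ c2) (hc1 α)
    simpa only [Category.assoc] using this
  have eb : ∀ α, b α ≫ r α = g α.2.1 := by
    intro α
    have := hc2 α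
    simpa only [Category.assoc] using this
  clear_value g r
  -- the compatible family at `z2`
  have hcomp : ∀ {j j' : J} (f : j ⟶ j'),
      (K.map f).app z2 ((K.obj j).map (g j) (y j)) = (K.obj j').map (g j') (y j') := by
    intro j j' f
    have ha := ea ⟨j, j', f⟩
    have hb := eb ⟨j, j', f⟩
    have hw' := w ⟨j, j', f⟩
    dsimp only at ha hb hw'
    rw [nat_apply, ← ha, ← hb, map_comp_apply', map_comp_apply', hw']
  obtain ⟨x, hx⟩ := pt_exists hc z2 (fun j => (K.obj j).map (g j) (y j)) hcomp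
  refine ⟨colimit.ι c.pt z2 x, fun j => ?_⟩
  refine (colim_map_ι _ _ (c.π.app j) z2 x).trans ?_
  rw [hx j, ← e j]
  exact colimit.w_apply (K.obj j) (g j) (y j)

end


end Groth.Agent.Lib.Helper5.AlmostFiltered
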