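import Mathlib
import Groth.Prelude.Def_AnCl

set_option autoImplicit false
universe u
open CategoryTheory TopologicalSpace Topology Opposite

namespace Groth.Agent.Lib.Helper5.AnDense

open An

variable (T : Type u) [TopologicalSpace T]

instance : (opensToCl T).Faithful where
  map_injective {_ _} _ _ _ := Subsingleton.elim _ _

lemma le_of_hom {U V : Opens T} (f : (opensToCl T).obj U ⟶ (opensToCl T).obj V) : U ≤ V := by
  intro x hx
  let y : V := f.toFun (⟨x, hx⟩ : U)
  have h : (y : T) = x := f.over (⟨x, hx⟩ : U)
  rw [← h]
  exact y.2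

instance : (opensToCl T).Full where
  map_surjective {U V} f := by
    refine ⟨homOfLE (le_of_hom T f), ?_⟩
    apply Cl.hom_ext
    funext x
    apply Subtype.ext
    exact (f.over x).symm

/-- The local section of `A.p` through a point, as a morphism from an open of `T`. -/
lemma exists_section (A : Cl T) (a : A.E) :
    ∃ (V : Opens T) (g : (opensToCl T).obj V ⟶ A), IsOpenEmbedding g.toFun ∧ a ∈ Set.range g.toFun := by
  obtain ⟨e, hae, he⟩ := A.lh a
  let V : Opens T := ⟨e.target, e.open_target⟩
  have hcont : Continuous (fun v : V => e.symm v.1) :=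
    e.continuousOn_symm.comp_continuous continuous_subtype_val (fun v => v.2)
  let g : (opensToCl T).obj V ⟶ A :=
    ⟨fun v => e.symm (v : V).1, hcont, fun v => by
        change A.p (e.symm (v : V).1) = (v : V).1
        rw [he]
        exact e.right_inv (v : V).2⟩
  refine ⟨V, g, ?_, ?_⟩
  · have h1 : g.toFun = Subtype.val ∘ e.toHomeomorphSourceTarget.symm := by
      funext v
      rfl
    rw [h1]
    exact (e.open_source.isOpenEmbedding_subtypeVal).comp
      e.toHomeomorphSourceTarget.symm.isOpenEmbedding
  · refine ⟨(⟨e a, e.map_source hae⟩ : V), ?_⟩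
    change e.symm (e a) = a
    exact e.left_inv hae

instance isCoverDense : (opensToCl T).IsCoverDense (Cl.topology T) where
  is_cover A := by
    intro a
    obtain ⟨V, g, hg, ha⟩ := exists_section T A a
    exact ⟨_, g, ⟨⟨V, 𝟙 _, g, by simp⟩⟩, hg, ha⟩

instance isDenseSubsite :
    (opensToCl T).IsDenseSubsite (Opens.grothendieckTopology T) (Cl.topology T) where
  functorPushforward_mem_iff {U S} := by
    constructor
    · intro h x hx
      obtain ⟨B, g, ⟨V, f, k, hf, rfl⟩, hg, b, hb⟩ := h (⟨x, hx⟩ : U)
      refine ⟨V, f, hf, ?_⟩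
      let y : V := k.toFun b
      have : (y : T) = x := congrArg Subtype.val hb
      rw [← this]
      exact y.2
    · intro h a
      obtain ⟨V, f, hf, hx⟩ := h (a : U).1 (a : U).2
      refine ⟨_, (opensToCl T).map f, Sieve.image_mem_functorPushforward _ _ hf, ?_, ?_⟩
      · change IsOpenEmbedding (Set.inclusion f.le)
        exact Topology.IsOpenEmbedding.inclusion f.le (V.2.preimage continuous_subtype_val)
      · exact ⟨(⟨(a : U).1, hx⟩ : V), Subtype.ext rfl⟩


/-- `An.OpCont T` holds. -/
theorem opCont : An.OpCont T := inferInstance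

/-- Restriction to opens is an equivalence. -/
theorem resOpens_isEquivalence [An.OpCont T] : (An.resOpens T).IsEquivalence := by
  haveI : ∀ X, Limits.HasLimitsOfShape (StructuredArrow X (opensToCl T).op) AddCommGrpCat.{u + 1} :=
    fun X => inferInstance
  exact inferInstanceAs (((opensToCl T).sheafPushforwardContinuous AddCommGrpCat.{u + 1}
    (Opens.grothendieckTopology T) (Cl.topology T)).IsEquivalence)

end Groth.Agent.Lib.Helper5.AnDense
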