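import Mathlib

open Polynomial

namespace Groth.Agent.Helper5.AnisoIso

universe u v
variable {K : Type u} [Field K] {V : Type v} [AddCommGroup V] [Module K V]
  (q : QuadraticForm K V) (hq : q.Anisotropic) (f : V →ₗ[K] V) (hf : ∀ x, q (f x) = q x)

include hq hf in
lemma K2 (l : K) (hl : l * l ≠ 1) (v : V) (hv : f v = l • v) : v = 0 := by
  apply hq
  have h := hf v
  rw [hv, QuadraticMap.map_smul, smul_eq_mul] at h
  have h' : (l * l - 1) * q v = 0 := by linear_combination h
  rcases mul_eq_zero.mp h' with h0 | h0
  · exact absurd (sub_eq_zero.mp h0) hl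
  · exact h0

include hq hf in
lemma K1 (h2 : (2 : K) ≠ 0) (l : K) (v w : V) (hw : f w = l • w) (hv : f v = l • v + w) : w = 0 := by
  by_contra hw0
  have hl : l * l = 1 := by
    by_contra h
    exact hw0 (K2 q hq f hf l h w hw)
  have e1 : q w + l * QuadraticMap.polar q v w = 0 := by
    have h := hf v
    rw [hv, QuadraticMap.map_add (⇑q) (l • v) w, QuadraticMap.map_smul, QuadraticMap.polar_smul_left] at h
    simp only [smul_eq_mul] at h
    linear_combination h - (q v) * hl
  have e2 : (2 * l + 1) * q w + l * QuadraticMap.polar q v w = 0 := by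
    have h := hf (v + w)
    rw [map_add, hv, hw] at h
    have hh : l • v + w + l • w = l • v + (1 + l) • w := by rw [add_smul, one_smul]; abel
    rw [hh, QuadraticMap.map_add (⇑q) (l • v) ((1 + l) • w), QuadraticMap.map_smul, QuadraticMap.map_smul,
      QuadraticMap.polar_smul_left, QuadraticMap.polar_smul_right, QuadraticMap.map_add (⇑q) v w] at h
    simp only [smul_eq_mul] at h
    linear_combination h - (q v + q w + QuadraticMap.polar q v w) * hl
  have e3 : 2 * l * q w = 0 := by linear_combination e2 - e1
  have hl0 : l ≠ 0 := by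
    rintro rfl
    simp at hl
  have : q w = 0 := by
    rcases mul_eq_zero.mp e3 with h | h
    · exact absurd h (mul_ne_zero h2 hl0)
    · exact h
  exact hw0 (hq w this)

include hq hf in
lemma key (h2 : (2 : K) ≠ 0) (s : Multiset K) :
    ∀ v : V, aeval f ((s.map (fun a => X - C a)).prod) v = 0 → f (f v) = v := by
  induction s using Multiset.induction_on with
  | empty =>
    intro v hv
    simp only [Multiset.map_zero, Multiset.prod_zero, map_one, Module.End.one_apply] at hv
    rw [hv, map_zero, map_zero]
  | cons a s ih =>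
    intro v hv
    rw [Multiset.map_cons, Multiset.prod_cons, mul_comm, map_mul, Module.End.mul_apply] at hv
    have h1 : aeval f (X - C a) v = f v - a • v := by
      simp [Module.algebraMap_end_apply]
    rw [h1] at hv
    have h3 := ih _ hv
    set u := f (f v) - v with hu
    have hfu : f u = a • u := by
      rw [hu, map_sub, smul_sub]
      rw [map_sub, map_sub, map_smul, map_smul] at h3
      rw [← sub_eq_zero] at h3 ⊢
      rw [← h3]
      abel
    suffices hu0 : u = 0 by
      rw [hu, sub_eq_zero] at hu0
      exact hu0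
    by_cases ha : a * a = 1
    · have ha' : (a - 1) * (a + 1) = 0 := by linear_combination ha
      rcases mul_eq_zero.mp ha' with h | h
      · have ha1 : a = 1 := by linear_combination h
        apply K1 q hq f hf h2 1 (f v + v) u
        · rw [hfu, ha1]
        · rw [map_add, one_smul, hu]; abel
      · have ha1 : a = -1 := by linear_combination h
        apply K1 q hq f hf h2 (-1) (f v - v) u
        · rw [hfu, ha1]
        · rw [map_sub, neg_smul, one_smul, hu]; abel
    · exact K2 q hq f hf a ha u hfu

include hq in
theorem main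
    (hK : ∀ n : ℕ, 0 < n → (X ^ n - 1 : K[X]).Splits) (h2 : (2 : K) ≠ 0)
    (g : V ≃ₗ[K] V) (hg : ∀ x : V, q (g x) = q x) (d : ℕ) (hd : 0 < d) (hgd : g ^ d = 1) :
    g ^ 2 = 1 := by
  have hmonic : (X ^ d - 1 : K[X]).Monic := by
    have := monic_X_pow_sub_C (1 : K) hd.ne'
    rwa [C_1] at this
  have hprod := (hK d hd).eq_prod_roots_of_monic hmonic
  have hzero : aeval (g : V →ₗ[K] V) (X ^ d - 1 : K[X]) = 0 := by
    rw [map_sub, map_pow, aeval_X, map_one]
    have : (g : V →ₗ[K] V) ^ d = ((g ^ d : V ≃ₗ[K] V) : V →ₗ[K] V) :=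
      (map_pow LinearEquiv.automorphismGroup.toLinearMapMonoidHom g d).symm
    rw [this, hgd]
    exact sub_self _
  ext v
  have := key q hq (g : V →ₗ[K] V) hg h2 (X ^ d - 1 : K[X]).roots v (by
    rw [← hprod, hzero]; rfl)
  rw [pow_two]
  exact this

end Groth.Agent.Helper5.AnisoIso
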