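import Mathlib
import Groth.Prelude.Def_BMCoh2

set_option autoImplicit false
universe u
open CategoryTheory AlgebraicGeometry Opposite
open BMCoh

namespace Groth.Agent.Lib.Helper5.Misc.BMLib

variable {V : ObjectProperty Scheme.{u}} [IsConstructible V] {R : Type u} [CommRing R]
  {A : Coefs R} (T : PreTheory V R A)

lemma relCodim_of_dim_eq {X Y : Scheme.{u}} (h : WeilCoh.dim X = WeilCoh.dim Y) :
    relCodim X Y = 0 := by
  unfold relCodim; rw [h]; exact sub_self _

lemma relCodim_self (X : Scheme.{u}) : relCodim X X = 0 := relCodim_of_dim_eq rfl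

omit [IsConstructible V] in
lemma pull_id (X : Obj V) (M : A.Cat) (i n : ℤ) : T.pull (𝟙 X) M i n = 𝟙 _ := by
  show ((T.H i n).map (𝟙 X).op).app M = 𝟙 _
  rw [op_id, (T.H i n).map_id]; rfl

omit [IsConstructible V] in
lemma pull_comp {X Y Z : Obj V} (f : X ⟶ Y) (g : Y ⟶ Z) (M : A.Cat) (i n : ℤ) :
    T.pull (f ≫ g) M i n = T.pull g M i n ≫ T.pull f M i n := by
  show ((T.H i n).map (f ≫ g).op).app M = _
  rw [op_comp, (T.H i n).map_comp]; rfl

/-- The decomposition given by two complementary open immersions. -/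
noncomputable def decompOfCompl {X Y W : Obj V} (iX : X ⟶ W) (iY : Y ⟶ W)
    (h : Set.range iX.hom = (Set.range iY.hom)ᶜ) : Decomp W where
  Z := Y
  U := X
  i := iY.hom
  closedImm := IsClosedImmersion.of_isPreimmersion _ (by
    have h1 : IsOpen (Set.range iX.hom) := iX.hom.isOpenEmbedding.isOpen_range
    rw [h] at h1
    exact isOpen_compl_iff.mp h1)
  j := iX
  range_eq := h

/-- Push-forward along a clopen immersion followed by restriction to it is the identity. -/
lemma push_pull_self {Y W : Obj V} (iY : Y ⟶ W) [IsProper iY.hom] (M : A.Cat) (d n : ℤ)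
    (hi : d = d + 2 * relCodim Y.scheme W.scheme) (hn : n = n + relCodim Y.scheme W.scheme) :
    T.push iY.hom M d n d n hi hn ≫ T.pull iY M d n = 𝟙 _ := by
  have hpb : IsPullback (BMCoh.Hom.hom (𝟙 Y)) (𝟙 Y.scheme) iY.hom iY.hom :=
    (IsKernelPair.id_of_mono iY.hom)
  have h0 : relCodim Y.scheme Y.scheme = 0 := relCodim_self _
  have := T.push_pull iY.hom (𝟙 Y.scheme) iY (𝟙 Y) hpb M d n d n hi hn
    (by rw [h0]; ring) (by rw [h0]; ring)
  rw [this, T.push_id]
  exact (Category.comp_id _).trans (pull_id T Y M d n)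

/-- For complementary open immersions the restriction maps identify `H(W)` with the product. -/
theorem pull_prod_bijective {X Y W : Obj V} (iX : X ⟶ W) (iY : Y ⟶ W)
    (h : Set.range iX.hom = (Set.range iY.hom)ᶜ) (M : A.Cat) (i n : ℤ) :
    Function.Bijective (fun a : T.gp W M i n => ((T.pull iX M i n).hom a, (T.pull iY M i n).hom a)) := by
  obtain ⟨i, rfl⟩ : ∃ i', i = i' + 1 := ⟨i - 1, by ring⟩
  let D : Decomp W := decompOfCompl iX iY h
  have hc : relCodim Y.scheme W.scheme = 0 := relCodim_of_dim_eq iY.dim_eq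
  have hDc : D.codim = 0 := hc
  have hDz : relCodim D.Z.scheme W.scheme = 0 := hc
  have : IsProper iY.hom := by
    have : IsClosedImmersion iY.hom := D.closedImm
    infer_instance
  -- push then pull along `iY` is the identity
  have hid : ∀ d : ℤ, ∀ (hi : d = d + 2 * relCodim Y.scheme W.scheme)
      (hn : n = n + relCodim Y.scheme W.scheme) (b : T.gp Y M d n),
      (T.pull iY M d n).hom ((T.push iY.hom M d n d n hi hn).hom b) = b := by
    intro d hi hn b
    have := push_pull_self T iY M d n hi hn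
    exact congrArg (fun φ => φ.hom b) this
  have e1 := T.exact_push_pull D M i n (i + 1) n (by rw [hDz]; ring) (by rw [hDz]; ring)
  have e2 := T.exact_pull_res D M (i + 1) n (i + 1 + 1) n (by rw [hDc]; ring) (by rw [hDc]; ring)
  have e3 := T.exact_res_push D M (i + 1) n (i + 1 + 1) n (by rw [hDc]; ring) (by rw [hDc]; ring)
    (by rw [hDz]; ring) (by rw [hDz]; ring)
  have hsurjX : Function.Surjective (T.pull iX M (i + 1) n).hom := by
    intro x
    have hres : (T.res D M (i + 1) n (i + 1 + 1) n (by rw [hDc]; ring) (by rw [hDc]; ring)).hom x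
        = 0 := by
      have h1 : (T.push D.i M (i + 1 + 1) n (i + 1 + 1) n (by rw [hDz]; ring) (by rw [hDz]; ring)).hom
          ((T.res D M (i + 1) n (i + 1 + 1) n (by rw [hDc]; ring) (by rw [hDc]; ring)).hom x)
          = 0 := (e3 _).mpr ⟨x, rfl⟩
      have h2 := hid (i + 1 + 1) (by rw [hc]; ring) (by rw [hc]; ring)
        ((T.res D M (i + 1) n (i + 1 + 1) n (by rw [hDc]; ring) (by rw [hDc]; ring)).hom x)
      rw [← h2]
      show (T.pull iY M (i + 1 + 1) n).hom
        ((T.push D.i M (i + 1 + 1) n (i + 1 + 1) n _ _).hom _) = 0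
      rw [h1, map_zero]
    exact (e2 x).mp hres
  constructor
  · intro a b hab
    have hX : (T.pull iX M (i + 1) n).hom (a - b) = 0 := by
      rw [map_sub, sub_eq_zero]; exact congrArg Prod.fst hab
    have hY : (T.pull iY M (i + 1) n).hom (a - b) = 0 := by
      rw [map_sub, sub_eq_zero]; exact congrArg Prod.snd hab
    obtain ⟨c, hc'⟩ := (e1 (a - b)).mp hX
    have h2 := hid (i + 1) (by rw [hc]; ring) (by rw [hc]; ring) c
    have hc0 : c = 0 := by
      rw [← h2]
      show (T.pull iY M (i + 1) n).hom ((T.push D.i M (i + 1) n (i + 1) n _ _).hom c) = 0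
      rw [hc', hY]
    rw [hc0, map_zero] at hc'
    exact sub_eq_zero.mp hc'.symm
  · rintro ⟨x, y⟩
    obtain ⟨a0, ha0⟩ := hsurjX x
    let b : T.gp Y M (i + 1) n := y - (T.pull iY M (i + 1) n).hom a0
    let pb : T.gp W M (i + 1) n :=
      (T.push D.i M (i + 1) n (i + 1) n (by rw [hDz]; ring) (by rw [hDz]; ring)).hom b
    have hpX : (T.pull iX M (i + 1) n).hom pb = 0 := (e1 pb).mpr ⟨b, rfl⟩
    have hpY : (T.pull iY M (i + 1) n).hom pb = b :=
      hid (i + 1) (by rw [hc]; ring) (by rw [hc]; ring) b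
    refine ⟨a0 + pb, ?_⟩
    show ((T.pull iX M (i + 1) n).hom (a0 + pb), (T.pull iY M (i + 1) n).hom (a0 + pb)) = (x, y)
    rw [map_add, map_add, hpX, hpY, ha0, add_zero]
    congr 1
    show (T.pull iY M (i + 1) n).hom a0 + (y - (T.pull iY M (i + 1) n).hom a0) = y
    abel

end Groth.Agent.Lib.Helper5.Misc.BMLib
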