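import Mathlib
import Groth.Prelude.Def_BMCoh2
import Groth.Agent.Lib.Helper5.Misc.BMLib

set_option autoImplicit false
universe u
open CategoryTheory CategoryTheory.Limits AlgebraicGeometry Opposite
open BMCoh

namespace Groth.Agent.Lib.Helper5.Misc.BMColim

open Groth.Agent.Lib.Helper5.Misc.BMLib

variable {V : ObjectProperty Scheme.{u}} [IsConstructible V] {R : Type u} [CommRing R]
  {A : Coefs R} (T : PreTheory V R A) (X : Obj V) (P : X.scheme.Opens → Prop) (i n : ℤ)
  (M : A.Cat)

/-- The diagram of the open-system colimit, evaluated at a coefficient module. -/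
noncomputable abbrev evDiag : (Idx X P)ᵒᵖ ⥤ ModuleCat.{u} R :=
  ((idxDiag X P).op ⋙ T.H i n) ⋙ (evaluation A.Cat (ModuleCat.{u} R)).obj M

/-- The evaluated colimit cocone. -/
noncomputable def evCocone : Cocone (evDiag T X P i n M) :=
  ((evaluation A.Cat (ModuleCat.{u} R)).obj M).mapCocone
    (colimit.cocone ((idxDiag X P).op ⋙ T.H i n))

/-- It is a colimit cocone. -/
noncomputable def evIsColimit : IsColimit (evCocone T X P i n M) :=
  isColimitOfPreserves _ (colimit.isColimit _)

lemma evCocone_ι (U : Idx X P) :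
    (evCocone T X P i n M).ι.app (op U) = (T.ocolimι X P i n U).app M := rfl

/-- The transition map of the diagram is restriction. -/
lemma evDiag_map {U U' : Idx X P} (h : U' ≤ U) :
    (evDiag T X P i n M).map (homOfLE h).op =
      T.pull (X.resLE (show U'.1 ≤ U.1 from h) (U'.2.2.trans U.2.2.symm)) M i n := rfl

/-- Compatibility of the colimit injections with restriction. -/
lemma ocolimι_pull {U U' : Idx X P} (h : U' ≤ U) (a : T.gp (X.res U.1) M i n) :
    ((T.ocolimι X P i n U').app M).hom
      ((T.pull (X.resLE (show U'.1 ≤ U.1 from h) (U'.2.2.trans U.2.2.symm)) M i n).hom a) =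
    ((T.ocolimι X P i n U).app M).hom a := by
  have := (evCocone T X P i n M).w (homOfLE h).op
  rw [evCocone_ι, evCocone_ι, evDiag_map] at this
  exact congrArg (fun φ => φ.hom a) this

variable [IsFiltered (Idx X P)ᵒᵖ]

/-- Every class of the colimit is represented at some stage. -/
lemma exists_rep (z : (T.ocolim X P i n).obj M) :
    ∃ (U : Idx X P) (a : T.gp (X.res U.1) M i n), ((T.ocolimι X P i n U).app M).hom a = z := by
  obtain ⟨j, y, hy⟩ := Concrete.isColimit_exists_rep (evDiag T X P i n M)
    (evIsColimit T X P i n M) z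
  exact ⟨j.unop, y, hy⟩

/-- A class mapping to zero in the colimit vanishes at a smaller stage. -/
lemma exists_pull_eq_zero (U : Idx X P) (a : T.gp (X.res U.1) M i n)
    (h : ((T.ocolimι X P i n U).app M).hom a = 0) :
    ∃ (U' : Idx X P) (h' : U' ≤ U),
      (T.pull (X.resLE (show U'.1 ≤ U.1 from h') (U'.2.2.trans U.2.2.symm)) M i n).hom a = 0 := by
  have h0 : (evCocone T X P i n M).ι.app (op U) a =
      (evCocone T X P i n M).ι.app (op U) (0 : T.gp (X.res U.1) M i n) := by
    rw [evCocone_ι]
    show ((T.ocolimι X P i n U).app M).hom a = ((T.ocolimι X P i n U).app M).hom 0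
    rw [h, map_zero]
  obtain ⟨k, f, g, hfg⟩ := Concrete.isColimit_exists_of_rep_eq (evDiag T X P i n M)
    (evIsColimit T X P i n M) a (0 : T.gp (X.res U.1) M i n) h0
  refine ⟨k.unop, leOfHom f.unop, ?_⟩
  have hf : f = (homOfLE (leOfHom f.unop)).op := Subsingleton.elim _ _
  rw [hf, evDiag_map] at hfg
  have hz : ((evDiag T X P i n M).map g) (0 : T.gp (X.res U.1) M i n) = 0 := map_zero _
  rw [hz] at hfg
  exact hfg

end Groth.Agent.Lib.Helper5.Misc.BMColim
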