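import Mathlib
import Groth.Prelude.Def_BMCoh2
import Groth.Agent.Lib.Helper1.SchSect
import Groth.Agent.Lib.Helper8.TopDim
import Groth.Agent.Lib.Helper4.TopDim2
import Groth.Agent.Lib.Helper5.Misc.WeilGeo

set_option autoImplicit false
universe u
open CategoryTheory CategoryTheory.Limits AlgebraicGeometry Opposite TopologicalSpace
open BMCoh

namespace Groth.Agent.Lib.Helper5.Misc.BMGeo

open Groth.Agent.Lib.Helper5.Misc.WeilGeo Groth.Agent.Lib.Helper5.Misc.WeilGen

section Topology

/-- In a nonempty Noetherian quasi-sober space there is a point whose closure is an irreducible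
component of top dimension, together with an open neighbourhood contained in its closure. -/
theorem exists_top_point (X : Type u) [TopologicalSpace X] [NoetherianSpace X] [QuasiSober X]
    [Nonempty X] :
    ∃ (x : X) (W : Opens X), x ∈ W ∧ (W : Set X) ⊆ closure {x} ∧
      topologicalKrullDim ↥(closure ({x} : Set X)) = topologicalKrullDim X := by
  classical
  have hfin := NoetherianSpace.finite_irreducibleComponents (α := X)
  have hne : (irreducibleComponents X).Nonempty :=
    ⟨irreducibleComponent (Classical.arbitrary X), irreducibleComponent_mem_irreducibleComponents _⟩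
  obtain ⟨Y0, hY0, hmax⟩ := Set.exists_max_image (irreducibleComponents X)
    (fun Y => topologicalKrullDim ↥Y) hfin hne
  have hdim : topologicalKrullDim ↥Y0 = topologicalKrullDim X := by
    apply le_antisymm (topologicalKrullDim_subspace_le X Y0)
    rw [Groth.Agent.Helper4.TD.topologicalKrullDim_eq_iSup_irreducibleComponents X]
    exact iSup₂_le fun Y hY => hmax Y hY
  have hirr : IsIrreducible Y0 := hY0.prop
  have hcl : IsClosed Y0 := isClosed_of_mem_irreducibleComponents Y0 hY0
  obtain ⟨x, hx⟩ := QuasiSober.sober hirr hcl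
  have hxdef : closure ({x} : Set X) = Y0 := hx.def
  let A : Set (Set X) := irreducibleComponents X \ {Y0}
  have hA : IsClosed (⋃₀ A) :=
    Groth.Agent.Helper8.isClosed_sUnion_of_subset_irreducibleComponents Set.sdiff_subset
  refine ⟨x, ⟨(⋃₀ A)ᶜ, hA.isOpen_compl⟩, ?_, ?_, ?_⟩
  · rintro ⟨Y', ⟨hY', hne'⟩, hxY'⟩
    have hsub : Y0 ⊆ Y' := by
      rw [← hxdef]
      exact (isClosed_of_mem_irreducibleComponents Y' hY').closure_subset_iff.mpr
        (Set.singleton_subset_iff.mpr hxY')
    exact hne' (le_antisymm (hY0.le_of_ge hY'.prop hsub) hsub)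
  · intro y hy
    rw [hxdef]
    by_contra hyY0
    apply hy
    refine ⟨irreducibleComponent y, ⟨irreducibleComponent_mem_irreducibleComponents y, ?_⟩,
      mem_irreducibleComponent⟩
    intro h
    have h' : irreducibleComponent y = Y0 := h
    exact hyY0 (h' ▸ mem_irreducibleComponent)
  · rw [hxdef]; exact hdim

/-- An embedding with irreducible range has irreducible source. -/
theorem irreducibleSpace_of_isEmbedding {Z X : Type u} [TopologicalSpace Z] [TopologicalSpace X]
    {f : Z → X} (hf : Topology.IsEmbedding f) (h : IsIrreducible (Set.range f)) :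
    IrreducibleSpace Z := by
  have : IrreducibleSpace ↥(Set.range f) := Subtype.irreducibleSpace h
  let e := hf.toHomeomorph
  have h1 : IsIrreducible (e.symm '' (Set.univ : Set ↥(Set.range f))) :=
    (IrreducibleSpace.isIrreducible_univ _).image _ e.symm.continuous.continuousOn
  rw [Set.image_univ, e.symm.surjective.range_eq] at h1
  exact (irreducibleSpace_def Z).mpr h1

end Topology

section Schemes

/-- Dimension of the source of a closed immersion. -/
lemma dim_eq_natDim_range {Z X : Scheme.{u}} (ι : Z ⟶ X) [IsClosedImmersion ι] :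
    WeilCoh.dim Z = WeilCoh.natDim ↥(Set.range ι) :=
  natDim_homeomorph (ι.isClosedEmbedding.isEmbedding.toHomeomorph)

/-- The restriction of a closed immersion into a reduced scheme over an open contained in its
range is an isomorphism. -/
lemma isIso_restrict {Z X : Scheme.{u}} (ι : Z ⟶ X) [IsClosedImmersion ι] [IsReduced X]
    (O : X.Opens) (hO : (O : Set X) ⊆ Set.range ι) : IsIso (ι ∣_ O) := by
  have : IsClosedImmersion (ι ∣_ O) :=
    AlgebraicGeometry.IsZariskiLocalAtTarget.restrict (P := @IsClosedImmersion) inferInstance O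
  have : Surjective (ι ∣_ O) := by
    refine ⟨fun y => ?_⟩
    obtain ⟨z, hz⟩ := hO y.2
    refine ⟨⟨z, ?_⟩, ?_⟩
    · show ι z ∈ O
      rw [hz]; exact y.2
    · apply Subtype.ext
      rw [morphismRestrict_base_coe]
      exact hz
  exact AlgebraicGeometry.isIso_of_isClosedImmersion_of_surjective (ι ∣_ O)

end Schemes


section ObjLevel

variable {V : ObjectProperty Scheme.{u}} [IsConstructible V]

/-- The reduced closed subscheme on a closed subset of an object, as an object. -/
noncomputable abbrev redSub (X : Obj V) (C : Closeds X.scheme) : Obj V :=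
  ⟨(Scheme.IdealSheafData.vanishingIdeal C).subscheme,
    IsConstructible.of_isClosedImmersion (Scheme.IdealSheafData.vanishingIdeal C).subschemeι
      (h := (inferInstance : IsClosedImmersion
        (Scheme.IdealSheafData.vanishingIdeal C).subschemeι)) X.mem⟩

/-- Its closed immersion. -/
noncomputable abbrev redSubι (X : Obj V) (C : Closeds X.scheme) :
    (redSub X C).scheme ⟶ X.scheme :=
  (Scheme.IdealSheafData.vanishingIdeal C).subschemeι

lemma range_redSubι (X : Obj V) (C : Closeds X.scheme) :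
    Set.range (redSubι X C) = (C : Set X.scheme) := by
  rw [Scheme.IdealSheafData.range_subschemeι, Scheme.IdealSheafData.coe_support_vanishingIdeal]

instance isReduced_redSub (X : Obj V) (C : Closeds X.scheme) : IsReduced (redSub X C).scheme :=
  Groth.Agent.Helper1.SchSect.isReduced_subscheme_vanishingIdeal C

lemma range_ptSubι (X : Obj V) (x : X.scheme) :
    Set.range (X.ptSubι x) = closure ({x} : Set X.scheme) :=
  range_redSubι X ⟨closure ({x} : Set X.scheme), isClosed_closure⟩

instance isReduced_ptSub (X : Obj V) (x : X.scheme) : IsReduced (X.ptSub x).scheme :=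
  Groth.Agent.Helper1.SchSect.isReduced_subscheme_vanishingIdeal _

lemma dim_ptSub (X : Obj V) (x : X.scheme) :
    WeilCoh.dim (X.ptSub x).scheme = WeilCoh.pdim X.scheme x := by
  rw [dim_eq_natDim_range (X.ptSubι x)]
  exact natDim_congr (range_ptSubι X x)

instance irreducibleSpace_ptSub (X : Obj V) (x : X.scheme) :
    IrreducibleSpace ↥(X.ptSub x).scheme := by
  apply irreducibleSpace_of_isEmbedding (X.ptSubι x).isClosedEmbedding.isEmbedding
  rw [range_ptSubι]
  exact isIrreducible_singleton.closure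

lemma dim_open_ptSub (X : Obj V) (x : X.scheme) (U : (X.ptSub x).scheme.Opens)
    (hU : (U : Set (X.ptSub x).scheme).Nonempty) :
    WeilCoh.dim (U : Scheme.{u}) = WeilCoh.dim (X.ptSub x).scheme :=
  IsConstructible.dim_open (X.ptSub x).mem inferInstance U hU

variable (Z : Obj V) [IsReduced Z.scheme] (x : Z.scheme)

lemma isIso_ptRestrict (O : Z.scheme.Opens) (hO : (O : Set Z.scheme) ⊆ closure {x}) :
    IsIso ((Z.ptSubι x) ∣_ O) :=
  isIso_restrict (Z.ptSubι x) O (by rw [range_ptSubι]; exact hO)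

/-- For an open `O` of `Z` inside the closure of `x`: the isomorphism of objects from the
corresponding open of the reduced closure of `x`. -/
noncomputable def ptOpenHom (O : Z.scheme.Opens) (hO : (O : Set Z.scheme) ⊆ closure {x}) :
    (Z.ptSub x).res ((Z.ptSubι x) ⁻¹ᵁ O) ⟶ Z.res O :=
  haveI := isIso_ptRestrict Z x O hO
  ⟨(Z.ptSubι x) ∣_ O, inferInstance, dim_eq_of_iso (asIso ((Z.ptSubι x) ∣_ O))⟩

/-- Its inverse. -/
noncomputable def ptOpenInv (O : Z.scheme.Opens) (hO : (O : Set Z.scheme) ⊆ closure {x}) :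
    Z.res O ⟶ (Z.ptSub x).res ((Z.ptSubι x) ⁻¹ᵁ O) :=
  haveI := isIso_ptRestrict Z x O hO
  ⟨inv ((Z.ptSubι x) ∣_ O), inferInstance, (dim_eq_of_iso (asIso ((Z.ptSubι x) ∣_ O))).symm⟩

lemma ptOpenInv_comp (O : Z.scheme.Opens) (hO : (O : Set Z.scheme) ⊆ closure {x}) :
    ptOpenInv Z x O hO ≫ ptOpenHom Z x O hO = 𝟙 _ := by
  have := isIso_ptRestrict Z x O hO
  apply BMCoh.Hom.ext
  show inv ((Z.ptSubι x) ∣_ O) ≫ ((Z.ptSubι x) ∣_ O) = 𝟙 _
  exact IsIso.inv_hom_id _

lemma ptOpenHom_natural {O O' : Z.scheme.Opens} (h : O' ≤ O)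
    (hO : (O : Set Z.scheme) ⊆ closure {x})
    (hd : WeilCoh.dim (O' : Scheme.{u}) = WeilCoh.dim (O : Scheme.{u}))
    (hpre : (Z.ptSubι x) ⁻¹ᵁ O' ≤ (Z.ptSubι x) ⁻¹ᵁ O)
    (hd' : WeilCoh.dim (((Z.ptSubι x) ⁻¹ᵁ O' : (Z.ptSub x).scheme.Opens) : Scheme.{u}) =
      WeilCoh.dim (((Z.ptSubι x) ⁻¹ᵁ O : (Z.ptSub x).scheme.Opens) : Scheme.{u})) :
    (Z.ptSub x).resLE hpre hd' ≫ ptOpenHom Z x O hO =
      ptOpenHom Z x O' (fun _ hy => hO (h hy)) ≫ Z.resLE h hd := by
  apply BMCoh.Hom.ext
  show (Z.ptSub x).scheme.homOfLE hpre ≫ ((Z.ptSubι x) ∣_ O) =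
    ((Z.ptSubι x) ∣_ O') ≫ Z.scheme.homOfLE h
  rw [← cancel_mono O.ι]
  simp only [Category.assoc, morphismRestrict_ι, Scheme.homOfLE_ι, Scheme.homOfLE_ι_assoc]

end ObjLevel


section ObjLevel2

variable {V : ObjectProperty Scheme.{u}} [IsConstructible V]

instance noetherianSpace_obj (X : Obj V) : NoetherianSpace ↥X.scheme :=
  haveI := IsConstructible.isNoetherian X.mem
  inferInstance

lemma dim_lt_top_obj (X : Obj V) : topologicalKrullDim ↥X.scheme < ⊤ :=
  IsConstructible.finiteDim X.mem

/-- A nonempty object has a point of top dimension with an open neighbourhood inside its closure. -/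
lemma exists_top_point_obj (Z : Obj V) [Nonempty ↥Z.scheme] :
    ∃ (x : Z.scheme) (W : Z.scheme.Opens), x ∈ W ∧ (W : Set Z.scheme) ⊆ closure {x} ∧
      WeilCoh.pdim Z.scheme x = WeilCoh.dim Z.scheme := by
  obtain ⟨x, W, hxW, hW, hdim⟩ := exists_top_point ↥Z.scheme
  refine ⟨x, W, hxW, hW, ?_⟩
  unfold WeilCoh.pdim WeilCoh.dim WeilCoh.natDim
  rw [hdim]

/-- The dimension of a closed subscheme is at most that of the ambient object. -/
lemma dim_le_of_isClosedImmersion {Y : Scheme.{u}} (X : Obj V) (ι : Y ⟶ X.scheme)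
    [IsClosedImmersion ι] : WeilCoh.dim Y ≤ WeilCoh.dim X.scheme := by
  rw [dim_eq_natDim_range ι]
  exact natDim_le_of_le (topologicalKrullDim_subspace_le _ _) (dim_lt_top_obj X)

lemma relCodim_nonneg_of_isClosedImmersion {Y : Scheme.{u}} (X : Obj V) (ι : Y ⟶ X.scheme)
    [IsClosedImmersion ι] : 0 ≤ relCodim Y X.scheme := by
  unfold relCodim
  have := dim_le_of_isClosedImmersion X ι
  omega

/-- The decomposition of an object attached to a morphism of objects into it: the open part is
the source, the closed part is the complement of the image with its reduced structure. -/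
noncomputable def decompOfHom {U X : Obj V} (f : U ⟶ X) : Decomp X where
  Z := redSub X ⟨(Set.range f.hom)ᶜ, f.hom.isOpenEmbedding.isOpen_range.isClosed_compl⟩
  U := U
  i := redSubι X ⟨(Set.range f.hom)ᶜ, f.hom.isOpenEmbedding.isOpen_range.isClosed_compl⟩
  closedImm := inferInstance
  j := f
  range_eq := by
    rw [range_redSubι]
    exact (compl_compl _).symm

instance isReduced_decompOfHom_Z {U X : Obj V} (f : U ⟶ X) :
    IsReduced (decompOfHom f).Z.scheme :=
  isReduced_redSub X _

lemma range_decompOfHom_i {U X : Obj V} (f : U ⟶ X) :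
    Set.range (decompOfHom f).i = (Set.range f.hom)ᶜ :=
  range_redSubι X _

variable (Z : Obj V) [IsReduced Z.scheme] (x : Z.scheme)

/-- Nonempty opens inside the closure of a top-dimensional point have full dimension. -/
lemma dim_open_of_subset_closure (hx : WeilCoh.pdim Z.scheme x = WeilCoh.dim Z.scheme)
    (O : Z.scheme.Opens) (hO : (O : Set Z.scheme) ⊆ closure {x}) (hne : (O : Set Z.scheme).Nonempty) :
    WeilCoh.dim (O : Scheme.{u}) = WeilCoh.dim Z.scheme := by
  have := isIso_ptRestrict Z x O hO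
  have h1 : WeilCoh.dim (((Z.ptSubι x) ⁻¹ᵁ O : (Z.ptSub x).scheme.Opens) : Scheme.{u}) =
      WeilCoh.dim (O : Scheme.{u}) := dim_eq_of_iso (asIso ((Z.ptSubι x) ∣_ O))
  have hne' : (((Z.ptSubι x) ⁻¹ᵁ O : (Z.ptSub x).scheme.Opens) : Set (Z.ptSub x).scheme).Nonempty := by
    obtain ⟨y, hy⟩ := hne
    have hy' : y ∈ Set.range (Z.ptSubι x) := by rw [range_ptSubι]; exact hO hy
    obtain ⟨z, rfl⟩ := hy'
    exact ⟨z, hy⟩
  rw [← h1, dim_open_ptSub Z x _ hne', dim_ptSub, hx]

/-- The index family of the groups of a point is cofiltered. -/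
instance isFiltered_ptIdx (X : Obj V) (y : X.scheme) :
    IsFiltered (Idx (X.ptSub y) (fun U => (U : Set (X.ptSub y).scheme).Nonempty))ᵒᵖ := by
  have : Nonempty (Idx (X.ptSub y) (fun U => (U : Set (X.ptSub y).scheme).Nonempty)) :=
    ⟨⟨⊤, Set.univ_nonempty, dim_top _⟩⟩
  have : IsDirected (Idx (X.ptSub y) (fun U => (U : Set (X.ptSub y).scheme).Nonempty))
      (· ≥ ·) := by
    refine ⟨fun U₁ U₂ => ?_⟩
    have hne : ((U₁.1 ⊓ U₂.1 : (X.ptSub y).scheme.Opens) : Set (X.ptSub y).scheme).Nonempty :=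
      nonempty_preirreducible_inter U₁.1.2 U₂.1.2 U₁.2.1 U₂.2.1
    exact ⟨⟨U₁.1 ⊓ U₂.1, hne, dim_open_ptSub X y _ hne⟩,
      (show U₁.1 ⊓ U₂.1 ≤ U₁.1 from inf_le_left), (show U₁.1 ⊓ U₂.1 ≤ U₂.1 from inf_le_right)⟩
  infer_instance

end ObjLevel2

end Groth.Agent.Lib.Helper5.Misc.BMGeo
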