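import Mathlib
import Groth.Prelude.Def_BMCoh2
import Groth.Agent.Lib.Helper5.Misc.BMColim
import Groth.Agent.Lib.Helper5.Misc.BMGeo

set_option autoImplicit false
universe u
open CategoryTheory CategoryTheory.Limits AlgebraicGeometry Opposite TopologicalSpace
open BMCoh

namespace Groth.Agent.Lib.Helper5.Misc.BMVan

open Groth.Agent.Lib.Helper5.Misc.BMLib Groth.Agent.Lib.Helper5.Misc.BMColim
open Groth.Agent.Lib.Helper5.Misc.BMGeo

variable {V : ObjectProperty Scheme.{u}} [IsConstructible V] {R : Type u} [CommRing R]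
  {A : Coefs R}

omit [IsConstructible V] in
lemma pull_comp_apply (T : PreTheory V R A) {X Y Z : Obj V} (f : X ⟶ Y) (g : Y ⟶ Z) (M : A.Cat)
    (i n : ℤ) (a : T.gp Z M i n) :
    (T.pull (f ≫ g) M i n).hom a = (T.pull f M i n).hom ((T.pull g M i n).hom a) := by
  rw [pull_comp]; rfl

omit [IsConstructible V] in
lemma pull_id_apply (T : PreTheory V R A) (X : Obj V) (M : A.Cat) (i n : ℤ) (a : T.gp X M i n) :
    (T.pull (𝟙 X) M i n).hom a = a := by
  rw [pull_id]; rfl

omit [IsConstructible V] in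
/-- The groups of an empty object vanish. -/
theorem isZero_of_isEmpty (T : PreTheory V R A) (E : Obj V) [IsEmpty ↥E.scheme] (M : A.Cat)
    (i n : ℤ) : IsZero (T.gp E M i n) := by
  obtain ⟨i, rfl⟩ : ∃ i', i = i' + 1 := ⟨i - 1, by ring⟩
  let D : Decomp E :=
    { Z := E, U := E, i := 𝟙 E.scheme, closedImm := inferInstance, j := 𝟙 E,
      range_eq := by ext y; exact isEmptyElim y }
  have h0 : relCodim E.scheme E.scheme = 0 := relCodim_self _
  have hi' : i + 1 = i + 1 + 2 * relCodim D.Z.scheme E.scheme := by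
    show i + 1 = i + 1 + 2 * relCodim E.scheme E.scheme
    rw [h0]; ring
  have hn' : n = n + relCodim D.Z.scheme E.scheme := by
    show n = n + relCodim E.scheme E.scheme
    rw [h0]; ring
  have e1 := T.exact_push_pull D M i n (i + 1) n hi' hn'
  have hsub : Subsingleton (T.gp E M (i + 1) n) := by
    suffices h : ∀ c : T.gp E M (i + 1) n, c = 0 from ⟨fun a b => by rw [h a, h b]⟩
    intro c
    have hpush : (T.push D.i M (i + 1) n (i + 1) n hi' hn').hom c = c := by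
      have := T.push_id E M (i + 1) n hi' hn'
      exact congrArg (fun φ => φ.hom c) this
    have hc : (T.pull D.j M (i + 1) n).hom c = 0 := (e1 c).mpr ⟨c, hpush⟩
    rw [← pull_id_apply T E M (i + 1) n c]
    exact hc
  exact ModuleCat.isZero_of_subsingleton _

/-- Negative-degree vanishing for reduced objects, by Noetherian induction on closed subsets. -/
theorem isZero_neg_aux (T : TheoryOn V R A) (Z0 : Obj V) :
    ∀ C : Closeds Z0.scheme, ∀ (Z : Obj V) [IsReduced Z.scheme] (ι : Z.scheme ⟶ Z0.scheme)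
      [IsClosedImmersion ι], Set.range ι = (C : Set Z0.scheme) →
      ∀ (M : A.Cat) (i n : ℤ), i + 1 < 0 → IsZero (T.gp Z M (i + 1) n) := by
  intro C
  induction C using WellFoundedLT.induction with
  | ind C IH =>
  intro Z _ ι _ hrange M i n hi
  by_cases hemp : IsEmpty ↥Z.scheme
  · exact isZero_of_isEmpty T.toPreTheory Z M (i + 1) n
  rw [not_isEmpty_iff] at hemp
  obtain ⟨x, W, hxW, hW, hx⟩ := exists_top_point_obj Z
  have hWne : (W : Set Z.scheme).Nonempty := ⟨x, hxW⟩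
  have hdW : WeilCoh.dim (W : Scheme.{u}) = WeilCoh.dim Z.scheme :=
    dim_open_of_subset_closure Z x hx W hW hWne
  suffices h : ∀ a : T.gp Z M (i + 1) n, a = 0 by
    have : Subsingleton (T.gp Z M (i + 1) n) := ⟨fun a b => by rw [h a, h b]⟩
    exact ModuleCat.isZero_of_subsingleton _
  intro a
  -- the class on the piece of the closure of `x`
  let b : T.gp ((Z.ptSub x).res ((Z.ptSubι x) ⁻¹ᵁ W)) M (i + 1) n :=
    (T.pull (ptOpenHom Z x W hW ≫ Z.resι W hdW) M (i + 1) n).hom a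
  have hne' : ((((Z.ptSubι x) ⁻¹ᵁ W : (Z.ptSub x).scheme.Opens)) :
      Set (Z.ptSub x).scheme).Nonempty := by
    have hx' : x ∈ Set.range (Z.ptSubι x) := by rw [range_ptSubι]; exact subset_closure rfl
    obtain ⟨z, hz⟩ := hx'
    exact ⟨z, by show (Z.ptSubι x) z ∈ W; rw [hz]; exact hxW⟩
  let W' : Idx (Z.ptSub x) (fun U => (U : Set (Z.ptSub x).scheme).Nonempty) :=
    ⟨(Z.ptSubι x) ⁻¹ᵁ W, hne', dim_open_ptSub Z x _ hne'⟩
  have hzero : ((T.ocolimι (Z.ptSub x) (fun U => (U : Set (Z.ptSub x).scheme).Nonempty)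
      (i + 1) n W').app M).hom b = 0 := by
    have : Subsingleton (T.ptGp Z x M (i + 1) n) :=
      ModuleCat.subsingleton_of_isZero (T.pt_vanish Z x M (i + 1) n hi)
    exact Subsingleton.elim _ _
  obtain ⟨W'', hW''le, hb0⟩ := exists_pull_eq_zero T.toPreTheory (Z.ptSub x) _ (i + 1) n M W' b hzero
  -- the corresponding open of `Z`
  have hcl : IsClosed ((Z.ptSubι x) '' ((W''.1 : Set (Z.ptSub x).scheme)ᶜ)) :=
    (Z.ptSubι x).isClosedEmbedding.isClosedMap _ W''.1.isOpen.isClosed_compl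
  let O : Z.scheme.Opens := ⟨((Z.ptSubι x) '' ((W''.1 : Set (Z.ptSub x).scheme)ᶜ))ᶜ,
    hcl.isOpen_compl⟩ ⊓ W
  have hinj : Function.Injective (Z.ptSubι x) := (Z.ptSubι x).isClosedEmbedding.injective
  have hOW : O ≤ W := inf_le_right
  have hO : (O : Set Z.scheme) ⊆ closure {x} := fun y hy => hW (hOW hy)
  have hpre : (Z.ptSubι x) ⁻¹ᵁ O ≤ W''.1 := by
    intro y hy
    by_contra hyW
    exact hy.1 ⟨y, hyW, rfl⟩
  have hpreW : (Z.ptSubι x) ⁻¹ᵁ O ≤ (Z.ptSubι x) ⁻¹ᵁ W := fun y hy => hOW hy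
  obtain ⟨y0, hy0⟩ := W''.2.1
  have hy0O : (Z.ptSubι x) y0 ∈ O := by
    refine ⟨?_, hW''le hy0⟩
    rintro ⟨y', hy', hyy'⟩
    rw [hinj hyy'] at hy'
    exact hy' hy0
  have hOne : (O : Set Z.scheme).Nonempty := ⟨_, hy0O⟩
  have hdO : WeilCoh.dim (O : Scheme.{u}) = WeilCoh.dim Z.scheme :=
    dim_open_of_subset_closure Z x hx O hO hOne
  have hd1 : WeilCoh.dim (O : Scheme.{u}) = WeilCoh.dim (W : Scheme.{u}) := hdO.trans hdW.symm
  have hne'' : ((((Z.ptSubι x) ⁻¹ᵁ O : (Z.ptSub x).scheme.Opens)) :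
      Set (Z.ptSub x).scheme).Nonempty := ⟨y0, hy0O⟩
  have hd2 : WeilCoh.dim ((((Z.ptSubι x) ⁻¹ᵁ O : (Z.ptSub x).scheme.Opens)) : Scheme.{u}) =
      WeilCoh.dim ((((Z.ptSubι x) ⁻¹ᵁ W : (Z.ptSub x).scheme.Opens)) : Scheme.{u}) :=
    (dim_open_ptSub Z x _ hne'').trans (dim_open_ptSub Z x _ hne').symm
  have hd3 : WeilCoh.dim ((((Z.ptSubι x) ⁻¹ᵁ O : (Z.ptSub x).scheme.Opens)) : Scheme.{u}) =
      WeilCoh.dim (W''.1 : Scheme.{u}) :=
    (dim_open_ptSub Z x _ hne'').trans W''.2.2.symm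
  -- morphism identities
  have m1 : Z.resLE hOW hd1 ≫ Z.resι W hdW = Z.resι O hdO := by
    apply BMCoh.Hom.ext
    exact Z.scheme.homOfLE_ι hOW
  have m2 := ptOpenHom_natural Z x hOW hW hd1 hpreW hd2
  have m3 : (Z.ptSub x).resLE hpre hd3 ≫
      (Z.ptSub x).resLE (show W''.1 ≤ W'.1 from hW''le) (W''.2.2.trans W'.2.2.symm) =
      (Z.ptSub x).resLE hpreW hd2 := by
    apply BMCoh.Hom.ext
    exact (Z.ptSub x).scheme.homOfLE_homOfLE hpre (show W''.1 ≤ W'.1 from hW''le)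
  -- the class vanishes on `O`
  have haO : (T.pull (Z.resι O hdO) M (i + 1) n).hom a = 0 := by
    have h1 : (T.pull (ptOpenHom Z x O hO) M (i + 1) n).hom
        ((T.pull (Z.resι O hdO) M (i + 1) n).hom a) = 0 := by
      rw [← pull_comp_apply, ← m1, ← Category.assoc, ← m2, Category.assoc, pull_comp_apply, ← m3,
        pull_comp_apply]
      show (T.pull ((Z.ptSub x).resLE hpre hd3) M (i + 1) n).hom
        ((T.pull ((Z.ptSub x).resLE (show W''.1 ≤ W'.1 from hW''le) _) M (i + 1) n).hom b) = 0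
      rw [hb0, map_zero]
    have h2 := pull_comp_apply T.toPreTheory (ptOpenInv Z x O hO) (ptOpenHom Z x O hO) M (i + 1) n
      ((T.pull (Z.resι O hdO) M (i + 1) n).hom a)
    rw [ptOpenInv_comp, pull_id_apply, h1, map_zero] at h2
    exact h2
  -- Gysin sequence
  let D : Decomp Z := decompOfHom (Z.resι O hdO)
  have hc : 0 ≤ relCodim D.Z.scheme Z.scheme := relCodim_nonneg_of_isClosedImmersion Z D.i
  have e1 := T.exact_push_pull D M i n (i - 2 * relCodim D.Z.scheme Z.scheme + 1)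
    (n - relCodim D.Z.scheme Z.scheme) (by ring) (by ring)
  obtain ⟨b', hb'⟩ := (e1 a).mp haO
  -- induction hypothesis on the closed part
  have hclC' : IsClosed (ι '' ((O : Set Z.scheme)ᶜ)) :=
    ι.isClosedEmbedding.isClosedMap _ O.isOpen.isClosed_compl
  let C' : Closeds Z0.scheme := ⟨ι '' ((O : Set Z.scheme)ᶜ), hclC'⟩
  have hlt : C' < C := by
    rw [SetLike.lt_iff_le_and_exists]
    refine ⟨?_, ι ((Z.ptSubι x) y0), ?_, ?_⟩
    · intro z hz
      obtain ⟨y, _, rfl⟩ := hz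
      show ι y ∈ (C : Set Z0.scheme)
      rw [← hrange]; exact ⟨y, rfl⟩
    · show ι _ ∈ (C : Set Z0.scheme)
      rw [← hrange]; exact ⟨_, rfl⟩
    · rintro ⟨y, hy, hyy⟩
      rw [ι.isClosedEmbedding.injective hyy] at hy
      exact hy hy0O
  have hrange' : Set.range (D.i ≫ ι) = (C' : Set Z0.scheme) := by
    rw [Scheme.Hom.comp_base, TopCat.coe_comp, Set.range_comp, range_decompOfHom_i]
    show ι '' (Set.range (O.ι))ᶜ = ι '' ((O : Set Z.scheme)ᶜ)
    rw [Scheme.Opens.range_ι]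
  have hIH := IH C' hlt D.Z (D.i ≫ ι) hrange' M (i - 2 * relCodim D.Z.scheme Z.scheme)
    (n - relCodim D.Z.scheme Z.scheme) (by linarith)
  have : Subsingleton (T.gp D.Z M (i - 2 * relCodim D.Z.scheme Z.scheme + 1)
      (n - relCodim D.Z.scheme Z.scheme)) := ModuleCat.subsingleton_of_isZero hIH
  rw [← hb', Subsingleton.elim b' 0, map_zero]

/-- Negative-degree vanishing for reduced objects. -/
theorem isZero_neg (T : TheoryOn V R A) (Z : Obj V) [IsReduced Z.scheme] (M : A.Cat) (i n : ℤ)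
    (hi : i < 0) : IsZero (T.gp Z M i n) := by
  obtain ⟨i, rfl⟩ : ∃ i', i = i' + 1 := ⟨i - 1, by ring⟩
  exact isZero_neg_aux T Z ⊤ Z (𝟙 Z.scheme) (by simp) M i n hi

end Groth.Agent.Lib.Helper5.Misc.BMVan
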