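import Mathlib
import Groth.Prelude.Def_BMCoh2
import Groth.Agent.Lib.Helper5.Misc.BMVan

set_option autoImplicit false
universe u
open CategoryTheory CategoryTheory.Limits AlgebraicGeometry Opposite TopologicalSpace
open BMCoh

namespace Groth.Agent.Lib.Helper5.Misc.BMAdd

open Groth.Agent.Lib.Helper5.Misc.BMLib Groth.Agent.Lib.Helper5.Misc.BMColim
open Groth.Agent.Lib.Helper5.Misc.BMGeo Groth.Agent.Lib.Helper5.Misc.BMVan
open Groth.Agent.Lib.Helper5.Misc.WeilGeo

variable {V : ObjectProperty Scheme.{u}} [IsConstructible V] {R : Type u} [CommRing R]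
  {A : Coefs R}

section Lift

/-- An open containing the image of a morphism of objects has full dimension. -/
lemma dim_of_range_subset {Zl Z : Obj V} (g : Zl ⟶ Z) (O' : Z.scheme.Opens)
    (h : Set.range g.hom ⊆ O') :
    WeilCoh.dim (O' : Scheme.{u}) = WeilCoh.dim Z.scheme := by
  apply le_antisymm
  · exact natDim_le_of_le O'.ι.isOpenEmbedding.isEmbedding.isInducing.topologicalKrullDim_le
      (dim_lt_top_obj Z)
  · rw [← g.dim_eq]
    have hr : Set.range g.hom ⊆ Set.range O'.ι := by rw [Scheme.Opens.range_ι]; exact h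
    have : IsOpenImmersion (IsOpenImmersion.lift O'.ι g.hom hr ≫ O'.ι) := by
      rw [IsOpenImmersion.lift_fac]; infer_instance
    have : IsOpenImmersion (IsOpenImmersion.lift O'.ι g.hom hr) :=
      IsOpenImmersion.of_comp _ O'.ι
    exact natDim_le_of_le
      (IsOpenImmersion.lift O'.ι g.hom hr).isOpenEmbedding.isEmbedding.isInducing.topologicalKrullDim_le
      (dim_lt_top_obj (Z.res O'))

/-- A morphism of objects landing in an open, as a morphism into the open. -/
noncomputable def liftRes {Zk Z : Obj V} (g : Zk ⟶ Z) (O' : Z.scheme.Opens)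
    (h : Set.range g.hom ⊆ O') : Zk ⟶ Z.res O' :=
  ⟨IsOpenImmersion.lift O'.ι g.hom (by rw [Scheme.Opens.range_ι]; exact h),
    by
      have hr : Set.range g.hom ⊆ Set.range O'.ι := by rw [Scheme.Opens.range_ι]; exact h
      have : IsOpenImmersion (IsOpenImmersion.lift O'.ι g.hom hr ≫ O'.ι) := by
        rw [IsOpenImmersion.lift_fac]; infer_instance
      exact IsOpenImmersion.of_comp _ O'.ι,
    g.dim_eq.trans (dim_of_range_subset g O' h).symm⟩

lemma liftRes_hom_ι {Zk Z : Obj V} (g : Zk ⟶ Z) (O' : Z.scheme.Opens)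
    (h : Set.range g.hom ⊆ O') : (liftRes g O' h).hom ≫ O'.ι = g.hom :=
  IsOpenImmersion.lift_fac _ _ _

lemma liftRes_comp {Zk Z : Obj V} (g : Zk ⟶ Z) (O' : Z.scheme.Opens)
    (h : Set.range g.hom ⊆ O') :
    liftRes g O' h ≫ Z.resι O' (dim_of_range_subset g O' h) = g :=
  BMCoh.Hom.ext (liftRes_hom_ι g O' h)

lemma liftRes_apply {Zk Z : Obj V} (g : Zk ⟶ Z) (O' : Z.scheme.Opens)
    (h : Set.range g.hom ⊆ O') (a : Zk.scheme) :
    O'.ι ((liftRes g O' h).hom a) = g.hom a := by
  have := congrArg (fun f => f.base a) (liftRes_hom_ι g O' h)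
  exact this

instance isClosedImmersion_liftRes {Zk Z : Obj V} (g : Zk ⟶ Z) [IsClosedImmersion g.hom]
    (O' : Z.scheme.Opens) (h : Set.range g.hom ⊆ O') :
    IsClosedImmersion (liftRes g O' h).hom := by
  have : IsClosedImmersion ((liftRes g O' h).hom ≫ O'.ι) := by
    rw [liftRes_hom_ι]; infer_instance
  exact IsClosedImmersion.of_comp (liftRes g O' h).hom O'.ι

/-- The open complement of the image of a closed immersion. -/
def complOf {Zk Z : Obj V} (g : Zk ⟶ Z) [IsClosedImmersion g.hom] : Z.scheme.Opens :=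
  ⟨(Set.range g.hom)ᶜ, g.hom.isClosedEmbedding.isClosed_range.isOpen_compl⟩

end Lift

section Inj

variable (T : PreTheory V R A)

omit [IsConstructible V] in
/-- Restriction along a surjective morphism of objects is injective. -/
lemma pull_injective_of_surjective {Z0 Z : Obj V} (g : Z0 ⟶ Z)
    (hs : Function.Surjective g.hom) (M : A.Cat) (i n : ℤ) :
    Function.Injective (T.pull g M i n).hom := by
  have : IsIso g.hom :=
    (isIso_iff_isOpenImmersion_and_surjective g.hom).mpr ⟨inferInstance, ⟨hs⟩⟩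
  let ginv : Z ⟶ Z0 := ⟨inv g.hom, inferInstance, g.dim_eq.symm⟩
  have hcomp : ginv ≫ g = 𝟙 Z := BMCoh.Hom.ext (IsIso.inv_hom_id g.hom)
  intro a b hab
  have h1 := pull_comp_apply T ginv g M i n a
  have h2 := pull_comp_apply T ginv g M i n b
  rw [hcomp, pull_id_apply] at h1 h2
  rw [h1, h2, hab]

/-- Joint injectivity of the restrictions to finitely many pairwise disjoint clopen pieces
covering an object. -/
theorem joint_injective (r : ℕ) : ∀ (Z : Obj V) (Zk : Fin (r + 1) → Obj V) (g : ∀ k, Zk k ⟶ Z)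
    (_ : ∀ k, IsClosedImmersion (g k).hom)
    (_ : ∀ k l, k ≠ l → ∀ a b, (g k).hom a ≠ (g l).hom b)
    (_ : ∀ z : Z.scheme, ∃ k, z ∈ Set.range (g k).hom)
    (M : A.Cat) (i n : ℤ) (b : T.gp Z M i n) (_ : ∀ k, (T.pull (g k) M i n).hom b = 0), b = 0 := by
  induction r with
  | zero =>
    intro Z Zk g hcl hdisj hcov M i n b hb
    have hs : Function.Surjective (g 0).hom := by
      intro z
      obtain ⟨k, hk⟩ := hcov z
      have hk0 : k = 0 := Subsingleton.elim _ _
      subst hk0
      exact hk
    apply pull_injective_of_surjective T (g 0) hs M i n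
    rw [hb 0, map_zero]
  | succ r IH =>
    intro Z Zk g hcl hdisj hcov M i n b hb
    have := hcl 0
    have hsub : ∀ l : Fin (r + 1), Set.range (g l.succ).hom ⊆ complOf (g 0) := by
      rintro l _ ⟨a, rfl⟩ ⟨c, hc⟩
      exact hdisj 0 l.succ (Fin.succ_ne_zero l).symm c a hc
    have hd := dim_of_range_subset (g (Fin.succ 0)) (complOf (g 0)) (hsub 0)
    have hrange : Set.range (Z.resι (complOf (g 0)) hd).hom = (Set.range (g 0).hom)ᶜ := by
      show Set.range (complOf (g 0)).ι = _
      rw [Scheme.Opens.range_ι]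
      rfl
    have hb' : (T.pull (Z.resι (complOf (g 0)) hd) M i n).hom b = 0 := by
      apply IH (Z.res (complOf (g 0))) (fun l => Zk l.succ)
        (fun l => liftRes (g l.succ) (complOf (g 0)) (hsub l))
      · intro l
        have := hcl l.succ
        infer_instance
      · intro k l hkl a c hac
        have h1 := liftRes_apply (g k.succ) (complOf (g 0)) (hsub k) a
        have h2 := liftRes_apply (g l.succ) (complOf (g 0)) (hsub l) c
        rw [hac] at h1
        exact hdisj k.succ l.succ (fun h => hkl (Fin.succ_injective _ h)) a c (h1.symm.trans h2)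
      · intro z
        obtain ⟨k, a, hka⟩ := hcov ((complOf (g 0)).ι z)
        have hk0 : k ≠ 0 := by
          rintro rfl
          have hz : (complOf (g 0)).ι z ∈ (complOf (g 0) : Set Z.scheme) := by
            have := Set.mem_range_self (f := (complOf (g 0)).ι) z
            rwa [Scheme.Opens.range_ι] at this
          exact hz ⟨a, hka⟩
        obtain ⟨l, rfl⟩ := Fin.exists_succ_eq.mpr hk0
        refine ⟨l, a, ?_⟩
        apply (complOf (g 0)).ι.isOpenEmbedding.injective
        rw [liftRes_apply]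
        exact hka
      · intro l
        rw [← pull_comp_apply]
        have hcomp : liftRes (g l.succ) (complOf (g 0)) (hsub l) ≫ Z.resι (complOf (g 0)) hd =
            g l.succ := BMCoh.Hom.ext (liftRes_hom_ι _ _ _)
        rw [hcomp]
        exact hb l.succ
    have hinj := (pull_prod_bijective T (Z.resι (complOf (g 0)) hd) (g 0) hrange M i n).1
    apply hinj
    show ((T.pull (Z.resι (complOf (g 0)) hd) M i n).hom b, (T.pull (g 0) M i n).hom b) =
      ((T.pull (Z.resι (complOf (g 0)) hd) M i n).hom 0, (T.pull (g 0) M i n).hom 0)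
    rw [hb', hb 0, map_zero, map_zero]

/-- Restriction to one piece of the push-forward from a disjoint clopen piece vanishes. -/
lemma pull_push_of_disjoint {Zk Zl Z : Obj V} (gk : Zk ⟶ Z) (gl : Zl ⟶ Z)
    [IsClosedImmersion gk.hom] (hdisj : ∀ a b, gk.hom a ≠ gl.hom b) (M : A.Cat) (i n : ℤ)
    (hi : i = i + 2 * relCodim Zk.scheme Z.scheme) (hn : n = n + relCodim Zk.scheme Z.scheme)
    (c : T.gp Zk M i n) :
    (T.pull gl M i n).hom ((T.push gk.hom M i n i n hi hn).hom c) = 0 := by
  have hsub : Set.range gl.hom ⊆ complOf gk := by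
    rintro _ ⟨b, rfl⟩ ⟨a, ha⟩
    exact hdisj a b ha
  have hd := dim_of_range_subset gl (complOf gk) hsub
  have hrange : Set.range (Z.resι (complOf gk) hd).hom = (Set.range gk.hom)ᶜ := by
    show Set.range (complOf gk).ι = _
    rw [Scheme.Opens.range_ι]
    rfl
  obtain ⟨i0, rfl⟩ : ∃ i0, i = i0 + 1 := ⟨i - 1, by ring⟩
  have hex := T.exact_push_pull (decompOfCompl (Z.resι (complOf gk) hd) gk hrange) M i0 n
    (i0 + 1) n hi hn
  have h0 : (T.pull (Z.resι (complOf gk) hd) M (i0 + 1) n).hom
      ((T.push gk.hom M (i0 + 1) n (i0 + 1) n hi hn).hom c) = 0 := hex.apply_apply_eq_zero c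
  have hcomp : liftRes gl (complOf gk) hsub ≫ Z.resι (complOf gk) hd = gl :=
    BMCoh.Hom.ext (liftRes_hom_ι _ _ _)
  rw [← hcomp, pull_comp_apply, h0, map_zero]

/-- Additivity: a class on an object covered by finitely many pairwise disjoint clopen pieces is
the sum of the push-forwards of its restrictions to the pieces. -/
theorem sum_push_pull (r : ℕ) (Z : Obj V) (Zk : Fin (r + 1) → Obj V) (g : ∀ k, Zk k ⟶ Z)
    [hcl : ∀ k, IsClosedImmersion (g k).hom]
    (hdisj : ∀ k l, k ≠ l → ∀ a b, (g k).hom a ≠ (g l).hom b)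
    (hcov : ∀ z : Z.scheme, ∃ k, z ∈ Set.range (g k).hom)
    (M : A.Cat) (i n : ℤ) (hi : ∀ k, i = i + 2 * relCodim (Zk k).scheme Z.scheme)
    (hn : ∀ k, n = n + relCodim (Zk k).scheme Z.scheme) (b : T.gp Z M i n) :
    b = ∑ k, (T.push (g k).hom M i n i n (hi k) (hn k)).hom ((T.pull (g k) M i n).hom b) := by
  rw [← sub_eq_zero]
  apply joint_injective T r Z Zk g hcl hdisj hcov M i n
  intro l
  rw [map_sub, map_sum, sub_eq_zero]
  rw [Finset.sum_eq_single l]
  · exact (congrArg (fun φ => φ.hom ((T.pull (g l) M i n).hom b))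
      (push_pull_self T (g l) M i n (hi l) (hn l))).symm
  · intro k _ hkl
    exact pull_push_of_disjoint T (g k) (g l) (hdisj k l hkl) M i n (hi k) (hn k) _
  · intro h
    exact absurd (Finset.mem_univ l) h

end Inj

end Groth.Agent.Lib.Helper5.Misc.BMAdd
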