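import Mathlib
import Groth.Prelude.Def_BMCoh2
import Groth.Agent.Lib.Helper5.Misc.BMVan

set_option autoImplicit false
universe u
open CategoryTheory CategoryTheory.Limits AlgebraicGeometry Opposite TopologicalSpace
open BMCoh

namespace Groth.Agent.Lib.Helper5.Misc.BMBij

open Groth.Agent.Lib.Helper5.Misc.BMLib Groth.Agent.Lib.Helper5.Misc.BMColim
open Groth.Agent.Lib.Helper5.Misc.BMGeo Groth.Agent.Lib.Helper5.Misc.BMVan
open Groth.Agent.Lib.Helper5.Misc.WeilGeo

variable {V : ObjectProperty Scheme.{u}} [IsConstructible V] {R : Type u} [CommRing R]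
  {A : Coefs R}

/-- Restriction along a morphism of objects is bijective in low degrees when the closed
complement has large codimension (or is empty). -/
theorem pull_bijective_of_codim (T : TheoryOn V R A) {U X : Obj V} (f : U ⟶ X) (M : A.Cat)
    (d n : ℤ)
    (h : IsEmpty ↥(decompOfHom f).Z.scheme ∨ d + 1 < 2 * (decompOfHom f).codim) :
    Function.Bijective (T.pull f M d n).hom := by
  obtain ⟨d, rfl⟩ : ∃ d', d = d' + 1 := ⟨d - 1, by ring⟩
  let D : Decomp X := decompOfHom f
  have hZ : ∀ k m : ℤ, k ≤ d + 2 - 2 * D.codim → IsZero (T.gp D.Z M k m) := by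
    intro k m hk
    rcases h with h | h
    · exact isZero_of_isEmpty T.toPreTheory D.Z M k m
    · exact isZero_neg T D.Z M k m (by
        have h' : d + 1 + 1 < 2 * D.codim := h
        linarith)
  have e1 := T.exact_push_pull D M d n (d + 1 - 2 * D.codim) (n - D.codim)
    (by show d + 1 = d + 1 - 2 * D.codim + 2 * D.codim; ring)
    (by show n = n - D.codim + D.codim; ring)
  have e2 := T.exact_pull_res D M (d + 1) n (d + 1 + 1 - 2 * D.codim) (n - D.codim) rfl rfl
  constructor
  · rw [injective_iff_map_eq_zero]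
    intro a ha
    obtain ⟨b, hb⟩ := (e1 a).mp ha
    have : Subsingleton (T.gp D.Z M (d + 1 - 2 * D.codim) (n - D.codim)) :=
      ModuleCat.subsingleton_of_isZero (hZ _ _ (by linarith))
    rw [← hb, Subsingleton.elim b 0, map_zero]
  · intro y
    have : Subsingleton (T.gp D.Z M (d + 1 + 1 - 2 * D.codim) (n - D.codim)) :=
      ModuleCat.subsingleton_of_isZero (hZ _ _ (by linarith))
    exact (e2 y).mp (Subsingleton.elim _ _)

/-- Codimension of the closed complement from a pointwise bound. -/
lemma codim_decompOfHom_ge {U X : Obj V} (f : U ⟶ X) (m : ℕ)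
    (h : ∀ x : X.scheme, x ∉ Set.range f.hom → m ≤ WeilCoh.codim X.scheme x) :
    IsEmpty ↥(decompOfHom f).Z.scheme ∨ (m : ℤ) ≤ (decompOfHom f).codim := by
  by_cases hemp : IsEmpty ↥(decompOfHom f).Z.scheme
  · exact Or.inl hemp
  right
  rw [not_isEmpty_iff] at hemp
  obtain ⟨z, -, -, -, hz⟩ := exists_top_point_obj (decompOfHom f).Z
  have h1 : WeilCoh.pdim X.scheme ((decompOfHom f).i z) = WeilCoh.pdim (decompOfHom f).Z.scheme z :=
    pdim_closedEmbedding (decompOfHom f).i (decompOfHom f).i.isClosedEmbedding z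
  have h2 : (decompOfHom f).i z ∉ Set.range f.hom := by
    have : (decompOfHom f).i z ∈ Set.range (decompOfHom f).i := ⟨z, rfl⟩
    rw [range_decompOfHom_i] at this
    exact this
  have h3 := h _ h2
  have h4 := dim_le_of_isClosedImmersion X (decompOfHom f).i
  unfold WeilCoh.codim at h3
  rw [h1, hz] at h3
  show (m : ℤ) ≤ relCodim (decompOfHom f).Z.scheme X.scheme
  unfold relCodim
  omega

end Groth.Agent.Lib.Helper5.Misc.BMBij
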