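import Mathlib
import Groth.Prelude.Def_BMCoh2
import Groth.Agent.Lib.Helper5.Misc.BMBij

set_option autoImplicit false
universe u
open CategoryTheory CategoryTheory.Limits AlgebraicGeometry Opposite TopologicalSpace
open BMCoh

namespace Groth.Agent.Lib.Helper5.Misc.BMFj

open Groth.Agent.Lib.Helper5.Misc.BMLib Groth.Agent.Lib.Helper5.Misc.BMColim
open Groth.Agent.Lib.Helper5.Misc.BMGeo Groth.Agent.Lib.Helper5.Misc.BMVan
open Groth.Agent.Lib.Helper5.Misc.BMBij Groth.Agent.Lib.Helper5.Misc.WeilGeo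

variable {V : ObjectProperty Scheme.{u}} [IsConstructible V] {R : Type u} [CommRing R]
  {A : Coefs R}

lemma natDim_of_isEmpty (T : Type u) [TopologicalSpace T] [IsEmpty T] : WeilCoh.natDim T = 0 := by
  unfold WeilCoh.natDim topologicalKrullDim
  have : IsEmpty (IrreducibleCloseds T) :=
    ⟨fun Z => (Z.isIrreducible.nonempty).elim fun x _ => isEmptyElim x⟩
  rw [Order.krullDim_eq_bot]
  rfl

/-- An open containing the points of codimension zero has the dimension of the whole object. -/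
lemma dim_of_containsFj (X : Obj V) (j : ℕ) (U : X.scheme.Opens) (hU : ContainsFj X j U) :
    WeilCoh.dim (U : Scheme.{u}) = WeilCoh.dim X.scheme := by
  by_cases hemp : IsEmpty ↥X.scheme
  · have : IsEmpty ↥(U : Scheme.{u}) := ⟨fun y => hemp.elim y.1⟩
    unfold WeilCoh.dim
    rw [natDim_of_isEmpty, natDim_of_isEmpty]
  rw [not_isEmpty_iff] at hemp
  obtain ⟨x, W, hxW, hW, hx⟩ := exists_top_point_obj X
  have hxU : x ∈ U := hU x (by unfold WeilCoh.codim; rw [hx]; simp)
  apply le_antisymm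
  · exact natDim_le_of_le U.ι.isOpenEmbedding.isEmbedding.isInducing.topologicalKrullDim_le
      (dim_lt_top_obj X)
  · have hne : ((((X.ptSubι x) ⁻¹ᵁ U : (X.ptSub x).scheme.Opens)) :
        Set (X.ptSub x).scheme).Nonempty := by
      have hx' : x ∈ Set.range (X.ptSubι x) := by rw [range_ptSubι]; exact subset_closure rfl
      obtain ⟨z, hz⟩ := hx'
      exact ⟨z, by show (X.ptSubι x) z ∈ U; rw [hz]; exact hxU⟩
    rw [← hx, ← dim_ptSub, ← dim_open_ptSub X x _ hne]
    have : IsClosedImmersion ((X.ptSubι x) ∣_ U) :=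
      AlgebraicGeometry.IsZariskiLocalAtTarget.restrict (P := @IsClosedImmersion) inferInstance U
    exact dim_le_of_isClosedImmersion (X.res U) ((X.ptSubι x) ∣_ U)

/-- The index family of the groups of `F_jX` is cofiltered. -/
instance isFiltered_fjIdx (X : Obj V) (j : ℕ) : IsFiltered (Idx X (ContainsFj X j))ᵒᵖ := by
  have : Nonempty (Idx X (ContainsFj X j)) := ⟨⟨⊤, fun _ _ => trivial, dim_top _⟩⟩
  have : IsDirected (Idx X (ContainsFj X j)) (· ≥ ·) := by
    refine ⟨fun U₁ U₂ => ?_⟩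
    have hc : ContainsFj X j (U₁.1 ⊓ U₂.1) := fun y hy => ⟨U₁.2.1 y hy, U₂.2.1 y hy⟩
    exact ⟨⟨U₁.1 ⊓ U₂.1, hc, dim_of_containsFj X j _ hc⟩,
      (show U₁.1 ⊓ U₂.1 ≤ U₁.1 from inf_le_left), (show U₁.1 ⊓ U₂.1 ≤ U₂.1 from inf_le_right)⟩
  infer_instance

/-- Restriction to an open containing `F_jX` is bijective in degrees `≤ 2j`. -/
lemma pull_resι_bijective (T : TheoryOn V R A) (X : Obj V) (M : A.Cat) (j : ℕ) (i n : ℤ)
    (hj : i ≤ 2 * (j : ℤ)) (U : Idx X (ContainsFj X j)) :
    Function.Bijective (T.pull (X.resι U.1 U.2.2) M i n).hom := by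
  apply pull_bijective_of_codim
  have hcod : ∀ x : X.scheme, x ∉ Set.range (X.resι U.1 U.2.2).hom →
      j + 1 ≤ WeilCoh.codim X.scheme x := by
    intro x hx
    by_contra hlt
    apply hx
    have hxU : x ∈ U.1 := U.2.1 x (by omega)
    show x ∈ Set.range U.1.ι
    rw [Scheme.Opens.range_ι]
    exact hxU
  rcases codim_decompOfHom_ge (X.resι U.1 U.2.2) (j + 1) hcod with h | h
  · exact Or.inl h
  · right
    have h' : ((j : ℤ) + 1) ≤ (decompOfHom (X.resι U.1 U.2.2)).codim := by exact_mod_cast h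
    linarith

/-- The canonical map to the groups of `F_jX` factors through any stage. -/
lemma toFj_apply (T : PreTheory V R A) (X : Obj V) (M : A.Cat) (j : ℕ) (i n : ℤ)
    (U : Idx X (ContainsFj X j)) (a : T.gp X M i n) :
    ((T.toFj X j i n).app M).hom a =
      ((T.ocolimι X (ContainsFj X j) i n U).app M).hom
        ((T.pull (X.resι U.1 U.2.2) M i n).hom a) := by
  let Utop : Idx X (ContainsFj X j) := ⟨⊤, fun _ _ => trivial, dim_top X.scheme⟩
  have hle : U ≤ Utop := (show U.1 ≤ ⊤ from le_top)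
  have hfac : X.resι U.1 U.2.2 =
      X.resLE (show U.1 ≤ Utop.1 from hle) (U.2.2.trans Utop.2.2.symm) ≫ X.resTop := by
    apply BMCoh.Hom.ext
    exact (X.scheme.homOfLE_ι (show U.1 ≤ ⊤ from le_top)).symm
  rw [hfac, pull_comp_apply, ocolimι_pull T X (ContainsFj X j) i n M hle]
  rfl

/-- `H^i(X) → H^i(F_jX)` is bijective for `i ≤ 2j`. -/
theorem toFj_bijective (T : TheoryOn V R A) (X : Obj V) (M : A.Cat) (j : ℕ) (i n : ℤ)
    (hj : i ≤ 2 * (j : ℤ)) : Function.Bijective ((T.toFj X j i n).app M).hom := by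
  constructor
  · rw [injective_iff_map_eq_zero]
    intro a ha
    let Utop : Idx X (ContainsFj X j) := ⟨⊤, fun _ _ => trivial, dim_top X.scheme⟩
    rw [toFj_apply T.toPreTheory X M j i n Utop] at ha
    obtain ⟨U', hU', h0⟩ := exists_pull_eq_zero T.toPreTheory X (ContainsFj X j) i n M Utop _ ha
    have hfac : X.resι U'.1 U'.2.2 =
        X.resLE (show U'.1 ≤ Utop.1 from hU') (U'.2.2.trans Utop.2.2.symm) ≫
          X.resι Utop.1 Utop.2.2 := by
      apply BMCoh.Hom.ext
      exact (X.scheme.homOfLE_ι (show U'.1 ≤ ⊤ from le_top)).symm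
    rw [← pull_comp_apply, ← hfac] at h0
    exact (injective_iff_map_eq_zero _).mp (pull_resι_bijective T X M j i n hj U').1 a h0
  · intro z
    obtain ⟨U, b, hb⟩ := exists_rep T.toPreTheory X (ContainsFj X j) i n M z
    obtain ⟨a, ha⟩ := (pull_resι_bijective T X M j i n hj U).2 b
    refine ⟨a, ?_⟩
    rw [toFj_apply T.toPreTheory X M j i n U, ha, hb]

end Groth.Agent.Lib.Helper5.Misc.BMFj
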