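import Mathlib
import Groth.Prelude.Def_BMCoh2
import Groth.Agent.Lib.Helper5.Misc.BMGeo

set_option autoImplicit false
universe u
open CategoryTheory CategoryTheory.Limits AlgebraicGeometry Opposite TopologicalSpace
open BMCoh

namespace Groth.Agent.Lib.Helper5.Misc.BMGeo2

open Groth.Agent.Lib.Helper5.Misc.WeilGeo Groth.Agent.Lib.Helper5.Misc.WeilGen
open Groth.Agent.Lib.Helper5.Misc.BMGeo

section Topology

/-- Strict inequality of finite nonnegative dimensions passes to `natDim`. -/
lemma natDim_lt_of_lt {S T : Type u} [TopologicalSpace S] [TopologicalSpace T] [Nonempty S]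
    (h : topologicalKrullDim S < topologicalKrullDim T) (hT : topologicalKrullDim T < ⊤) :
    WeilCoh.natDim S < WeilCoh.natDim T := by
  have h0 : (0 : WithBot ℕ∞) ≤ topologicalKrullDim S := by
    obtain ⟨s⟩ := ‹Nonempty S›
    have : Nonempty (IrreducibleCloseds S) :=
      ⟨⟨closure {s}, isIrreducible_singleton.closure, isClosed_closure⟩⟩
    exact Order.krullDim_nonneg
  unfold WeilCoh.natDim
  generalize topologicalKrullDim S = a at h h0
  generalize topologicalKrullDim T = b at h hT
  induction a using WithBot.recBotCoe with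
  | bot => exact absurd h0 (by simp)
  | coe a =>
    induction b using WithBot.recBotCoe with
    | bot => exact absurd h (by simp)
    | coe b =>
      have hb : b ≠ ⊤ := by
        intro hb; rw [hb] at hT; exact lt_irrefl _ hT
      have hab : a < b := by exact_mod_cast h
      have ha : a ≠ ⊤ := (lt_of_lt_of_le hab le_top).ne
      show (a : ℕ∞).toNat < (b : ℕ∞).toNat
      obtain ⟨a', rfl⟩ := ENat.ne_top_iff_exists.mp ha
      obtain ⟨b', rfl⟩ := ENat.ne_top_iff_exists.mp hb
      rw [ENat.toNat_natCast, ENat.toNat_natCast]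
      exact_mod_cast hab

/-- Around a point whose closure is maximal among the irreducible closed subsets of a closed set
`C`, there is an open set meeting `C` only inside that closure. -/
lemma exists_open_of_maximal (X : Type u) [TopologicalSpace X] [NoetherianSpace X] (C : Closeds X)
    (x : X)
    (hmax : ∀ t : Set X, IsIrreducible t → IsClosed t → t ⊆ C → closure {x} ⊆ t →
      t ⊆ closure {x}) :
    ∃ G : Opens X, x ∈ G ∧ (G : Set X) ∩ C ⊆ closure {x} := by
  classical
  obtain ⟨S, hS, hCS⟩ := NoetherianSpace.exists_finset_irreducible C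
  let S' : Finset (Closeds X) := S.filter (fun t => ¬ closure ({x} : Set X) ⊆ t)
  have hcl : IsClosed (⋃ t ∈ S', (t : Set X)) :=
    S'.finite_toSet.isClosed_biUnion fun t _ => t.isClosed
  refine ⟨⟨(⋃ t ∈ S', (t : Set X))ᶜ, hcl.isOpen_compl⟩, ?_, ?_⟩
  · intro hx
    simp only [Set.mem_iUnion] at hx
    obtain ⟨t, ht, hxt⟩ := hx
    have ht' := (Finset.mem_filter.mp ht).2
    exact ht' (t.isClosed.closure_subset_iff.mpr (Set.singleton_subset_iff.mpr hxt))
  · rintro y ⟨hyG, hyC⟩
    have hyC' : y ∈ ((S.sup id : Closeds X) : Set X) := by rw [← hCS]; exact hyC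
    rw [Closeds.coe_finset_sup, Finset.sup_set_eq_biUnion] at hyC'
    simp only [Set.mem_iUnion] at hyC'
    obtain ⟨t, ht, hyt⟩ := hyC'
    by_cases hsub : closure ({x} : Set X) ⊆ t
    · have htC : (t : Set X) ⊆ C := by
        intro z hz
        have : z ∈ ((S.sup id : Closeds X) : Set X) := by
          rw [Closeds.coe_finset_sup, Finset.sup_set_eq_biUnion]
          simp only [Set.mem_iUnion]
          exact ⟨t, ht, hz⟩
        rw [← hCS] at this; exact this
      exact hmax t (hS ⟨t, ht⟩) t.isClosed htC hsub hyt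
    · exfalso
      apply hyG
      simp only [Set.mem_iUnion]
      exact ⟨t, Finset.mem_filter.mpr ⟨ht, hsub⟩, hyt⟩

end Topology

section ObjLevel

variable {V : ObjectProperty Scheme.{u}} [IsConstructible V]

/-- If every point outside the open `O` has closure of dimension at most that of `x ∉ O`, there is
a larger open containing `x` whose new points all lie in the closure of `x`. -/
lemma exists_step_open (X : Obj V) (O : X.scheme.Opens) (x : X.scheme)
    (hdim : ∀ y : X.scheme, y ∉ O → WeilCoh.pdim X.scheme y ≤ WeilCoh.pdim X.scheme x) :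
    ∃ O1 : X.scheme.Opens, O ≤ O1 ∧ x ∈ O1 ∧ ∀ y ∈ O1, y ∉ O → y ∈ closure ({x} : Set X.scheme) := by
  let C : Closeds X.scheme := ⟨(O : Set X.scheme)ᶜ, O.isOpen.isClosed_compl⟩
  have hmax : ∀ t : Set X.scheme, IsIrreducible t → IsClosed t → t ⊆ C →
      closure {x} ⊆ t → t ⊆ closure {x} := by
    intro t ht htc htC hxt
    by_contra hne
    obtain ⟨y, hy⟩ := QuasiSober.sober ht htc
    have hyt : y ∈ t := by rw [← hy.def]; exact subset_closure rfl
    have hyO : y ∉ O := htC hyt
    have h1 := hdim y hyO
    have hne' : closure ({x} : Set X.scheme) ≠ t := fun h => hne (h ▸ subset_rfl)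
    have hfin : topologicalKrullDim ↥t < ⊤ :=
      lt_of_le_of_lt (topologicalKrullDim_subspace_le _ _) (dim_lt_top_obj X)
    have hlt := Groth.Agent.Helper8.topDim_lt_of_ssubset (isClosed_closure (s := {x})) ht hxt hne' hfin
    have : Nonempty ↥(closure ({x} : Set X.scheme)) := ⟨⟨x, subset_closure rfl⟩⟩
    have h2 := natDim_lt_of_lt hlt hfin
    have h3 : WeilCoh.pdim X.scheme y = WeilCoh.natDim ↥t := by
      unfold WeilCoh.pdim
      exact natDim_congr hy.def
    unfold WeilCoh.pdim at h1 h3
    omega
  obtain ⟨G, hxG, hG⟩ := exists_open_of_maximal ↥X.scheme C x hmax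
  refine ⟨O ⊔ G, le_sup_left, Or.inr hxG, ?_⟩
  rintro y (hy | hy) hyO
  · exact absurd hy hyO
  · exact hG ⟨hy, hyO⟩

end ObjLevel

end Groth.Agent.Lib.Helper5.Misc.BMGeo2
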