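import Mathlib
import Groth.Prelude.Def_BMCoh2
import Groth.Agent.Lib.Helper5.Misc.BMBij
import Groth.Agent.Lib.Helper5.Misc.BMGeo2

set_option autoImplicit false
universe u
open CategoryTheory CategoryTheory.Limits AlgebraicGeometry Opposite TopologicalSpace
open BMCoh

namespace Groth.Agent.Lib.Helper5.Misc.BMStep

open Groth.Agent.Lib.Helper5.Misc.BMLib Groth.Agent.Lib.Helper5.Misc.BMColim
open Groth.Agent.Lib.Helper5.Misc.BMGeo Groth.Agent.Lib.Helper5.Misc.BMVan
open Groth.Agent.Lib.Helper5.Misc.BMBij Groth.Agent.Lib.Helper5.Misc.WeilGeo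
open Groth.Agent.Lib.Helper5.Misc.BMGeo2

variable {V : ObjectProperty Scheme.{u}} [IsConstructible V] {R : Type u} [CommRing R]
  {A : Coefs R}

/-- An open squeezed between a full-dimensional open and the whole object is full-dimensional. -/
lemma dim_eq_of_le (X : Obj V) {O O2 : X.scheme.Opens} (hle : O ≤ O2)
    (hO : WeilCoh.dim (O : Scheme.{u}) = WeilCoh.dim X.scheme) :
    WeilCoh.dim (O2 : Scheme.{u}) = WeilCoh.dim X.scheme := by
  apply le_antisymm
  · exact natDim_le_of_le O2.ι.isOpenEmbedding.isEmbedding.isInducing.topologicalKrullDim_le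
      (dim_lt_top_obj X)
  · rw [← hO]
    exact natDim_le_of_le
      (X.scheme.homOfLE hle).isOpenEmbedding.isEmbedding.isInducing.topologicalKrullDim_le
      (dim_lt_top_obj (X.res O2))

/-- The geometric situation of one step: `O ≤ O1` full-dimensional opens of `X` whose difference
is nonempty and lies in the closure of the point `x ∉ O`. -/
structure StepData (X : Obj V) (x : X.scheme) (O O1 : X.scheme.Opens) : Prop where
  hO : WeilCoh.dim (O : Scheme.{u}) = WeilCoh.dim X.scheme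
  le : O ≤ O1
  hx : x ∉ O
  ne : ∃ y ∈ O1, y ∉ O
  sub : ∀ y ∈ O1, y ∉ O → y ∈ closure ({x} : Set X.scheme)

namespace StepData

variable {X : Obj V} {x : X.scheme} {O O1 : X.scheme.Opens}

lemma hO1 (h : StepData X x O O1) : WeilCoh.dim (O1 : Scheme.{u}) = WeilCoh.dim X.scheme :=
  dim_eq_of_le X h.le h.hO

omit [IsConstructible V] in
lemma disjoint (h : StepData X x O O1) {y : X.scheme} (hy : y ∈ closure ({x} : Set X.scheme)) :
    y ∉ O := by
  intro hyO
  obtain ⟨z, hzO, hz⟩ := mem_closure_iff.mp hy O O.isOpen hyO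
  rw [Set.mem_singleton_iff] at hz
  exact h.hx (hz ▸ hzO)

lemma nonempty_pre (h : StepData X x O O1) :
    ((((X.ptSubι x) ⁻¹ᵁ O1 : (X.ptSub x).scheme.Opens)) : Set (X.ptSub x).scheme).Nonempty := by
  obtain ⟨y, hy1, hy⟩ := h.ne
  have hy' : y ∈ Set.range (X.ptSubι x) := by rw [range_ptSubι]; exact h.sub y hy1 hy
  obtain ⟨z, rfl⟩ := hy'
  exact ⟨z, hy1⟩

lemma dim_pre (h : StepData X x O O1) :
    WeilCoh.dim ((((X.ptSubι x) ⁻¹ᵁ O1 : (X.ptSub x).scheme.Opens)) : Scheme.{u}) =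
      WeilCoh.pdim X.scheme x := by
  rw [dim_open_ptSub X x _ h.nonempty_pre, dim_ptSub]

instance isClosedImmersion_restrict (X : Obj V) (x : X.scheme) (O1 : X.scheme.Opens) :
    IsClosedImmersion ((X.ptSubι x) ∣_ O1) :=
  AlgebraicGeometry.IsZariskiLocalAtTarget.restrict (P := @IsClosedImmersion) inferInstance O1

/-- The decomposition of `O1` into `O` and the piece of the closure of `x`. -/
noncomputable def decomp (h : StepData X x O O1) : Decomp (X.res O1) where
  Z := (X.ptSub x).res ((X.ptSubι x) ⁻¹ᵁ O1)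
  U := X.res O
  i := (X.ptSubι x) ∣_ O1
  closedImm := inferInstance
  j := X.resLE h.le (h.hO.trans h.hO1.symm)
  range_eq := by
    ext y
    have h1 : y ∈ Set.range (X.scheme.homOfLE h.le) ↔ y.1 ∈ O := by
      constructor
      · rintro ⟨z, rfl⟩
        rw [Scheme.homOfLE_apply]; exact z.2
      · intro hy
        exact ⟨⟨y.1, hy⟩, Subtype.ext (Scheme.homOfLE_apply _ _)⟩
    have h2 : y ∈ Set.range ((X.ptSubι x) ∣_ O1) ↔ y.1 ∈ closure ({x} : Set X.scheme) := by
      constructor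
      · rintro ⟨z, rfl⟩
        rw [morphismRestrict_base_coe, ← range_ptSubι]
        exact ⟨_, rfl⟩
      · intro hy
        rw [← range_ptSubι] at hy
        obtain ⟨w, hw⟩ := hy
        refine ⟨⟨w, ?_⟩, ?_⟩
        · show (X.ptSubι x) w ∈ O1
          rw [hw]; exact y.2
        · apply Subtype.ext
          rw [morphismRestrict_base_coe]
          exact hw
    show y ∈ Set.range (X.scheme.homOfLE h.le) ↔ y ∈ (Set.range ((X.ptSubι x) ∣_ O1))ᶜ
    rw [Set.mem_compl_iff, h1, h2]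
    constructor
    · intro hy hcl
      exact h.disjoint hcl hy
    · intro hy
      by_contra hyO
      exact hy (h.sub y.1 y.2 hyO)

lemma relCodim_decomp (h : StepData X x O O1) :
    relCodim h.decomp.Z.scheme (X.res O1).scheme =
      (WeilCoh.dim X.scheme : ℤ) - (WeilCoh.pdim X.scheme x : ℤ) := by
  unfold relCodim
  show ((WeilCoh.dim (O1 : Scheme.{u}) : ℤ)) -
    (WeilCoh.dim ((((X.ptSubι x) ⁻¹ᵁ O1 : (X.ptSub x).scheme.Opens)) : Scheme.{u}) : ℤ) = _
  rw [h.hO1, h.dim_pre]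

/-- Shrinking `O1` along a smaller open of the closure of `x`. -/
noncomputable def shrink (X : Obj V) (x : X.scheme) (O1 : X.scheme.Opens)
    (W : (X.ptSub x).scheme.Opens) : X.scheme.Opens :=
  O1 ⊓ ⟨((X.ptSubι x) '' ((W : Set (X.ptSub x).scheme)ᶜ))ᶜ,
    ((X.ptSubι x).isClosedEmbedding.isClosedMap _ W.isOpen.isClosed_compl).isOpen_compl⟩

lemma shrink_le (X : Obj V) (x : X.scheme) (O1 : X.scheme.Opens)
    (W : (X.ptSub x).scheme.Opens) : shrink X x O1 W ≤ O1 := inf_le_left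

lemma pre_shrink_le (X : Obj V) (x : X.scheme) (O1 : X.scheme.Opens)
    (W : (X.ptSub x).scheme.Opens) : (X.ptSubι x) ⁻¹ᵁ (shrink X x O1 W) ≤ W := by
  intro y hy
  by_contra hyW
  exact hy.2 ⟨y, hyW, rfl⟩

lemma shrink_stepData (h : StepData X x O O1) (W : (X.ptSub x).scheme.Opens)
    (hW : (W : Set (X.ptSub x).scheme).Nonempty) (hWle : W ≤ (X.ptSubι x) ⁻¹ᵁ O1) :
    StepData X x O (shrink X x O1 W) where
  hO := h.hO
  le := by
    intro y hy
    refine ⟨h.le hy, ?_⟩
    rintro ⟨z, -, rfl⟩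
    have : (X.ptSubι x) z ∈ closure ({x} : Set X.scheme) := by
      rw [← range_ptSubι]; exact ⟨z, rfl⟩
    exact h.disjoint this hy
  hx := h.hx
  ne := by
    obtain ⟨y0, hy0⟩ := hW
    refine ⟨(X.ptSubι x) y0, ⟨hWle hy0, ?_⟩, ?_⟩
    · rintro ⟨z, hz, hzy⟩
      rw [(X.ptSubι x).isClosedEmbedding.injective hzy] at hz
      exact hz hy0
    · apply h.disjoint
      rw [← range_ptSubι]; exact ⟨y0, rfl⟩
  sub := fun y hy hyO => h.sub y hy.1 hyO

end StepData

open StepData

/-- The base-change square of the restrictions of the closed immersion of the closure of `x`. -/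
lemma isPullback_restrict (X : Obj V) (x : X.scheme) {O1 O2 : X.scheme.Opens} (hle : O2 ≤ O1)
    (hpre : (X.ptSubι x) ⁻¹ᵁ O2 ≤ (X.ptSubι x) ⁻¹ᵁ O1) :
    IsPullback ((X.ptSub x).scheme.homOfLE hpre) ((X.ptSubι x) ∣_ O2) ((X.ptSubι x) ∣_ O1)
      (X.scheme.homOfLE hle) := by
  apply IsPullback.flip
  refine IsPullback.of_bot ?_ ?_ (isPullback_morphismRestrict (X.ptSubι x) O1)
  · rw [Scheme.homOfLE_ι, Scheme.homOfLE_ι]
    exact isPullback_morphismRestrict (X.ptSubι x) O2
  · rw [← cancel_mono O1.ι]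
    simp only [Category.assoc, morphismRestrict_ι, Scheme.homOfLE_ι, Scheme.homOfLE_ι_assoc]


section Steps

variable (T : TheoryOn V R A) {X : Obj V} {x : X.scheme} {O O1 : X.scheme.Opens}

/-- Common part of both steps: a class on the piece of the closure of `x` in `O1` dies on a
smaller piece, when the group of the point `x` vanishes. -/
lemma exists_shrink (h : StepData X x O O1) (M : A.Cat) (i' n' : ℤ)
    (hvan : IsZero (T.ptGp X x M i' n'))
    (b : T.gp ((X.ptSub x).res ((X.ptSubι x) ⁻¹ᵁ O1)) M i' n') :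
    ∃ (W : (X.ptSub x).scheme.Opens) (hW : (W : Set (X.ptSub x).scheme).Nonempty)
      (hWle : W ≤ (X.ptSubι x) ⁻¹ᵁ O1),
      (T.pull ((X.ptSub x).resLE hWle
        ((dim_open_ptSub X x W hW).trans (dim_open_ptSub X x _ h.nonempty_pre).symm))
        M i' n').hom b = 0 := by
  let W' : Idx (X.ptSub x) (fun U => (U : Set (X.ptSub x).scheme).Nonempty) :=
    ⟨(X.ptSubι x) ⁻¹ᵁ O1, h.nonempty_pre, dim_open_ptSub X x _ h.nonempty_pre⟩
  have hzero : ((T.ocolimι (X.ptSub x) (fun U => (U : Set (X.ptSub x).scheme).Nonempty)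
      i' n' W').app M).hom b = 0 := by
    have : Subsingleton (T.ptGp X x M i' n') := ModuleCat.subsingleton_of_isZero hvan
    exact Subsingleton.elim _ _
  obtain ⟨W'', hW''le, hb0⟩ :=
    exists_pull_eq_zero T.toPreTheory (X.ptSub x) _ i' n' M W' b hzero
  exact ⟨W''.1, W''.2.1, hW''le, hb0⟩

/-- The kill step: a class on `O1` vanishing on `O` vanishes on a strictly larger open, when the
relevant group of the point `x` vanishes. -/
theorem kill_step (h : StepData X x O O1) (M : A.Cat) (d n i' n' : ℤ)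
    (hd : d = i' + 2 * ((WeilCoh.dim X.scheme : ℤ) - (WeilCoh.pdim X.scheme x : ℤ)))
    (hn : n = n' + ((WeilCoh.dim X.scheme : ℤ) - (WeilCoh.pdim X.scheme x : ℤ)))
    (hvan : IsZero (T.ptGp X x M i' n'))
    (a1 : T.gp (X.res O1) M d n)
    (ha1 : (T.pull (X.resLE h.le (h.hO.trans h.hO1.symm)) M d n).hom a1 = 0) :
    ∃ (O2 : X.scheme.Opens) (h2 : StepData X x O O2) (hle : O2 ≤ O1),
      (T.pull (X.resLE hle (h2.hO1.trans h.hO1.symm)) M d n).hom a1 = 0 := by
  obtain ⟨i, rfl⟩ : ∃ i, d = i + 1 := ⟨d - 1, by ring⟩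
  have hc := h.relCodim_decomp
  have e1 := T.exact_push_pull h.decomp M i n i' n' (by rw [hc]; exact hd) (by rw [hc]; exact hn)
  obtain ⟨b, hb⟩ := (e1 a1).mp ha1
  obtain ⟨W, hW, hWle, hb0⟩ := exists_shrink T h M i' n' hvan b
  let O2 := shrink X x O1 W
  have h2 : StepData X x O O2 := shrink_stepData h W hW hWle
  have hle : O2 ≤ O1 := shrink_le X x O1 W
  have hpreW : (X.ptSubι x) ⁻¹ᵁ O2 ≤ W := pre_shrink_le X x O1 W
  have hpre : (X.ptSubι x) ⁻¹ᵁ O2 ≤ (X.ptSubι x) ⁻¹ᵁ O1 := hpreW.trans hWle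
  refine ⟨O2, h2, hle, ?_⟩
  have hc2 := h2.relCodim_decomp
  have hpb := isPullback_restrict X x hle hpre
  let g : X.res O2 ⟶ X.res O1 := X.resLE hle (h2.hO1.trans h.hO1.symm)
  let g' : (X.ptSub x).res ((X.ptSubι x) ⁻¹ᵁ O2) ⟶ (X.ptSub x).res ((X.ptSubι x) ⁻¹ᵁ O1) :=
    (X.ptSub x).resLE hpre
    ((dim_open_ptSub X x _ h2.nonempty_pre).trans (dim_open_ptSub X x _ h.nonempty_pre).symm)
  have hbc := T.push_pull h.decomp.i h2.decomp.i g g' hpb M i' n' (i + 1) n
    (by rw [hc]; exact hd) (by rw [hc]; exact hn) (by rw [hc2]; exact hd) (by rw [hc2]; exact hn)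
  have hbc' := congrArg (fun φ => φ.hom b) hbc
  simp only [ModuleCat.hom_comp, LinearMap.comp_apply] at hbc'
  -- the restriction of `b` to the smaller piece vanishes
  have hg' : (T.pull g' M i' n').hom
      (show T.gp ((X.ptSub x).res ((X.ptSubι x) ⁻¹ᵁ O1)) M i' n' from b) = 0 := by
    have hfac : g' = (X.ptSub x).resLE hpreW
        ((dim_open_ptSub X x _ h2.nonempty_pre).trans (dim_open_ptSub X x W hW).symm) ≫
        (X.ptSub x).resLE hWle
          ((dim_open_ptSub X x W hW).trans (dim_open_ptSub X x _ h.nonempty_pre).symm) := by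
      apply BMCoh.Hom.ext
      exact ((X.ptSub x).scheme.homOfLE_homOfLE hpreW hWle).symm
    rw [hfac, pull_comp_apply, hb0, map_zero]
  show (T.pull g M (i + 1) n).hom a1 = 0
  rw [← hb]
  refine hbc'.trans ?_
  exact (congrArg (fun z => (T.push h2.decomp.i M i' n' (i + 1) n (by rw [hc2]; exact hd)
    (by rw [hc2]; exact hn)).hom z) hg').trans (map_zero _)

/-- The extension step: a class on `O` extends to a strictly larger open, when the relevant group
of the point `x` vanishes. -/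
theorem extend_step (h : StepData X x O O1) (M : A.Cat) (i n i' n' : ℤ)
    (hi : i' = i + 1 - 2 * ((WeilCoh.dim X.scheme : ℤ) - (WeilCoh.pdim X.scheme x : ℤ)))
    (hn : n' = n - ((WeilCoh.dim X.scheme : ℤ) - (WeilCoh.pdim X.scheme x : ℤ)))
    (hvan : IsZero (T.ptGp X x M i' n'))
    (a : T.gp (X.res O) M i n) :
    ∃ (O2 : X.scheme.Opens) (h2 : StepData X x O O2) (_ : O2 ≤ O1)
      (a2 : T.gp (X.res O2) M i n),
      (T.pull (X.resLE h2.le (h2.hO.trans h2.hO1.symm)) M i n).hom a2 = a := by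
  have hc : h.decomp.codim =
      (WeilCoh.dim X.scheme : ℤ) - (WeilCoh.pdim X.scheme x : ℤ) := h.relCodim_decomp
  let r : T.gp ((X.ptSub x).res ((X.ptSubι x) ⁻¹ᵁ O1)) M i' n' :=
    (T.res h.decomp M i n i' n' (by rw [hc]; exact hi) (by rw [hc]; exact hn)).hom a
  obtain ⟨W, hW, hWle, hb0⟩ := exists_shrink T h M i' n' hvan r
  let O2 := shrink X x O1 W
  have h2 : StepData X x O O2 := shrink_stepData h W hW hWle
  have hle : O2 ≤ O1 := shrink_le X x O1 W
  have hpreW : (X.ptSubι x) ⁻¹ᵁ O2 ≤ W := pre_shrink_le X x O1 W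
  have hpre : (X.ptSubι x) ⁻¹ᵁ O2 ≤ (X.ptSubι x) ⁻¹ᵁ O1 := hpreW.trans hWle
  have hc2 : h2.decomp.codim =
      (WeilCoh.dim X.scheme : ℤ) - (WeilCoh.pdim X.scheme x : ℤ) := h2.relCodim_decomp
  have hpb := isPullback_restrict X x hle hpre
  let g : X.res O2 ⟶ X.res O1 := X.resLE hle (h2.hO1.trans h.hO1.symm)
  let gZ : (X.ptSub x).res ((X.ptSubι x) ⁻¹ᵁ O2) ⟶ (X.ptSub x).res ((X.ptSubι x) ⁻¹ᵁ O1) :=
    (X.ptSub x).resLE hpre
    ((dim_open_ptSub X x _ h2.nonempty_pre).trans (dim_open_ptSub X x _ h.nonempty_pre).symm)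
  let gU : X.res O ⟶ X.res O := 𝟙 (X.res O)
  have hZ : gZ.hom ≫ h.decomp.i = h2.decomp.i ≫ g.hom := hpb.w
  have hU : gU ≫ h.decomp.j = h2.decomp.j ≫ g := by
    apply BMCoh.Hom.ext
    show 𝟙 _ ≫ X.scheme.homOfLE h.le = X.scheme.homOfLE h2.le ≫ X.scheme.homOfLE hle
    rw [Category.id_comp, Scheme.homOfLE_homOfLE]
  have hrp := T.res_pull h.decomp h2.decomp g gZ gU hZ hU M i n i' n'
    (by rw [hc]; exact hi) (by rw [hc]; exact hn) (by rw [hc2]; exact hi) (by rw [hc2]; exact hn)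
  have hrp' := congrArg (fun φ => φ.hom a) hrp
  simp only [ModuleCat.hom_comp, LinearMap.comp_apply] at hrp'
  have hgZ : (T.pull gZ M i' n').hom r = 0 := by
    have hfac : gZ = (X.ptSub x).resLE hpreW
        ((dim_open_ptSub X x _ h2.nonempty_pre).trans (dim_open_ptSub X x W hW).symm) ≫
        (X.ptSub x).resLE hWle
          ((dim_open_ptSub X x W hW).trans (dim_open_ptSub X x _ h.nonempty_pre).symm) := by
      apply BMCoh.Hom.ext
      exact ((X.ptSub x).scheme.homOfLE_homOfLE hpreW hWle).symm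
    rw [hfac, pull_comp_apply, hb0, map_zero]
  have hres2 : (T.res h2.decomp M i n i' n' (by rw [hc2]; exact hi) (by rw [hc2]; exact hn)).hom a
      = 0 := by
    have h1 : (T.pull gU M i n).hom a = a := pull_id_apply T.toPreTheory (X.res O) M i n a
    rw [← h1]
    exact hrp'.symm.trans hgZ
  have e2 := T.exact_pull_res h2.decomp M i n i' n' (by rw [hc2]; exact hi) (by rw [hc2]; exact hn)
  obtain ⟨a2, ha2⟩ := (e2 a).mp hres2
  exact ⟨O2, h2, hle, a2, ha2⟩

end Steps

end Groth.Agent.Lib.Helper5.Misc.BMStep
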