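import Mathlib
import Groth.Prelude.Def_BMCoh2
import Groth.Agent.Lib.Helper5.Misc.BMStep
import Groth.Agent.Lib.Helper5.Misc.BMFj

set_option autoImplicit false
universe u
open CategoryTheory CategoryTheory.Limits AlgebraicGeometry Opposite TopologicalSpace
open BMCoh

namespace Groth.Agent.Lib.Helper5.Misc.BMRes

open Groth.Agent.Lib.Helper5.Misc.BMLib Groth.Agent.Lib.Helper5.Misc.BMColim
open Groth.Agent.Lib.Helper5.Misc.BMGeo Groth.Agent.Lib.Helper5.Misc.BMVan
open Groth.Agent.Lib.Helper5.Misc.BMBij Groth.Agent.Lib.Helper5.Misc.WeilGeo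
open Groth.Agent.Lib.Helper5.Misc.BMGeo2 Groth.Agent.Lib.Helper5.Misc.BMStep
open Groth.Agent.Lib.Helper5.Misc.BMFj

variable {V : ObjectProperty Scheme.{u}} [IsConstructible V] {R : Type u} [CommRing R]
  {A : Coefs R}

lemma pdim_le_dim_obj (X : Obj V) (z : X.scheme) :
    WeilCoh.pdim X.scheme z ≤ WeilCoh.dim X.scheme :=
  natDim_le_of_le (topologicalKrullDim_subspace_le _ _) (dim_lt_top_obj X)

/-- The comparison map of open-system colimits on the colimit injections. -/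
lemma ocolimMap_ι (T : PreTheory V R A) (X : Obj V) {P Q : X.scheme.Opens → Prop}
    (h : ∀ U, P U → Q U) (i n : ℤ) (M : A.Cat) (U : Idx X P) (a : T.gp (X.res U.1) M i n) :
    ((T.ocolimMap X h i n).app M).hom (((T.ocolimι X P i n U).app M).hom a) =
      ((T.ocolimι X Q i n ⟨U.1, h _ U.2.1, U.2.2⟩).app M).hom a := by
  have h1 : T.ocolimι X P i n U ≫ T.ocolimMap X h i n =
      T.ocolimι X Q i n ⟨U.1, h _ U.2.1, U.2.2⟩ :=
    colimit.ι_pre ((idxDiag X Q).op ⋙ T.H i n) (idxIncl X h).op (op U)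
  have h2 := congrArg (fun φ => (φ.app M).hom a) h1
  exact h2

lemma resLE_refl (X : Obj V) (O : X.scheme.Opens) (hd : WeilCoh.dim (O : Scheme.{u}) =
    WeilCoh.dim (O : Scheme.{u})) : X.resLE (le_refl O) hd = 𝟙 (X.res O) := by
  apply BMCoh.Hom.ext
  exact Scheme.homOfLE_rfl _ _

lemma resLE_comp (X : Obj V) {O1 O2 O3 : X.scheme.Opens} (h12 : O1 ≤ O2) (h23 : O2 ≤ O3)
    (d12 : WeilCoh.dim (O1 : Scheme.{u}) = WeilCoh.dim (O2 : Scheme.{u}))
    (d23 : WeilCoh.dim (O2 : Scheme.{u}) = WeilCoh.dim (O3 : Scheme.{u})) :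
    X.resLE h12 d12 ≫ X.resLE h23 d23 = X.resLE (h12.trans h23) (d12.trans d23) := by
  apply BMCoh.Hom.ext
  exact X.scheme.homOfLE_homOfLE h12 h23

section

variable (T : TheoryOn V R A) (X : Obj V) (M : A.Cat) (j : ℕ) (i n : ℤ)

/-- Arithmetic: a point of codimension `j + 1`. -/
lemma codim_cast {y : X.scheme} (hy : WeilCoh.codim X.scheme y = j + 1) :
    (WeilCoh.dim X.scheme : ℤ) - (WeilCoh.pdim X.scheme y : ℤ) = (j : ℤ) + 1 := by
  have h1 := pdim_le_dim_obj X y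
  unfold WeilCoh.codim at hy
  omega

/-- Points outside an open containing `F_jX` have closures of dimension at most that of a point
of codimension `j + 1`. -/
lemma pdim_le_of_not_mem {O : X.scheme.Opens} (hO : ContainsFj X j O) {y : X.scheme}
    (hy : WeilCoh.codim X.scheme y = j + 1) (z : X.scheme) (hz : z ∉ O) :
    WeilCoh.pdim X.scheme z ≤ WeilCoh.pdim X.scheme y := by
  have h1 : ¬ WeilCoh.codim X.scheme z ≤ j := fun h => hz (hO z h)
  have h2 := pdim_le_dim_obj X y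
  have h3 := pdim_le_dim_obj X z
  unfold WeilCoh.codim at hy h1
  omega

/-- Extension over the points of codimension `j + 1`. -/
theorem exists_extension
    (h1 : ∀ x : X.scheme, WeilCoh.codim X.scheme x = j + 1 →
      IsZero (T.ptGp X x M (i + 1 - 2 * ((j : ℤ) + 1)) (n - ((j : ℤ) + 1))))
    (U : Idx X (ContainsFj X j)) (a : T.gp (X.res U.1) M i n) :
    ∃ (O : X.scheme.Opens) (hle : U.1 ≤ O) (hd : WeilCoh.dim (O : Scheme.{u}) = WeilCoh.dim X.scheme)
      (a' : T.gp (X.res O) M i n), ContainsFj X (j + 1) O ∧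
      (T.pull (X.resLE hle (U.2.2.trans hd.symm)) M i n).hom a' = a := by
  let S : Set X.scheme.Opens := {O | ∃ (hle : U.1 ≤ O)
    (hd : WeilCoh.dim (O : Scheme.{u}) = WeilCoh.dim X.scheme) (a' : T.gp (X.res O) M i n),
    (T.pull (X.resLE hle (U.2.2.trans hd.symm)) M i n).hom a' = a}
  have hS : S.Nonempty := by
    refine ⟨U.1, le_refl _, U.2.2, a, ?_⟩
    rw [resLE_refl, pull_id_apply]
  obtain ⟨O, ⟨hle, hd, a', ha'⟩, hmax⟩ := (wellFounded_gt (α := X.scheme.Opens)).has_min S hS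
  refine ⟨O, hle, hd, a', ?_, ha'⟩
  intro y hy
  by_contra hyO
  have hcod : WeilCoh.codim X.scheme y = j + 1 := by
    have : ¬ WeilCoh.codim X.scheme y ≤ j := fun h => hyO (hle (U.2.1 y h))
    omega
  have hOF : ContainsFj X j O := fun z hz => hle (U.2.1 z hz)
  obtain ⟨O1, hO1, hy1, hsub⟩ := exists_step_open X O y (pdim_le_of_not_mem X j hOF hcod)
  have hstep : StepData X y O O1 := ⟨hd, hO1, hyO, ⟨y, hy1, hyO⟩, hsub⟩
  have hc := codim_cast X j hcod
  obtain ⟨O2, h2, -, a2, ha2⟩ := extend_step T hstep M i n (i + 1 - 2 * ((j : ℤ) + 1))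
    (n - ((j : ℤ) + 1)) (by rw [hc]) (by rw [hc]) (h1 y hcod) a'
  have hO2S : O2 ∈ S := by
    refine ⟨hle.trans h2.le, h2.hO1, a2, ?_⟩
    rw [← ha', ← ha2, ← pull_comp_apply, resLE_comp]
  have hlt : O2 > O := by
    refine lt_of_le_of_ne h2.le ?_
    rintro rfl
    obtain ⟨z, hz2, hz⟩ := h2.ne
    exact hz hz2
  exact hmax O2 hO2S hlt

/-- Killing a class over the points of codimension `j + 1`. -/
theorem exists_vanishing
    (h0 : ∀ x : X.scheme, WeilCoh.codim X.scheme x = j + 1 →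
      IsZero (T.ptGp X x M (i - 2 * ((j : ℤ) + 1)) (n - ((j : ℤ) + 1))))
    (U' : Idx X (ContainsFj X (j + 1))) (a' : T.gp (X.res U'.1) M i n)
    (U : Idx X (ContainsFj X j)) (hUU' : U.1 ≤ U'.1)
    (ha' : (T.pull (X.resLE hUU' (U.2.2.trans U'.2.2.symm)) M i n).hom a' = 0) :
    ∃ (O : X.scheme.Opens) (hle : O ≤ U'.1)
      (hd : WeilCoh.dim (O : Scheme.{u}) = WeilCoh.dim X.scheme), ContainsFj X (j + 1) O ∧
      (T.pull (X.resLE hle (hd.trans U'.2.2.symm)) M i n).hom a' = 0 := by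
  let S : Set X.scheme.Opens := {O | ∃ (_ : U.1 ≤ O) (hle : O ≤ U'.1)
    (hd : WeilCoh.dim (O : Scheme.{u}) = WeilCoh.dim X.scheme),
    (T.pull (X.resLE hle (hd.trans U'.2.2.symm)) M i n).hom a' = 0}
  have hS : S.Nonempty := ⟨U.1, le_refl _, hUU', U.2.2, ha'⟩
  obtain ⟨O, ⟨hUO, hle, hd, hO0⟩, hmax⟩ := (wellFounded_gt (α := X.scheme.Opens)).has_min S hS
  refine ⟨O, hle, hd, ?_, hO0⟩
  intro y hy
  by_contra hyO
  have hcod : WeilCoh.codim X.scheme y = j + 1 := by
    have : ¬ WeilCoh.codim X.scheme y ≤ j := fun h => hyO (hUO (U.2.1 y h))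
    omega
  have hyU' : y ∈ U'.1 := U'.2.1 y hy
  have hOF : ContainsFj X j O := fun z hz => hUO (U.2.1 z hz)
  obtain ⟨O1, hO1, hy1, hsub⟩ := exists_step_open X O y (pdim_le_of_not_mem X j hOF hcod)
  have hstep : StepData X y O (O1 ⊓ U'.1) :=
    ⟨hd, le_inf hO1 hle, hyO, ⟨y, ⟨hy1, hyU'⟩, hyO⟩, fun z hz hzO => hsub z hz.1 hzO⟩
  have hc := codim_cast X j hcod
  let a1 : T.gp (X.res (O1 ⊓ U'.1)) M i n :=
    (T.pull (X.resLE (inf_le_right : O1 ⊓ U'.1 ≤ U'.1) (hstep.hO1.trans U'.2.2.symm)) M i n).hom a'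
  have ha1 : (T.pull (X.resLE hstep.le (hstep.hO.trans hstep.hO1.symm)) M i n).hom a1 = 0 := by
    show (T.pull _ M i n).hom ((T.pull _ M i n).hom a') = 0
    rw [← pull_comp_apply, resLE_comp]
    exact hO0
  obtain ⟨O2, h2, hle2, h20⟩ := kill_step T hstep M i n (i - 2 * ((j : ℤ) + 1))
    (n - ((j : ℤ) + 1)) (by rw [hc]; ring) (by rw [hc]; ring) (h0 y hcod) a1 ha1
  have hO2S : O2 ∈ S := by
    refine ⟨hUO.trans h2.le, hle2.trans inf_le_right, h2.hO1, ?_⟩
    have : (T.pull (X.resLE hle2 (h2.hO1.trans hstep.hO1.symm)) M i n).hom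
        ((T.pull (X.resLE (inf_le_right : O1 ⊓ U'.1 ≤ U'.1)
          (hstep.hO1.trans U'.2.2.symm)) M i n).hom a') = 0 := h20
    rw [← pull_comp_apply, resLE_comp] at this
    exact this
  have hlt : O2 > O := by
    refine lt_of_le_of_ne h2.le ?_
    rintro rfl
    obtain ⟨z, hz2, hz⟩ := h2.ne
    exact hz hz2
  exact hmax O2 hO2S hlt

/-- `H^i(F_{j+1}X) → H^i(F_jX)` is bijective when the groups of the points of codimension `j + 1`
vanish in the two relevant degrees. -/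
theorem fjRes_bijective
    (h0 : ∀ x : X.scheme, WeilCoh.codim X.scheme x = j + 1 →
      IsZero (T.ptGp X x M (i - 2 * ((j : ℤ) + 1)) (n - ((j : ℤ) + 1))))
    (h1 : ∀ x : X.scheme, WeilCoh.codim X.scheme x = j + 1 →
      IsZero (T.ptGp X x M (i + 1 - 2 * ((j : ℤ) + 1)) (n - ((j : ℤ) + 1)))) :
    Function.Bijective ((T.fjRes X (Nat.le_succ j) i n).app M).hom := by
  constructor
  · rw [injective_iff_map_eq_zero]
    intro w hw
    obtain ⟨U', a', rfl⟩ := exists_rep T.toPreTheory X (ContainsFj X (j + 1)) i n M w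
    have hw' : ((T.ocolimMap X (containsFj_mono X (Nat.le_succ j)) i n).app M).hom
        (((T.ocolimι X (ContainsFj X (j + 1)) i n U').app M).hom a') = 0 := hw
    rw [ocolimMap_ι] at hw'
    obtain ⟨U, hUle, hU0⟩ := exists_pull_eq_zero T.toPreTheory X (ContainsFj X j) i n M
      (⟨U'.1, containsFj_mono X (Nat.le_succ j) _ U'.2.1, U'.2.2⟩ : Idx X (ContainsFj X j)) a' hw'
    obtain ⟨O, hle, hd, hOF, hO0⟩ := exists_vanishing T X M j i n h0 U' a' U hUle hU0
    let Oi : Idx X (ContainsFj X (j + 1)) := ⟨O, hOF, hd⟩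
    have := ocolimι_pull T.toPreTheory X (ContainsFj X (j + 1)) i n M
      (show Oi ≤ U' from hle) a'
    rw [← this]
    show ((T.ocolimι X (ContainsFj X (j + 1)) i n Oi).app M).hom
      ((T.pull (X.resLE hle _) M i n).hom a') = 0
    rw [hO0, map_zero]
  · intro z
    obtain ⟨U, a, rfl⟩ := exists_rep T.toPreTheory X (ContainsFj X j) i n M z
    obtain ⟨O, hle, hd, a', hOF, ha'⟩ := exists_extension T X M j i n h1 U a
    let Oi : Idx X (ContainsFj X (j + 1)) := ⟨O, hOF, hd⟩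
    refine ⟨((T.ocolimι X (ContainsFj X (j + 1)) i n Oi).app M).hom a', ?_⟩
    show ((T.ocolimMap X (containsFj_mono X (Nat.le_succ j)) i n).app M).hom _ = _
    rw [ocolimMap_ι]
    have := ocolimι_pull T.toPreTheory X (ContainsFj X j) i n M
      (show U ≤ (⟨O, containsFj_mono X (Nat.le_succ j) O hOF, hd⟩ : Idx X (ContainsFj X j))
        from hle) a'
    rw [← this]
    show ((T.ocolimι X (ContainsFj X j) i n U).app M).hom
      ((T.pull (X.resLE hle _) M i n).hom a') = _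
    rw [ha']

end

end Groth.Agent.Lib.Helper5.Misc.BMRes
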