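import Mathlib
import Groth.Prelude.Def_BMCoh2
import Groth.Agent.Lib.Helper5.Misc.BMRes

set_option autoImplicit false
universe u
open CategoryTheory CategoryTheory.Limits AlgebraicGeometry Opposite TopologicalSpace
open BMCoh

namespace Groth.Agent.Lib.Helper5.Misc.BMFjVan

open Groth.Agent.Lib.Helper5.Misc.BMLib Groth.Agent.Lib.Helper5.Misc.BMColim
open Groth.Agent.Lib.Helper5.Misc.BMGeo Groth.Agent.Lib.Helper5.Misc.BMVan
open Groth.Agent.Lib.Helper5.Misc.BMBij Groth.Agent.Lib.Helper5.Misc.WeilGeo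
open Groth.Agent.Lib.Helper5.Misc.BMGeo2 Groth.Agent.Lib.Helper5.Misc.BMStep
open Groth.Agent.Lib.Helper5.Misc.BMFj Groth.Agent.Lib.Helper5.Misc.BMRes

variable {V : ObjectProperty Scheme.{u}} [IsConstructible V] {R : Type u} [CommRing R]
  {A : Coefs R}

/-- On a reduced object, a class on an open piece of the closure of a top-dimensional point dies
on a smaller nonempty piece when the group of the point vanishes. -/
theorem vanish_near_point (T : TheoryOn V R A) (Z : Obj V) [IsReduced Z.scheme] (x : Z.scheme)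
    (hx : WeilCoh.pdim Z.scheme x = WeilCoh.dim Z.scheme) (W : Z.scheme.Opens)
    (hW : (W : Set Z.scheme) ⊆ closure {x}) (hWne : (W : Set Z.scheme).Nonempty)
    (M : A.Cat) (d n : ℤ) (hvan : IsZero (T.ptGp Z x M d n)) (a : T.gp (Z.res W) M d n) :
    ∃ (O : Z.scheme.Opens) (hOW : O ≤ W) (hdO : WeilCoh.dim (O : Scheme.{u}) = WeilCoh.dim Z.scheme),
      (T.pull (Z.resLE hOW (hdO.trans
        (dim_open_of_subset_closure Z x hx W hW hWne).symm)) M d n).hom a = 0 := by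
  have hdW : WeilCoh.dim (W : Scheme.{u}) = WeilCoh.dim Z.scheme :=
    dim_open_of_subset_closure Z x hx W hW hWne
  let b : T.gp ((Z.ptSub x).res ((Z.ptSubι x) ⁻¹ᵁ W)) M d n :=
    (T.pull (ptOpenHom Z x W hW) M d n).hom a
  have hne' : ((((Z.ptSubι x) ⁻¹ᵁ W : (Z.ptSub x).scheme.Opens)) :
      Set (Z.ptSub x).scheme).Nonempty := by
    obtain ⟨y, hy⟩ := hWne
    have hy' : y ∈ Set.range (Z.ptSubι x) := by rw [range_ptSubι]; exact hW hy
    obtain ⟨z, rfl⟩ := hy'
    exact ⟨z, hy⟩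
  let W' : Idx (Z.ptSub x) (fun U => (U : Set (Z.ptSub x).scheme).Nonempty) :=
    ⟨(Z.ptSubι x) ⁻¹ᵁ W, hne', dim_open_ptSub Z x _ hne'⟩
  have hzero : ((T.ocolimι (Z.ptSub x) (fun U => (U : Set (Z.ptSub x).scheme).Nonempty)
      d n W').app M).hom b = 0 := by
    have : Subsingleton (T.ptGp Z x M d n) := ModuleCat.subsingleton_of_isZero hvan
    exact Subsingleton.elim _ _
  obtain ⟨W'', hW''le, hb0⟩ := exists_pull_eq_zero T.toPreTheory (Z.ptSub x) _ d n M W' b hzero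
  have hcl : IsClosed ((Z.ptSubι x) '' ((W''.1 : Set (Z.ptSub x).scheme)ᶜ)) :=
    (Z.ptSubι x).isClosedEmbedding.isClosedMap _ W''.1.isOpen.isClosed_compl
  let O : Z.scheme.Opens := ⟨((Z.ptSubι x) '' ((W''.1 : Set (Z.ptSub x).scheme)ᶜ))ᶜ,
    hcl.isOpen_compl⟩ ⊓ W
  have hinj : Function.Injective (Z.ptSubι x) := (Z.ptSubι x).isClosedEmbedding.injective
  have hOW : O ≤ W := inf_le_right
  have hO : (O : Set Z.scheme) ⊆ closure {x} := fun y hy => hW (hOW hy)
  have hpre : (Z.ptSubι x) ⁻¹ᵁ O ≤ W''.1 := by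
    intro y hy
    by_contra hyW
    exact hy.1 ⟨y, hyW, rfl⟩
  have hpreW : (Z.ptSubι x) ⁻¹ᵁ O ≤ (Z.ptSubι x) ⁻¹ᵁ W := fun y hy => hOW hy
  obtain ⟨y0, hy0⟩ := W''.2.1
  have hy0O : (Z.ptSubι x) y0 ∈ O := by
    refine ⟨?_, hW''le hy0⟩
    rintro ⟨y', hy', hyy'⟩
    rw [hinj hyy'] at hy'
    exact hy' hy0
  have hOne : (O : Set Z.scheme).Nonempty := ⟨_, hy0O⟩
  have hdO : WeilCoh.dim (O : Scheme.{u}) = WeilCoh.dim Z.scheme :=
    dim_open_of_subset_closure Z x hx O hO hOne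
  have hd1 : WeilCoh.dim (O : Scheme.{u}) = WeilCoh.dim (W : Scheme.{u}) := hdO.trans hdW.symm
  have hne'' : ((((Z.ptSubι x) ⁻¹ᵁ O : (Z.ptSub x).scheme.Opens)) :
      Set (Z.ptSub x).scheme).Nonempty := ⟨y0, hy0O⟩
  have hd2 : WeilCoh.dim ((((Z.ptSubι x) ⁻¹ᵁ O : (Z.ptSub x).scheme.Opens)) : Scheme.{u}) =
      WeilCoh.dim ((((Z.ptSubι x) ⁻¹ᵁ W : (Z.ptSub x).scheme.Opens)) : Scheme.{u}) :=
    (dim_open_ptSub Z x _ hne'').trans (dim_open_ptSub Z x _ hne').symm
  have hd3 : WeilCoh.dim ((((Z.ptSubι x) ⁻¹ᵁ O : (Z.ptSub x).scheme.Opens)) : Scheme.{u}) =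
      WeilCoh.dim (W''.1 : Scheme.{u}) :=
    (dim_open_ptSub Z x _ hne'').trans W''.2.2.symm
  have m2 := ptOpenHom_natural Z x hOW hW hd1 hpreW hd2
  have m3 : (Z.ptSub x).resLE hpre hd3 ≫
      (Z.ptSub x).resLE (show W''.1 ≤ W'.1 from hW''le) (W''.2.2.trans W'.2.2.symm) =
      (Z.ptSub x).resLE hpreW hd2 := by
    apply BMCoh.Hom.ext
    exact (Z.ptSub x).scheme.homOfLE_homOfLE hpre (show W''.1 ≤ W'.1 from hW''le)
  refine ⟨O, hOW, hdO, ?_⟩
  have h1 : (T.pull (ptOpenHom Z x O hO) M d n).hom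
      ((T.pull (Z.resLE hOW hd1) M d n).hom a) = 0 := by
    rw [← pull_comp_apply, ← m2, pull_comp_apply, ← m3, pull_comp_apply]
    show (T.pull ((Z.ptSub x).resLE hpre hd3) M d n).hom
      ((T.pull ((Z.ptSub x).resLE (show W''.1 ≤ W'.1 from hW''le) _) M d n).hom b) = 0
    rw [hb0, map_zero]
  have h2 := pull_comp_apply T.toPreTheory (ptOpenInv Z x O hO) (ptOpenHom Z x O hO) M d n
    ((T.pull (Z.resLE hOW hd1) M d n).hom a)
  rw [ptOpenInv_comp, pull_id_apply, h1, map_zero] at h2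
  exact h2

/-- General killing step: a class vanishing on a full-dimensional open `U0` all of whose outside
points have codimension at least `k` vanishes on an open containing the points of codimension at
most `k`, when the groups of the points of codimension `k` vanish in the relevant degree. -/
theorem exists_vanishing_gen (T : TheoryOn V R A) (X : Obj V) (M : A.Cat) (k : ℕ) (i n : ℤ)
    (h0 : ∀ x : X.scheme, WeilCoh.codim X.scheme x = k → WeilCoh.pdim X.scheme x + k = WeilCoh.dim X.scheme →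
      IsZero (T.ptGp X x M (i - 2 * (k : ℤ)) (n - (k : ℤ))))
    (U' : X.scheme.Opens) (hU' : WeilCoh.dim (U' : Scheme.{u}) = WeilCoh.dim X.scheme)
    (a' : T.gp (X.res U') M i n)
    (U0 : X.scheme.Opens) (hU0 : WeilCoh.dim (U0 : Scheme.{u}) = WeilCoh.dim X.scheme)
    (hUU' : U0 ≤ U') (hk : ∀ z : X.scheme, z ∉ U0 → k ≤ WeilCoh.codim X.scheme z)
    (ha' : (T.pull (X.resLE hUU' (hU0.trans hU'.symm)) M i n).hom a' = 0) :
    ∃ (O : X.scheme.Opens) (hle : O ≤ U')
      (hd : WeilCoh.dim (O : Scheme.{u}) = WeilCoh.dim X.scheme),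
      (∀ y ∈ U', WeilCoh.codim X.scheme y ≤ k → y ∈ O) ∧
      (T.pull (X.resLE hle (hd.trans hU'.symm)) M i n).hom a' = 0 := by
  let S : Set X.scheme.Opens := {O | ∃ (_ : U0 ≤ O) (hle : O ≤ U')
    (hd : WeilCoh.dim (O : Scheme.{u}) = WeilCoh.dim X.scheme),
    (T.pull (X.resLE hle (hd.trans hU'.symm)) M i n).hom a' = 0}
  have hS : S.Nonempty := ⟨U0, le_refl _, hUU', hU0, ha'⟩
  obtain ⟨O, ⟨hUO, hle, hd, hO0⟩, hmax⟩ := (wellFounded_gt (α := X.scheme.Opens)).has_min S hS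
  refine ⟨O, hle, hd, ?_, hO0⟩
  intro y hyU' hy
  by_contra hyO
  have hyU0 : y ∉ U0 := fun h => hyO (hUO h)
  have hcod : WeilCoh.codim X.scheme y = k := le_antisymm hy (hk y hyU0)
  have hpy := pdim_le_dim_obj X y
  have hpk : WeilCoh.pdim X.scheme y + k = WeilCoh.dim X.scheme := by
    unfold WeilCoh.codim at hcod; omega
  have hdimle : ∀ z : X.scheme, z ∉ O → WeilCoh.pdim X.scheme z ≤ WeilCoh.pdim X.scheme y := by
    intro z hz
    have h1 := hk z (fun h => hz (hUO h))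
    have h2 := pdim_le_dim_obj X z
    unfold WeilCoh.codim at h1
    omega
  obtain ⟨O1, hO1, hy1, hsub⟩ := exists_step_open X O y hdimle
  have hstep : StepData X y O (O1 ⊓ U') :=
    ⟨hd, le_inf hO1 hle, hyO, ⟨y, ⟨hy1, hyU'⟩, hyO⟩, fun z hz hzO => hsub z hz.1 hzO⟩
  have hc : (WeilCoh.dim X.scheme : ℤ) - (WeilCoh.pdim X.scheme y : ℤ) = (k : ℤ) := by omega
  let a1 : T.gp (X.res (O1 ⊓ U')) M i n :=
    (T.pull (X.resLE (inf_le_right : O1 ⊓ U' ≤ U') (hstep.hO1.trans hU'.symm)) M i n).hom a'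
  have ha1 : (T.pull (X.resLE hstep.le (hstep.hO.trans hstep.hO1.symm)) M i n).hom a1 = 0 := by
    show (T.pull _ M i n).hom ((T.pull _ M i n).hom a') = 0
    rw [← pull_comp_apply, resLE_comp]
    exact hO0
  obtain ⟨O2, h2, hle2, h20⟩ := kill_step T hstep M i n (i - 2 * (k : ℤ))
    (n - (k : ℤ)) (by rw [hc]; ring) (by rw [hc]; ring) (h0 y hcod hpk) a1 ha1
  have hO2S : O2 ∈ S := by
    refine ⟨hUO.trans h2.le, hle2.trans inf_le_right, h2.hO1, ?_⟩
    have : (T.pull (X.resLE hle2 (h2.hO1.trans hstep.hO1.symm)) M i n).hom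
        ((T.pull (X.resLE (inf_le_right : O1 ⊓ U' ≤ U')
          (hstep.hO1.trans hU'.symm)) M i n).hom a') = 0 := h20
    rw [← pull_comp_apply, resLE_comp] at this
    exact this
  have hlt : O2 > O := by
    refine lt_of_le_of_ne h2.le ?_
    rintro rfl
    obtain ⟨z, hz2, hz⟩ := h2.ne
    exact hz hz2
  exact hmax O2 hO2S hlt


/-- Classes of large degree on an open containing `F_jX` die on a smaller such open. -/
theorem fj_vanish_aux (T : TheoryOn V R A) (M : A.Cat) (c : ℕ)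
    (hc : ∀ (Y : Obj V) (y : Y.scheme) (i n : ℤ), (WeilCoh.pdim Y.scheme y : ℤ) + c < i →
      IsZero (T.ptGp Y y M i n))
    (X : Obj V) [IsReduced X.scheme] :
    ∀ (j : ℕ) (i n : ℤ), (WeilCoh.dim X.scheme : ℤ) + j + c < i →
      ∀ (U : X.scheme.Opens) (hU : WeilCoh.dim (U : Scheme.{u}) = WeilCoh.dim X.scheme)
        (_ : ContainsFj X j U) (a : T.gp (X.res U) M i n),
      ∃ (O : X.scheme.Opens) (hle : O ≤ U)
        (hd : WeilCoh.dim (O : Scheme.{u}) = WeilCoh.dim X.scheme), ContainsFj X j O ∧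
        (T.pull (X.resLE hle (hd.trans hU.symm)) M i n).hom a = 0 := by
  intro j
  induction j with
  | zero =>
    intro i n hi U hU hUF a
    by_cases hemp : IsEmpty ↥X.scheme
    · have : IsEmpty ↥(X.res U).scheme := ⟨fun y => hemp.elim y.1⟩
      have hz := isZero_of_isEmpty T.toPreTheory (X.res U) M i n
      have : Subsingleton (T.gp (X.res U) M i n) := ModuleCat.subsingleton_of_isZero hz
      exact ⟨U, le_refl _, hU, hUF, Subsingleton.elim _ _⟩
    rw [not_isEmpty_iff] at hemp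
    obtain ⟨x, W, hxW, hW, hx⟩ := exists_top_point_obj X
    have hxU : x ∈ U := hUF x (by unfold WeilCoh.codim; rw [hx]; simp)
    have hW0 : ((W ⊓ U : X.scheme.Opens) : Set X.scheme) ⊆ closure {x} := fun y hy => hW hy.1
    have hW0ne : ((W ⊓ U : X.scheme.Opens) : Set X.scheme).Nonempty := ⟨x, hxW, hxU⟩
    have hdW0 := dim_open_of_subset_closure X x hx (W ⊓ U) hW0 hW0ne
    let a0 : T.gp (X.res (W ⊓ U)) M i n :=
      (T.pull (X.resLE (inf_le_right : W ⊓ U ≤ U) (hdW0.trans hU.symm)) M i n).hom a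
    have hi0 : (WeilCoh.pdim X.scheme x : ℤ) + c < i := by
      rw [hx]; push_cast at hi; linarith
    obtain ⟨O0, hO0W, hdO0, hO00⟩ := vanish_near_point T X x hx (W ⊓ U) hW0 hW0ne M i n
      (hc X x i n hi0) a0
    have ha' : (T.pull (X.resLE (hO0W.trans inf_le_right) (hdO0.trans hU.symm)) M i n).hom a
        = 0 := by
      have : (T.pull (X.resLE hO0W (hdO0.trans hdW0.symm)) M i n).hom
          ((T.pull (X.resLE (inf_le_right : W ⊓ U ≤ U) (hdW0.trans hU.symm)) M i n).hom a) = 0 :=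
        hO00
      rw [← pull_comp_apply, resLE_comp] at this
      exact this
    obtain ⟨O, hle, hd, hOF, hO0⟩ := exists_vanishing_gen T X M 0 i n
      (fun y _ hp => hc X y _ _ (by
        have hp' : (WeilCoh.pdim X.scheme y : ℤ) = WeilCoh.dim X.scheme := by exact_mod_cast hp
        push_cast at hi ⊢
        linarith))
      U hU a O0 hdO0 (hO0W.trans inf_le_right) (fun _ _ => Nat.zero_le _) ha'
    exact ⟨O, hle, hd, fun y hy => hOF y (hUF y hy) hy, hO0⟩
  | succ j IH =>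
    intro i n hi U hU hUF a
    have hi' : (WeilCoh.dim X.scheme : ℤ) + (j : ℤ) + c < i := by
      push_cast at hi; linarith
    obtain ⟨O0, hO0U, hdO0, hO0F, hO00⟩ := IH i n hi' U hU
      (containsFj_mono X (Nat.le_succ j) U hUF) a
    obtain ⟨O, hle, hd, hOF, hO0⟩ := exists_vanishing_gen T X M (j + 1) i n
      (fun y _ hp => hc X y _ _ (by
        have hp' : (WeilCoh.pdim X.scheme y : ℤ) + ((j : ℤ) + 1) = WeilCoh.dim X.scheme := by
          exact_mod_cast hp
        push_cast at hi ⊢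
        linarith))
      U hU a O0 hdO0 hO0U
      (fun z hz => by
        by_contra hlt
        exact hz (hO0F z (by omega))) hO00
    exact ⟨O, hle, hd, fun y hy => hOF y (hUF y hy) hy, hO0⟩

/-- Vanishing of the groups of `F_jX` in large degrees. -/
theorem fjGp_isZero (T : TheoryOn V R A) (M : A.Cat) (c : ℕ)
    (hc : ∀ (Y : Obj V) (y : Y.scheme) (i n : ℤ), (WeilCoh.pdim Y.scheme y : ℤ) + c < i →
      IsZero (T.ptGp Y y M i n))
    (X : Obj V) [IsReduced X.scheme] (j : ℕ) (i n : ℤ)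
    (hi : (WeilCoh.dim X.scheme : ℤ) + j + c < i) : IsZero (T.fjGp X j M i n) := by
  suffices h : ∀ z : T.fjGp X j M i n, z = 0 by
    have : Subsingleton (T.fjGp X j M i n) := ⟨fun a b => by rw [h a, h b]⟩
    exact ModuleCat.isZero_of_subsingleton _
  intro z
  obtain ⟨U, a, rfl⟩ := exists_rep T.toPreTheory X (ContainsFj X j) i n M z
  obtain ⟨O, hle, hd, hOF, hO0⟩ := fj_vanish_aux T M c hc X j i n hi U.1 U.2.2 U.2.1 a
  let Oi : Idx X (ContainsFj X j) := ⟨O, hOF, hd⟩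
  have := ocolimι_pull T.toPreTheory X (ContainsFj X j) i n M (show Oi ≤ U from hle) a
  rw [← this]
  show ((T.ocolimι X (ContainsFj X j) i n Oi).app M).hom
    ((T.pull (X.resLE hle _) M i n).hom a) = 0
  rw [hO0, map_zero]

end Groth.Agent.Lib.Helper5.Misc.BMFjVan
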