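import Mathlib
import Groth.Prelude.Def_BMCoh3
import Groth.Agent.Lib.Helper5.Misc.BMFjVan

set_option autoImplicit false
universe u
open CategoryTheory CategoryTheory.Limits AlgebraicGeometry Opposite TopologicalSpace
open BMCoh

namespace Groth.Agent.Lib.Helper5.Misc.BMExact1

open Groth.Agent.Lib.Helper5.Misc.BMLib Groth.Agent.Lib.Helper5.Misc.BMColim
open Groth.Agent.Lib.Helper5.Misc.BMGeo Groth.Agent.Lib.Helper5.Misc.BMVan
open Groth.Agent.Lib.Helper5.Misc.BMBij Groth.Agent.Lib.Helper5.Misc.WeilGeo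
open Groth.Agent.Lib.Helper5.Misc.BMGeo2 Groth.Agent.Lib.Helper5.Misc.BMStep
open Groth.Agent.Lib.Helper5.Misc.BMFj Groth.Agent.Lib.Helper5.Misc.BMRes
open Groth.Agent.Lib.Helper5.Misc.BMStep.StepData

variable {V : ObjectProperty Scheme.{u}} [IsConstructible V] {R : Type u} [CommRing R]
  {A : Coefs R}

section Steps

variable (T : TheoryOn V R A) {X : Obj V} {x : X.scheme} {O O1 : X.scheme.Opens}

/-- The member of the index family of the point `x` attached to a step. -/
noncomputable abbrev stepIdx (h : StepData X x O O1) :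
    Idx (X.ptSub x) (fun U => (U : Set (X.ptSub x).scheme).Nonempty) :=
  ⟨(X.ptSubι x) ⁻¹ᵁ O1, h.nonempty_pre, dim_open_ptSub X x _ h.nonempty_pre⟩

/-- A class on the piece of the closure of `x` in `O1` whose image in the group of the point
vanishes dies on a smaller piece. -/
lemma exists_shrink' (h : StepData X x O O1) (M : A.Cat) (i' n' : ℤ)
    (b : T.gp ((X.ptSub x).res ((X.ptSubι x) ⁻¹ᵁ O1)) M i' n')
    (hzero : ((T.ocolimι (X.ptSub x) (fun U => (U : Set (X.ptSub x).scheme).Nonempty)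
      i' n' (stepIdx h)).app M).hom b = 0) :
    ∃ (W : (X.ptSub x).scheme.Opens) (hW : (W : Set (X.ptSub x).scheme).Nonempty)
      (hWle : W ≤ (X.ptSubι x) ⁻¹ᵁ O1),
      (T.pull ((X.ptSub x).resLE hWle
        ((dim_open_ptSub X x W hW).trans (dim_open_ptSub X x _ h.nonempty_pre).symm))
        M i' n').hom b = 0 := by
  obtain ⟨W'', hW''le, hb0⟩ :=
    exists_pull_eq_zero T.toPreTheory (X.ptSub x) _ i' n' M (stepIdx h) b hzero
  exact ⟨W''.1, W''.2.1, hW''le, hb0⟩

/-- The extension step with the vanishing of the residue in the group of the point as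
hypothesis. -/
theorem extend_step' (h : StepData X x O O1) (M : A.Cat) (i n i' n' : ℤ)
    (hi : i' = i + 1 - 2 * ((WeilCoh.dim X.scheme : ℤ) - (WeilCoh.pdim X.scheme x : ℤ)))
    (hn : n' = n - ((WeilCoh.dim X.scheme : ℤ) - (WeilCoh.pdim X.scheme x : ℤ)))
    (a : T.gp (X.res O) M i n)
    (hr : ((T.ocolimι (X.ptSub x) (fun U => (U : Set (X.ptSub x).scheme).Nonempty)
      i' n' (stepIdx h)).app M).hom
        ((T.res h.decomp M i n i' n' (by rw [show h.decomp.codim = _ from h.relCodim_decomp]; exact hi)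
          (by rw [show h.decomp.codim = _ from h.relCodim_decomp]; exact hn)).hom a) = 0) :
    ∃ (O2 : X.scheme.Opens) (h2 : StepData X x O O2) (_ : O2 ≤ O1)
      (a2 : T.gp (X.res O2) M i n),
      (T.pull (X.resLE h2.le (h2.hO.trans h2.hO1.symm)) M i n).hom a2 = a := by
  have hc : h.decomp.codim =
      (WeilCoh.dim X.scheme : ℤ) - (WeilCoh.pdim X.scheme x : ℤ) := h.relCodim_decomp
  let r : T.gp ((X.ptSub x).res ((X.ptSubι x) ⁻¹ᵁ O1)) M i' n' :=
    (T.res h.decomp M i n i' n' (by rw [hc]; exact hi) (by rw [hc]; exact hn)).hom a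
  obtain ⟨W, hW, hWle, hb0⟩ := exists_shrink' T h M i' n' r hr
  let O2 := shrink X x O1 W
  have h2 : StepData X x O O2 := shrink_stepData h W hW hWle
  have hle : O2 ≤ O1 := shrink_le X x O1 W
  have hpreW : (X.ptSubι x) ⁻¹ᵁ O2 ≤ W := pre_shrink_le X x O1 W
  have hpre : (X.ptSubι x) ⁻¹ᵁ O2 ≤ (X.ptSubι x) ⁻¹ᵁ O1 := hpreW.trans hWle
  have hc2 : h2.decomp.codim =
      (WeilCoh.dim X.scheme : ℤ) - (WeilCoh.pdim X.scheme x : ℤ) := h2.relCodim_decomp
  have hpb := isPullback_restrict X x hle hpre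
  let g : X.res O2 ⟶ X.res O1 := X.resLE hle (h2.hO1.trans h.hO1.symm)
  let gZ : (X.ptSub x).res ((X.ptSubι x) ⁻¹ᵁ O2) ⟶ (X.ptSub x).res ((X.ptSubι x) ⁻¹ᵁ O1) :=
    (X.ptSub x).resLE hpre
    ((dim_open_ptSub X x _ h2.nonempty_pre).trans (dim_open_ptSub X x _ h.nonempty_pre).symm)
  let gU : X.res O ⟶ X.res O := 𝟙 (X.res O)
  have hZ : gZ.hom ≫ h.decomp.i = h2.decomp.i ≫ g.hom := hpb.w
  have hU : gU ≫ h.decomp.j = h2.decomp.j ≫ g := by
    apply BMCoh.Hom.ext
    show 𝟙 _ ≫ X.scheme.homOfLE h.le = X.scheme.homOfLE h2.le ≫ X.scheme.homOfLE hle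
    rw [Category.id_comp, Scheme.homOfLE_homOfLE]
  have hrp := T.res_pull h.decomp h2.decomp g gZ gU hZ hU M i n i' n'
    (by rw [hc]; exact hi) (by rw [hc]; exact hn) (by rw [hc2]; exact hi) (by rw [hc2]; exact hn)
  have hrp' := congrArg (fun φ => φ.hom a) hrp
  simp only [ModuleCat.hom_comp, LinearMap.comp_apply] at hrp'
  have hgZ : (T.pull gZ M i' n').hom r = 0 := by
    have hfac : gZ = (X.ptSub x).resLE hpreW
        ((dim_open_ptSub X x _ h2.nonempty_pre).trans (dim_open_ptSub X x W hW).symm) ≫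
        (X.ptSub x).resLE hWle
          ((dim_open_ptSub X x W hW).trans (dim_open_ptSub X x _ h.nonempty_pre).symm) := by
      apply BMCoh.Hom.ext
      exact ((X.ptSub x).scheme.homOfLE_homOfLE hpreW hWle).symm
    rw [hfac, pull_comp_apply, hb0, map_zero]
  have hres2 : (T.res h2.decomp M i n i' n' (by rw [hc2]; exact hi) (by rw [hc2]; exact hn)).hom a
      = 0 := by
    have h1 : (T.pull gU M i n).hom a = a := pull_id_apply T.toPreTheory (X.res O) M i n a
    rw [← h1]
    exact hrp'.symm.trans hgZ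
  have e2 := T.exact_pull_res h2.decomp M i n i' n' (by rw [hc2]; exact hi) (by rw [hc2]; exact hn)
  obtain ⟨a2, ha2⟩ := (e2 a).mp hres2
  exact ⟨O2, h2, hle, a2, ha2⟩

end Steps

section ResData

variable (T : TheoryOn V R A) (X : Obj V) (j : ℕ) (Q : T.ResData X j) (M : A.Cat)
  (i n i' n' : ℤ) (hi : i' = i + 1 - 2 * ((j : ℤ) + 1)) (hn : n' = n - ((j : ℤ) + 1))

/-- The residue datum at `x` computed through a step: for `O ⊇ F_jX` and a step at the point `x`
of codimension `j + 1`, the residue of a class on `O` followed by the map to the group of `x` is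
`∂_x` of the class of `F_jX` it defines. -/
lemma cpt_eq_of_step {x : X.scheme} (hx : WeilCoh.codim X.scheme x = j + 1)
    {O O1 : X.scheme.Opens} (h : StepData X x O O1) (hOF : ContainsFj X j O)
    (a : T.gp (X.res O) M i n)
    (hiD : i' = i + 1 - 2 * h.decomp.codim) (hnD : n' = n - h.decomp.codim) :
    ((T.ocolimι (X.ptSub x) (fun U => (U : Set (X.ptSub x).scheme).Nonempty)
      i' n' (stepIdx h)).app M).hom ((T.res h.decomp M i n i' n' hiD hnD).hom a) =
    (Q.cpt ⟨x, hx⟩ M i n i' n' hi hn).hom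
      (((T.ocolimι X (ContainsFj X j) i n ⟨O, hOF, h.hO⟩).app M).hom a) := by
  have hspec := Q.cpt_spec ⟨x, hx⟩ M i n i' n' hi hn (Y := X.res O1) (X.resι O1 h.hO1) h.decomp
    (stepIdx h) (𝟙 ((X.ptSub x).res ((X.ptSubι x) ⁻¹ᵁ O1)))
    (by
      show 𝟙 _ ≫ ((X.ptSubι x) ∣_ O1) ≫ O1.ι = ((X.ptSubι x) ⁻¹ᵁ O1).ι ≫ X.ptSubι x
      rw [Category.id_comp, morphismRestrict_ι])
    ⟨O, hOF, h.hO⟩ (𝟙 (X.res O))
    (by
      show 𝟙 _ ≫ X.scheme.homOfLE h.le ≫ O1.ι = O.ι
      rw [Category.id_comp, Scheme.homOfLE_ι])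
    hiD hnD
  have h1 := congrArg (fun φ => φ.hom a) hspec
  simp only [ModuleCat.hom_comp, LinearMap.comp_apply] at h1
  have e1 : (T.pull (𝟙 (X.res O)) M i n).hom a = a := pull_id_apply T.toPreTheory _ M i n a
  have e2 : ∀ r : T.gp ((X.ptSub x).res ((X.ptSubι x) ⁻¹ᵁ O1)) M i' n',
      (T.pull (𝟙 ((X.ptSub x).res ((X.ptSubι x) ⁻¹ᵁ O1))) M i' n').hom r = r :=
    fun r => pull_id_apply T.toPreTheory _ M i' n' r
  have h2 := congrArg (fun t => (Q.cpt ⟨x, hx⟩ M i n i' n' hi hn).hom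
    (((T.fjι X j i n ⟨O, hOF, h.hO⟩).app M).hom t)) e1
  exact ((congrArg _ (e2 _)).symm.trans (h1.symm.trans h2))

end ResData

section Geo

/-- The dimension of the closure of a point decreases under specialization. -/
lemma pdim_le_of_mem_closure (X : Obj V) {x y : X.scheme}
    (hy : y ∈ closure ({x} : Set X.scheme)) :
    WeilCoh.pdim X.scheme y ≤ WeilCoh.pdim X.scheme x := by
  have hsub : closure ({y} : Set X.scheme) ⊆ closure ({x} : Set X.scheme) :=
    closure_minimal (Set.singleton_subset_iff.mpr hy) isClosed_closure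
  exact natDim_le_of_le (Groth.Agent.Helper8.topDim_mono hsub)
    (lt_of_le_of_lt (topologicalKrullDim_subspace_le _ _) (dim_lt_top_obj X))

/-- The complement of the closure of `x` in the open `U'`. -/
def complOpen (X : Obj V) (x : X.scheme) (U' : X.scheme.Opens) : X.scheme.Opens :=
  U' ⊓ ⟨(closure ({x} : Set X.scheme))ᶜ, isClosed_closure.isOpen_compl⟩

lemma containsFj_complOpen (X : Obj V) (j : ℕ) {x : X.scheme}
    (hx : WeilCoh.codim X.scheme x = j + 1) (U' : X.scheme.Opens)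
    (hU' : ContainsFj X (j + 1) U') : ContainsFj X j (complOpen X x U') := by
  intro y hy
  refine ⟨hU' y (by omega), ?_⟩
  intro hycl
  have h1 := pdim_le_of_mem_closure X hycl
  have h2 := pdim_le_dim_obj X x
  have h3 := pdim_le_dim_obj X y
  unfold WeilCoh.codim at hx hy
  omega

lemma stepData_complOpen (X : Obj V) (j : ℕ) {x : X.scheme}
    (hx : WeilCoh.codim X.scheme x = j + 1) (U' : X.scheme.Opens)
    (hU' : ContainsFj X (j + 1) U') : StepData X x (complOpen X x U') U' where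
  hO := dim_of_containsFj X j _ (containsFj_complOpen X j hx U' hU')
  le := inf_le_left
  hx := fun h => h.2 (subset_closure rfl)
  ne := ⟨x, hU' x (by omega), fun h => h.2 (subset_closure rfl)⟩
  sub := by
    intro y hy hyO
    by_contra hcl
    exact hyO ⟨hy, hcl⟩

end Geo

section Exact

variable (T : TheoryOn V R A) (X : Obj V) (j : ℕ) (Q : T.ResData X j) (M : A.Cat)
  (i n i' n' : ℤ) (hi : i' = i + 1 - 2 * ((j : ℤ) + 1)) (hn : n' = n - ((j : ℤ) + 1))

/-- The residue maps vanish on classes coming from `F_{j+1}X`. -/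
theorem cpt_fjRes_eq_zero (x : X.cdPt (j + 1)) (w : T.fjGp X (j + 1) M i n) :
    (Q.cpt x M i n i' n' hi hn).hom (((T.fjRes X (Nat.le_succ j) i n).app M).hom w) = 0 := by
  obtain ⟨U', a', rfl⟩ := exists_rep T.toPreTheory X (ContainsFj X (j + 1)) i n M w
  obtain ⟨x, hx⟩ := x
  show (Q.cpt ⟨x, hx⟩ M i n i' n' hi hn).hom
    (((T.ocolimMap X (containsFj_mono X (Nat.le_succ j)) i n).app M).hom
      (((T.ocolimι X (ContainsFj X (j + 1)) i n U').app M).hom a')) = 0
  rw [ocolimMap_ι]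
  have hOF := containsFj_complOpen X j hx U'.1 U'.2.1
  have hstep := stepData_complOpen X j hx U'.1 U'.2.1
  have hc : hstep.decomp.codim = (j : ℤ) + 1 :=
    (hstep.relCodim_decomp).trans (codim_cast X j hx)
  have hiD : i' = i + 1 - 2 * hstep.decomp.codim := by rw [hc]; exact hi
  have hnD : n' = n - hstep.decomp.codim := by rw [hc]; exact hn
  let a : T.gp (X.res (complOpen X x U'.1)) M i n :=
    (T.pull (X.resLE hstep.le (hstep.hO.trans hstep.hO1.symm)) M i n).hom a'
  have key := cpt_eq_of_step T X j Q M i n i' n' hi hn hx hstep hOF a hiD hnD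
  have hpull := ocolimι_pull T.toPreTheory X (ContainsFj X j) i n M
    (U := ⟨U'.1, containsFj_mono X (Nat.le_succ j) _ U'.2.1, U'.2.2⟩)
    (U' := ⟨complOpen X x U'.1, hOF, hstep.hO⟩) hstep.le a'
  have hex := T.exact_pull_res hstep.decomp M i n i' n' hiD hnD
  have hzero : (T.res hstep.decomp M i n i' n' hiD hnD).hom a = 0 :=
    hex.apply_apply_eq_zero a'
  rw [← hpull]
  refine (key.symm.trans ?_)
  exact (congrArg (fun t => ((T.ocolimι (X.ptSub x)
    (fun U => (U : Set (X.ptSub x).scheme).Nonempty) i' n' (stepIdx hstep)).app M).hom t)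
    hzero).trans (map_zero _)

/-- Extension over the points of codimension `j + 1` of a class all of whose residues vanish. -/
theorem exists_extension'
    (U : Idx X (ContainsFj X j)) (a : T.gp (X.res U.1) M i n)
    (hres : ∀ x : X.cdPt (j + 1), (Q.cpt x M i n i' n' hi hn).hom
      (((T.ocolimι X (ContainsFj X j) i n U).app M).hom a) = 0) :
    ∃ (O : X.scheme.Opens) (hle : U.1 ≤ O) (hd : WeilCoh.dim (O : Scheme.{u}) = WeilCoh.dim X.scheme)
      (a' : T.gp (X.res O) M i n), ContainsFj X (j + 1) O ∧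
      (T.pull (X.resLE hle (U.2.2.trans hd.symm)) M i n).hom a' = a := by
  let S : Set X.scheme.Opens := {O | ∃ (hle : U.1 ≤ O)
    (hd : WeilCoh.dim (O : Scheme.{u}) = WeilCoh.dim X.scheme) (a' : T.gp (X.res O) M i n),
    (T.pull (X.resLE hle (U.2.2.trans hd.symm)) M i n).hom a' = a}
  have hS : S.Nonempty := by
    refine ⟨U.1, le_refl _, U.2.2, a, ?_⟩
    rw [resLE_refl, pull_id_apply]
  obtain ⟨O, ⟨hle, hd, a', ha'⟩, hmax⟩ := (wellFounded_gt (α := X.scheme.Opens)).has_min S hS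
  refine ⟨O, hle, hd, a', ?_, ha'⟩
  intro y hy
  by_contra hyO
  have hcod : WeilCoh.codim X.scheme y = j + 1 := by
    have : ¬ WeilCoh.codim X.scheme y ≤ j := fun h => hyO (hle (U.2.1 y h))
    omega
  have hOF : ContainsFj X j O := fun z hz => hle (U.2.1 z hz)
  obtain ⟨O1, hO1, hy1, hsub⟩ := exists_step_open X O y (pdim_le_of_not_mem X j hOF hcod)
  have hstep : StepData X y O O1 := ⟨hd, hO1, hyO, ⟨y, hy1, hyO⟩, hsub⟩
  have hc := codim_cast X j hcod
  have hcD : hstep.decomp.codim = (j : ℤ) + 1 := (hstep.relCodim_decomp).trans hc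
  have hiD : i' = i + 1 - 2 * hstep.decomp.codim := by rw [hcD]; exact hi
  have hnD : n' = n - hstep.decomp.codim := by rw [hcD]; exact hn
  have key := cpt_eq_of_step T X j Q M i n i' n' hi hn hcod hstep hOF a' hiD hnD
  have hpull := ocolimι_pull T.toPreTheory X (ContainsFj X j) i n M
    (U := ⟨O, hOF, hd⟩) (U' := U) hle a'
  have hr : ((T.ocolimι (X.ptSub y) (fun U => (U : Set (X.ptSub y).scheme).Nonempty)
      i' n' (stepIdx hstep)).app M).hom ((T.res hstep.decomp M i n i' n' hiD hnD).hom a') = 0 := by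
    rw [key, ← hpull]
    show (Q.cpt ⟨y, hcod⟩ M i n i' n' hi hn).hom
      (((T.ocolimι X (ContainsFj X j) i n U).app M).hom
        ((T.pull (X.resLE hle _) M i n).hom a')) = 0
    rw [ha']
    exact hres ⟨y, hcod⟩
  obtain ⟨O2, h2, -, a2, ha2⟩ := extend_step' T hstep M i n i' n'
    (by rw [hc]; exact hi) (by rw [hc]; exact hn) a' hr
  have hO2S : O2 ∈ S := by
    refine ⟨hle.trans h2.le, h2.hO1, a2, ?_⟩
    rw [← ha', ← ha2, ← pull_comp_apply, resLE_comp]
  have hlt : O2 > O := by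
    refine lt_of_le_of_ne h2.le ?_
    rintro rfl
    obtain ⟨z, hz2, hz⟩ := h2.ne
    exact hz hz2
  exact hmax O2 hO2S hlt

/-- Exactness of `H^i(F_{j+1}X) → H^i(F_jX) → ⊕_x H^{i'}(x)`. -/
theorem exact_fjRes_tot :
    Function.Exact ((T.fjRes X (Nat.le_succ j) i n).app M).hom (Q.tot M i n i' n' hi hn).hom := by
  intro z
  constructor
  · intro hz
    obtain ⟨U, a, rfl⟩ := exists_rep T.toPreTheory X (ContainsFj X j) i n M z
    have hres : ∀ x : X.cdPt (j + 1), (Q.cpt x M i n i' n' hi hn).hom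
        (((T.ocolimι X (ContainsFj X j) i n U).app M).hom a) = 0 := by
      intro x
      have := DFunLike.congr_fun hz x
      rwa [PreTheory.ResData.tot_apply] at this
    obtain ⟨O, hle, hd, a', hOF, ha'⟩ := exists_extension' T X j Q M i n i' n' hi hn U a hres
    let Oi : Idx X (ContainsFj X (j + 1)) := ⟨O, hOF, hd⟩
    refine ⟨((T.ocolimι X (ContainsFj X (j + 1)) i n Oi).app M).hom a', ?_⟩
    show ((T.ocolimMap X (containsFj_mono X (Nat.le_succ j)) i n).app M).hom _ = _
    rw [ocolimMap_ι]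
    have := ocolimι_pull T.toPreTheory X (ContainsFj X j) i n M
      (show U ≤ (⟨O, containsFj_mono X (Nat.le_succ j) O hOF, hd⟩ : Idx X (ContainsFj X j))
        from hle) a'
    rw [← this]
    show ((T.ocolimι X (ContainsFj X j) i n U).app M).hom
      ((T.pull (X.resLE hle _) M i n).hom a') = _
    rw [ha']
  · rintro ⟨w, rfl⟩
    refine DFinsupp.ext fun x => ?_
    rw [PreTheory.ResData.tot_apply]
    exact cpt_fjRes_eq_zero T X j Q M i n i' n' hi hn x w

end Exact

end Groth.Agent.Lib.Helper5.Misc.BMExact1
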