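import Mathlib
import Groth.Prelude.Def_BMCoh3
import Groth.Agent.Lib.Helper5.Misc.BMExact1

set_option autoImplicit false
universe u
open CategoryTheory CategoryTheory.Limits AlgebraicGeometry Opposite TopologicalSpace
open BMCoh

namespace Groth.Agent.Lib.Helper5.Misc.BMExact2

open Groth.Agent.Lib.Helper5.Misc.BMLib Groth.Agent.Lib.Helper5.Misc.BMColim
open Groth.Agent.Lib.Helper5.Misc.BMGeo Groth.Agent.Lib.Helper5.Misc.BMVan
open Groth.Agent.Lib.Helper5.Misc.BMBij Groth.Agent.Lib.Helper5.Misc.WeilGeo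
open Groth.Agent.Lib.Helper5.Misc.BMGeo2 Groth.Agent.Lib.Helper5.Misc.BMStep
open Groth.Agent.Lib.Helper5.Misc.BMFj Groth.Agent.Lib.Helper5.Misc.BMRes
open Groth.Agent.Lib.Helper5.Misc.BMStep.StepData Groth.Agent.Lib.Helper5.Misc.BMExact1

variable {V : ObjectProperty Scheme.{u}} [IsConstructible V] {R : Type u} [CommRing R]
  {A : Coefs R}

section Geo

/-- Strict decrease of the dimension of the closure under proper specialization. -/
lemma pdim_lt_of_mem_closure_ne (X : Obj V) {x y : X.scheme}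
    (hy : y ∈ closure ({x} : Set X.scheme)) (hne : y ≠ x) :
    WeilCoh.pdim X.scheme y < WeilCoh.pdim X.scheme x := by
  have hsub : closure ({y} : Set X.scheme) ⊆ closure ({x} : Set X.scheme) :=
    closure_minimal (Set.singleton_subset_iff.mpr hy) isClosed_closure
  have hne' : closure ({y} : Set X.scheme) ≠ closure ({x} : Set X.scheme) := by
    intro h
    apply hne
    have hx : x ∈ closure ({y} : Set X.scheme) := h ▸ subset_closure rfl
    exact ((specializes_iff_mem_closure.mpr hx).antisymm (specializes_iff_mem_closure.mpr hy)).eq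
  have hfin : topologicalKrullDim ↥(closure ({x} : Set X.scheme)) < ⊤ :=
    lt_of_le_of_lt (topologicalKrullDim_subspace_le _ _) (dim_lt_top_obj X)
  have hlt := Groth.Agent.Helper8.topDim_lt_of_ssubset (isClosed_closure (s := {y}))
    (isIrreducible_singleton.closure) hsub hne' hfin
  have : Nonempty ↥(closure ({y} : Set X.scheme)) := ⟨⟨y, subset_closure rfl⟩⟩
  exact natDim_lt_of_lt hlt hfin

/-- The generic point of the closure of `x` lies in every nonempty open of it. -/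
lemma mem_of_ptSubι_eq (X : Obj V) (x : X.scheme) (W : (X.ptSub x).scheme.Opens)
    (hW : (W : Set (X.ptSub x).scheme).Nonempty) (w : (X.ptSub x).scheme)
    (hw : (X.ptSubι x) w = x) : w ∈ W := by
  obtain ⟨z, hz⟩ := hW
  have hzcl : z ∈ closure ({w} : Set (X.ptSub x).scheme) := by
    have hemb := (X.ptSubι x).isClosedEmbedding
    rw [hemb.isEmbedding.isInducing.closure_eq_preimage_closure_image]
    show (X.ptSubι x) z ∈ closure ((X.ptSubι x) '' {w})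
    rw [Set.image_singleton, hw, ← range_ptSubι]
    exact ⟨z, rfl⟩
  obtain ⟨w', hw'W, hw'⟩ := mem_closure_iff.mp hzcl W W.isOpen hz
  rw [Set.mem_singleton_iff] at hw'
  exact hw' ▸ hw'W

lemma containsFj_shrink (X : Obj V) (j : ℕ) {x : X.scheme}
    (hx : WeilCoh.codim X.scheme x = j + 1) (U'' : X.scheme.Opens)
    (hU'' : ContainsFj X (j + 1) U'') (W : (X.ptSub x).scheme.Opens)
    (hW : (W : Set (X.ptSub x).scheme).Nonempty) : ContainsFj X (j + 1) (shrink X x U'' W) := by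
  intro z hz
  refine ⟨hU'' z hz, ?_⟩
  rintro ⟨w, hwW, rfl⟩
  by_cases hzx : (X.ptSubι x) w = x
  · exact hwW (mem_of_ptSubι_eq X x W hW w hzx)
  · have hcl : (X.ptSubι x) w ∈ closure ({x} : Set X.scheme) := by
      rw [← range_ptSubι]; exact ⟨w, rfl⟩
    have h1 := pdim_lt_of_mem_closure_ne X hcl hzx
    have h2 := pdim_le_dim_obj X x
    unfold WeilCoh.codim at hx hz
    omega

lemma relCodim_pre (X : Obj V) (x : X.scheme) (O : X.scheme.Opens)
    (hd : WeilCoh.dim (O : Scheme.{u}) = WeilCoh.dim X.scheme)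
    (hne : ((((X.ptSubι x) ⁻¹ᵁ O : (X.ptSub x).scheme.Opens)) : Set (X.ptSub x).scheme).Nonempty) :
    relCodim ((X.ptSub x).res ((X.ptSubι x) ⁻¹ᵁ O)).scheme (X.res O).scheme =
      (WeilCoh.dim X.scheme : ℤ) - (WeilCoh.pdim X.scheme x : ℤ) := by
  unfold relCodim
  show ((WeilCoh.dim (O : Scheme.{u}) : ℤ)) -
    (WeilCoh.dim ((((X.ptSubι x) ⁻¹ᵁ O : (X.ptSub x).scheme.Opens)) : Scheme.{u}) : ℤ) = _
  rw [hd, dim_open_ptSub X x _ hne, dim_ptSub]

end Geo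

section BaseChange

/-- Base change for the push-forward along the restrictions of the closed immersion of the
closure of a point. -/
lemma pull_push_restrict (T : TheoryOn V R A) (X : Obj V) (x : X.scheme) (M : A.Cat)
    {O4 O5 : X.scheme.Opens} (hle : O4 ≤ O5)
    (hd4 : WeilCoh.dim (O4 : Scheme.{u}) = WeilCoh.dim X.scheme)
    (hd5 : WeilCoh.dim (O5 : Scheme.{u}) = WeilCoh.dim X.scheme)
    (hne4 : ((((X.ptSubι x) ⁻¹ᵁ O4 : (X.ptSub x).scheme.Opens)) :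
      Set (X.ptSub x).scheme).Nonempty)
    (hne5 : ((((X.ptSubι x) ⁻¹ᵁ O5 : (X.ptSub x).scheme.Opens)) :
      Set (X.ptSub x).scheme).Nonempty)
    (hpre : (X.ptSubι x) ⁻¹ᵁ O4 ≤ (X.ptSubι x) ⁻¹ᵁ O5)
    (i n i' n' : ℤ)
    (hi5 : i' = i + 2 * relCodim ((X.ptSub x).res ((X.ptSubι x) ⁻¹ᵁ O5)).scheme (X.res O5).scheme)
    (hn5 : n' = n + relCodim ((X.ptSub x).res ((X.ptSubι x) ⁻¹ᵁ O5)).scheme (X.res O5).scheme)
    (hi4 : i' = i + 2 * relCodim ((X.ptSub x).res ((X.ptSubι x) ⁻¹ᵁ O4)).scheme (X.res O4).scheme)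
    (hn4 : n' = n + relCodim ((X.ptSub x).res ((X.ptSubι x) ⁻¹ᵁ O4)).scheme (X.res O4).scheme)
    (b : T.gp ((X.ptSub x).res ((X.ptSubι x) ⁻¹ᵁ O5)) M i n) :
    (T.pull (X.resLE hle (hd4.trans hd5.symm)) M i' n').hom
      ((T.push (X := (X.ptSub x).res ((X.ptSubι x) ⁻¹ᵁ O5)) (Y := X.res O5)
        ((X.ptSubι x) ∣_ O5) M i n i' n' hi5 hn5).hom b) =
    (T.push (X := (X.ptSub x).res ((X.ptSubι x) ⁻¹ᵁ O4)) (Y := X.res O4)
        ((X.ptSubι x) ∣_ O4) M i n i' n' hi4 hn4).hom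
      ((T.pull ((X.ptSub x).resLE hpre
        ((dim_open_ptSub X x _ hne4).trans (dim_open_ptSub X x _ hne5).symm)) M i n).hom b) := by
  have hpb := isPullback_restrict X x hle hpre
  have hbc := T.push_pull (X := (X.ptSub x).res ((X.ptSubι x) ⁻¹ᵁ O5)) (Y := X.res O5)
    (X' := (X.ptSub x).res ((X.ptSubι x) ⁻¹ᵁ O4)) (Y' := X.res O4)
    ((X.ptSubι x) ∣_ O5) ((X.ptSubι x) ∣_ O4)
    (X.resLE hle (hd4.trans hd5.symm))
    ((X.ptSub x).resLE hpre ((dim_open_ptSub X x _ hne4).trans (dim_open_ptSub X x _ hne5).symm))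
    hpb M i n i' n' hi5 hn5 hi4 hn4
  exact congrArg (fun φ => φ.hom b) hbc

end BaseChange

section Push

variable (T : TheoryOn V R A) (X : Obj V) (j : ℕ) (P : T.PushData X (j + 1)) (M : A.Cat)
  (i n i' n' : ℤ) (hi : i' = i + 2 * ((j + 1 : ℕ) : ℤ)) (hn : n' = n + ((j + 1 : ℕ) : ℤ))

/-- The push-forward datum at `x` computed through a step whose big open contains
`F_{j+1}X`. -/
lemma cpt_eq_push_of_step {x : X.scheme} (hx : WeilCoh.codim X.scheme x = j + 1)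
    {O O1 : X.scheme.Opens} (h : StepData X x O O1) (hO1F : ContainsFj X (j + 1) O1)
    (b : T.gp ((X.ptSub x).res ((X.ptSubι x) ⁻¹ᵁ O1)) M i n)
    (hiD : i' = i + 2 * relCodim ((X.ptSub x).res ((X.ptSubι x) ⁻¹ᵁ O1)).scheme (X.res O1).scheme)
    (hnD : n' = n + relCodim ((X.ptSub x).res ((X.ptSubι x) ⁻¹ᵁ O1)).scheme (X.res O1).scheme) :
    (P.cpt ⟨x, hx⟩ M i n i' n' hi hn).hom
      (((T.ptι X x i n (stepIdx h)).app M).hom b) =
    ((T.fjι X (j + 1) i' n' ⟨O1, hO1F, h.hO1⟩).app M).hom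
      ((T.push (X := (X.ptSub x).res ((X.ptSubι x) ⁻¹ᵁ O1)) (Y := X.res O1)
        ((X.ptSubι x) ∣_ O1) M i n i' n' hiD hnD).hom b) := by
  have hspec := P.cpt_spec ⟨x, hx⟩ M i n i' n' hi hn ⟨O1, hO1F, h.hO1⟩ (stepIdx h)
    ((X.ptSubι x) ∣_ O1) (morphismRestrict_ι _ _) hiD hnD
  exact congrArg (fun φ => φ.hom b) hspec

/-- Restriction to `F_jX` kills the push-forward from a point of codimension `j + 1`. -/
theorem fjRes_cpt_eq_zero (x : X.cdPt (j + 1)) (β : T.ptGp X x.1 M i n) :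
    ((T.fjRes X (Nat.le_succ j) i' n').app M).hom ((P.cpt x M i n i' n' hi hn).hom β) = 0 := by
  obtain ⟨x, hx⟩ := x
  obtain ⟨W, b0, rfl⟩ := exists_rep T.toPreTheory (X.ptSub x)
    (fun U => (U : Set (X.ptSub x).scheme).Nonempty) i n M β
  have hU3F : ContainsFj X (j + 1) (shrink X x ⊤ W.1) :=
    containsFj_shrink X j hx ⊤ (fun _ _ => trivial) W.1 W.2.1
  have hstep3 := stepData_complOpen X j hx (shrink X x ⊤ W.1) hU3F
  have hpre3 : (X.ptSubι x) ⁻¹ᵁ (shrink X x ⊤ W.1) ≤ W.1 := pre_shrink_le X x ⊤ W.1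
  have hc := codim_cast X j hx
  have hcD3 : relCodim ((X.ptSub x).res ((X.ptSubι x) ⁻¹ᵁ (shrink X x ⊤ W.1))).scheme
      (X.res (shrink X x ⊤ W.1)).scheme = (j : ℤ) + 1 :=
    (relCodim_pre X x _ hstep3.hO1 hstep3.nonempty_pre).trans hc
  have hiD3 : i' = i + 2 * relCodim ((X.ptSub x).res
      ((X.ptSubι x) ⁻¹ᵁ (shrink X x ⊤ W.1))).scheme (X.res (shrink X x ⊤ W.1)).scheme := by
    rw [hcD3, hi]; push_cast; ring
  have hnD3 : n' = n + relCodim ((X.ptSub x).res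
      ((X.ptSubι x) ⁻¹ᵁ (shrink X x ⊤ W.1))).scheme (X.res (shrink X x ⊤ W.1)).scheme := by
    rw [hcD3, hn]; push_cast; ring
  let b3 : T.gp ((X.ptSub x).res ((X.ptSubι x) ⁻¹ᵁ (shrink X x ⊤ W.1))) M i n :=
    (T.pull ((X.ptSub x).resLE hpre3
      ((dim_open_ptSub X x _ hstep3.nonempty_pre).trans W.2.2.symm)) M i n).hom b0
  have e0 : ((T.ptι X x i n (stepIdx hstep3)).app M).hom b3 =
      ((T.ptι X x i n W).app M).hom b0 :=
    ocolimι_pull T.toPreTheory (X.ptSub x) (fun U => (U : Set (X.ptSub x).scheme).Nonempty) i n M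
      (U := W) (U' := stepIdx hstep3) hpre3 b0
  have key := cpt_eq_push_of_step T X j P M i n i' n' hi hn hx hstep3 hU3F b3 hiD3 hnD3
  rw [e0] at key
  show ((T.fjRes X (Nat.le_succ j) i' n').app M).hom
    ((P.cpt ⟨x, hx⟩ M i n i' n' hi hn).hom (((T.ptι X x i n W).app M).hom b0)) = 0
  rw [key]
  show ((T.ocolimMap X (containsFj_mono X (Nat.le_succ j)) i' n').app M).hom
    (((T.ocolimι X (ContainsFj X (j + 1)) i' n' ⟨shrink X x ⊤ W.1, hU3F, hstep3.hO1⟩).app M).hom _)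
      = 0
  rw [ocolimMap_ι]
  have hOF := containsFj_complOpen X j hx _ hU3F
  have hpull := ocolimι_pull T.toPreTheory X (ContainsFj X j) i' n' M
    (U := ⟨shrink X x ⊤ W.1, containsFj_mono X (Nat.le_succ j) _ hU3F, hstep3.hO1⟩)
    (U' := ⟨complOpen X x (shrink X x ⊤ W.1), hOF, hstep3.hO⟩) hstep3.le
  rw [← hpull]
  obtain ⟨i0, rfl⟩ : ∃ i0, i' = i0 + 1 := ⟨i' - 1, by ring⟩
  have hex := T.exact_push_pull hstep3.decomp M i0 n' i n hiD3 hnD3
  have hz := hex.apply_apply_eq_zero b3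
  exact (congrArg (fun t => ((T.ocolimι X (ContainsFj X j) (i0 + 1) n'
    ⟨complOpen X x (shrink X x ⊤ W.1), hOF, hstep3.hO⟩).app M).hom t) hz).trans (map_zero _)

/-- The algebraic part of the induction step: a class on `U''` whose restriction to `O5` is a
push-forward from the piece of the closure of `x` in `O5` differs, on a smaller open `U3` in which
a smaller piece is closed, from a push-forward by a class vanishing on `O4 ≤ O5 ⊓ U3`. -/
lemma step_alg {x : X.scheme} (hx : WeilCoh.codim X.scheme x = j + 1)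
    (U'' : Idx X (ContainsFj X (j + 1))) {U3 O5 O4 : X.scheme.Opens}
    (hU3F : ContainsFj X (j + 1) U3)
    (hd3 : WeilCoh.dim (U3 : Scheme.{u}) = WeilCoh.dim X.scheme) (hle3 : U3 ≤ U''.1)
    (hle5 : O5 ≤ U''.1) (hd5 : WeilCoh.dim (O5 : Scheme.{u}) = WeilCoh.dim X.scheme)
    (hne5 : ((((X.ptSubι x) ⁻¹ᵁ O5 : (X.ptSub x).scheme.Opens)) :
      Set (X.ptSub x).scheme).Nonempty)
    (hpre3 : (X.ptSubι x) ⁻¹ᵁ U3 ≤ (X.ptSubι x) ⁻¹ᵁ O5)
    (h45 : O4 ≤ O5) (h43 : O4 ≤ U3)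
    (hd4 : WeilCoh.dim (O4 : Scheme.{u}) = WeilCoh.dim X.scheme)
    (hne4 : ((((X.ptSubι x) ⁻¹ᵁ O4 : (X.ptSub x).scheme.Opens)) :
      Set (X.ptSub x).scheme).Nonempty)
    (a'' : T.gp (X.res U''.1) M i' n') (b : T.gp ((X.ptSub x).res ((X.ptSubι x) ⁻¹ᵁ O5)) M i n)
    (hi5 : i' = i + 2 * relCodim ((X.ptSub x).res ((X.ptSubι x) ⁻¹ᵁ O5)).scheme (X.res O5).scheme)
    (hn5 : n' = n + relCodim ((X.ptSub x).res ((X.ptSubι x) ⁻¹ᵁ O5)).scheme (X.res O5).scheme)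
    (hb : (T.push (X := (X.ptSub x).res ((X.ptSubι x) ⁻¹ᵁ O5)) (Y := X.res O5)
        ((X.ptSubι x) ∣_ O5) M i n i' n' hi5 hn5).hom b =
      (T.pull (X.resLE hle5 (hd5.trans U''.2.2.symm)) M i' n').hom a'') :
    ∃ (a3 : T.gp (X.res U3) M i' n') (β : T.ptGp X x M i n),
      (T.pull (X.resLE h43 (hd4.trans hd3.symm)) M i' n').hom a3 = 0 ∧
      ((T.fjι X (j + 1) i' n' U'').app M).hom a'' =
        ((T.fjι X (j + 1) i' n' ⟨U3, hU3F, hd3⟩).app M).hom a3 +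
          (P.cpt ⟨x, hx⟩ M i n i' n' hi hn).hom β := by
  have hstep3 := stepData_complOpen X j hx U3 hU3F
  have hne3 := hstep3.nonempty_pre
  have hc := codim_cast X j hx
  have hcD3 : relCodim ((X.ptSub x).res ((X.ptSubι x) ⁻¹ᵁ U3)).scheme (X.res U3).scheme
      = (j : ℤ) + 1 := (relCodim_pre X x _ hd3 hne3).trans hc
  have hcD4 : relCodim ((X.ptSub x).res ((X.ptSubι x) ⁻¹ᵁ O4)).scheme (X.res O4).scheme
      = (j : ℤ) + 1 := (relCodim_pre X x _ hd4 hne4).trans hc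
  have hi3 : i' = i + 2 * relCodim ((X.ptSub x).res ((X.ptSubι x) ⁻¹ᵁ U3)).scheme
      (X.res U3).scheme := by rw [hcD3, hi]; push_cast; ring
  have hn3 : n' = n + relCodim ((X.ptSub x).res ((X.ptSubι x) ⁻¹ᵁ U3)).scheme
      (X.res U3).scheme := by rw [hcD3, hn]; push_cast; ring
  have hi4 : i' = i + 2 * relCodim ((X.ptSub x).res ((X.ptSubι x) ⁻¹ᵁ O4)).scheme
      (X.res O4).scheme := by rw [hcD4, hi]; push_cast; ring
  have hn4 : n' = n + relCodim ((X.ptSub x).res ((X.ptSubι x) ⁻¹ᵁ O4)).scheme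
      (X.res O4).scheme := by rw [hcD4, hn]; push_cast; ring
  have hpre45 : (X.ptSubι x) ⁻¹ᵁ O4 ≤ (X.ptSubι x) ⁻¹ᵁ O5 := fun z hz => h45 hz
  have hpre43 : (X.ptSubι x) ⁻¹ᵁ O4 ≤ (X.ptSubι x) ⁻¹ᵁ U3 := fun z hz => h43 hz
  let b3 : T.gp ((X.ptSub x).res ((X.ptSubι x) ⁻¹ᵁ U3)) M i n :=
    (T.pull ((X.ptSub x).resLE hpre3
      ((dim_open_ptSub X x _ hne3).trans (dim_open_ptSub X x _ hne5).symm)) M i n).hom b
  let p3 : T.gp (X.res U3) M i' n' :=
    (T.push (X := (X.ptSub x).res ((X.ptSubι x) ⁻¹ᵁ U3)) (Y := X.res U3)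
      ((X.ptSubι x) ∣_ U3) M i n i' n' hi3 hn3).hom b3
  let r3 : T.gp (X.res U3) M i' n' :=
    (T.pull (X.resLE hle3 (hd3.trans U''.2.2.symm)) M i' n').hom a''
  refine ⟨r3 - p3, ((T.ptι X x i n (stepIdx hstep3)).app M).hom b3, ?_, ?_⟩
  · rw [map_sub, sub_eq_zero]
    have e1 : (T.pull (X.resLE h43 (hd4.trans hd3.symm)) M i' n').hom r3 =
        (T.pull (X.resLE h45 (hd4.trans hd5.symm)) M i' n').hom
          ((T.pull (X.resLE hle5 (hd5.trans U''.2.2.symm)) M i' n').hom a'') := by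
      show (T.pull _ M i' n').hom ((T.pull _ M i' n').hom a'') = _
      rw [← pull_comp_apply, resLE_comp, ← pull_comp_apply, resLE_comp]
    rw [e1, ← hb]
    rw [pull_push_restrict T X x M h45 hd4 hd5 hne4 hne5 hpre45 i n i' n' hi5 hn5 hi4 hn4 b]
    rw [pull_push_restrict T X x M h43 hd4 hd3 hne4 hne3 hpre43 i n i' n' hi3 hn3 hi4 hn4 b3]
    congr 1
    show _ = (T.pull _ M i n).hom ((T.pull _ M i n).hom b)
    rw [← pull_comp_apply, resLE_comp]
  · have hpull := ocolimι_pull T.toPreTheory X (ContainsFj X (j + 1)) i' n' M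
      (U := U'') (U' := ⟨U3, hU3F, hd3⟩) hle3 a''
    have key := cpt_eq_push_of_step T X j P M i n i' n' hi hn hx hstep3 hU3F b3 hi3 hn3
    rw [key, ← map_add]
    show _ = ((T.fjι X (j + 1) i' n' ⟨U3, hU3F, hd3⟩).app M).hom (r3 - p3 + p3)
    rw [sub_add_cancel]
    exact hpull.symm

/-- A class on an open containing `F_{j+1}X` which vanishes on its intersection with an open
containing `F_jX` is, in the groups of `F_{j+1}X`, a sum of push-forwards from points of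
codimension `j + 1`. -/
theorem mem_range_of_vanish (O : X.scheme.Opens) :
    ContainsFj X j O → ∀ (U'' : Idx X (ContainsFj X (j + 1))) (a'' : T.gp (X.res U''.1) M i' n')
      (hd : WeilCoh.dim ((O ⊓ U''.1 : X.scheme.Opens) : Scheme.{u}) = WeilCoh.dim X.scheme),
      (T.pull (X.resLE (inf_le_right : O ⊓ U''.1 ≤ U''.1) (hd.trans U''.2.2.symm)) M i' n').hom a''
        = 0 →
      ((T.fjι X (j + 1) i' n' U'').app M).hom a'' ∈
        LinearMap.range (P.tot M i n i' n' hi hn).hom := by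
  induction O using WellFoundedGT.induction with
  | ind O IH =>
  intro hOF U'' a'' hd h0
  by_cases hO1F : ContainsFj X (j + 1) O
  · have hF : ContainsFj X (j + 1) (O ⊓ U''.1) := fun y hy => ⟨hO1F y hy, U''.2.1 y hy⟩
    have hpull := ocolimι_pull T.toPreTheory X (ContainsFj X (j + 1)) i' n' M
      (U := U'') (U' := ⟨O ⊓ U''.1, hF, hd⟩) (inf_le_right : O ⊓ U''.1 ≤ U''.1) a''
    rw [← hpull]
    have : ((T.ocolimι X (ContainsFj X (j + 1)) i' n' ⟨O ⊓ U''.1, hF, hd⟩).app M).hom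
        ((T.pull (X.resLE (inf_le_right : O ⊓ U''.1 ≤ U''.1) (hd.trans U''.2.2.symm)) M i' n').hom
          a'') = 0 := by
      rw [h0, map_zero]
    exact this ▸ Submodule.zero_mem _
  · unfold ContainsFj at hO1F
    push Not at hO1F
    obtain ⟨y, hy, hyO⟩ := hO1F
    have hcod : WeilCoh.codim X.scheme y = j + 1 := by
      have : ¬ WeilCoh.codim X.scheme y ≤ j := fun h => hyO (hOF y h)
      omega
    obtain ⟨O1, hO1, hy1, hsub⟩ := exists_step_open X O y (pdim_le_of_not_mem X j hOF hcod)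
    have hyU : y ∈ U''.1 := U''.2.1 y hy
    have hstep : StepData X y (O ⊓ U''.1) (O1 ⊓ U''.1) :=
      ⟨hd, inf_le_inf_right _ hO1, fun h => hyO h.1, ⟨y, ⟨hy1, hyU⟩, fun h => hyO h.1⟩,
        fun z hz hzO => hsub z hz.1 (fun h => hzO ⟨h, hz.2⟩)⟩
    have hc := codim_cast X j hcod
    obtain ⟨i0, rfl⟩ : ∃ i0, i' = i0 + 1 := ⟨i' - 1, by ring⟩
    have hcD : relCodim ((X.ptSub y).res ((X.ptSubι y) ⁻¹ᵁ (O1 ⊓ U''.1))).scheme
        (X.res (O1 ⊓ U''.1)).scheme = (j : ℤ) + 1 :=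
      (relCodim_pre X y _ hstep.hO1 hstep.nonempty_pre).trans hc
    have hiD : i0 + 1 = i + 2 * relCodim ((X.ptSub y).res
        ((X.ptSubι y) ⁻¹ᵁ (O1 ⊓ U''.1))).scheme (X.res (O1 ⊓ U''.1)).scheme := by
      rw [hcD, hi]; push_cast; ring
    have hnD : n' = n + relCodim ((X.ptSub y).res
        ((X.ptSubι y) ⁻¹ᵁ (O1 ⊓ U''.1))).scheme (X.res (O1 ⊓ U''.1)).scheme := by
      rw [hcD, hn]; push_cast; ring
    have hex := T.exact_push_pull hstep.decomp M i0 n' i n hiD hnD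
    let a1 : T.gp (X.res (O1 ⊓ U''.1)) M (i0 + 1) n' :=
      (T.pull (X.resLE (inf_le_right : O1 ⊓ U''.1 ≤ U''.1) (hstep.hO1.trans U''.2.2.symm))
        M (i0 + 1) n').hom a''
    have ha1 : (T.pull (X.resLE hstep.le (hstep.hO.trans hstep.hO1.symm)) M (i0 + 1) n').hom a1
        = 0 := by
      show (T.pull _ M _ _).hom ((T.pull _ M _ _).hom a'') = 0
      rw [← pull_comp_apply, resLE_comp]
      exact h0
    obtain ⟨b, hb⟩ := (hex a1).mp ha1
    have hb' : (T.push (X := (X.ptSub y).res ((X.ptSubι y) ⁻¹ᵁ (O1 ⊓ U''.1)))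
        (Y := X.res (O1 ⊓ U''.1)) ((X.ptSubι y) ∣_ (O1 ⊓ U''.1)) M i n (i0 + 1) n' hiD hnD).hom b
        = a1 := hb
    -- the open `U3 ⊇ F_{j+1}X` in which the piece of the closure of `y` is closed
    have hU3F : ContainsFj X (j + 1) (shrink X y U''.1 ((X.ptSubι y) ⁻¹ᵁ (O1 ⊓ U''.1))) :=
      containsFj_shrink X j hcod U''.1 U''.2.1 _ hstep.nonempty_pre
    have hstep3 := stepData_complOpen X j hcod
      (shrink X y U''.1 ((X.ptSubι y) ⁻¹ᵁ (O1 ⊓ U''.1))) hU3F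
    have hpre3 : (X.ptSubι y) ⁻¹ᵁ (shrink X y U''.1 ((X.ptSubι y) ⁻¹ᵁ (O1 ⊓ U''.1))) ≤
        (X.ptSubι y) ⁻¹ᵁ (O1 ⊓ U''.1) := pre_shrink_le X y U''.1 _
    have hle3 : shrink X y U''.1 ((X.ptSubι y) ⁻¹ᵁ (O1 ⊓ U''.1)) ≤ U''.1 := shrink_le X y U''.1 _
    have hd3 := hstep3.hO1
    have hO1F' : ContainsFj X j O1 := fun z hz => hO1 (hOF z hz)
    have hF4 : ContainsFj X j (O1 ⊓ shrink X y U''.1 ((X.ptSubι y) ⁻¹ᵁ (O1 ⊓ U''.1))) :=
      fun z hz => ⟨hO1F' z hz, hU3F z (by omega)⟩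
    have hd4 := dim_of_containsFj X j _ hF4
    have hy3 : y ∈ shrink X y U''.1 ((X.ptSubι y) ⁻¹ᵁ (O1 ⊓ U''.1)) := hU3F y hy
    have hne4 : ((((X.ptSubι y) ⁻¹ᵁ (O1 ⊓ shrink X y U''.1 ((X.ptSubι y) ⁻¹ᵁ (O1 ⊓ U''.1))) :
        (X.ptSub y).scheme.Opens)) : Set (X.ptSub y).scheme).Nonempty := by
      have hy' : y ∈ Set.range (X.ptSubι y) := by rw [range_ptSubι]; exact subset_closure rfl
      obtain ⟨w, hw⟩ := hy'
      refine ⟨w, ?_⟩
      show (X.ptSubι y) w ∈ O1 ⊓ shrink X y U''.1 ((X.ptSubι y) ⁻¹ᵁ (O1 ⊓ U''.1))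
      rw [hw]
      exact ⟨hy1, hy3⟩
    obtain ⟨a3, β, ha3, hsum⟩ := step_alg T X j P M i n (i0 + 1) n' hi hn hcod U'' hU3F hd3 hle3
      (inf_le_right : O1 ⊓ U''.1 ≤ U''.1) hstep.hO1 hstep.nonempty_pre hpre3
      (inf_le_inf_left O1 hle3) inf_le_right hd4 hne4 a'' b hiD hnD hb'
    have hlt : O < O1 := by
      refine lt_of_le_of_ne hO1 ?_
      rintro rfl
      exact hyO hy1
    have hmem := IH O1 hlt hO1F' ⟨_, hU3F, hd3⟩ a3 hd4 ha3
    rw [hsum]
    refine Submodule.add_mem _ hmem ?_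
    classical
    exact ⟨DirectSum.lof R (X.cdPt (j + 1)) (fun z : X.cdPt (j + 1) => T.ptGp X z.1 M i n)
      ⟨y, hcod⟩ β, PreTheory.PushData.tot_lof P M i n (i0 + 1) n' hi hn ⟨y, hcod⟩ β⟩

/-- Exactness of `⊕_x H^i(x) → H^{i'}(F_{j+1}X) → H^{i'}(F_jX)`. -/
theorem exact_tot_fjRes :
    Function.Exact (P.tot M i n i' n' hi hn).hom
      ((T.fjRes X (Nat.le_succ j) i' n').app M).hom := by
  intro z
  constructor
  · intro hz
    obtain ⟨U', a', rfl⟩ := exists_rep T.toPreTheory X (ContainsFj X (j + 1)) i' n' M z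
    have hz' : ((T.ocolimMap X (containsFj_mono X (Nat.le_succ j)) i' n').app M).hom
        (((T.ocolimι X (ContainsFj X (j + 1)) i' n' U').app M).hom a') = 0 := hz
    rw [ocolimMap_ι] at hz'
    obtain ⟨U, hUle, hU0⟩ := exists_pull_eq_zero T.toPreTheory X (ContainsFj X j) i' n' M
      (⟨U'.1, containsFj_mono X (Nat.le_succ j) _ U'.2.1, U'.2.2⟩ : Idx X (ContainsFj X j)) a' hz'
    have hUle' : U.1 ≤ U'.1 := hUle
    have hd : WeilCoh.dim ((U.1 ⊓ U'.1 : X.scheme.Opens) : Scheme.{u}) = WeilCoh.dim X.scheme :=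
      dim_of_containsFj X j _ (fun y hy => ⟨U.2.1 y hy, U'.2.1 y (by omega)⟩)
    have h0 : (T.pull (X.resLE (inf_le_right : U.1 ⊓ U'.1 ≤ U'.1) (hd.trans U'.2.2.symm))
        M i' n').hom a' = 0 := by
      have hfac : X.resLE (inf_le_right : U.1 ⊓ U'.1 ≤ U'.1) (hd.trans U'.2.2.symm) =
          X.resLE (inf_le_left : U.1 ⊓ U'.1 ≤ U.1) (hd.trans U.2.2.symm) ≫
            X.resLE hUle' (U.2.2.trans U'.2.2.symm) := (resLE_comp X _ _ _ _).symm
      rw [hfac, pull_comp_apply]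
      exact (congrArg (fun t => (T.pull (X.resLE (inf_le_left : U.1 ⊓ U'.1 ≤ U.1)
        (hd.trans U.2.2.symm)) M i' n').hom t) hU0).trans (map_zero _)
    exact LinearMap.mem_range.mp
      (mem_range_of_vanish T X j P M i n i' n' hi hn U.1 U.2.1 U' a' hd h0)
  · rintro ⟨ξ, rfl⟩
    classical
    have hcomp : ((T.fjRes X (Nat.le_succ j) i' n').app M).hom ∘ₗ (P.tot M i n i' n' hi hn).hom
        = 0 := by
      apply DirectSum.linearMap_ext
      intro x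
      ext β
      simp only [LinearMap.comp_apply, LinearMap.zero_apply]
      rw [PreTheory.PushData.tot_lof]
      exact fjRes_cpt_eq_zero T X j P M i n i' n' hi hn x β
    exact LinearMap.congr_fun hcomp ξ

end Push

end Groth.Agent.Lib.Helper5.Misc.BMExact2
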