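import Mathlib
import Groth.Prelude.Def_BMCoh3
import Groth.Agent.Lib.Helper5.Misc.BMExact2

set_option autoImplicit false
universe u
open CategoryTheory CategoryTheory.Limits AlgebraicGeometry Opposite TopologicalSpace
open BMCoh

namespace Groth.Agent.Lib.Helper5.Misc.BMUniq

open Groth.Agent.Lib.Helper5.Misc.BMLib Groth.Agent.Lib.Helper5.Misc.BMColim
open Groth.Agent.Lib.Helper5.Misc.BMGeo Groth.Agent.Lib.Helper5.Misc.BMVan
open Groth.Agent.Lib.Helper5.Misc.BMBij Groth.Agent.Lib.Helper5.Misc.WeilGeo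
open Groth.Agent.Lib.Helper5.Misc.BMGeo2 Groth.Agent.Lib.Helper5.Misc.BMStep
open Groth.Agent.Lib.Helper5.Misc.BMFj Groth.Agent.Lib.Helper5.Misc.BMRes
open Groth.Agent.Lib.Helper5.Misc.BMStep.StepData Groth.Agent.Lib.Helper5.Misc.BMExact1
open Groth.Agent.Lib.Helper5.Misc.BMExact2

variable {V : ObjectProperty Scheme.{u}} [IsConstructible V] {R : Type u} [CommRing R]
  {A : Coefs R}

section Geo

lemma containsFj_shrink' (X : Obj V) (k : ℕ) {x : X.scheme}
    (hx : WeilCoh.codim X.scheme x = k) (U'' : X.scheme.Opens)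
    (hU'' : ContainsFj X k U'') (W : (X.ptSub x).scheme.Opens)
    (hW : (W : Set (X.ptSub x).scheme).Nonempty) : ContainsFj X k (shrink X x U'' W) := by
  intro z hz
  refine ⟨hU'' z hz, ?_⟩
  rintro ⟨w, hwW, rfl⟩
  by_cases hzx : (X.ptSubι x) w = x
  · exact hwW (mem_of_ptSubι_eq X x W hW w hzx)
  · have hcl : (X.ptSubι x) w ∈ closure ({x} : Set X.scheme) := by
      rw [← range_ptSubι]; exact ⟨w, rfl⟩
    have h1 := pdim_lt_of_mem_closure_ne X hcl hzx
    have h2 := pdim_le_dim_obj X x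
    unfold WeilCoh.codim at hx hz
    omega

lemma containsFj_complOpen' (X : Obj V) (j : ℕ) {x : X.scheme}
    (hx : WeilCoh.codim X.scheme x = j + 1) (U' : X.scheme.Opens)
    (hU' : ContainsFj X j U') : ContainsFj X j (complOpen X x U') := by
  intro y hy
  refine ⟨hU' y hy, ?_⟩
  intro hycl
  have h1 := pdim_le_of_mem_closure X hycl
  have h2 := pdim_le_dim_obj X x
  have h3 := pdim_le_dim_obj X y
  unfold WeilCoh.codim at hx hy
  omega

lemma stepData_complOpen' (X : Obj V) (j : ℕ) {x : X.scheme}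
    (hx : WeilCoh.codim X.scheme x = j + 1) (U' : X.scheme.Opens)
    (hU' : ContainsFj X j U') (hxU : x ∈ U') : StepData X x (complOpen X x U') U' where
  hO := dim_of_containsFj X j _ (containsFj_complOpen' X j hx U' hU')
  le := inf_le_left
  hx := fun h => h.2 (subset_closure rfl)
  ne := ⟨x, hxU, fun h => h.2 (subset_closure rfl)⟩
  sub := by
    intro y hy hyO
    by_contra hcl
    exact hyO ⟨hy, hcl⟩

end Geo

section Push

variable (T : TheoryOn V R A) (X : Obj V) (j : ℕ)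

theorem pushData_cpt_eq (P P' : T.PushData X j) (x : X.cdPt j) (M : A.Cat) (i n i' n' : ℤ)
    (hi : i' = i + 2 * (j : ℤ)) (hn : n' = n + (j : ℤ)) :
    P.cpt x M i n i' n' hi hn = P'.cpt x M i n i' n' hi hn := by
  obtain ⟨x, hx⟩ := x
  apply ModuleCat.hom_ext
  apply LinearMap.ext
  intro β
  obtain ⟨W, b0, rfl⟩ := exists_rep T.toPreTheory (X.ptSub x)
    (fun U => (U : Set (X.ptSub x).scheme).Nonempty) i n M β
  have hU3F : ContainsFj X j (shrink X x ⊤ W.1) :=
    containsFj_shrink' X j hx ⊤ (fun _ _ => trivial) W.1 W.2.1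
  have hd3 := dim_of_containsFj X j _ hU3F
  have hxU3 : x ∈ shrink X x ⊤ W.1 := hU3F x (le_of_eq hx)
  have hne3 : ((((X.ptSubι x) ⁻¹ᵁ (shrink X x ⊤ W.1) : (X.ptSub x).scheme.Opens)) :
      Set (X.ptSub x).scheme).Nonempty := by
    have hx' : x ∈ Set.range (X.ptSubι x) := by rw [range_ptSubι]; exact subset_closure rfl
    obtain ⟨w, hw⟩ := hx'
    refine ⟨w, ?_⟩
    show (X.ptSubι x) w ∈ shrink X x ⊤ W.1
    rw [hw]; exact hxU3
  have hpre3 : (X.ptSubι x) ⁻¹ᵁ (shrink X x ⊤ W.1) ≤ W.1 := pre_shrink_le X x ⊤ W.1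
  have hcj : (WeilCoh.dim X.scheme : ℤ) - (WeilCoh.pdim X.scheme x : ℤ) = (j : ℤ) := by
    have h1 := pdim_le_dim_obj X x
    unfold WeilCoh.codim at hx
    omega
  have hcD3 : relCodim ((X.ptSub x).res ((X.ptSubι x) ⁻¹ᵁ (shrink X x ⊤ W.1))).scheme
      (X.res (shrink X x ⊤ W.1)).scheme = (j : ℤ) :=
    (relCodim_pre X x _ hd3 hne3).trans hcj
  have hiD3 : i' = i + 2 * relCodim ((X.ptSub x).res
      ((X.ptSubι x) ⁻¹ᵁ (shrink X x ⊤ W.1))).scheme (X.res (shrink X x ⊤ W.1)).scheme := by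
    rw [hcD3, hi]
  have hnD3 : n' = n + relCodim ((X.ptSub x).res
      ((X.ptSubι x) ⁻¹ᵁ (shrink X x ⊤ W.1))).scheme (X.res (shrink X x ⊤ W.1)).scheme := by
    rw [hcD3, hn]
  let W3 : ptIdx X x := ⟨(X.ptSubι x) ⁻¹ᵁ (shrink X x ⊤ W.1), hne3, dim_open_ptSub X x _ hne3⟩
  let b3 : T.gp ((X.ptSub x).res ((X.ptSubι x) ⁻¹ᵁ (shrink X x ⊤ W.1))) M i n :=
    (T.pull ((X.ptSub x).resLE hpre3
      ((dim_open_ptSub X x _ hne3).trans W.2.2.symm)) M i n).hom b0
  have e0 : ((T.ptι X x i n W3).app M).hom b3 = ((T.ptι X x i n W).app M).hom b0 :=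
    ocolimι_pull T.toPreTheory (X.ptSub x) (fun U => (U : Set (X.ptSub x).scheme).Nonempty) i n M
      (U := W) (U' := W3) hpre3 b0
  have k1 := P.cpt_spec ⟨x, hx⟩ M i n i' n' hi hn ⟨shrink X x ⊤ W.1, hU3F, hd3⟩ W3
    ((X.ptSubι x) ∣_ (shrink X x ⊤ W.1)) (morphismRestrict_ι _ _) hiD3 hnD3
  have k2 := P'.cpt_spec ⟨x, hx⟩ M i n i' n' hi hn ⟨shrink X x ⊤ W.1, hU3F, hd3⟩ W3
    ((X.ptSubι x) ∣_ (shrink X x ⊤ W.1)) (morphismRestrict_ι _ _) hiD3 hnD3
  have k3 := congrArg (fun φ => φ.hom b3) (k1.trans k2.symm)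
  simp only [ModuleCat.hom_comp, LinearMap.comp_apply] at k3
  rw [e0] at k3
  exact k3

theorem subsingleton_pushData : Subsingleton (T.PushData X j) := by
  constructor
  intro P P'
  have h : P.cpt = P'.cpt := by
    funext x M i n i' n' hi hn
    exact pushData_cpt_eq T X j P P' x M i n i' n' hi hn
  cases P with
  | mk c s =>
    cases P' with
    | mk c' s' =>
      simp only at h
      subst h
      rfl

end Push

section Res

variable (T : TheoryOn V R A) (X : Obj V) (j : ℕ)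

/-- The residue at a point of the open on which the class is defined vanishes. -/
theorem cpt_eq_zero_of_mem (Q : T.ResData X j) (M : A.Cat) (i n i' n' : ℤ)
    (hi : i' = i + 1 - 2 * ((j : ℤ) + 1)) (hn : n' = n - ((j : ℤ) + 1))
    {x : X.scheme} (hx : WeilCoh.codim X.scheme x = j + 1) (U : Idx X (ContainsFj X j))
    (hxU : x ∈ U.1) (a : T.gp (X.res U.1) M i n) :
    (Q.cpt ⟨x, hx⟩ M i n i' n' hi hn).hom (((T.fjι X j i n U).app M).hom a) = 0 := by
  have hOF := containsFj_complOpen' X j hx U.1 U.2.1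
  have hstep := stepData_complOpen' X j hx U.1 U.2.1 hxU
  have hc : hstep.decomp.codim = (j : ℤ) + 1 :=
    (hstep.relCodim_decomp).trans (codim_cast X j hx)
  have hiD : i' = i + 1 - 2 * hstep.decomp.codim := by rw [hc]; exact hi
  have hnD : n' = n - hstep.decomp.codim := by rw [hc]; exact hn
  let a0 : T.gp (X.res (complOpen X x U.1)) M i n :=
    (T.pull (X.resLE hstep.le (hstep.hO.trans hstep.hO1.symm)) M i n).hom a
  have key := cpt_eq_of_step T X j Q M i n i' n' hi hn hx hstep hOF a0 hiD hnD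
  have hpull := ocolimι_pull T.toPreTheory X (ContainsFj X j) i n M
    (U := U) (U' := ⟨complOpen X x U.1, hOF, hstep.hO⟩) hstep.le a
  have hex := T.exact_pull_res hstep.decomp M i n i' n' hiD hnD
  have hzero : (T.res hstep.decomp M i n i' n' hiD hnD).hom a0 = 0 :=
    hex.apply_apply_eq_zero a
  rw [← hpull]
  refine (key.symm.trans ?_)
  exact (congrArg (fun t => ((T.ocolimι (X.ptSub x)
    (fun U => (U : Set (X.ptSub x).scheme).Nonempty) i' n' (stepIdx hstep)).app M).hom t)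
    hzero).trans (map_zero _)

theorem resData_cpt_eq (Q Q' : T.ResData X j) (x : X.cdPt (j + 1)) (M : A.Cat) (i n i' n' : ℤ)
    (hi : i' = i + 1 - 2 * ((j : ℤ) + 1)) (hn : n' = n - ((j : ℤ) + 1)) :
    Q.cpt x M i n i' n' hi hn = Q'.cpt x M i n i' n' hi hn := by
  obtain ⟨x, hx⟩ := x
  apply ModuleCat.hom_ext
  apply LinearMap.ext
  intro z
  obtain ⟨U, a, rfl⟩ := exists_rep T.toPreTheory X (ContainsFj X j) i n M z
  by_cases hxU : x ∈ U.1
  · exact (cpt_eq_zero_of_mem T X j Q M i n i' n' hi hn hx U hxU a).trans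
      (cpt_eq_zero_of_mem T X j Q' M i n i' n' hi hn hx U hxU a).symm
  · obtain ⟨O1, hO1, hx1, hsub⟩ := exists_step_open X U.1 x (pdim_le_of_not_mem X j U.2.1 hx)
    have hstep : StepData X x U.1 O1 := ⟨U.2.2, hO1, hxU, ⟨x, hx1, hxU⟩, hsub⟩
    have hcD : hstep.decomp.codim = (j : ℤ) + 1 :=
      (hstep.relCodim_decomp).trans (codim_cast X j hx)
    have hiD : i' = i + 1 - 2 * hstep.decomp.codim := by rw [hcD]; exact hi
    have hnD : n' = n - hstep.decomp.codim := by rw [hcD]; exact hn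
    have k1 := cpt_eq_of_step T X j Q M i n i' n' hi hn hx hstep U.2.1 a hiD hnD
    have k2 := cpt_eq_of_step T X j Q' M i n i' n' hi hn hx hstep U.2.1 a hiD hnD
    exact k1.symm.trans k2

theorem subsingleton_resData : Subsingleton (T.ResData X j) := by
  constructor
  intro Q Q'
  have h : Q.cpt = Q'.cpt := by
    funext x M i n i' n' hi hn
    exact resData_cpt_eq T X j Q Q' x M i n i' n' hi hn
  cases Q with
  | mk c s f =>
    cases Q' with
    | mk c' s' f' =>
      simp only at h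
      subst h
      rfl

end Res

end Groth.Agent.Lib.Helper5.Misc.BMUniq
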