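import Mathlib
import Groth.Prelude.Def_BMCoh3
import Groth.Agent.Lib.Helper5.Misc.BMUniq
import Groth.Agent.Lib.Helper5.Misc.BMAdd

set_option autoImplicit false
universe u
open CategoryTheory CategoryTheory.Limits AlgebraicGeometry Opposite TopologicalSpace
open BMCoh

namespace Groth.Agent.Lib.Helper5.Misc.BMConf

open Groth.Agent.Lib.Helper5.Misc.BMLib Groth.Agent.Lib.Helper5.Misc.BMColim
open Groth.Agent.Lib.Helper5.Misc.BMGeo Groth.Agent.Lib.Helper5.Misc.BMVan
open Groth.Agent.Lib.Helper5.Misc.BMBij Groth.Agent.Lib.Helper5.Misc.WeilGeo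
open Groth.Agent.Lib.Helper5.Misc.BMGeo2 Groth.Agent.Lib.Helper5.Misc.BMStep
open Groth.Agent.Lib.Helper5.Misc.BMFj Groth.Agent.Lib.Helper5.Misc.BMRes
open Groth.Agent.Lib.Helper5.Misc.BMStep.StepData Groth.Agent.Lib.Helper5.Misc.BMExact1
open Groth.Agent.Lib.Helper5.Misc.BMExact2 Groth.Agent.Lib.Helper5.Misc.BMUniq
open Groth.Agent.Lib.Helper5.Misc.BMAdd

variable {V : ObjectProperty Scheme.{u}} [IsConstructible V] {R : Type u} [CommRing R]
  {A : Coefs R}

/-- The dimension of the closure of a point of an open subscheme is at most that of its closure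
in the ambient object. -/
lemma pdim_open_le (X : Obj V) (Y : X.scheme.Opens) (z : (Y : Scheme.{u})) :
    WeilCoh.pdim (Y : Scheme.{u}) z ≤ WeilCoh.pdim X.scheme (Y.ι z) := by
  unfold WeilCoh.pdim
  have hmaps : ∀ w : ↥(closure ({z} : Set (Y : Scheme.{u}))),
      Y.ι w.1 ∈ closure ({Y.ι z} : Set X.scheme) := by
    intro w
    have h1 := image_closure_subset_closure_image (f := Y.ι) (s := {z}) Y.ι.continuous
    rw [Set.image_singleton] at h1
    exact h1 ⟨w.1, w.2, rfl⟩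
  let φ : ↥(closure ({z} : Set (Y : Scheme.{u}))) → ↥(closure ({Y.ι z} : Set X.scheme)) :=
    fun w => ⟨Y.ι w.1, hmaps w⟩
  have hφ : Topology.IsInducing φ := by
    have hcomp : Topology.IsInducing ((Subtype.val : ↥(closure ({Y.ι z} : Set X.scheme)) → _) ∘ φ) := by
      show Topology.IsInducing (fun w : ↥(closure ({z} : Set (Y : Scheme.{u}))) => Y.ι w.1)
      exact Y.ι.isOpenEmbedding.isEmbedding.isInducing.comp Topology.IsInducing.subtypeVal
    refine Topology.IsInducing.of_comp ?_ continuous_subtype_val hcomp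
    exact Continuous.subtype_mk (Y.ι.continuous.comp continuous_subtype_val) _
  exact natDim_le_of_le hφ.topologicalKrullDim_le
    (lt_of_le_of_lt (topologicalKrullDim_subspace_le _ _) (dim_lt_top_obj X))

/-- A configuration: finitely many points `y k` of codimension `j + 1`, an open `U ⊇ F_jX` missing
them and an open `Y ⊇ F_{j+1}X` containing `U` such that `Y ∖ U` is the disjoint union of the traces
of the closures of the `y k`. -/
structure Conf (X : Obj V) (j r : ℕ) (y : Fin (r + 1) → X.scheme) (Y U : X.scheme.Opens) :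
    Prop where
  cod : ∀ k, WeilCoh.codim X.scheme (y k) = j + 1
  le : U ≤ Y
  hU : ContainsFj X j U
  hY : ContainsFj X (j + 1) Y
  nmem : ∀ k, y k ∉ U
  cov : ∀ z ∈ Y, z ∉ U → ∃ k, z ∈ closure ({y k} : Set X.scheme)
  disj : ∀ k l, k ≠ l → ∀ z ∈ Y, z ∈ closure ({y k} : Set X.scheme) →
    z ∉ closure ({y l} : Set X.scheme)

namespace Conf

variable {X : Obj V} {j r : ℕ} {y : Fin (r + 1) → X.scheme} {Y U : X.scheme.Opens}

omit [IsConstructible V] in
lemma mem (h : Conf X j r y Y U) (k : Fin (r + 1)) : y k ∈ Y :=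
  h.hY (y k) (le_of_eq (h.cod k))

lemma hdU (h : Conf X j r y Y U) : WeilCoh.dim (U : Scheme.{u}) = WeilCoh.dim X.scheme :=
  dim_of_containsFj X j U h.hU

lemma hdY (h : Conf X j r y Y U) : WeilCoh.dim (Y : Scheme.{u}) = WeilCoh.dim X.scheme :=
  dim_of_containsFj X (j + 1) Y h.hY

omit [IsConstructible V] in
lemma not_mem_of_closure (h : Conf X j r y Y U) {k : Fin (r + 1)} {z : X.scheme}
    (hz : z ∈ closure ({y k} : Set X.scheme)) : z ∉ U := by
  intro hzU
  obtain ⟨w, hwU, hw⟩ := mem_closure_iff.mp hz U U.isOpen hzU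
  rw [Set.mem_singleton_iff] at hw
  exact h.nmem k (hw ▸ hwU)

/-- The closed complement of `U` in `Y`. -/
def C (_ : Conf X j r y Y U) : Closeds (Y : Scheme.{u}) :=
  ⟨Y.ι ⁻¹' ((U : Set X.scheme)ᶜ), U.isOpen.isClosed_compl.preimage Y.ι.continuous⟩

/-- The decomposition of `Y` into `U` and the reduced closed complement. -/
noncomputable def decomp (h : Conf X j r y Y U) : Decomp (X.res Y) where
  Z := redSub (X.res Y) h.C
  U := X.res U
  i := redSubι (X.res Y) h.C
  closedImm := inferInstance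
  j := X.resLE h.le (h.hdU.trans h.hdY.symm)
  range_eq := by
    rw [range_redSubι]
    ext z
    show z ∈ Set.range (X.scheme.homOfLE h.le) ↔ z ∈ (Y.ι ⁻¹' ((U : Set X.scheme)ᶜ))ᶜ
    constructor
    · rintro ⟨w, rfl⟩ hw
      apply hw
      show Y.ι (X.scheme.homOfLE h.le w) ∈ U
      have := congrArg (fun f => f.base w) (X.scheme.homOfLE_ι h.le)
      have h2 : Y.ι (X.scheme.homOfLE h.le w) = U.ι w := this
      rw [h2]
      exact w.2
    · intro hz
      have hzU : z.1 ∈ U := by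
        by_contra hzU
        exact hz hzU
      exact ⟨⟨z.1, hzU⟩, Subtype.ext (Scheme.homOfLE_apply _ _)⟩

/-- The complement of the closures of the points other than `y k`. -/
def otherOpen (_ : Conf X j r y Y U) (k : Fin (r + 1)) : X.scheme.Opens :=
  ⟨(⋃ l : {l : Fin (r + 1) // l ≠ k}, closure ({y l.1} : Set X.scheme))ᶜ,
    (isClosed_iUnion_of_finite fun _ => isClosed_closure).isOpen_compl⟩

omit [IsConstructible V] in
lemma mem_otherOpen (h : Conf X j r y Y U) (k : Fin (r + 1)) (z : X.scheme) :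
    z ∈ h.otherOpen k ↔ ∀ l, l ≠ k → z ∉ closure ({y l} : Set X.scheme) := by
  show z ∈ (⋃ l : {l : Fin (r + 1) // l ≠ k}, closure ({y l.1} : Set X.scheme))ᶜ ↔ _
  rw [Set.mem_compl_iff, Set.mem_iUnion]
  constructor
  · intro hz l hl hzl
    exact hz ⟨⟨l, hl⟩, hzl⟩
  · rintro hz ⟨⟨l, hl⟩, hzl⟩
    exact hz l hl hzl

/-- The open piece of the closed part lying over the closure of `y k`. -/
noncomputable def pieceOpen (h : Conf X j r y Y U) (k : Fin (r + 1)) :
    h.decomp.Z.scheme.Opens :=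
  h.decomp.i ⁻¹ᵁ (Y.ι ⁻¹ᵁ h.otherOpen k)

lemma range_decomp_i (h : Conf X j r y Y U) :
    Set.range h.decomp.i = {z : (Y : Scheme.{u}) | z.1 ∉ U} := by
  show Set.range (redSubι (X.res Y) h.C) = _
  rw [range_redSubι]
  rfl

lemma range_piece (h : Conf X j r y Y U) (k : Fin (r + 1)) :
    Set.range ((h.pieceOpen k).ι ≫ h.decomp.i) =
      {z : (Y : Scheme.{u}) | z.1 ∈ closure ({y k} : Set X.scheme)} := by
  rw [Scheme.Hom.comp_base, TopCat.coe_comp, Set.range_comp, Scheme.Opens.range_ι]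
  show h.decomp.i '' (h.decomp.i ⁻¹' ((Y.ι ⁻¹ᵁ h.otherOpen k : (Y : Scheme.{u}).Opens) :
    Set (Y : Scheme.{u}))) = _
  rw [Set.image_preimage_eq_inter_range, range_decomp_i]
  ext z
  constructor
  · rintro ⟨hz1, hz2⟩
    have hz1' : z.1 ∈ h.otherOpen k := hz1
    rw [mem_otherOpen] at hz1'
    obtain ⟨l, hl⟩ := h.cov z.1 z.2 hz2
    by_cases hlk : l = k
    · exact hlk ▸ hl
    · exact absurd hl (hz1' l hlk)
  · intro hz
    refine ⟨?_, h.not_mem_of_closure hz⟩
    show z.1 ∈ h.otherOpen k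
    rw [mem_otherOpen]
    intro l hl
    exact h.disj k l (Ne.symm hl) z.1 z.2 hz

instance isReduced_decomp_Z (h : Conf X j r y Y U) : IsReduced h.decomp.Z.scheme :=
  isReduced_redSub (X.res Y) h.C

end Conf

lemma range_ptRestrict (X : Obj V) (x : X.scheme) (O1 : X.scheme.Opens) :
    Set.range ((X.ptSubι x) ∣_ O1) =
      {z : (O1 : Scheme.{u}) | z.1 ∈ closure ({x} : Set X.scheme)} := by
  ext z
  constructor
  · rintro ⟨w, rfl⟩
    show ((X.ptSubι x ∣_ O1) w).1 ∈ closure ({x} : Set X.scheme)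
    rw [morphismRestrict_base_coe, ← range_ptSubι]
    exact ⟨_, rfl⟩
  · intro hy
    have hy' : z.1 ∈ Set.range (X.ptSubι x) := by rw [range_ptSubι]; exact hy
    obtain ⟨w, hw⟩ := hy'
    refine ⟨⟨w, ?_⟩, ?_⟩
    · show (X.ptSubι x) w ∈ O1
      rw [hw]; exact z.2
    · apply Subtype.ext
      rw [morphismRestrict_base_coe]
      exact hw

namespace Conf

variable {X : Obj V} {j r : ℕ} {y : Fin (r + 1) → X.scheme} {Y U : X.scheme.Opens}

lemma exists_pieceIso (h : Conf X j r y Y U) (k : Fin (r + 1)) :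
    ∃ e : (((X.ptSubι (y k)) ⁻¹ᵁ Y : (X.ptSub (y k)).scheme.Opens) : Scheme.{u}) ≅
        ((h.pieceOpen k : h.decomp.Z.scheme.Opens) : Scheme.{u}),
      e.hom ≫ ((h.pieceOpen k).ι ≫ h.decomp.i) = (X.ptSubι (y k)) ∣_ Y :=
  haveI : IsReduced h.decomp.Z.scheme := isReduced_redSub (X.res Y) h.C
  Groth.Agent.Helper1.SchImgRed.exists_iso_of_reduced_immersions
    {z : (Y : Scheme.{u}) | z.1 ∈ closure ({y k} : Set X.scheme)} _ _
    ((X.ptSubι (y k)) ∣_ Y) ((h.pieceOpen k).ι ≫ h.decomp.i)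
    (range_ptRestrict X (y k) Y) (h.range_piece k)

lemma nonempty_pre (h : Conf X j r y Y U) (k : Fin (r + 1)) :
    ((((X.ptSubι (y k)) ⁻¹ᵁ Y : (X.ptSub (y k)).scheme.Opens)) :
      Set (X.ptSub (y k)).scheme).Nonempty := by
  have hy' : y k ∈ Set.range (X.ptSubι (y k)) := by
    rw [range_ptSubι]; exact subset_closure rfl
  obtain ⟨w, hw⟩ := hy'
  refine ⟨w, ?_⟩
  show (X.ptSubι (y k)) w ∈ Y
  rw [hw]; exact h.mem k

lemma pdim_add (h : Conf X j r y Y U) (k : Fin (r + 1)) :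
    WeilCoh.pdim X.scheme (y k) + (j + 1) = WeilCoh.dim X.scheme := by
  have h1 := pdim_le_dim_obj X (y k)
  have h2 := h.cod k
  unfold WeilCoh.codim at h2
  omega

lemma dim_pre (h : Conf X j r y Y U) (k : Fin (r + 1)) :
    WeilCoh.dim ((((X.ptSubι (y k)) ⁻¹ᵁ Y : (X.ptSub (y k)).scheme.Opens)) : Scheme.{u}) =
      WeilCoh.pdim X.scheme (y k) := by
  rw [dim_open_ptSub X (y k) _ (h.nonempty_pre k), dim_ptSub]

lemma dim_decomp_Z (h : Conf X j r y Y U) (k : Fin (r + 1)) :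
    WeilCoh.dim h.decomp.Z.scheme = WeilCoh.pdim X.scheme (y k) := by
  apply le_antisymm
  · -- a top-dimensional point of `Z` lies outside `U`
    have hne : Nonempty ↥h.decomp.Z.scheme := by
      obtain ⟨e, -⟩ := h.exists_pieceIso 0
      obtain ⟨w, hw⟩ := h.nonempty_pre 0
      exact ⟨((h.pieceOpen 0).ι (e.hom ⟨w, hw⟩))⟩
    obtain ⟨z, -, -, -, hz⟩ := exists_top_point_obj h.decomp.Z
    have h1 : WeilCoh.pdim (Y : Scheme.{u}) (h.decomp.i z) = WeilCoh.pdim h.decomp.Z.scheme z :=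
      pdim_closedEmbedding h.decomp.i h.decomp.i.isClosedEmbedding z
    have h2 := pdim_open_le X Y (h.decomp.i z)
    have h3 : (Y.ι (h.decomp.i z)) ∉ U := by
      have : h.decomp.i z ∈ Set.range h.decomp.i := ⟨z, rfl⟩
      rw [range_decomp_i] at this
      exact this
    have h4 : ¬ WeilCoh.codim X.scheme (Y.ι (h.decomp.i z)) ≤ j := fun hc => h3 (h.hU _ hc)
    have h5 := h.pdim_add k
    have h6 := pdim_le_dim_obj X (Y.ι (h.decomp.i z))
    unfold WeilCoh.codim at h4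
    omega
  · obtain ⟨e, -⟩ := h.exists_pieceIso k
    rw [← h.dim_pre k, dim_eq_of_iso e]
    exact natDim_le_of_le
      (h.pieceOpen k).ι.isOpenEmbedding.isEmbedding.isInducing.topologicalKrullDim_le
      (dim_lt_top_obj h.decomp.Z)

/-- The piece of the closure of `y k` in `Y`, as a clopen piece of the closed part. -/
noncomputable def pieceHom (h : Conf X j r y Y U) (k : Fin (r + 1)) :
    (X.ptSub (y k)).res ((X.ptSubι (y k)) ⁻¹ᵁ Y) ⟶ h.decomp.Z :=
  ⟨(Classical.choose (h.exists_pieceIso k)).hom ≫ (h.pieceOpen k).ι, inferInstance,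
    (h.dim_pre k).trans (h.dim_decomp_Z k).symm⟩

lemma pieceHom_fac (h : Conf X j r y Y U) (k : Fin (r + 1)) :
    (h.pieceHom k).hom ≫ h.decomp.i = (X.ptSubι (y k)) ∣_ Y := by
  show ((Classical.choose (h.exists_pieceIso k)).hom ≫ (h.pieceOpen k).ι) ≫ h.decomp.i = _
  rw [Category.assoc]
  exact Classical.choose_spec (h.exists_pieceIso k)

instance isClosedImmersion_pieceHom (h : Conf X j r y Y U) (k : Fin (r + 1)) :
    IsClosedImmersion (h.pieceHom k).hom := by
  have : IsClosedImmersion ((h.pieceHom k).hom ≫ h.decomp.i) := by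
    rw [pieceHom_fac]; infer_instance
  exact IsClosedImmersion.of_comp (h.pieceHom k).hom h.decomp.i

lemma pieceHom_apply_mem (h : Conf X j r y Y U) (k : Fin (r + 1))
    (a : ((X.ptSub (y k)).res ((X.ptSubι (y k)) ⁻¹ᵁ Y)).scheme) :
    (h.decomp.i ((h.pieceHom k).hom a)).1 ∈ closure ({y k} : Set X.scheme) := by
  have h1 : h.decomp.i ((h.pieceHom k).hom a) = ((X.ptSubι (y k)) ∣_ Y) a :=
    congrArg (fun f => f.base a) (h.pieceHom_fac k)
  rw [h1]
  have : ((X.ptSubι (y k)) ∣_ Y) a ∈ Set.range ((X.ptSubι (y k)) ∣_ Y) := ⟨a, rfl⟩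
  rw [range_ptRestrict] at this
  exact this

lemma pieceHom_disj (h : Conf X j r y Y U) (k l : Fin (r + 1)) (hkl : k ≠ l)
    (a : ((X.ptSub (y k)).res ((X.ptSubι (y k)) ⁻¹ᵁ Y)).scheme)
    (b : ((X.ptSub (y l)).res ((X.ptSubι (y l)) ⁻¹ᵁ Y)).scheme) :
    (h.pieceHom k).hom a ≠ (h.pieceHom l).hom b := by
  intro hab
  have h1 := h.pieceHom_apply_mem k a
  have h2 := h.pieceHom_apply_mem l b
  rw [hab] at h1
  exact h.disj k l hkl _ (h.decomp.i ((h.pieceHom l).hom b)).2 h1 h2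

lemma pieceHom_cov (h : Conf X j r y Y U) (z : h.decomp.Z.scheme) :
    ∃ k, z ∈ Set.range (h.pieceHom k).hom := by
  have hz : h.decomp.i z ∈ Set.range h.decomp.i := ⟨z, rfl⟩
  rw [range_decomp_i] at hz
  obtain ⟨k, hk⟩ := h.cov _ (h.decomp.i z).2 hz
  refine ⟨k, ?_⟩
  have hk' : h.decomp.i z ∈ Set.range ((X.ptSubι (y k)) ∣_ Y) := by
    rw [range_ptRestrict]; exact hk
  obtain ⟨a, ha⟩ := hk'
  refine ⟨a, ?_⟩
  apply h.decomp.i.isClosedEmbedding.injective
  rw [← ha]
  exact congrArg (fun f => f.base a) (h.pieceHom_fac k)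

lemma relCodim_decomp (h : Conf X j r y Y U) :
    relCodim h.decomp.Z.scheme (X.res Y).scheme = (j : ℤ) + 1 := by
  unfold relCodim
  show ((WeilCoh.dim (Y : Scheme.{u}) : ℤ)) - (WeilCoh.dim h.decomp.Z.scheme : ℤ) = _
  rw [h.hdY, h.dim_decomp_Z 0]
  have := h.pdim_add 0
  omega

lemma relCodim_piece (h : Conf X j r y Y U) (k : Fin (r + 1)) :
    relCodim ((X.ptSub (y k)).res ((X.ptSubι (y k)) ⁻¹ᵁ Y)).scheme h.decomp.Z.scheme = 0 :=
  relCodim_of_dim_eq (h.pieceHom k).dim_eq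

lemma relCodim_pre' (h : Conf X j r y Y U) (k : Fin (r + 1)) :
    relCodim ((X.ptSub (y k)).res ((X.ptSubι (y k)) ⁻¹ᵁ Y)).scheme (X.res Y).scheme =
      (j : ℤ) + 1 := by
  rw [relCodim_pre X (y k) Y h.hdY (h.nonempty_pre k)]
  have := h.pdim_add k
  omega

omit [IsConstructible V] in
lemma injective_y (h : Conf X j r y Y U) : Function.Injective y := by
  intro k l hkl
  by_contra hne
  exact h.disj k l hne (y k) (h.mem k) (subset_closure rfl) (hkl ▸ subset_closure rfl)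

end Conf

omit [IsConstructible V] in
lemma push_congr (T : PreTheory V R A) {X' Y' : Obj V} {f f' : X'.scheme ⟶ Y'.scheme}
    [IsProper f] [IsProper f'] (hf : f = f') (M : A.Cat) (i n i' n' : ℤ)
    (hi : i' = i + 2 * relCodim X'.scheme Y'.scheme) (hn : n' = n + relCodim X'.scheme Y'.scheme) :
    T.push f M i n i' n' hi hn = T.push f' M i n i' n' hi hn := by
  subst hf; rfl

section Alg

variable (T : TheoryOn V R A) {X : Obj V} {j r : ℕ} {y : Fin (r + 1) → X.scheme}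
  {Y U : X.scheme.Opens} (h : Conf X j r y Y U) (M : A.Cat) (i n i' n' : ℤ)

/-- The member of the index family of the point `y k` attached to a configuration. -/
noncomputable abbrev Conf.ptIdx (h : Conf X j r y Y U) (k : Fin (r + 1)) :
    Idx (X.ptSub (y k)) (fun W => (W : Set (X.ptSub (y k)).scheme).Nonempty) :=
  ⟨(X.ptSubι (y k)) ⁻¹ᵁ Y, h.nonempty_pre k, dim_open_ptSub X (y k) _ (h.nonempty_pre k)⟩

/-- The residue at `y k` of a class on `U` through the decomposition of the configuration. -/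
lemma Conf.cpt_eq (Q : T.ResData X j) (hi : i' = i + 1 - 2 * ((j : ℤ) + 1))
    (hn : n' = n - ((j : ℤ) + 1)) (a : T.gp (X.res U) M i n) (k : Fin (r + 1))
    (hiD : i' = i + 1 - 2 * h.decomp.codim) (hnD : n' = n - h.decomp.codim) :
    (Q.cpt ⟨y k, h.cod k⟩ M i n i' n' hi hn).hom
      (((T.fjι X j i n ⟨U, h.hU, h.hdU⟩).app M).hom a) =
    ((T.ptι X (y k) i' n' (h.ptIdx k)).app M).hom
      ((T.pull (h.pieceHom k) M i' n').hom ((T.res h.decomp M i n i' n' hiD hnD).hom a)) := by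
  have hspec := Q.cpt_spec ⟨y k, h.cod k⟩ M i n i' n' hi hn (Y := X.res Y) (X.resι Y h.hdY)
    h.decomp (h.ptIdx k) (h.pieceHom k)
    (by
      show (h.pieceHom k).hom ≫ h.decomp.i ≫ Y.ι = ((X.ptSubι (y k)) ⁻¹ᵁ Y).ι ≫ X.ptSubι (y k)
      rw [← Category.assoc, h.pieceHom_fac k, morphismRestrict_ι])
    ⟨U, h.hU, h.hdU⟩ (𝟙 (X.res U))
    (by
      show 𝟙 _ ≫ X.scheme.homOfLE h.le ≫ Y.ι = U.ι
      rw [Category.id_comp, Scheme.homOfLE_ι])
    hiD hnD
  have h1 := congrArg (fun φ => φ.hom a) hspec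
  simp only [ModuleCat.hom_comp, LinearMap.comp_apply] at h1
  have e1 : (T.pull (𝟙 (X.res U)) M i n).hom a = a := pull_id_apply T.toPreTheory _ M i n a
  have h2 := congrArg (fun t => (Q.cpt ⟨y k, h.cod k⟩ M i n i' n' hi hn).hom
    (((T.fjι X j i n ⟨U, h.hU, h.hdU⟩).app M).hom t)) e1
  exact h2.symm.trans h1

/-- The push-forward datum at `y k` on a class of the piece, through the open `Y`. -/
lemma Conf.push_cpt_eq (P : T.PushData X (j + 1)) (hi2 : i + 1 = i' + 2 * ((j + 1 : ℕ) : ℤ))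
    (hn2 : n = n' + ((j + 1 : ℕ) : ℤ)) (k : Fin (r + 1))
    (c : T.gp ((X.ptSub (y k)).res ((X.ptSubι (y k)) ⁻¹ᵁ Y)) M i' n')
    (hiD : i + 1 = i' + 2 * relCodim ((X.ptSub (y k)).res ((X.ptSubι (y k)) ⁻¹ᵁ Y)).scheme
      (X.res Y).scheme)
    (hnD : n = n' + relCodim ((X.ptSub (y k)).res ((X.ptSubι (y k)) ⁻¹ᵁ Y)).scheme
      (X.res Y).scheme) :
    (P.cpt ⟨y k, h.cod k⟩ M i' n' (i + 1) n hi2 hn2).hom
      (((T.ptι X (y k) i' n' (h.ptIdx k)).app M).hom c) =
    ((T.fjι X (j + 1) (i + 1) n ⟨Y, h.hY, h.hdY⟩).app M).hom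
      ((T.push (X := (X.ptSub (y k)).res ((X.ptSubι (y k)) ⁻¹ᵁ Y)) (Y := X.res Y)
        ((X.ptSubι (y k)) ∣_ Y) M i' n' (i + 1) n hiD hnD).hom c) := by
  have hspec := P.cpt_spec ⟨y k, h.cod k⟩ M i' n' (i + 1) n hi2 hn2 ⟨Y, h.hY, h.hdY⟩ (h.ptIdx k)
    ((X.ptSubι (y k)) ∣_ Y) (morphismRestrict_ι _ _) hiD hnD
  exact congrArg (fun φ => φ.hom c) hspec

/-- For a configuration, the total push-forward kills the total residue of a class on `U`. -/
theorem Conf.tot_tot_eq_zero (Q : T.ResData X j) (P : T.PushData X (j + 1))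
    (hi : i' = i + 1 - 2 * ((j : ℤ) + 1)) (hn : n' = n - ((j : ℤ) + 1))
    (hi2 : i + 1 = i' + 2 * ((j + 1 : ℕ) : ℤ)) (hn2 : n = n' + ((j + 1 : ℕ) : ℤ))
    (a : T.gp (X.res U) M i n) :
    (P.tot M i' n' (i + 1) n hi2 hn2).hom
      ((Q.tot M i n i' n' hi hn).hom (((T.fjι X j i n ⟨U, h.hU, h.hdU⟩).app M).hom a)) = 0 := by
  classical
  have hcD : h.decomp.codim = (j : ℤ) + 1 := h.relCodim_decomp
  have hiD : i' = i + 1 - 2 * h.decomp.codim := by rw [hcD]; exact hi
  have hnD : n' = n - h.decomp.codim := by rw [hcD]; exact hn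
  let rD : T.gp h.decomp.Z M i' n' := (T.res h.decomp M i n i' n' hiD hnD).hom a
  let β : ∀ k : Fin (r + 1), T.ptGp X (y k) M i' n' := fun k =>
    ((T.ptι X (y k) i' n' (h.ptIdx k)).app M).hom ((T.pull (h.pieceHom k) M i' n').hom rD)
  -- Step 1: the total residue is the sum of the residues at the `y k`
  have hstep1 : (Q.tot M i n i' n' hi hn).hom (((T.fjι X j i n ⟨U, h.hU, h.hdU⟩).app M).hom a) =
      ∑ k, DirectSum.lof R (X.cdPt (j + 1)) (fun z : X.cdPt (j + 1) => T.ptGp X z.1 M i' n')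
        ⟨y k, h.cod k⟩ (β k) := by
    refine DFinsupp.ext fun x => ?_
    rw [PreTheory.ResData.tot_apply, DFinsupp.finsetSum_apply]
    by_cases hx : ∃ k, y k = x.1
    · obtain ⟨k0, hk0⟩ := hx
      obtain ⟨x, hxc⟩ := x
      subst hk0
      rw [Finset.sum_eq_single k0]
      · rw [DirectSum.lof_eq_of, DirectSum.of_eq_same]
        exact h.cpt_eq T M i n i' n' Q hi hn a k0 hiD hnD
      · intro k _ hk
        rw [DirectSum.lof_eq_of, DirectSum.of_eq_of_ne]
        intro hkk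
        exact hk (h.injective_y (congrArg Subtype.val hkk).symm)
      · intro hk
        exact absurd (Finset.mem_univ k0) hk
    · push Not at hx
      obtain ⟨x, hxc⟩ := x
      rw [Finset.sum_eq_zero]
      · have hxU : x ∈ U := by
          by_contra hxU
          obtain ⟨k, hk⟩ := h.cov x (h.hY x (le_of_eq hxc)) hxU
          have hxk : x ≠ y k := fun e => hx k e.symm
          have h1 := pdim_lt_of_mem_closure_ne X hk hxk
          have h2 := h.pdim_add k
          have h3 := pdim_le_dim_obj X x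
          unfold WeilCoh.codim at hxc
          omega
        exact cpt_eq_zero_of_mem T X j Q M i n i' n' hi hn hxc ⟨U, h.hU, h.hdU⟩ hxU a
      · intro k _
        rw [DirectSum.lof_eq_of, DirectSum.of_eq_of_ne]
        intro hkk
        exact hx k (congrArg Subtype.val hkk).symm
  rw [hstep1, map_sum]
  -- Steps 2-4
  have hcP : ∀ k, relCodim ((X.ptSub (y k)).res ((X.ptSubι (y k)) ⁻¹ᵁ Y)).scheme (X.res Y).scheme
      = (j : ℤ) + 1 := h.relCodim_pre'
  have hc0 : ∀ k, relCodim ((X.ptSub (y k)).res ((X.ptSubι (y k)) ⁻¹ᵁ Y)).scheme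
      h.decomp.Z.scheme = 0 := h.relCodim_piece
  have hiP : ∀ k, i + 1 = i' + 2 * relCodim ((X.ptSub (y k)).res
      ((X.ptSubι (y k)) ⁻¹ᵁ Y)).scheme (X.res Y).scheme := by
    intro k; rw [hcP k, hi2]; push_cast; ring
  have hnP : ∀ k, n = n' + relCodim ((X.ptSub (y k)).res
      ((X.ptSubι (y k)) ⁻¹ᵁ Y)).scheme (X.res Y).scheme := by
    intro k; rw [hcP k, hn2]; push_cast; ring
  have hi0 : ∀ k, i' = i' + 2 * relCodim ((X.ptSub (y k)).res
      ((X.ptSubι (y k)) ⁻¹ᵁ Y)).scheme h.decomp.Z.scheme := by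
    intro k; rw [hc0 k]; ring
  have hn0 : ∀ k, n' = n' + relCodim ((X.ptSub (y k)).res
      ((X.ptSubι (y k)) ⁻¹ᵁ Y)).scheme h.decomp.Z.scheme := by
    intro k; rw [hc0 k]; ring
  have hiZ : i + 1 = i' + 2 * relCodim h.decomp.Z.scheme (X.res Y).scheme := by
    rw [h.relCodim_decomp, hi2]; push_cast; ring
  have hnZ : n = n' + relCodim h.decomp.Z.scheme (X.res Y).scheme := by
    rw [h.relCodim_decomp, hn2]; push_cast; ring
  have hterm : ∀ k, (P.tot M i' n' (i + 1) n hi2 hn2).hom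
      (DirectSum.lof R (X.cdPt (j + 1)) (fun z : X.cdPt (j + 1) => T.ptGp X z.1 M i' n')
        ⟨y k, h.cod k⟩ (β k)) =
      ((T.fjι X (j + 1) (i + 1) n ⟨Y, h.hY, h.hdY⟩).app M).hom
        ((T.push h.decomp.i M i' n' (i + 1) n hiZ hnZ).hom
          ((T.push (h.pieceHom k).hom M i' n' i' n' (hi0 k) (hn0 k)).hom
            ((T.pull (h.pieceHom k) M i' n').hom rD))) := by
    intro k
    rw [PreTheory.PushData.tot_lof]
    rw [h.push_cpt_eq T M i n i' n' P hi2 hn2 k _ (hiP k) (hnP k)]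
    congr 1
    have hcomp := T.push_comp (h.pieceHom k).hom h.decomp.i M i' n' i' n' (i + 1) n
      (hi0 k) (hn0 k) hiZ hnZ (hiP k) (hnP k)
    have hcg := push_congr T.toPreTheory (h.pieceHom_fac k) M i' n' (i + 1) n (hiP k) (hnP k)
    rw [← hcg, ← hcomp]
    rfl
  rw [Finset.sum_congr rfl (fun k _ => hterm k), ← map_sum, ← map_sum]
  -- Step 5: additivity and exactness
  have hadd := sum_push_pull T.toPreTheory r h.decomp.Z
    (fun k => (X.ptSub (y k)).res ((X.ptSubι (y k)) ⁻¹ᵁ Y)) (fun k => h.pieceHom k)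
    (fun k l hkl a b => h.pieceHom_disj k l hkl a b) h.pieceHom_cov M i' n' hi0 hn0 rD
  rw [← hadd]
  have hex := T.exact_res_push h.decomp M i n i' n' hiD hnD hiZ hnZ
  have hz : (T.push h.decomp.i M i' n' (i + 1) n hiZ hnZ).hom rD = 0 :=
    hex.apply_apply_eq_zero a
  rw [hz, map_zero]

end Alg

section Bad

variable (X : Obj V) (j : ℕ)

/-- The points of codimension `j + 1` outside an open containing `F_jX` are finite in number. -/
lemma finite_bad (U0 : X.scheme.Opens) (hU0 : ContainsFj X j U0) :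
    {x : X.scheme | WeilCoh.codim X.scheme x = j + 1 ∧ x ∉ U0}.Finite := by
  classical
  let C : Closeds X.scheme := ⟨(U0 : Set X.scheme)ᶜ, U0.isOpen.isClosed_compl⟩
  obtain ⟨S, hS, hCS⟩ := NoetherianSpace.exists_finset_irreducible C
  have hsub : {x : X.scheme | WeilCoh.codim X.scheme x = j + 1 ∧ x ∉ U0} ⊆
      ⋃ t ∈ (S : Set (Closeds X.scheme)), {x : X.scheme | IsGenericPoint x (t : Set X.scheme)} := by
    rintro x ⟨hxc, hxU⟩
    have hxC : x ∈ ((S.sup id : Closeds X.scheme) : Set X.scheme) := by rw [← hCS]; exact hxU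
    rw [Closeds.coe_finset_sup, Finset.sup_set_eq_biUnion] at hxC
    simp only [Set.mem_iUnion] at hxC
    obtain ⟨t, ht, hxt⟩ := hxC
    simp only [Set.mem_iUnion]
    refine ⟨t, ht, ?_⟩
    obtain ⟨η, hη⟩ := QuasiSober.sober (hS ⟨t, ht⟩) t.isClosed
    have hηt : η ∈ (t : Set X.scheme) := by rw [← hη.def]; exact subset_closure rfl
    have htC : (t : Set X.scheme) ⊆ C := by
      intro z hz
      have : z ∈ ((S.sup id : Closeds X.scheme) : Set X.scheme) := by
        rw [Closeds.coe_finset_sup, Finset.sup_set_eq_biUnion]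
        simp only [Set.mem_iUnion]
        exact ⟨t, ht, hz⟩
      rw [← hCS] at this; exact this
    have hηU : η ∉ U0 := htC hηt
    have hxη : x ∈ closure ({η} : Set X.scheme) := by rw [hη.def]; exact hxt
    have hle := pdim_le_of_not_mem X j hU0 hxc η hηU
    by_cases hne : x = η
    · exact hne ▸ hη
    · have := pdim_lt_of_mem_closure_ne X hxη hne
      omega
  refine Set.Finite.subset (Set.Finite.biUnion S.finite_toSet fun t _ => ?_) hsub
  apply Set.Subsingleton.finite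
  intro a ha b hb
  exact IsGenericPoint.eq ha hb

/-- Around finitely many points of codimension `j + 1` exhausting those outside `U0` there is a
configuration. -/
lemma exists_conf (U0 : X.scheme.Opens) (hU0 : ContainsFj X j U0) (r : ℕ)
    (y : Fin (r + 1) → X.scheme) (hinj : Function.Injective y)
    (hy : ∀ x : X.scheme, (WeilCoh.codim X.scheme x = j + 1 ∧ x ∉ U0) ↔ ∃ k, y k = x) :
    ∃ Y : X.scheme.Opens, Conf X j r y Y U0 := by
  have hcod : ∀ k, WeilCoh.codim X.scheme (y k) = j + 1 := fun k => ((hy (y k)).mpr ⟨k, rfl⟩).1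
  have hnm : ∀ k, y k ∉ U0 := fun k => ((hy (y k)).mpr ⟨k, rfl⟩).2
  have hstep : ∀ k, ∃ O1 : X.scheme.Opens, U0 ≤ O1 ∧ y k ∈ O1 ∧
      ∀ z ∈ O1, z ∉ U0 → z ∈ closure ({y k} : Set X.scheme) :=
    fun k => exists_step_open X U0 (y k) (pdim_le_of_not_mem X j hU0 (hcod k))
  choose O1 hO1le hO1y hO1sub using hstep
  let E : Set X.scheme := ⋃ p : {p : Fin (r + 1) × Fin (r + 1) // p.1 ≠ p.2},
    closure ({y p.1.1} : Set X.scheme) ∩ closure ({y p.1.2} : Set X.scheme)
  have hE : IsClosed E :=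
    isClosed_iUnion_of_finite fun _ => isClosed_closure.inter isClosed_closure
  have hclU : ∀ k z, z ∈ closure ({y k} : Set X.scheme) → z ∉ U0 := by
    intro k z hz hzU
    obtain ⟨w, hwU, hw⟩ := mem_closure_iff.mp hz U0 U0.isOpen hzU
    rw [Set.mem_singleton_iff] at hw
    exact hnm k (hw ▸ hwU)
  have hpd : ∀ k, WeilCoh.pdim X.scheme (y k) + (j + 1) = WeilCoh.dim X.scheme := by
    intro k
    have h1 := pdim_le_dim_obj X (y k)
    have h2 := hcod k
    unfold WeilCoh.codim at h2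
    omega
  have hyE : ∀ k, y k ∉ E := by
    intro k hk
    simp only [E, Set.mem_iUnion] at hk
    obtain ⟨⟨⟨k', l'⟩, hkl⟩, hk1, hk2⟩ := hk
    have hkey : ∀ m, y k ∈ closure ({y m} : Set X.scheme) → y k = y m := by
      intro m hm
      by_contra hne
      have := pdim_lt_of_mem_closure_ne X hm hne
      have := hpd k
      have := hpd m
      omega
    exact hkl (hinj ((hkey k' hk1).symm.trans (hkey l' hk2)))
  refine ⟨(⨆ k, O1 k) ⊓ ⟨Eᶜ, hE.isOpen_compl⟩, ?_⟩
  refine ⟨hcod, ?_, hU0, ?_, hnm, ?_, ?_⟩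
  · intro z hz
    refine ⟨Opens.mem_iSup.mpr ⟨0, hO1le 0 hz⟩, ?_⟩
    intro hzE
    simp only [E, Set.mem_iUnion] at hzE
    obtain ⟨p, hz1, -⟩ := hzE
    exact hclU _ z hz1 hz
  · intro z hz
    by_cases hzU : z ∈ U0
    · refine ⟨Opens.mem_iSup.mpr ⟨0, hO1le 0 hzU⟩, ?_⟩
      intro hzE
      simp only [E, Set.mem_iUnion] at hzE
      obtain ⟨p, hz1, -⟩ := hzE
      exact hclU _ z hz1 hzU
    · have hzc : WeilCoh.codim X.scheme z = j + 1 := by
        have : ¬ WeilCoh.codim X.scheme z ≤ j := fun hc => hzU (hU0 z hc)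
        omega
      obtain ⟨k, rfl⟩ := (hy z).mp ⟨hzc, hzU⟩
      exact ⟨Opens.mem_iSup.mpr ⟨k, hO1y k⟩, hyE k⟩
  · rintro z ⟨hz1, -⟩ hzU
    obtain ⟨k, hk⟩ := Opens.mem_iSup.mp hz1
    exact ⟨k, hO1sub k z hk hzU⟩
  · rintro k l hkl z ⟨-, hzE⟩ hzk hzl
    apply hzE
    simp only [E, Set.mem_iUnion]
    exact ⟨⟨(k, l), hkl⟩, hzk, hzl⟩

end Bad

section Main

variable (T : TheoryOn V R A) (X : Obj V) (j : ℕ) (Q : T.ResData X j) (P : T.PushData X (j + 1))
  (M : A.Cat) (i n i' n' : ℤ) (hi : i' = i + 1 - 2 * ((j : ℤ) + 1)) (hn : n' = n - ((j : ℤ) + 1))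
  (hi2 : i + 1 = i' + 2 * ((j + 1 : ℕ) : ℤ)) (hn2 : n = n' + ((j + 1 : ℕ) : ℤ))

/-- The total push-forward kills the total residue. -/
theorem tot_comp_tot_eq_zero (z : T.fjGp X j M i n) :
    (P.tot M i' n' (i + 1) n hi2 hn2).hom ((Q.tot M i n i' n' hi hn).hom z) = 0 := by
  obtain ⟨U0, a, rfl⟩ := exists_rep T.toPreTheory X (ContainsFj X j) i n M z
  have hfin := finite_bad X j U0.1 U0.2.1
  have : Finite ↥{x : X.scheme | WeilCoh.codim X.scheme x = j + 1 ∧ x ∉ U0.1} := hfin.to_subtype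
  obtain ⟨m, ⟨e⟩⟩ := Finite.exists_equiv_fin
    ↥{x : X.scheme | WeilCoh.codim X.scheme x = j + 1 ∧ x ∉ U0.1}
  cases m with
  | zero =>
    have hzero : (Q.tot M i n i' n' hi hn).hom
        (((T.ocolimι X (ContainsFj X j) i n U0).app M).hom a) = 0 := by
      refine DFinsupp.ext fun x => ?_
      rw [PreTheory.ResData.tot_apply]
      obtain ⟨x, hxc⟩ := x
      have hxU : x ∈ U0.1 := by
        by_contra hxU
        exact Fin.elim0 (e ⟨x, hxc, hxU⟩)
      exact cpt_eq_zero_of_mem T X j Q M i n i' n' hi hn hxc U0 hxU a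
    rw [hzero, map_zero]
  | succ r =>
    let y : Fin (r + 1) → X.scheme := fun k => (e.symm k).1
    have hinj : Function.Injective y := fun k l hkl => e.symm.injective (Subtype.ext hkl)
    have hy : ∀ x : X.scheme, (WeilCoh.codim X.scheme x = j + 1 ∧ x ∉ U0.1) ↔ ∃ k, y k = x := by
      intro x
      constructor
      · intro hx
        exact ⟨e ⟨x, hx⟩, by show (e.symm (e ⟨x, hx⟩)).1 = x; rw [Equiv.symm_apply_apply]⟩
      · rintro ⟨k, rfl⟩
        exact (e.symm k).2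
    obtain ⟨Y, hconf⟩ := exists_conf X j U0.1 U0.2.1 r y hinj hy
    exact hconf.tot_tot_eq_zero T M i n i' n' Q P hi hn hi2 hn2 a

end Main

end Groth.Agent.Lib.Helper5.Misc.BMConf
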