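import Mathlib
import Groth.Prelude.Def_BMCoh4
import Groth.Agent.Lib.Helper5.Misc.BMConf

set_option autoImplicit false
universe u
open CategoryTheory CategoryTheory.Limits AlgebraicGeometry Opposite TopologicalSpace
open BMCoh

namespace Groth.Agent.Lib.Helper5.Misc.BMD1a

open Groth.Agent.Lib.Helper5.Misc.BMLib Groth.Agent.Lib.Helper5.Misc.BMColim
open Groth.Agent.Lib.Helper5.Misc.BMGeo Groth.Agent.Lib.Helper5.Misc.BMVan
open Groth.Agent.Lib.Helper5.Misc.BMBij Groth.Agent.Lib.Helper5.Misc.WeilGeo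
open Groth.Agent.Lib.Helper5.Misc.BMGeo2 Groth.Agent.Lib.Helper5.Misc.BMStep
open Groth.Agent.Lib.Helper5.Misc.BMFj Groth.Agent.Lib.Helper5.Misc.BMRes
open Groth.Agent.Lib.Helper5.Misc.BMStep.StepData Groth.Agent.Lib.Helper5.Misc.BMExact1
open Groth.Agent.Lib.Helper5.Misc.BMExact2 Groth.Agent.Lib.Helper5.Misc.BMUniq
open Groth.Agent.Lib.Helper5.Misc.BMAdd Groth.Agent.Lib.Helper5.Misc.BMConf

variable {V : ObjectProperty Scheme.{u}} [IsConstructible V] {R : Type u} [CommRing R]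
  {A : Coefs R}

/-- A configuration: finitely many points `y k` of codimension `j + 1`, an open `U ⊇ F_jX` missing
them and a full-dimensional open `Y` containing `U` and the `y k` such that `Y ∖ U` is the disjoint
union of the traces of the closures of the `y k`. -/
structure Conf2 (X : Obj V) (j r : ℕ) (y : Fin (r + 1) → X.scheme) (Y U : X.scheme.Opens) :
    Prop where
  cod : ∀ k, WeilCoh.codim X.scheme (y k) = j + 1
  le : U ≤ Y
  hU : ContainsFj X j U
  hdY : WeilCoh.dim (Y : Scheme.{u}) = WeilCoh.dim X.scheme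
  mem : ∀ k, y k ∈ Y
  nmem : ∀ k, y k ∉ U
  cov : ∀ z ∈ Y, z ∉ U → ∃ k, z ∈ closure ({y k} : Set X.scheme)
  disj : ∀ k l, k ≠ l → ∀ z ∈ Y, z ∈ closure ({y k} : Set X.scheme) →
    z ∉ closure ({y l} : Set X.scheme)

namespace Conf2

variable {X : Obj V} {j r : ℕ} {y : Fin (r + 1) → X.scheme} {Y U : X.scheme.Opens}

lemma hdU (h : Conf2 X j r y Y U) : WeilCoh.dim (U : Scheme.{u}) = WeilCoh.dim X.scheme :=
  dim_of_containsFj X j U h.hU

omit [IsConstructible V] in
lemma not_mem_of_closure (h : Conf2 X j r y Y U) {k : Fin (r + 1)} {z : X.scheme}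
    (hz : z ∈ closure ({y k} : Set X.scheme)) : z ∉ U := by
  intro hzU
  obtain ⟨w, hwU, hw⟩ := mem_closure_iff.mp hz U U.isOpen hzU
  rw [Set.mem_singleton_iff] at hw
  exact h.nmem k (hw ▸ hwU)

/-- The closed complement of `U` in `Y`. -/
def C (_ : Conf2 X j r y Y U) : Closeds (Y : Scheme.{u}) :=
  ⟨Y.ι ⁻¹' ((U : Set X.scheme)ᶜ), U.isOpen.isClosed_compl.preimage Y.ι.continuous⟩

/-- The decomposition of `Y` into `U` and the reduced closed complement. -/
noncomputable def decomp (h : Conf2 X j r y Y U) : Decomp (X.res Y) where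
  Z := redSub (X.res Y) h.C
  U := X.res U
  i := redSubι (X.res Y) h.C
  closedImm := inferInstance
  j := X.resLE h.le (h.hdU.trans h.hdY.symm)
  range_eq := by
    rw [range_redSubι]
    ext z
    show z ∈ Set.range (X.scheme.homOfLE h.le) ↔ z ∈ (Y.ι ⁻¹' ((U : Set X.scheme)ᶜ))ᶜ
    constructor
    · rintro ⟨w, rfl⟩ hw
      apply hw
      show Y.ι (X.scheme.homOfLE h.le w) ∈ U
      have := congrArg (fun f => f.base w) (X.scheme.homOfLE_ι h.le)
      have h2 : Y.ι (X.scheme.homOfLE h.le w) = U.ι w := this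
      rw [h2]
      exact w.2
    · intro hz
      have hzU : z.1 ∈ U := by
        by_contra hzU
        exact hz hzU
      exact ⟨⟨z.1, hzU⟩, Subtype.ext (Scheme.homOfLE_apply _ _)⟩

/-- The complement of the closures of the points other than `y k`. -/
def otherOpen (_ : Conf2 X j r y Y U) (k : Fin (r + 1)) : X.scheme.Opens :=
  ⟨(⋃ l : {l : Fin (r + 1) // l ≠ k}, closure ({y l.1} : Set X.scheme))ᶜ,
    (isClosed_iUnion_of_finite fun _ => isClosed_closure).isOpen_compl⟩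

omit [IsConstructible V] in
lemma mem_otherOpen (h : Conf2 X j r y Y U) (k : Fin (r + 1)) (z : X.scheme) :
    z ∈ h.otherOpen k ↔ ∀ l, l ≠ k → z ∉ closure ({y l} : Set X.scheme) := by
  show z ∈ (⋃ l : {l : Fin (r + 1) // l ≠ k}, closure ({y l.1} : Set X.scheme))ᶜ ↔ _
  rw [Set.mem_compl_iff, Set.mem_iUnion]
  constructor
  · intro hz l hl hzl
    exact hz ⟨⟨l, hl⟩, hzl⟩
  · rintro hz ⟨⟨l, hl⟩, hzl⟩
    exact hz l hl hzl

/-- The open piece of the closed part lying over the closure of `y k`. -/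
noncomputable def pieceOpen (h : Conf2 X j r y Y U) (k : Fin (r + 1)) :
    h.decomp.Z.scheme.Opens :=
  h.decomp.i ⁻¹ᵁ (Y.ι ⁻¹ᵁ h.otherOpen k)

lemma range_decomp_i (h : Conf2 X j r y Y U) :
    Set.range h.decomp.i = {z : (Y : Scheme.{u}) | z.1 ∉ U} := by
  show Set.range (redSubι (X.res Y) h.C) = _
  rw [range_redSubι]
  rfl

lemma range_piece (h : Conf2 X j r y Y U) (k : Fin (r + 1)) :
    Set.range ((h.pieceOpen k).ι ≫ h.decomp.i) =
      {z : (Y : Scheme.{u}) | z.1 ∈ closure ({y k} : Set X.scheme)} := by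
  rw [Scheme.Hom.comp_base, TopCat.coe_comp, Set.range_comp, Scheme.Opens.range_ι]
  show h.decomp.i '' (h.decomp.i ⁻¹' ((Y.ι ⁻¹ᵁ h.otherOpen k : (Y : Scheme.{u}).Opens) :
    Set (Y : Scheme.{u}))) = _
  rw [Set.image_preimage_eq_inter_range, range_decomp_i]
  ext z
  constructor
  · rintro ⟨hz1, hz2⟩
    have hz1' : z.1 ∈ h.otherOpen k := hz1
    rw [mem_otherOpen] at hz1'
    obtain ⟨l, hl⟩ := h.cov z.1 z.2 hz2
    by_cases hlk : l = k
    · exact hlk ▸ hl
    · exact absurd hl (hz1' l hlk)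
  · intro hz
    refine ⟨?_, h.not_mem_of_closure hz⟩
    show z.1 ∈ h.otherOpen k
    rw [mem_otherOpen]
    intro l hl
    exact h.disj k l (Ne.symm hl) z.1 z.2 hz

instance isReduced_decomp_Z (h : Conf2 X j r y Y U) : IsReduced h.decomp.Z.scheme :=
  isReduced_redSub (X.res Y) h.C

end Conf2

namespace Conf2

variable {X : Obj V} {j r : ℕ} {y : Fin (r + 1) → X.scheme} {Y U : X.scheme.Opens}

lemma exists_pieceIso (h : Conf2 X j r y Y U) (k : Fin (r + 1)) :
    ∃ e : (((X.ptSubι (y k)) ⁻¹ᵁ Y : (X.ptSub (y k)).scheme.Opens) : Scheme.{u}) ≅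
        ((h.pieceOpen k : h.decomp.Z.scheme.Opens) : Scheme.{u}),
      e.hom ≫ ((h.pieceOpen k).ι ≫ h.decomp.i) = (X.ptSubι (y k)) ∣_ Y :=
  haveI : IsReduced h.decomp.Z.scheme := isReduced_redSub (X.res Y) h.C
  Groth.Agent.Helper1.SchImgRed.exists_iso_of_reduced_immersions
    {z : (Y : Scheme.{u}) | z.1 ∈ closure ({y k} : Set X.scheme)} _ _
    ((X.ptSubι (y k)) ∣_ Y) ((h.pieceOpen k).ι ≫ h.decomp.i)
    (range_ptRestrict X (y k) Y) (h.range_piece k)

lemma nonempty_pre (h : Conf2 X j r y Y U) (k : Fin (r + 1)) :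
    ((((X.ptSubι (y k)) ⁻¹ᵁ Y : (X.ptSub (y k)).scheme.Opens)) :
      Set (X.ptSub (y k)).scheme).Nonempty := by
  have hy' : y k ∈ Set.range (X.ptSubι (y k)) := by
    rw [range_ptSubι]; exact subset_closure rfl
  obtain ⟨w, hw⟩ := hy'
  refine ⟨w, ?_⟩
  show (X.ptSubι (y k)) w ∈ Y
  rw [hw]; exact h.mem k

lemma pdim_add (h : Conf2 X j r y Y U) (k : Fin (r + 1)) :
    WeilCoh.pdim X.scheme (y k) + (j + 1) = WeilCoh.dim X.scheme := by
  have h1 := pdim_le_dim_obj X (y k)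
  have h2 := h.cod k
  unfold WeilCoh.codim at h2
  omega

lemma dim_pre (h : Conf2 X j r y Y U) (k : Fin (r + 1)) :
    WeilCoh.dim ((((X.ptSubι (y k)) ⁻¹ᵁ Y : (X.ptSub (y k)).scheme.Opens)) : Scheme.{u}) =
      WeilCoh.pdim X.scheme (y k) := by
  rw [dim_open_ptSub X (y k) _ (h.nonempty_pre k), dim_ptSub]

lemma dim_decomp_Z (h : Conf2 X j r y Y U) (k : Fin (r + 1)) :
    WeilCoh.dim h.decomp.Z.scheme = WeilCoh.pdim X.scheme (y k) := by
  apply le_antisymm
  · -- a top-dimensional point of `Z` lies outside `U`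
    have hne : Nonempty ↥h.decomp.Z.scheme := by
      obtain ⟨e, -⟩ := h.exists_pieceIso 0
      obtain ⟨w, hw⟩ := h.nonempty_pre 0
      exact ⟨((h.pieceOpen 0).ι (e.hom ⟨w, hw⟩))⟩
    obtain ⟨z, -, -, -, hz⟩ := exists_top_point_obj h.decomp.Z
    have h1 : WeilCoh.pdim (Y : Scheme.{u}) (h.decomp.i z) = WeilCoh.pdim h.decomp.Z.scheme z :=
      pdim_closedEmbedding h.decomp.i h.decomp.i.isClosedEmbedding z
    have h2 := pdim_open_le X Y (h.decomp.i z)
    have h3 : (Y.ι (h.decomp.i z)) ∉ U := by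
      have : h.decomp.i z ∈ Set.range h.decomp.i := ⟨z, rfl⟩
      rw [range_decomp_i] at this
      exact this
    have h4 : ¬ WeilCoh.codim X.scheme (Y.ι (h.decomp.i z)) ≤ j := fun hc => h3 (h.hU _ hc)
    have h5 := h.pdim_add k
    have h6 := pdim_le_dim_obj X (Y.ι (h.decomp.i z))
    unfold WeilCoh.codim at h4
    omega
  · obtain ⟨e, -⟩ := h.exists_pieceIso k
    rw [← h.dim_pre k, dim_eq_of_iso e]
    exact natDim_le_of_le
      (h.pieceOpen k).ι.isOpenEmbedding.isEmbedding.isInducing.topologicalKrullDim_le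
      (dim_lt_top_obj h.decomp.Z)

/-- The piece of the closure of `y k` in `Y`, as a clopen piece of the closed part. -/
noncomputable def pieceHom (h : Conf2 X j r y Y U) (k : Fin (r + 1)) :
    (X.ptSub (y k)).res ((X.ptSubι (y k)) ⁻¹ᵁ Y) ⟶ h.decomp.Z :=
  ⟨(Classical.choose (h.exists_pieceIso k)).hom ≫ (h.pieceOpen k).ι, inferInstance,
    (h.dim_pre k).trans (h.dim_decomp_Z k).symm⟩

lemma pieceHom_fac (h : Conf2 X j r y Y U) (k : Fin (r + 1)) :
    (h.pieceHom k).hom ≫ h.decomp.i = (X.ptSubι (y k)) ∣_ Y := by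
  show ((Classical.choose (h.exists_pieceIso k)).hom ≫ (h.pieceOpen k).ι) ≫ h.decomp.i = _
  rw [Category.assoc]
  exact Classical.choose_spec (h.exists_pieceIso k)

instance isClosedImmersion_pieceHom (h : Conf2 X j r y Y U) (k : Fin (r + 1)) :
    IsClosedImmersion (h.pieceHom k).hom := by
  have : IsClosedImmersion ((h.pieceHom k).hom ≫ h.decomp.i) := by
    rw [pieceHom_fac]; infer_instance
  exact IsClosedImmersion.of_comp (h.pieceHom k).hom h.decomp.i

lemma pieceHom_apply_mem (h : Conf2 X j r y Y U) (k : Fin (r + 1))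
    (a : ((X.ptSub (y k)).res ((X.ptSubι (y k)) ⁻¹ᵁ Y)).scheme) :
    (h.decomp.i ((h.pieceHom k).hom a)).1 ∈ closure ({y k} : Set X.scheme) := by
  have h1 : h.decomp.i ((h.pieceHom k).hom a) = ((X.ptSubι (y k)) ∣_ Y) a :=
    congrArg (fun f => f.base a) (h.pieceHom_fac k)
  rw [h1]
  have : ((X.ptSubι (y k)) ∣_ Y) a ∈ Set.range ((X.ptSubι (y k)) ∣_ Y) := ⟨a, rfl⟩
  rw [range_ptRestrict] at this
  exact this

lemma pieceHom_disj (h : Conf2 X j r y Y U) (k l : Fin (r + 1)) (hkl : k ≠ l)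
    (a : ((X.ptSub (y k)).res ((X.ptSubι (y k)) ⁻¹ᵁ Y)).scheme)
    (b : ((X.ptSub (y l)).res ((X.ptSubι (y l)) ⁻¹ᵁ Y)).scheme) :
    (h.pieceHom k).hom a ≠ (h.pieceHom l).hom b := by
  intro hab
  have h1 := h.pieceHom_apply_mem k a
  have h2 := h.pieceHom_apply_mem l b
  rw [hab] at h1
  exact h.disj k l hkl _ (h.decomp.i ((h.pieceHom l).hom b)).2 h1 h2

lemma pieceHom_cov (h : Conf2 X j r y Y U) (z : h.decomp.Z.scheme) :
    ∃ k, z ∈ Set.range (h.pieceHom k).hom := by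
  have hz : h.decomp.i z ∈ Set.range h.decomp.i := ⟨z, rfl⟩
  rw [range_decomp_i] at hz
  obtain ⟨k, hk⟩ := h.cov _ (h.decomp.i z).2 hz
  refine ⟨k, ?_⟩
  have hk' : h.decomp.i z ∈ Set.range ((X.ptSubι (y k)) ∣_ Y) := by
    rw [range_ptRestrict]; exact hk
  obtain ⟨a, ha⟩ := hk'
  refine ⟨a, ?_⟩
  apply h.decomp.i.isClosedEmbedding.injective
  rw [← ha]
  exact congrArg (fun f => f.base a) (h.pieceHom_fac k)

lemma relCodim_decomp (h : Conf2 X j r y Y U) :
    relCodim h.decomp.Z.scheme (X.res Y).scheme = (j : ℤ) + 1 := by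
  unfold relCodim
  show ((WeilCoh.dim (Y : Scheme.{u}) : ℤ)) - (WeilCoh.dim h.decomp.Z.scheme : ℤ) = _
  rw [h.hdY, h.dim_decomp_Z 0]
  have := h.pdim_add 0
  omega

lemma relCodim_piece (h : Conf2 X j r y Y U) (k : Fin (r + 1)) :
    relCodim ((X.ptSub (y k)).res ((X.ptSubι (y k)) ⁻¹ᵁ Y)).scheme h.decomp.Z.scheme = 0 :=
  relCodim_of_dim_eq (h.pieceHom k).dim_eq

lemma relCodim_pre' (h : Conf2 X j r y Y U) (k : Fin (r + 1)) :
    relCodim ((X.ptSub (y k)).res ((X.ptSubι (y k)) ⁻¹ᵁ Y)).scheme (X.res Y).scheme =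
      (j : ℤ) + 1 := by
  rw [relCodim_pre X (y k) Y h.hdY (h.nonempty_pre k)]
  have := h.pdim_add k
  omega

omit [IsConstructible V] in
lemma injective_y (h : Conf2 X j r y Y U) : Function.Injective y := by
  intro k l hkl
  by_contra hne
  exact h.disj k l hne (y k) (h.mem k) (subset_closure rfl) (hkl ▸ subset_closure rfl)

end Conf2

end Groth.Agent.Lib.Helper5.Misc.BMD1a
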