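import Mathlib
import Groth.Prelude.Def_BMCoh4
import Groth.Agent.Lib.Helper5.Misc.BMD1a

set_option autoImplicit false
universe u
open CategoryTheory CategoryTheory.Limits AlgebraicGeometry Opposite TopologicalSpace
open BMCoh

namespace Groth.Agent.Lib.Helper5.Misc.BMD1b

open Groth.Agent.Lib.Helper5.Misc.BMLib Groth.Agent.Lib.Helper5.Misc.BMColim
open Groth.Agent.Lib.Helper5.Misc.BMGeo Groth.Agent.Lib.Helper5.Misc.BMVan
open Groth.Agent.Lib.Helper5.Misc.BMBij Groth.Agent.Lib.Helper5.Misc.WeilGeo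
open Groth.Agent.Lib.Helper5.Misc.BMGeo2 Groth.Agent.Lib.Helper5.Misc.BMStep
open Groth.Agent.Lib.Helper5.Misc.BMFj Groth.Agent.Lib.Helper5.Misc.BMRes
open Groth.Agent.Lib.Helper5.Misc.BMStep.StepData Groth.Agent.Lib.Helper5.Misc.BMExact1
open Groth.Agent.Lib.Helper5.Misc.BMExact2 Groth.Agent.Lib.Helper5.Misc.BMUniq
open Groth.Agent.Lib.Helper5.Misc.BMAdd Groth.Agent.Lib.Helper5.Misc.BMConf
open Groth.Agent.Lib.Helper5.Misc.BMD1a

variable {V : ObjectProperty Scheme.{u}} [IsConstructible V] {R : Type u} [CommRing R]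
  {A : Coefs R}

section ResData

variable (T : PreTheory V R A) (X : Obj V) (j : ℕ) (Q : T.ResData X j) (M : A.Cat)
  (i n i' n' : ℤ) (hi : i' = i + 1 - 2 * ((j : ℤ) + 1)) (hn : n' = n - ((j : ℤ) + 1))

/-- The residue datum at `x` computed through a step (for a pre-theory). -/
lemma cpt_eq_of_step' {x : X.scheme} (hx : WeilCoh.codim X.scheme x = j + 1)
    {O O1 : X.scheme.Opens} (h : StepData X x O O1) (hOF : ContainsFj X j O)
    (a : T.gp (X.res O) M i n)
    (hiD : i' = i + 1 - 2 * h.decomp.codim) (hnD : n' = n - h.decomp.codim) :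
    ((T.ocolimι (X.ptSub x) (fun U => (U : Set (X.ptSub x).scheme).Nonempty)
      i' n' (stepIdx h)).app M).hom ((T.res h.decomp M i n i' n' hiD hnD).hom a) =
    (Q.cpt ⟨x, hx⟩ M i n i' n' hi hn).hom
      (((T.ocolimι X (ContainsFj X j) i n ⟨O, hOF, h.hO⟩).app M).hom a) := by
  have hspec := Q.cpt_spec ⟨x, hx⟩ M i n i' n' hi hn (Y := X.res O1) (X.resι O1 h.hO1) h.decomp
    (stepIdx h) (𝟙 ((X.ptSub x).res ((X.ptSubι x) ⁻¹ᵁ O1)))
    (by
      show 𝟙 _ ≫ ((X.ptSubι x) ∣_ O1) ≫ O1.ι = ((X.ptSubι x) ⁻¹ᵁ O1).ι ≫ X.ptSubι x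
      rw [Category.id_comp, morphismRestrict_ι])
    ⟨O, hOF, h.hO⟩ (𝟙 (X.res O))
    (by
      show 𝟙 _ ≫ X.scheme.homOfLE h.le ≫ O1.ι = O.ι
      rw [Category.id_comp, Scheme.homOfLE_ι])
    hiD hnD
  have h1 := congrArg (fun φ => φ.hom a) hspec
  simp only [ModuleCat.hom_comp, LinearMap.comp_apply] at h1
  have e1 : (T.pull (𝟙 (X.res O)) M i n).hom a = a := pull_id_apply T _ M i n a
  have e2 : ∀ r : T.gp ((X.ptSub x).res ((X.ptSubι x) ⁻¹ᵁ O1)) M i' n',
      (T.pull (𝟙 ((X.ptSub x).res ((X.ptSubι x) ⁻¹ᵁ O1))) M i' n').hom r = r :=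
    fun r => pull_id_apply T _ M i' n' r
  have h2 := congrArg (fun t => (Q.cpt ⟨x, hx⟩ M i n i' n' hi hn).hom
    (((T.fjι X j i n ⟨O, hOF, h.hO⟩).app M).hom t)) e1
  exact ((congrArg _ (e2 _)).symm.trans (h1.symm.trans h2))

/-- The residue at a point of the open on which the class is defined vanishes (pre-theory). -/
theorem cpt_eq_zero_of_mem' {x : X.scheme} (hx : WeilCoh.codim X.scheme x = j + 1)
    (U : Idx X (ContainsFj X j)) (hxU : x ∈ U.1) (a : T.gp (X.res U.1) M i n) :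
    (Q.cpt ⟨x, hx⟩ M i n i' n' hi hn).hom (((T.fjι X j i n U).app M).hom a) = 0 := by
  have hOF := containsFj_complOpen' X j hx U.1 U.2.1
  have hstep := stepData_complOpen' X j hx U.1 U.2.1 hxU
  have hc : hstep.decomp.codim = (j : ℤ) + 1 :=
    (hstep.relCodim_decomp).trans (codim_cast X j hx)
  have hiD : i' = i + 1 - 2 * hstep.decomp.codim := by rw [hc]; exact hi
  have hnD : n' = n - hstep.decomp.codim := by rw [hc]; exact hn
  let a0 : T.gp (X.res (complOpen X x U.1)) M i n :=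
    (T.pull (X.resLE hstep.le (hstep.hO.trans hstep.hO1.symm)) M i n).hom a
  have key := cpt_eq_of_step' T X j Q M i n i' n' hi hn hx hstep hOF a0 hiD hnD
  have hpull := ocolimι_pull T X (ContainsFj X j) i n M
    (U := U) (U' := ⟨complOpen X x U.1, hOF, hstep.hO⟩) hstep.le a
  have hex := T.exact_pull_res hstep.decomp M i n i' n' hiD hnD
  have hzero : (T.res hstep.decomp M i n i' n' hiD hnD).hom a0 = 0 :=
    hex.apply_apply_eq_zero a
  rw [← hpull]
  refine (key.symm.trans ?_)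
  exact (congrArg (fun t => ((T.ocolimι (X.ptSub x)
    (fun U => (U : Set (X.ptSub x).scheme).Nonempty) i' n' (stepIdx hstep)).app M).hom t)
    hzero).trans (map_zero _)

end ResData

section Alg

variable (T : PreTheory V R A) {X : Obj V} {j r : ℕ} {y : Fin (r + 1) → X.scheme}
  {Y U : X.scheme.Opens} (h : Conf2 X j r y Y U) (M : A.Cat) (i n i' n' : ℤ)

/-- The member of the index family of the point `y k` attached to a configuration. -/
noncomputable abbrev _root_.Groth.Agent.Lib.Helper5.Misc.BMD1a.Conf2.ptIdx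
    (h : Conf2 X j r y Y U) (k : Fin (r + 1)) :
    Idx (X.ptSub (y k)) (fun W => (W : Set (X.ptSub (y k)).scheme).Nonempty) :=
  ⟨(X.ptSubι (y k)) ⁻¹ᵁ Y, h.nonempty_pre k, dim_open_ptSub X (y k) _ (h.nonempty_pre k)⟩

/-- The residue at `y k` of a class on `U` through the decomposition of the configuration. -/
lemma _root_.Groth.Agent.Lib.Helper5.Misc.BMD1a.Conf2.cpt_eq
    (Q : T.ResData X j) (hi : i' = i + 1 - 2 * ((j : ℤ) + 1))
    (hn : n' = n - ((j : ℤ) + 1)) (a : T.gp (X.res U) M i n) (k : Fin (r + 1))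
    (hiD : i' = i + 1 - 2 * h.decomp.codim) (hnD : n' = n - h.decomp.codim) :
    (Q.cpt ⟨y k, h.cod k⟩ M i n i' n' hi hn).hom
      (((T.fjι X j i n ⟨U, h.hU, h.hdU⟩).app M).hom a) =
    ((T.ptι X (y k) i' n' (h.ptIdx k)).app M).hom
      ((T.pull (h.pieceHom k) M i' n').hom ((T.res h.decomp M i n i' n' hiD hnD).hom a)) := by
  have hspec := Q.cpt_spec ⟨y k, h.cod k⟩ M i n i' n' hi hn (Y := X.res Y) (X.resι Y h.hdY)
    h.decomp (h.ptIdx k) (h.pieceHom k)
    (by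
      show (h.pieceHom k).hom ≫ h.decomp.i ≫ Y.ι = ((X.ptSubι (y k)) ⁻¹ᵁ Y).ι ≫ X.ptSubι (y k)
      rw [← Category.assoc, h.pieceHom_fac k, morphismRestrict_ι])
    ⟨U, h.hU, h.hdU⟩ (𝟙 (X.res U))
    (by
      show 𝟙 _ ≫ X.scheme.homOfLE h.le ≫ Y.ι = U.ι
      rw [Category.id_comp, Scheme.homOfLE_ι])
    hiD hnD
  have h1 := congrArg (fun φ => φ.hom a) hspec
  simp only [ModuleCat.hom_comp, LinearMap.comp_apply] at h1
  have e1 : (T.pull (𝟙 (X.res U)) M i n).hom a = a := pull_id_apply T _ M i n a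
  have h2 := congrArg (fun t => (Q.cpt ⟨y k, h.cod k⟩ M i n i' n' hi hn).hom
    (((T.fjι X j i n ⟨U, h.hU, h.hdU⟩).app M).hom t)) e1
  exact h2.symm.trans h1

end Alg

end Groth.Agent.Lib.Helper5.Misc.BMD1b
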