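import Mathlib
import Groth.Prelude.Def_BMCoh3
import Groth.Agent.Lib.Helper5.Misc.BMConf

set_option autoImplicit false
universe u
open CategoryTheory CategoryTheory.Limits AlgebraicGeometry Opposite TopologicalSpace
open BMCoh

namespace Groth.Agent.Lib.Helper5.Misc.BMExact3

open Groth.Agent.Lib.Helper5.Misc.BMLib Groth.Agent.Lib.Helper5.Misc.BMColim
open Groth.Agent.Lib.Helper5.Misc.BMGeo Groth.Agent.Lib.Helper5.Misc.BMVan
open Groth.Agent.Lib.Helper5.Misc.BMBij Groth.Agent.Lib.Helper5.Misc.WeilGeo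
open Groth.Agent.Lib.Helper5.Misc.BMGeo2 Groth.Agent.Lib.Helper5.Misc.BMStep
open Groth.Agent.Lib.Helper5.Misc.BMFj Groth.Agent.Lib.Helper5.Misc.BMRes
open Groth.Agent.Lib.Helper5.Misc.BMStep.StepData Groth.Agent.Lib.Helper5.Misc.BMExact1
open Groth.Agent.Lib.Helper5.Misc.BMExact2 Groth.Agent.Lib.Helper5.Misc.BMUniq
open Groth.Agent.Lib.Helper5.Misc.BMAdd Groth.Agent.Lib.Helper5.Misc.BMConf

variable {V : ObjectProperty Scheme.{u}} [IsConstructible V] {R : Type u} [CommRing R]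
  {A : Coefs R}

section Rep

variable (T : TheoryOn V R A) (X : Obj V) (j : ℕ) (P : T.PushData X (j + 1)) (M : A.Cat)
  (i n i' n' : ℤ) (hi : i' = i + 2 * ((j + 1 : ℕ) : ℤ)) (hn : n' = n + ((j + 1 : ℕ) : ℤ))

/-- Arithmetic of the shift of the push-forward from a piece of the closure of a point of
codimension `j + 1`. -/
lemma shift_pre {x : X.scheme} (hx : WeilCoh.codim X.scheme x = j + 1) (O : X.scheme.Opens)
    (hd : WeilCoh.dim (O : Scheme.{u}) = WeilCoh.dim X.scheme)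
    (hne : ((((X.ptSubι x) ⁻¹ᵁ O : (X.ptSub x).scheme.Opens)) : Set (X.ptSub x).scheme).Nonempty) :
    relCodim ((X.ptSub x).res ((X.ptSubι x) ⁻¹ᵁ O)).scheme (X.res O).scheme = (j : ℤ) + 1 :=
  (relCodim_pre X x O hd hne).trans (codim_cast X j hx)

/-- Every class of the group of a point of codimension `j + 1` is represented on a piece of its
closure which is closed in an open containing `F_{j+1}X`, and its push-forward is computed
there. -/
lemma cpt_rep {x : X.scheme} (hx : WeilCoh.codim X.scheme x = j + 1) (β : T.ptGp X x M i n) :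
    ∃ (Y1 : X.scheme.Opens) (hY1F : ContainsFj X (j + 1) Y1)
      (b : T.gp ((X.ptSub x).res ((X.ptSubι x) ⁻¹ᵁ Y1)) M i n),
      ((T.ptι X x i n (stepIdx (stepData_complOpen X j hx Y1 hY1F))).app M).hom b = β ∧
      ∀ (hiD : i' = i + 2 * relCodim ((X.ptSub x).res ((X.ptSubι x) ⁻¹ᵁ Y1)).scheme
          (X.res Y1).scheme)
        (hnD : n' = n + relCodim ((X.ptSub x).res ((X.ptSubι x) ⁻¹ᵁ Y1)).scheme
          (X.res Y1).scheme),
        (P.cpt ⟨x, hx⟩ M i n i' n' hi hn).hom β =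
          ((T.fjι X (j + 1) i' n' ⟨Y1, hY1F, dim_of_containsFj X (j + 1) Y1 hY1F⟩).app M).hom
            ((T.push (X := (X.ptSub x).res ((X.ptSubι x) ⁻¹ᵁ Y1)) (Y := X.res Y1)
              ((X.ptSubι x) ∣_ Y1) M i n i' n' hiD hnD).hom b) := by
  obtain ⟨W, b0, rfl⟩ := exists_rep T.toPreTheory (X.ptSub x)
    (fun U => (U : Set (X.ptSub x).scheme).Nonempty) i n M β
  have hU3F : ContainsFj X (j + 1) (shrink X x ⊤ W.1) :=
    containsFj_shrink X j hx ⊤ (fun _ _ => trivial) W.1 W.2.1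
  have hstep3 := stepData_complOpen X j hx (shrink X x ⊤ W.1) hU3F
  have hpre3 : (X.ptSubι x) ⁻¹ᵁ (shrink X x ⊤ W.1) ≤ W.1 := pre_shrink_le X x ⊤ W.1
  let b3 : T.gp ((X.ptSub x).res ((X.ptSubι x) ⁻¹ᵁ (shrink X x ⊤ W.1))) M i n :=
    (T.pull ((X.ptSub x).resLE hpre3
      ((dim_open_ptSub X x _ hstep3.nonempty_pre).trans W.2.2.symm)) M i n).hom b0
  have e0 : ((T.ptι X x i n (stepIdx hstep3)).app M).hom b3 =
      ((T.ptι X x i n W).app M).hom b0 :=
    ocolimι_pull T.toPreTheory (X.ptSub x) (fun U => (U : Set (X.ptSub x).scheme).Nonempty) i n M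
      (U := W) (U' := stepIdx hstep3) hpre3 b0
  refine ⟨shrink X x ⊤ W.1, hU3F, b3, e0, ?_⟩
  intro hiD hnD
  have key := cpt_eq_push_of_step T X j P M i n i' n' hi hn hx hstep3 hU3F b3 hiD hnD
  rw [e0] at key
  exact key

end Rep

section Supp

variable (T : TheoryOn V R A) (X : Obj V) (j : ℕ) (M : A.Cat) (i1 n1 : ℤ)

/-- A class of the groups of `F_{j+1}X` is represented by a class vanishing on an open containing
`F_jX`, the point `x0`, and all points of codimension `j + 1` outside the finite set `S'`. -/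
def SuppAway (S' : Finset (X.cdPt (j + 1))) (x0 : X.scheme) (c : T.fjGp X (j + 1) M i1 n1) :
    Prop :=
  ∃ (Y : Idx X (ContainsFj X (j + 1))) (p : T.gp (X.res Y.1) M i1 n1) (O : X.scheme.Opens)
    (hOY : O ≤ Y.1) (hOF : ContainsFj X j O),
    c = ((T.fjι X (j + 1) i1 n1 Y).app M).hom p ∧ x0 ∈ O ∧
    (∀ x : X.cdPt (j + 1), x.1 ∉ O → x ∈ S') ∧
    (T.pull (X.resLE hOY ((dim_of_containsFj X j O hOF).trans Y.2.2.symm)) M i1 n1).hom p = 0

variable {T X j M i1 n1}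

lemma SuppAway.mono {S' S'' : Finset (X.cdPt (j + 1))} (hS : S' ⊆ S'') {x0 : X.scheme}
    {c : T.fjGp X (j + 1) M i1 n1} (h : SuppAway T X j M i1 n1 S' x0 c) :
    SuppAway T X j M i1 n1 S'' x0 c := by
  obtain ⟨Y, p, O, hOY, hOF, hc, hx0, hmiss, hp⟩ := h
  exact ⟨Y, p, O, hOY, hOF, hc, hx0, fun x hx => hS (hmiss x hx), hp⟩

lemma suppAway_zero (S' : Finset (X.cdPt (j + 1))) (x0 : X.scheme) :
    SuppAway T X j M i1 n1 S' x0 0 := by
  refine ⟨⟨⊤, fun _ _ => trivial, dim_top X.scheme⟩, 0, ⊤, le_refl _, fun _ _ => trivial, ?_,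
    trivial, fun x hx => absurd trivial hx, map_zero _⟩
  rw [map_zero]

lemma SuppAway.add {S' : Finset (X.cdPt (j + 1))} {x0 : X.scheme}
    {c1 c2 : T.fjGp X (j + 1) M i1 n1} (h1 : SuppAway T X j M i1 n1 S' x0 c1)
    (h2 : SuppAway T X j M i1 n1 S' x0 c2) : SuppAway T X j M i1 n1 S' x0 (c1 + c2) := by
  obtain ⟨Y1, p1, O1, hOY1, hOF1, hc1, hx1, hmiss1, hp1⟩ := h1
  obtain ⟨Y2, p2, O2, hOY2, hOF2, hc2, hx2, hmiss2, hp2⟩ := h2
  have hYF : ContainsFj X (j + 1) (Y1.1 ⊓ Y2.1) := fun z hz => ⟨Y1.2.1 z hz, Y2.2.1 z hz⟩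
  have hYd := dim_of_containsFj X (j + 1) _ hYF
  have hOF : ContainsFj X j (O1 ⊓ O2) := fun z hz => ⟨hOF1 z hz, hOF2 z hz⟩
  have hOd := dim_of_containsFj X j _ hOF
  have hOd1 := dim_of_containsFj X j _ hOF1
  have hOd2 := dim_of_containsFj X j _ hOF2
  let q1 : T.gp (X.res (Y1.1 ⊓ Y2.1)) M i1 n1 :=
    (T.pull (X.resLE (inf_le_left : Y1.1 ⊓ Y2.1 ≤ Y1.1) (hYd.trans Y1.2.2.symm)) M i1 n1).hom p1
  let q2 : T.gp (X.res (Y1.1 ⊓ Y2.1)) M i1 n1 :=
    (T.pull (X.resLE (inf_le_right : Y1.1 ⊓ Y2.1 ≤ Y2.1) (hYd.trans Y2.2.2.symm)) M i1 n1).hom p2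
  refine ⟨⟨Y1.1 ⊓ Y2.1, hYF, hYd⟩, q1 + q2, O1 ⊓ O2, inf_le_inf hOY1 hOY2, hOF, ?_,
    ⟨hx1, hx2⟩, ?_, ?_⟩
  · rw [map_add, hc1, hc2]
    congr 1
    · exact (ocolimι_pull T.toPreTheory X (ContainsFj X (j + 1)) i1 n1 M
        (U := Y1) (U' := ⟨Y1.1 ⊓ Y2.1, hYF, hYd⟩) (inf_le_left : Y1.1 ⊓ Y2.1 ≤ Y1.1) p1).symm
    · exact (ocolimι_pull T.toPreTheory X (ContainsFj X (j + 1)) i1 n1 M
        (U := Y2) (U' := ⟨Y1.1 ⊓ Y2.1, hYF, hYd⟩) (inf_le_right : Y1.1 ⊓ Y2.1 ≤ Y2.1) p2).symm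
  · intro x hx
    by_cases hx1' : x.1 ∈ O1
    · exact hmiss2 x (fun hx2' => hx ⟨hx1', hx2'⟩)
    · exact hmiss1 x hx1'
  · rw [map_add]
    have e1 : (T.pull (X.resLE (inf_le_inf hOY1 hOY2) (hOd.trans hYd.symm)) M i1 n1).hom q1 = 0 := by
      show (T.pull _ M i1 n1).hom ((T.pull _ M i1 n1).hom p1) = 0
      rw [← pull_comp_apply, resLE_comp]
      have hfac : X.resLE ((inf_le_inf hOY1 hOY2).trans (inf_le_left : Y1.1 ⊓ Y2.1 ≤ Y1.1))
          ((hOd.trans hYd.symm).trans (hYd.trans Y1.2.2.symm)) =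
          X.resLE (inf_le_left : O1 ⊓ O2 ≤ O1) (hOd.trans hOd1.symm) ≫
            X.resLE hOY1 (hOd1.trans Y1.2.2.symm) := (resLE_comp X _ _ _ _).symm
      rw [hfac, pull_comp_apply, hp1, map_zero]
    have e2 : (T.pull (X.resLE (inf_le_inf hOY1 hOY2) (hOd.trans hYd.symm)) M i1 n1).hom q2 = 0 := by
      show (T.pull _ M i1 n1).hom ((T.pull _ M i1 n1).hom p2) = 0
      rw [← pull_comp_apply, resLE_comp]
      have hfac : X.resLE ((inf_le_inf hOY1 hOY2).trans (inf_le_right : Y1.1 ⊓ Y2.1 ≤ Y2.1))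
          ((hOd.trans hYd.symm).trans (hYd.trans Y2.2.2.symm)) =
          X.resLE (inf_le_right : O1 ⊓ O2 ≤ O2) (hOd.trans hOd2.symm) ≫
            X.resLE hOY2 (hOd2.trans Y2.2.2.symm) := (resLE_comp X _ _ _ _).symm
      rw [hfac, pull_comp_apply, hp2, map_zero]
    rw [e1, e2, add_zero]

end Supp

section SuppCpt

variable (T : TheoryOn V R A) (X : Obj V) (j : ℕ) (P : T.PushData X (j + 1)) (M : A.Cat)
  (i n i' n' : ℤ) (hi : i' = i + 2 * ((j + 1 : ℕ) : ℤ)) (hn : n' = n + ((j + 1 : ℕ) : ℤ))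

/-- Two distinct points of codimension `j + 1`: neither lies in the closure of the other. -/
lemma not_mem_closure_of_ne {x0 x1 : X.scheme} (hx0 : WeilCoh.codim X.scheme x0 = j + 1)
    (hx1 : WeilCoh.codim X.scheme x1 = j + 1) (hne : x0 ≠ x1) :
    x0 ∉ closure ({x1} : Set X.scheme) := by
  intro hcl
  have h1 := pdim_lt_of_mem_closure_ne X hcl hne
  have h2 := pdim_le_dim_obj X x0
  have h3 := pdim_le_dim_obj X x1
  unfold WeilCoh.codim at hx0 hx1
  omega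

lemma suppAway_cpt (S' : Finset (X.cdPt (j + 1))) {x0 : X.scheme}
    (hx0 : WeilCoh.codim X.scheme x0 = j + 1) (x1 : X.cdPt (j + 1)) (hx1S : x1 ∈ S')
    (hne : x0 ≠ x1.1) (β1 : T.ptGp X x1.1 M i n) :
    SuppAway T X j M i' n' S' x0 ((P.cpt x1 M i n i' n' hi hn).hom β1) := by
  obtain ⟨x1, hx1⟩ := x1
  obtain ⟨Y1, hY1F, b, -, hcpt⟩ := cpt_rep T X j P M i n i' n' hi hn hx1 β1
  have hstep := stepData_complOpen X j hx1 Y1 hY1F
  have hOF := containsFj_complOpen X j hx1 Y1 hY1F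
  have hcD := shift_pre X j hx1 Y1 hstep.hO1 hstep.nonempty_pre
  have hiD : i' = i + 2 * relCodim ((X.ptSub x1).res ((X.ptSubι x1) ⁻¹ᵁ Y1)).scheme
      (X.res Y1).scheme := by rw [hcD, hi]; push_cast; ring
  have hnD : n' = n + relCodim ((X.ptSub x1).res ((X.ptSubι x1) ⁻¹ᵁ Y1)).scheme
      (X.res Y1).scheme := by rw [hcD, hn]; push_cast; ring
  refine ⟨⟨Y1, hY1F, dim_of_containsFj X (j + 1) Y1 hY1F⟩, _, complOpen X x1 Y1, hstep.le, hOF,
    hcpt hiD hnD, ?_, ?_, ?_⟩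
  · exact ⟨hY1F x0 (le_of_eq hx0), not_mem_closure_of_ne X j hx0 hx1 hne⟩
  · intro x hx
    have hxY : x.1 ∈ Y1 := hY1F x.1 (le_of_eq x.2)
    have hxcl : x.1 ∈ closure ({x1} : Set X.scheme) := by
      by_contra hcl
      exact hx ⟨hxY, hcl⟩
    have hxe : x.1 = x1 := by
      by_contra hne'
      exact not_mem_closure_of_ne X j x.2 hx1 hne' hxcl
    have : x = ⟨x1, hx1⟩ := Subtype.ext hxe
    rw [this]; exact hx1S
  · obtain ⟨i0, rfl⟩ : ∃ i0, i' = i0 + 1 := ⟨i' - 1, by ring⟩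
    have hex := T.exact_push_pull hstep.decomp M i0 n' i n hiD hnD
    exact hex.apply_apply_eq_zero b

/-- The total push-forward of a family supported in `S'` is supported away from any other
point of codimension `j + 1`. -/
theorem suppAway_tot (S' : Finset (X.cdPt (j + 1))) {x0 : X.scheme}
    (hx0 : WeilCoh.codim X.scheme x0 = j + 1) :
    (∀ x ∈ S', x0 ≠ x.1) → ∀ (η : T.ptSum X (j + 1) M i n), (∀ x, η x ≠ 0 → x ∈ S') →
      SuppAway T X j M i' n' S' x0 ((P.tot M i n i' n' hi hn).hom η) := by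
  classical
  induction S' using Finset.induction_on with
  | empty =>
    intro _ η hη
    have : η = 0 := by
      refine DFinsupp.ext fun x => ?_
      by_contra h
      exact absurd (hη x h) (Finset.notMem_empty x)
    rw [this, map_zero]
    exact suppAway_zero _ _
  | insert x1 S'' hx1 IH =>
    intro hx0S η hη
    let η' : T.ptSum X (j + 1) M i n :=
      η - DirectSum.lof R (X.cdPt (j + 1)) (fun z : X.cdPt (j + 1) => T.ptGp X z.1 M i n) x1 (η x1)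
    have hη' : ∀ x, η' x ≠ 0 → x ∈ S'' := by
      intro x hx
      by_cases hxx : x = x1
      · exfalso
        apply hx
        subst hxx
        show (η - DirectSum.lof R (X.cdPt (j + 1))
          (fun z : X.cdPt (j + 1) => T.ptGp X z.1 M i n) x (η x)) x = 0
        rw [DirectSum.sub_apply, DirectSum.lof_eq_of, DirectSum.of_eq_same, sub_self]
      · have hxe : η' x = η x := by
          show (η - DirectSum.lof R (X.cdPt (j + 1))
            (fun z : X.cdPt (j + 1) => T.ptGp X z.1 M i n) x1 (η x1)) x = η x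
          rw [DirectSum.sub_apply, DirectSum.lof_eq_of, DirectSum.of_eq_of_ne x1 x _ hxx,
            sub_zero]
        rw [hxe] at hx
        rcases Finset.mem_insert.mp (hη x hx) with h | h
        · exact absurd h hxx
        · exact h
    have hsplit : η = DirectSum.lof R (X.cdPt (j + 1))
        (fun z : X.cdPt (j + 1) => T.ptGp X z.1 M i n) x1 (η x1) + η' := by
      show η = _ + (η - _)
      abel
    rw [hsplit, map_add, PreTheory.PushData.tot_lof]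
    apply SuppAway.add
    · exact suppAway_cpt T X j P M i n i' n' hi hn _ hx0 x1 (Finset.mem_insert_self _ _)
        (hx0S x1 (Finset.mem_insert_self _ _)) (η x1)
    · exact (IH (fun x hx => hx0S x (Finset.mem_insert_of_mem hx)) η' hη').mono
        (Finset.subset_insert _ _)

end SuppCpt

section Main

variable (T : TheoryOn V R A) (X : Obj V) (j : ℕ) (Q : T.ResData X j) (P : T.PushData X (j + 1))
  (M : A.Cat) (i n i' n' : ℤ) (hi : i' = i + 1 - 2 * ((j : ℤ) + 1)) (hn : n' = n - ((j : ℤ) + 1))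
  (hi2 : i + 1 = i' + 2 * ((j + 1 : ℕ) : ℤ)) (hn2 : n = n' + ((j + 1 : ℕ) : ℤ))

/-- If the push-forward of a class of the group of `x0` is cancelled by a class supported away
from `x0`, then the class is the residue at `x0` of a class of `F_jX` with no other residues
outside the finite set `S'`. -/
theorem exists_class_of_cancel (S' : Finset (X.cdPt (j + 1))) {x0 : X.scheme}
    (hx0 : WeilCoh.codim X.scheme x0 = j + 1) (β : T.ptGp X x0 M i' n')
    (c : T.fjGp X (j + 1) M (i + 1) n) (hc : SuppAway T X j M (i + 1) n S' x0 c)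
    (hsum : (P.cpt ⟨x0, hx0⟩ M i' n' (i + 1) n hi2 hn2).hom β + c = 0) :
    ∃ z1 : T.fjGp X j M i n, (Q.cpt ⟨x0, hx0⟩ M i n i' n' hi hn).hom z1 = β ∧
      ∀ x : X.cdPt (j + 1), x.1 ≠ x0 → x ∉ S' → (Q.cpt x M i n i' n' hi hn).hom z1 = 0 := by
  obtain ⟨Y0, hY0F, b0, hβ, hcpt⟩ := cpt_rep T X j P M i' n' (i + 1) n hi2 hn2 hx0 β
  obtain ⟨Y, p, O, hOY, hOF, hcp, hx0O, hmiss, hp0⟩ := hc
  have hstep0 := stepData_complOpen X j hx0 Y0 hY0F
  have hcD0 := shift_pre X j hx0 Y0 hstep0.hO1 hstep0.nonempty_pre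
  have hiD0 : i + 1 = i' + 2 * relCodim ((X.ptSub x0).res ((X.ptSubι x0) ⁻¹ᵁ Y0)).scheme
      (X.res Y0).scheme := by rw [hcD0, hi2]; push_cast; ring
  have hnD0 : n = n' + relCodim ((X.ptSub x0).res ((X.ptSubι x0) ⁻¹ᵁ Y0)).scheme
      (X.res Y0).scheme := by rw [hcD0, hn2]; push_cast; ring
  let p0 : T.gp (X.res Y0) M (i + 1) n :=
    (T.push (X := (X.ptSub x0).res ((X.ptSubι x0) ⁻¹ᵁ Y0)) (Y := X.res Y0)
      ((X.ptSubι x0) ∣_ Y0) M i' n' (i + 1) n hiD0 hnD0).hom b0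
  have hcpt' := hcpt hiD0 hnD0
  -- common stage
  have hY0d := dim_of_containsFj X (j + 1) Y0 hY0F
  have hYcF : ContainsFj X (j + 1) (Y0 ⊓ Y.1) := fun z hz => ⟨hY0F z hz, Y.2.1 z hz⟩
  have hYcd := dim_of_containsFj X (j + 1) _ hYcF
  let q0 : T.gp (X.res (Y0 ⊓ Y.1)) M (i + 1) n :=
    (T.pull (X.resLE (inf_le_left : Y0 ⊓ Y.1 ≤ Y0) (hYcd.trans hY0d.symm)) M (i + 1) n).hom p0
  let q1 : T.gp (X.res (Y0 ⊓ Y.1)) M (i + 1) n :=
    (T.pull (X.resLE (inf_le_right : Y0 ⊓ Y.1 ≤ Y.1) (hYcd.trans Y.2.2.symm)) M (i + 1) n).hom p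
  have hq : ((T.fjι X (j + 1) (i + 1) n ⟨Y0 ⊓ Y.1, hYcF, hYcd⟩).app M).hom (q0 + q1) = 0 := by
    rw [map_add]
    have e0 := ocolimι_pull T.toPreTheory X (ContainsFj X (j + 1)) (i + 1) n M
      (U := ⟨Y0, hY0F, hY0d⟩) (U' := ⟨Y0 ⊓ Y.1, hYcF, hYcd⟩) (inf_le_left : Y0 ⊓ Y.1 ≤ Y0) p0
    have e1 := ocolimι_pull T.toPreTheory X (ContainsFj X (j + 1)) (i + 1) n M
      (U := Y) (U' := ⟨Y0 ⊓ Y.1, hYcF, hYcd⟩) (inf_le_right : Y0 ⊓ Y.1 ≤ Y.1) p
    rw [e0, e1, ← hcpt', ← hcp]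
    exact hsum
  obtain ⟨Y2, hY2le, hY2⟩ := exists_pull_eq_zero T.toPreTheory X (ContainsFj X (j + 1)) (i + 1) n M
    ⟨Y0 ⊓ Y.1, hYcF, hYcd⟩ (q0 + q1) hq
  have hY2le' : Y2.1 ≤ Y0 ⊓ Y.1 := hY2le
  -- the open `O1` around `x0`
  have hO1F : ContainsFj X j (Y2.1 ⊓ O) :=
    fun z hz => ⟨Y2.2.1 z (by omega), hOF z hz⟩
  have hO1d := dim_of_containsFj X j _ hO1F
  have hOd := dim_of_containsFj X j _ hOF
  have hx0O1 : x0 ∈ Y2.1 ⊓ O := ⟨Y2.2.1 x0 (le_of_eq hx0), hx0O⟩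
  have hstep := stepData_complOpen' X j hx0 (Y2.1 ⊓ O) hO1F hx0O1
  have hUF := containsFj_complOpen' X j hx0 (Y2.1 ⊓ O) hO1F
  -- `p` vanishes on `O1`
  have hpO1 : (T.pull (X.resLE ((inf_le_left : Y2.1 ⊓ O ≤ Y2.1).trans
      (hY2le'.trans (inf_le_right : Y0 ⊓ Y.1 ≤ Y.1))) (hO1d.trans Y.2.2.symm)) M (i + 1) n).hom p
      = 0 := by
    have hfac : X.resLE ((inf_le_left : Y2.1 ⊓ O ≤ Y2.1).trans
        (hY2le'.trans (inf_le_right : Y0 ⊓ Y.1 ≤ Y.1))) (hO1d.trans Y.2.2.symm) =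
        X.resLE (inf_le_right : Y2.1 ⊓ O ≤ O) (hO1d.trans hOd.symm) ≫
          X.resLE hOY (hOd.trans Y.2.2.symm) := (resLE_comp X _ _ _ _).symm
    rw [hfac, pull_comp_apply, hp0, map_zero]
  -- hence `p0` vanishes on `O1`
  have hle10 : Y2.1 ⊓ O ≤ Y0 :=
    (inf_le_left : Y2.1 ⊓ O ≤ Y2.1).trans (hY2le'.trans (inf_le_left : Y0 ⊓ Y.1 ≤ Y0))
  have hp0O1 : (T.pull (X.resLE hle10 (hO1d.trans hY0d.symm)) M (i + 1) n).hom p0 = 0 := by
    have h1 := congrArg (fun t => (T.pull (X.resLE (inf_le_left : Y2.1 ⊓ O ≤ Y2.1)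
      (hO1d.trans Y2.2.2.symm)) M (i + 1) n).hom t) hY2
    simp only [map_zero] at h1
    rw [map_add, map_add] at h1
    have h2 : (T.pull (X.resLE (inf_le_left : Y2.1 ⊓ O ≤ Y2.1) (hO1d.trans Y2.2.2.symm))
        M (i + 1) n).hom ((T.pull (X.resLE hY2le' (Y2.2.2.trans hYcd.symm)) M (i + 1) n).hom q1)
        = 0 := by
      show (T.pull _ M _ _).hom ((T.pull _ M _ _).hom ((T.pull _ M _ _).hom p)) = 0
      rw [← pull_comp_apply, ← pull_comp_apply, resLE_comp, resLE_comp]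
      exact hpO1
    have h3 : (T.pull (X.resLE (inf_le_left : Y2.1 ⊓ O ≤ Y2.1) (hO1d.trans Y2.2.2.symm))
        M (i + 1) n).hom ((T.pull (X.resLE hY2le' (Y2.2.2.trans hYcd.symm)) M (i + 1) n).hom q0)
        = (T.pull (X.resLE hle10 (hO1d.trans hY0d.symm)) M (i + 1) n).hom p0 := by
      show (T.pull _ M _ _).hom ((T.pull _ M _ _).hom ((T.pull _ M _ _).hom p0)) = _
      rw [← pull_comp_apply, ← pull_comp_apply, resLE_comp, resLE_comp]
    rw [h2, add_zero, h3] at h1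
    exact h1
  -- base change: `p0` on `O1` is the push-forward of the restriction of `b0`
  have hpre : (X.ptSubι x0) ⁻¹ᵁ (Y2.1 ⊓ O) ≤ (X.ptSubι x0) ⁻¹ᵁ Y0 := fun z hz => hle10 hz
  have hcD1 := shift_pre X j hx0 (Y2.1 ⊓ O) hO1d hstep.nonempty_pre
  have hiD1 : i + 1 = i' + 2 * relCodim ((X.ptSub x0).res
      ((X.ptSubι x0) ⁻¹ᵁ (Y2.1 ⊓ O))).scheme (X.res (Y2.1 ⊓ O)).scheme := by
    rw [hcD1, hi2]; push_cast; ring
  have hnD1 : n = n' + relCodim ((X.ptSub x0).res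
      ((X.ptSubι x0) ⁻¹ᵁ (Y2.1 ⊓ O))).scheme (X.res (Y2.1 ⊓ O)).scheme := by
    rw [hcD1, hn2]; push_cast; ring
  let b1 : T.gp ((X.ptSub x0).res ((X.ptSubι x0) ⁻¹ᵁ (Y2.1 ⊓ O))) M i' n' :=
    (T.pull ((X.ptSub x0).resLE hpre ((dim_open_ptSub X x0 _ hstep.nonempty_pre).trans
      (dim_open_ptSub X x0 _ hstep0.nonempty_pre).symm)) M i' n').hom b0
  have hbc := pull_push_restrict T X x0 M hle10 hO1d hY0d hstep.nonempty_pre hstep0.nonempty_pre
    hpre i' n' (i + 1) n hiD0 hnD0 hiD1 hnD1 b0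
  have hpush0 : (T.push hstep.decomp.i M i' n' (i + 1) n hiD1 hnD1).hom b1 = 0 :=
    hbc.symm.trans hp0O1
  -- exactness: `b1` is a residue
  have hcD : hstep.decomp.codim = (j : ℤ) + 1 :=
    (hstep.relCodim_decomp).trans (codim_cast X j hx0)
  have hiD : i' = i + 1 - 2 * hstep.decomp.codim := by rw [hcD]; exact hi
  have hnD : n' = n - hstep.decomp.codim := by rw [hcD]; exact hn
  have hex := T.exact_res_push hstep.decomp M i n i' n' hiD hnD hiD1 hnD1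
  obtain ⟨a, ha⟩ := (hex b1).mp hpush0
  refine ⟨((T.fjι X j i n ⟨complOpen X x0 (Y2.1 ⊓ O), hUF, hstep.hO⟩).app M).hom a, ?_, ?_⟩
  · have key := cpt_eq_of_step T X j Q M i n i' n' hi hn hx0 hstep hUF a hiD hnD
    rw [← key]
    rw [← hβ]
    have e2 := ocolimι_pull T.toPreTheory (X.ptSub x0)
      (fun U => (U : Set (X.ptSub x0).scheme).Nonempty) i' n' M
      (U := stepIdx hstep0) (U' := stepIdx hstep) hpre b0
    rw [← e2]
    exact congrArg (fun t => ((T.ptι X x0 i' n' (stepIdx hstep)).app M).hom t) ha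
  · intro x hxne hxS
    obtain ⟨x, hxc⟩ := x
    have hxU : x ∈ complOpen X x0 (Y2.1 ⊓ O) := by
      refine ⟨⟨Y2.2.1 x (le_of_eq hxc), ?_⟩, not_mem_closure_of_ne X j hxc hx0 hxne⟩
      by_contra hxO
      exact hxS (hmiss ⟨x, hxc⟩ hxO)
    exact cpt_eq_zero_of_mem T X j Q M i n i' n' hi hn hxc
      ⟨complOpen X x0 (Y2.1 ⊓ O), hUF, hstep.hO⟩ hxU a

/-- A family of classes of groups of points, supported in a finite set, which is killed by the
total push-forward is a total residue. -/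
theorem exists_tot_eq (S : Finset (X.cdPt (j + 1))) :
    ∀ (ξ : T.ptSum X (j + 1) M i' n'), (∀ x, ξ x ≠ 0 → x ∈ S) →
      (P.tot M i' n' (i + 1) n hi2 hn2).hom ξ = 0 →
      ∃ z : T.fjGp X j M i n, (Q.tot M i n i' n' hi hn).hom z = ξ := by
  classical
  induction S using Finset.induction_on with
  | empty =>
    intro ξ hξ _
    refine ⟨0, ?_⟩
    rw [map_zero]
    refine (DFinsupp.ext fun x => ?_).symm
    by_contra h
    exact absurd (hξ x h) (Finset.notMem_empty x)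
  | insert x0 S' hx0S IH =>
    intro ξ hξ hPξ
    obtain ⟨x0, hx0⟩ := x0
    let η : T.ptSum X (j + 1) M i' n' :=
      ξ - DirectSum.lof R (X.cdPt (j + 1)) (fun z : X.cdPt (j + 1) => T.ptGp X z.1 M i' n')
        ⟨x0, hx0⟩ (ξ ⟨x0, hx0⟩)
    have hη : ∀ x, η x ≠ 0 → x ∈ S' := by
      intro x hx
      by_cases hxx : x = ⟨x0, hx0⟩
      · exfalso
        apply hx
        subst hxx
        show (ξ - DirectSum.lof R (X.cdPt (j + 1))
          (fun z : X.cdPt (j + 1) => T.ptGp X z.1 M i' n') ⟨x0, hx0⟩ (ξ ⟨x0, hx0⟩)) ⟨x0, hx0⟩ = 0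
        rw [DirectSum.sub_apply, DirectSum.lof_eq_of, DirectSum.of_eq_same, sub_self]
      · have hxe : η x = ξ x := by
          show (ξ - DirectSum.lof R (X.cdPt (j + 1))
            (fun z : X.cdPt (j + 1) => T.ptGp X z.1 M i' n') ⟨x0, hx0⟩ (ξ ⟨x0, hx0⟩)) x = ξ x
          rw [DirectSum.sub_apply, DirectSum.lof_eq_of, DirectSum.of_eq_of_ne _ x _ hxx,
            sub_zero]
        rw [hxe] at hx
        rcases Finset.mem_insert.mp (hξ x hx) with h | h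
        · exact absurd h hxx
        · exact h
    have hsplit : ξ = DirectSum.lof R (X.cdPt (j + 1))
        (fun z : X.cdPt (j + 1) => T.ptGp X z.1 M i' n') ⟨x0, hx0⟩ (ξ ⟨x0, hx0⟩) + η := by
      show ξ = _ + (ξ - _)
      abel
    have hsum : (P.cpt ⟨x0, hx0⟩ M i' n' (i + 1) n hi2 hn2).hom (ξ ⟨x0, hx0⟩) +
        (P.tot M i' n' (i + 1) n hi2 hn2).hom η = 0 := by
      rw [← PreTheory.PushData.tot_lof P M i' n' (i + 1) n hi2 hn2 ⟨x0, hx0⟩ (ξ ⟨x0, hx0⟩),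
        ← map_add, ← hsplit]
      exact hPξ
    have hne : ∀ x ∈ S', x0 ≠ x.1 := by
      intro x hx hxe
      apply hx0S
      have : x = ⟨x0, hx0⟩ := Subtype.ext hxe.symm
      rw [← this]; exact hx
    have hc := suppAway_tot T X j P M i' n' (i + 1) n hi2 hn2 S' hx0 hne η hη
    obtain ⟨z1, hz1, hz1'⟩ := exists_class_of_cancel T X j Q P M i n i' n' hi hn hi2 hn2 S' hx0
      (ξ ⟨x0, hx0⟩) _ hc hsum
    let ξ' : T.ptSum X (j + 1) M i' n' := ξ - (Q.tot M i n i' n' hi hn).hom z1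
    have hξ' : ∀ x, ξ' x ≠ 0 → x ∈ S' := by
      intro x hx
      by_contra hxS
      apply hx
      show (ξ - (Q.tot M i n i' n' hi hn).hom z1) x = 0
      rw [DirectSum.sub_apply, PreTheory.ResData.tot_apply]
      by_cases hxx : x = ⟨x0, hx0⟩
      · subst hxx
        rw [hz1, sub_self]
      · have hx1 : x.1 ≠ x0 := fun h => hxx (Subtype.ext h)
        rw [hz1' x hx1 hxS, sub_zero]
        by_contra hξx
        rcases Finset.mem_insert.mp (hξ x hξx) with h | h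
        · exact hxx h
        · exact hxS h
    have hPξ' : (P.tot M i' n' (i + 1) n hi2 hn2).hom ξ' = 0 := by
      show (P.tot M i' n' (i + 1) n hi2 hn2).hom (ξ - (Q.tot M i n i' n' hi hn).hom z1) = 0
      rw [map_sub, hPξ, tot_comp_tot_eq_zero T X j Q P M i n i' n' hi hn hi2 hn2 z1, sub_zero]
    obtain ⟨z2, hz2⟩ := IH ξ' hξ' hPξ'
    refine ⟨z1 + z2, ?_⟩
    rw [map_add, hz2]
    show _ + (ξ - _) = ξ
    abel

/-- Exactness of `H^i(F_jX) → ⊕_x H^{i'}(x) → H^{i+1}(F_{j+1}X)`. -/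
theorem exact_tot_tot :
    Function.Exact (Q.tot M i n i' n' hi hn).hom (P.tot M i' n' (i + 1) n hi2 hn2).hom := by
  classical
  intro ξ
  constructor
  · intro hξ
    obtain ⟨z, hz⟩ := exists_tot_eq T X j Q P M i n i' n' hi hn hi2 hn2 (DFinsupp.support ξ) ξ
      (fun x hx => (DFinsupp.mem_support_iff).mpr hx) hξ
    exact ⟨z, hz⟩
  · rintro ⟨z, rfl⟩
    exact tot_comp_tot_eq_zero T X j Q P M i n i' n' hi hn hi2 hn2 z

end Main

end Groth.Agent.Lib.Helper5.Misc.BMExact3
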