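import Mathlib
import Groth.Prelude.Def_BMCoh3
import Groth.Agent.Lib.Helper5.Misc.BMExact3

set_option autoImplicit false
universe u
open CategoryTheory CategoryTheory.Limits AlgebraicGeometry Opposite TopologicalSpace
open BMCoh

namespace Groth.Agent.Lib.Helper5.Misc.BMLevel0

open Groth.Agent.Lib.Helper5.Misc.BMLib Groth.Agent.Lib.Helper5.Misc.BMColim
open Groth.Agent.Lib.Helper5.Misc.BMGeo Groth.Agent.Lib.Helper5.Misc.BMVan
open Groth.Agent.Lib.Helper5.Misc.BMBij Groth.Agent.Lib.Helper5.Misc.WeilGeo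
open Groth.Agent.Lib.Helper5.Misc.BMGeo2 Groth.Agent.Lib.Helper5.Misc.BMStep
open Groth.Agent.Lib.Helper5.Misc.BMFj Groth.Agent.Lib.Helper5.Misc.BMRes
open Groth.Agent.Lib.Helper5.Misc.BMStep.StepData Groth.Agent.Lib.Helper5.Misc.BMExact1
open Groth.Agent.Lib.Helper5.Misc.BMExact2 Groth.Agent.Lib.Helper5.Misc.BMUniq
open Groth.Agent.Lib.Helper5.Misc.BMAdd Groth.Agent.Lib.Helper5.Misc.BMConf

variable {V : ObjectProperty Scheme.{u}} [IsConstructible V] {R : Type u} [CommRing R]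
  {A : Coefs R}

section Geo

lemma pdim_of_codim_zero (X : Obj V) {x : X.scheme} (hx : WeilCoh.codim X.scheme x = 0) :
    WeilCoh.pdim X.scheme x = WeilCoh.dim X.scheme := by
  have h1 := pdim_le_dim_obj X x
  unfold WeilCoh.codim at hx
  omega

/-- A point in the closure of a point of codimension `0`, itself of codimension `0`, is that
point. -/
lemma eq_of_mem_closure_codim_zero (X : Obj V) {x z : X.scheme}
    (hz : WeilCoh.codim X.scheme z = 0) (hcl : z ∈ closure ({x} : Set X.scheme)) : z = x := by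
  by_contra hne
  have h1 := pdim_lt_of_mem_closure_ne X hcl hne
  have h2 := pdim_of_codim_zero X hz
  have h3 := pdim_le_dim_obj X x
  omega

/-- The points of codimension `0` are finite in number. -/
lemma finite_codim_zero (X : Obj V) : {x : X.scheme | WeilCoh.codim X.scheme x = 0}.Finite := by
  classical
  obtain ⟨S, hS, hCS⟩ := NoetherianSpace.exists_finset_irreducible (⊤ : Closeds X.scheme)
  have hsub : {x : X.scheme | WeilCoh.codim X.scheme x = 0} ⊆
      ⋃ t ∈ (S : Set (Closeds X.scheme)), {x : X.scheme | IsGenericPoint x (t : Set X.scheme)} := by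
    intro x hxc
    have hxC : x ∈ ((S.sup id : Closeds X.scheme) : Set X.scheme) := by rw [← hCS]; trivial
    rw [Closeds.coe_finset_sup, Finset.sup_set_eq_biUnion] at hxC
    simp only [Set.mem_iUnion] at hxC
    obtain ⟨t, ht, hxt⟩ := hxC
    simp only [Set.mem_iUnion]
    refine ⟨t, ht, ?_⟩
    obtain ⟨η, hη⟩ := QuasiSober.sober (hS ⟨t, ht⟩) t.isClosed
    have hxη : x ∈ closure ({η} : Set X.scheme) := by rw [hη.def]; exact hxt
    have := eq_of_mem_closure_codim_zero X hxc hxη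
    exact this ▸ hη
  refine Set.Finite.subset (Set.Finite.biUnion S.finite_toSet fun t _ => ?_) hsub
  apply Set.Subsingleton.finite
  intro a ha b hb
  exact IsGenericPoint.eq ha hb

/-- A good open at level `0`: it contains the points of codimension `0`, enumerated by `η`, and is
the disjoint union of the traces of their closures. -/
structure Good0 (X : Obj V) (r : ℕ) (η : Fin (r + 1) → X.scheme) (Y : X.scheme.Opens) : Prop where
  cod : ∀ k, WeilCoh.codim X.scheme (η k) = 0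
  all : ∀ x, WeilCoh.codim X.scheme x = 0 → ∃ k, η k = x
  hY : ContainsFj X 0 Y
  cov : ∀ z ∈ Y, ∃ k, z ∈ closure ({η k} : Set X.scheme)
  disj : ∀ k l, k ≠ l → ∀ z ∈ Y, z ∈ closure ({η k} : Set X.scheme) →
    z ∉ closure ({η l} : Set X.scheme)

namespace Good0

variable {X : Obj V} {r : ℕ} {η : Fin (r + 1) → X.scheme} {Y : X.scheme.Opens}

omit [IsConstructible V] in
lemma mono (h : Good0 X r η Y) {Y' : X.scheme.Opens} (hle : Y' ≤ Y) (hY' : ContainsFj X 0 Y') :
    Good0 X r η Y' :=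
  ⟨h.cod, h.all, hY', fun z hz => h.cov z (hle hz), fun k l hkl z hz => h.disj k l hkl z (hle hz)⟩

omit [IsConstructible V] in
lemma mem (h : Good0 X r η Y) (k : Fin (r + 1)) : η k ∈ Y := h.hY (η k) (le_of_eq (h.cod k))

lemma hdY (h : Good0 X r η Y) : WeilCoh.dim (Y : Scheme.{u}) = WeilCoh.dim X.scheme :=
  dim_of_containsFj X 0 Y h.hY

lemma nonempty_pre (h : Good0 X r η Y) (k : Fin (r + 1)) :
    ((((X.ptSubι (η k)) ⁻¹ᵁ Y : (X.ptSub (η k)).scheme.Opens)) :
      Set (X.ptSub (η k)).scheme).Nonempty := by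
  have hy' : η k ∈ Set.range (X.ptSubι (η k)) := by
    rw [range_ptSubι]; exact subset_closure rfl
  obtain ⟨w, hw⟩ := hy'
  refine ⟨w, ?_⟩
  show (X.ptSubι (η k)) w ∈ Y
  rw [hw]; exact h.mem k

lemma dim_pre (h : Good0 X r η Y) (k : Fin (r + 1)) :
    WeilCoh.dim ((((X.ptSubι (η k)) ⁻¹ᵁ Y : (X.ptSub (η k)).scheme.Opens)) : Scheme.{u}) =
      WeilCoh.dim (Y : Scheme.{u}) := by
  rw [dim_open_ptSub X (η k) _ (h.nonempty_pre k), dim_ptSub, pdim_of_codim_zero X (h.cod k),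
    h.hdY]

/-- The trace on `Y` of the closure of `η k`, as an open of `Y`. -/
def pieceOpen (_ : Good0 X r η Y) (k : Fin (r + 1)) : (Y : Scheme.{u}).Opens :=
  Y.ι ⁻¹ᵁ ⟨(⋃ l : {l : Fin (r + 1) // l ≠ k}, closure ({η l.1} : Set X.scheme))ᶜ,
    (isClosed_iUnion_of_finite fun _ => isClosed_closure).isOpen_compl⟩

omit [IsConstructible V] in
lemma mem_pieceOpen (h : Good0 X r η Y) (k : Fin (r + 1)) (z : (Y : Scheme.{u})) :
    z ∈ h.pieceOpen k ↔ z.1 ∈ closure ({η k} : Set X.scheme) := by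
  show z.1 ∈ (⋃ l : {l : Fin (r + 1) // l ≠ k}, closure ({η l.1} : Set X.scheme))ᶜ ↔ _
  rw [Set.mem_compl_iff, Set.mem_iUnion]
  constructor
  · intro hz
    obtain ⟨l, hl⟩ := h.cov z.1 z.2
    by_cases hlk : l = k
    · exact hlk ▸ hl
    · exact absurd ⟨⟨l, hlk⟩, hl⟩ hz
  · rintro hz ⟨⟨l, hl⟩, hzl⟩
    exact h.disj k l (Ne.symm hl) z.1 z.2 hz hzl

variable [IsReduced X.scheme]

lemma isOpenImmersion_restrict (h : Good0 X r η Y) (k : Fin (r + 1)) :
    IsOpenImmersion ((X.ptSubι (η k)) ∣_ Y) := by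
  have hr : Set.range (h.pieceOpen k).ι =
      {z : (Y : Scheme.{u}) | z.1 ∈ closure ({η k} : Set X.scheme)} := by
    rw [Scheme.Opens.range_ι]
    ext z
    exact h.mem_pieceOpen k z
  obtain ⟨e, he⟩ := Groth.Agent.Helper1.SchImgRed.exists_iso_of_reduced_immersions
    {z : (Y : Scheme.{u}) | z.1 ∈ closure ({η k} : Set X.scheme)} _ _
    ((X.ptSubι (η k)) ∣_ Y) (h.pieceOpen k).ι (range_ptRestrict X (η k) Y) hr
  rw [← he]
  infer_instance

/-- The piece of the closure of `η k` in `Y`, as a clopen piece of `Y`. -/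
noncomputable def pieceHom (h : Good0 X r η Y) (k : Fin (r + 1)) :
    (X.ptSub (η k)).res ((X.ptSubι (η k)) ⁻¹ᵁ Y) ⟶ X.res Y :=
  ⟨(X.ptSubι (η k)) ∣_ Y, h.isOpenImmersion_restrict k, h.dim_pre k⟩

lemma pieceHom_disj (h : Good0 X r η Y) (k l : Fin (r + 1)) (hkl : k ≠ l)
    (a : ((X.ptSub (η k)).res ((X.ptSubι (η k)) ⁻¹ᵁ Y)).scheme)
    (b : ((X.ptSub (η l)).res ((X.ptSubι (η l)) ⁻¹ᵁ Y)).scheme) :
    (h.pieceHom k).hom a ≠ (h.pieceHom l).hom b := by
  intro hab
  have h1 : ((X.ptSubι (η k)) ∣_ Y) a ∈ Set.range ((X.ptSubι (η k)) ∣_ Y) := ⟨a, rfl⟩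
  have h2 : ((X.ptSubι (η l)) ∣_ Y) b ∈ Set.range ((X.ptSubι (η l)) ∣_ Y) := ⟨b, rfl⟩
  rw [range_ptRestrict] at h1 h2
  have hab' : ((X.ptSubι (η k)) ∣_ Y) a = ((X.ptSubι (η l)) ∣_ Y) b := hab
  rw [hab'] at h1
  exact h.disj k l hkl _ (((X.ptSubι (η l)) ∣_ Y) b).2 h1 h2

lemma pieceHom_cov (h : Good0 X r η Y) (z : (X.res Y).scheme) :
    ∃ k, z ∈ Set.range (h.pieceHom k).hom := by
  obtain ⟨k, hk⟩ := h.cov z.1 z.2
  refine ⟨k, ?_⟩
  show z ∈ Set.range ((X.ptSubι (η k)) ∣_ Y)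
  rw [range_ptRestrict]
  exact hk

end Good0

/-- Inside every open containing `F_0X` of a nonempty object there is a good open. -/
lemma exists_good0 (X : Obj V) [Nonempty ↥X.scheme] (U0 : X.scheme.Opens)
    (hU0 : ContainsFj X 0 U0) :
    ∃ (r : ℕ) (η : Fin (r + 1) → X.scheme) (Y : X.scheme.Opens), Good0 X r η Y ∧ Y ≤ U0 ∧
      Function.Injective η := by
  have hfin := finite_codim_zero X
  have : Finite ↥{x : X.scheme | WeilCoh.codim X.scheme x = 0} := hfin.to_subtype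
  obtain ⟨m, ⟨e⟩⟩ := Finite.exists_equiv_fin ↥{x : X.scheme | WeilCoh.codim X.scheme x = 0}
  cases m with
  | zero =>
    exfalso
    obtain ⟨x, -, -, -, hx⟩ := exists_top_point_obj X
    exact Fin.elim0 (e ⟨x, by show WeilCoh.codim X.scheme x = 0; unfold WeilCoh.codim; omega⟩)
  | succ r =>
    let η : Fin (r + 1) → X.scheme := fun k => (e.symm k).1
    have hinj : Function.Injective η := fun k l hkl => e.symm.injective (Subtype.ext hkl)
    have hcod : ∀ k, WeilCoh.codim X.scheme (η k) = 0 := fun k => (e.symm k).2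
    have hall : ∀ x, WeilCoh.codim X.scheme x = 0 → ∃ k, η k = x := by
      intro x hx
      exact ⟨e ⟨x, hx⟩, by show (e.symm (e ⟨x, hx⟩)).1 = x; rw [Equiv.symm_apply_apply]⟩
    have hstep : ∀ k, ∃ O1 : X.scheme.Opens, (⊥ : X.scheme.Opens) ≤ O1 ∧ η k ∈ O1 ∧
        ∀ z ∈ O1, z ∉ (⊥ : X.scheme.Opens) → z ∈ closure ({η k} : Set X.scheme) := by
      intro k
      apply exists_step_open X ⊥ (η k)
      intro y _
      rw [pdim_of_codim_zero X (hcod k)]
      exact pdim_le_dim_obj X y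
    choose O1 _ hO1y hO1sub using hstep
    let E : Set X.scheme := ⋃ p : {p : Fin (r + 1) × Fin (r + 1) // p.1 ≠ p.2},
      closure ({η p.1.1} : Set X.scheme) ∩ closure ({η p.1.2} : Set X.scheme)
    have hE : IsClosed E :=
      isClosed_iUnion_of_finite fun _ => isClosed_closure.inter isClosed_closure
    have hηE : ∀ k, η k ∉ E := by
      intro k hk
      simp only [E, Set.mem_iUnion] at hk
      obtain ⟨⟨⟨k', l'⟩, hkl⟩, hk1, hk2⟩ := hk
      have e1 := eq_of_mem_closure_codim_zero X (hcod k) hk1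
      have e2 := eq_of_mem_closure_codim_zero X (hcod k) hk2
      exact hkl (hinj (e1.symm.trans e2))
    refine ⟨r, η, ((⨆ k, O1 k) ⊓ ⟨Eᶜ, hE.isOpen_compl⟩) ⊓ U0, ?_, inf_le_right, hinj⟩
    refine ⟨hcod, hall, ?_, ?_, ?_⟩
    · intro z hz
      have hz0 : WeilCoh.codim X.scheme z = 0 := by omega
      obtain ⟨k, rfl⟩ := hall z hz0
      exact ⟨⟨Opens.mem_iSup.mpr ⟨k, hO1y k⟩, hηE k⟩, hU0 _ hz⟩
    · rintro z ⟨⟨hz1, -⟩, -⟩
      obtain ⟨k, hk⟩ := Opens.mem_iSup.mp hz1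
      exact ⟨k, hO1sub k z hk (fun h => h)⟩
    · rintro k l hkl z ⟨⟨-, hzE⟩, -⟩ hzk hzl
      apply hzE
      simp only [E, Set.mem_iUnion]
      exact ⟨⟨(k, l), hkl⟩, hzk, hzl⟩

end Geo

section Alg

variable (T : TheoryOn V R A) (X : Obj V) [IsReduced X.scheme] (P : T.PushData X 0) (M : A.Cat)
  (i n : ℤ) (hi : i = i + 2 * ((0 : ℕ) : ℤ)) (hn : n = n + ((0 : ℕ) : ℤ))

variable {X} {r : ℕ} {η : Fin (r + 1) → X.scheme} {Y : X.scheme.Opens}

instance isClosedImmersion_pieceHom0 (h : Good0 X r η Y) (k : Fin (r + 1)) :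
    IsClosedImmersion (h.pieceHom k).hom := by
  show IsClosedImmersion ((X.ptSubι (η k)) ∣_ Y)
  infer_instance

/-- The member of the index family of the point `η k` attached to a good open. -/
noncomputable abbrev Good0.ptIdx (h : Good0 X r η Y) (k : Fin (r + 1)) :
    Idx (X.ptSub (η k)) (fun W => (W : Set (X.ptSub (η k)).scheme).Nonempty) :=
  ⟨(X.ptSubι (η k)) ⁻¹ᵁ Y, h.nonempty_pre k, dim_open_ptSub X (η k) _ (h.nonempty_pre k)⟩

lemma Good0.relCodim_piece (h : Good0 X r η Y) (k : Fin (r + 1)) :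
    relCodim ((X.ptSub (η k)).res ((X.ptSubι (η k)) ⁻¹ᵁ Y)).scheme (X.res Y).scheme = 0 :=
  relCodim_of_dim_eq (h.pieceHom k).dim_eq

/-- The push-forward datum at `η k` through a good open. -/
lemma Good0.cpt_eq (h : Good0 X r η Y) (k : Fin (r + 1))
    (c : T.gp ((X.ptSub (η k)).res ((X.ptSubι (η k)) ⁻¹ᵁ Y)) M i n)
    (hiD : i = i + 2 * relCodim ((X.ptSub (η k)).res ((X.ptSubι (η k)) ⁻¹ᵁ Y)).scheme
      (X.res Y).scheme)
    (hnD : n = n + relCodim ((X.ptSub (η k)).res ((X.ptSubι (η k)) ⁻¹ᵁ Y)).scheme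
      (X.res Y).scheme) :
    (P.cpt ⟨η k, h.cod k⟩ M i n i n hi hn).hom (((T.ptι X (η k) i n (h.ptIdx k)).app M).hom c) =
    ((T.fjι X 0 i n ⟨Y, h.hY, h.hdY⟩).app M).hom
      ((T.push (h.pieceHom k).hom M i n i n hiD hnD).hom c) := by
  have hspec := P.cpt_spec ⟨η k, h.cod k⟩ M i n i n hi hn ⟨Y, h.hY, h.hdY⟩ (h.ptIdx k)
    ((X.ptSubι (η k)) ∣_ Y) (morphismRestrict_ι _ _) hiD hnD
  exact congrArg (fun φ => φ.hom c) hspec

/-- Surjectivity of the total push-forward at level `0`, on classes defined on a good open. -/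
lemma Good0.surj (h : Good0 X r η Y) (a : T.gp (X.res Y) M i n) :
    ∃ ξ : T.ptSum X 0 M i n, (P.tot M i n i n hi hn).hom ξ =
      ((T.fjι X 0 i n ⟨Y, h.hY, h.hdY⟩).app M).hom a := by
  classical
  have hi0 : ∀ k, i = i + 2 * relCodim ((X.ptSub (η k)).res ((X.ptSubι (η k)) ⁻¹ᵁ Y)).scheme
      (X.res Y).scheme := by intro k; rw [h.relCodim_piece k]; ring
  have hn0 : ∀ k, n = n + relCodim ((X.ptSub (η k)).res ((X.ptSubι (η k)) ⁻¹ᵁ Y)).scheme
      (X.res Y).scheme := by intro k; rw [h.relCodim_piece k]; ring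
  have hadd := sum_push_pull T.toPreTheory r (X.res Y)
    (fun k => (X.ptSub (η k)).res ((X.ptSubι (η k)) ⁻¹ᵁ Y)) (fun k => h.pieceHom k)
    (fun k l hkl a b => h.pieceHom_disj k l hkl a b) h.pieceHom_cov M i n hi0 hn0 a
  refine ⟨∑ k, DirectSum.lof R (X.cdPt 0) (fun z : X.cdPt 0 => T.ptGp X z.1 M i n)
    ⟨η k, h.cod k⟩ (((T.ptι X (η k) i n (h.ptIdx k)).app M).hom
      ((T.pull (h.pieceHom k) M i n).hom a)), ?_⟩
  rw [map_sum]
  conv_rhs => rw [hadd]
  rw [map_sum]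
  refine Finset.sum_congr rfl fun k _ => ?_
  rw [PreTheory.PushData.tot_lof]
  exact h.cpt_eq T P M i n hi hn k _ (hi0 k) (hn0 k)

/-- Injectivity of the total push-forward at level `0`, on classes represented on a good
open. -/
lemma Good0.inj (h : Good0 X r η Y)
    (c : ∀ k, T.gp ((X.ptSub (η k)).res ((X.ptSubι (η k)) ⁻¹ᵁ Y)) M i n)
    (hzero : ∑ k, (P.cpt ⟨η k, h.cod k⟩ M i n i n hi hn).hom
      (((T.ptι X (η k) i n (h.ptIdx k)).app M).hom (c k)) = 0) (l : Fin (r + 1)) :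
    ((T.ptι X (η l) i n (h.ptIdx l)).app M).hom (c l) = 0 := by
  classical
  have hi0 : ∀ k, i = i + 2 * relCodim ((X.ptSub (η k)).res ((X.ptSubι (η k)) ⁻¹ᵁ Y)).scheme
      (X.res Y).scheme := by intro k; rw [h.relCodim_piece k]; ring
  have hn0 : ∀ k, n = n + relCodim ((X.ptSub (η k)).res ((X.ptSubι (η k)) ⁻¹ᵁ Y)).scheme
      (X.res Y).scheme := by intro k; rw [h.relCodim_piece k]; ring
  have hz : ((T.fjι X 0 i n ⟨Y, h.hY, h.hdY⟩).app M).hom
      (∑ k, (T.push (h.pieceHom k).hom M i n i n (hi0 k) (hn0 k)).hom (c k)) = 0 := by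
    rw [map_sum, ← hzero]
    refine Finset.sum_congr rfl fun k _ => ?_
    exact (h.cpt_eq T P M i n hi hn k (c k) (hi0 k) (hn0 k)).symm
  obtain ⟨Y', hY'le, hY'⟩ := exists_pull_eq_zero T.toPreTheory X (ContainsFj X 0) i n M
    ⟨Y, h.hY, h.hdY⟩ _ hz
  have hle : Y'.1 ≤ Y := hY'le
  have h' : Good0 X r η Y'.1 := h.mono hle Y'.2.1
  have hi0' : ∀ k, i = i + 2 * relCodim ((X.ptSub (η k)).res
      ((X.ptSubι (η k)) ⁻¹ᵁ Y'.1)).scheme (X.res Y'.1).scheme := by
    intro k; rw [h'.relCodim_piece k]; ring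
  have hn0' : ∀ k, n = n + relCodim ((X.ptSub (η k)).res
      ((X.ptSubι (η k)) ⁻¹ᵁ Y'.1)).scheme (X.res Y'.1).scheme := by
    intro k; rw [h'.relCodim_piece k]; ring
  have hpre : ∀ k, (X.ptSubι (η k)) ⁻¹ᵁ Y'.1 ≤ (X.ptSubι (η k)) ⁻¹ᵁ Y := fun k z hz => hle hz
  let c' : ∀ k, T.gp ((X.ptSub (η k)).res ((X.ptSubι (η k)) ⁻¹ᵁ Y'.1)) M i n := fun k =>
    (T.pull ((X.ptSub (η k)).resLE (hpre k) ((dim_open_ptSub X (η k) _ (h'.nonempty_pre k)).trans
      (dim_open_ptSub X (η k) _ (h.nonempty_pre k)).symm)) M i n).hom (c k)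
  have hsum' : ∑ k, (T.push (h'.pieceHom k).hom M i n i n (hi0' k) (hn0' k)).hom (c' k) = 0 := by
    rw [map_sum] at hY'
    rw [← hY']
    refine Finset.sum_congr rfl fun k _ => ?_
    exact (pull_push_restrict T X (η k) M hle Y'.2.2 h.hdY (h'.nonempty_pre k)
      (h.nonempty_pre k) (hpre k) i n i n (hi0 k) (hn0 k) (hi0' k) (hn0' k) (c k)).symm
  have hl : c' l = 0 := by
    have h1 := congrArg (fun t => (T.pull (h'.pieceHom l) M i n).hom t) hsum'
    simp only [map_zero, map_sum] at h1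
    rw [Finset.sum_eq_single l] at h1
    · rw [← h1]
      exact (congrArg (fun φ => φ.hom (c' l))
        (push_pull_self T.toPreTheory (h'.pieceHom l) M i n (hi0' l) (hn0' l))).symm
    · intro k _ hkl
      exact pull_push_of_disjoint T.toPreTheory (h'.pieceHom k) (h'.pieceHom l)
        (fun a b => h'.pieceHom_disj k l hkl a b) M i n (hi0' k) (hn0' k) _
    · intro hl
      exact absurd (Finset.mem_univ l) hl
  have e := ocolimι_pull T.toPreTheory (X.ptSub (η l))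
    (fun U => (U : Set (X.ptSub (η l)).scheme).Nonempty) i n M
    (U := h.ptIdx l) (U' := h'.ptIdx l) (hpre l) (c l)
  rw [← e]
  show ((T.ptι X (η l) i n (h'.ptIdx l)).app M).hom (c' l) = 0
  rw [hl, map_zero]

end Alg

section Main

variable (T : TheoryOn V R A) (X : Obj V) [IsReduced X.scheme] (P : T.PushData X 0) (M : A.Cat)

omit [IsConstructible V] in
lemma mem_finset_inf {ι : Type*} {α : Type*} [TopologicalSpace α] (f : ι → Opens α)
    (s : Finset ι) (z : α) : z ∈ s.inf f ↔ ∀ k ∈ s, z ∈ f k := by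
  rw [← SetLike.mem_coe, Opens.coe_finset_inf, Finset.inf_set_eq_iInter]
  simp

theorem tot_bijective_aux (i n : ℤ) (hi : i = i + 2 * ((0 : ℕ) : ℤ))
    (hn : n = n + ((0 : ℕ) : ℤ)) : Function.Bijective (P.tot M i n i n hi hn).hom := by
  classical
  by_cases hemp : IsEmpty ↥X.scheme
  · -- both sides vanish
    have hsub : Subsingleton (T.fjGp X 0 M i n) := by
      refine ⟨fun z w => ?_⟩
      obtain ⟨U, a, rfl⟩ := exists_rep T.toPreTheory X (ContainsFj X 0) i n M z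
      obtain ⟨U', a', rfl⟩ := exists_rep T.toPreTheory X (ContainsFj X 0) i n M w
      have : IsEmpty ↥(X.res U.1).scheme := ⟨fun y => hemp.elim y.1⟩
      have : IsEmpty ↥(X.res U'.1).scheme := ⟨fun y => hemp.elim y.1⟩
      have h1 : Subsingleton (T.gp (X.res U.1) M i n) :=
        ModuleCat.subsingleton_of_isZero (isZero_of_isEmpty T.toPreTheory (X.res U.1) M i n)
      have h2 : Subsingleton (T.gp (X.res U'.1) M i n) :=
        ModuleCat.subsingleton_of_isZero (isZero_of_isEmpty T.toPreTheory (X.res U'.1) M i n)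
      rw [Subsingleton.elim a 0, Subsingleton.elim a' 0, map_zero, map_zero]
    have hsub' : Subsingleton (T.ptSum X 0 M i n) := by
      refine ⟨fun z w => DFinsupp.ext fun x => ?_⟩
      exact (hemp.false x.1).elim
    exact ⟨fun a b _ => Subsingleton.elim a b, fun z => ⟨0, Subsingleton.elim _ _⟩⟩
  rw [not_isEmpty_iff] at hemp
  constructor
  · rw [injective_iff_map_eq_zero]
    intro ξ hξ
    obtain ⟨r, η, Y0, hgood0, -, hinj⟩ := exists_good0 X ⊤ (fun _ _ => trivial)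
    -- representatives of the components
    have hrep : ∀ k, ∃ (W : ptIdx X (η k)) (b : T.gp ((X.ptSub (η k)).res W.1) M i n),
        ((T.ptι X (η k) i n W).app M).hom b = ξ ⟨η k, hgood0.cod k⟩ :=
      fun k => exists_rep T.toPreTheory (X.ptSub (η k))
        (fun U => (U : Set (X.ptSub (η k)).scheme).Nonempty) i n M (ξ ⟨η k, hgood0.cod k⟩)
    choose W b hb using hrep
    let Ystar : Fin (r + 1) → X.scheme.Opens := fun k => shrink X (η k) ⊤ (W k).1
    have hYstarF : ∀ k, ContainsFj X 0 (Ystar k) := fun k =>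
      containsFj_shrink' X 0 (hgood0.cod k) ⊤ (fun _ _ => trivial) (W k).1 (W k).2.1
    have hYcF : ContainsFj X 0 (Y0 ⊓ Finset.univ.inf Ystar) := by
      intro z hz
      exact ⟨hgood0.hY z hz,
        (mem_finset_inf Ystar Finset.univ z).mpr (fun k _ => hYstarF k z hz)⟩
    have hgood : Good0 X r η (Y0 ⊓ Finset.univ.inf Ystar) := hgood0.mono inf_le_left hYcF
    have hpre : ∀ k, (X.ptSubι (η k)) ⁻¹ᵁ (Y0 ⊓ Finset.univ.inf Ystar) ≤ (W k).1 := by
      intro k z hz
      have h1 : (X.ptSubι (η k)) z ∈ Ystar k :=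
        (Finset.inf_le (Finset.mem_univ k) : Finset.univ.inf Ystar ≤ Ystar k) hz.2
      exact pre_shrink_le X (η k) ⊤ (W k).1 h1
    let c : ∀ k, T.gp ((X.ptSub (η k)).res
        ((X.ptSubι (η k)) ⁻¹ᵁ (Y0 ⊓ Finset.univ.inf Ystar))) M i n := fun k =>
      (T.pull ((X.ptSub (η k)).resLE (hpre k)
        ((dim_open_ptSub X (η k) _ (hgood.nonempty_pre k)).trans (W k).2.2.symm)) M i n).hom (b k)
    have hc : ∀ k, ((T.ptι X (η k) i n (hgood.ptIdx k)).app M).hom (c k) =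
        ξ ⟨η k, hgood0.cod k⟩ := by
      intro k
      rw [← hb k]
      exact ocolimι_pull T.toPreTheory (X.ptSub (η k))
        (fun U => (U : Set (X.ptSub (η k)).scheme).Nonempty) i n M
        (U := W k) (U' := hgood.ptIdx k) (hpre k) (b k)
    -- decomposition of ξ
    have hsplit : ξ = ∑ k, DirectSum.lof R (X.cdPt 0) (fun z : X.cdPt 0 => T.ptGp X z.1 M i n)
        ⟨η k, hgood0.cod k⟩ (ξ ⟨η k, hgood0.cod k⟩) := by
      refine DFinsupp.ext fun x => ?_
      rw [DFinsupp.finsetSum_apply]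
      obtain ⟨x, hxc⟩ := x
      obtain ⟨k0, rfl⟩ := hgood0.all x hxc
      rw [Finset.sum_eq_single k0]
      · rw [DirectSum.lof_eq_of, DirectSum.of_eq_same]
      · intro k _ hk
        rw [DirectSum.lof_eq_of, DirectSum.of_eq_of_ne]
        intro hkk
        exact hk (hinj (congrArg Subtype.val hkk).symm)
      · intro hk
        exact absurd (Finset.mem_univ k0) hk
    have hzero : ∑ k, (P.cpt ⟨η k, hgood.cod k⟩ M i n i n hi hn).hom
        (((T.ptι X (η k) i n (hgood.ptIdx k)).app M).hom (c k)) = 0 := by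
      rw [← hξ]
      conv_rhs => rw [hsplit]
      rw [map_sum]
      refine Finset.sum_congr rfl fun k _ => ?_
      rw [PreTheory.PushData.tot_lof, hc k]
    have hall := hgood.inj T P M i n hi hn c hzero
    rw [hsplit]
    refine Finset.sum_eq_zero fun k _ => ?_
    rw [← hc k, hall k, map_zero]
  · intro z
    obtain ⟨U0, a0, rfl⟩ := exists_rep T.toPreTheory X (ContainsFj X 0) i n M z
    obtain ⟨r, η, Y, hgood, hle, -⟩ := exists_good0 X U0.1 U0.2.1
    obtain ⟨ξ, hξ⟩ := hgood.surj T P M i n hi hn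
      ((T.pull (X.resLE hle (hgood.hdY.trans U0.2.2.symm)) M i n).hom a0)
    refine ⟨ξ, hξ.trans ?_⟩
    exact ocolimι_pull T.toPreTheory X (ContainsFj X 0) i n M
      (U := U0) (U' := ⟨Y, hgood.hY, hgood.hdY⟩) hle a0

theorem tot_bijective (i n i' n' : ℤ) (hi : i' = i + 2 * ((0 : ℕ) : ℤ))
    (hn : n' = n + ((0 : ℕ) : ℤ)) : Function.Bijective (P.tot M i n i' n' hi hn).hom := by
  obtain rfl : i' = i := by rw [hi]; simp
  obtain rfl : n' = n := by rw [hn]; simp
  exact tot_bijective_aux T X P M i' n' hi hn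

end Main

end Groth.Agent.Lib.Helper5.Misc.BMLevel0
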