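import Mathlib
import Groth.Prelude.Def_BMCoh3
import Groth.Agent.Lib.Helper5.Misc.BMLevel0

set_option autoImplicit false
universe u
open CategoryTheory CategoryTheory.Limits AlgebraicGeometry Opposite TopologicalSpace
open BMCoh

namespace Groth.Agent.Lib.Helper5.Misc.BMZ

open Groth.Agent.Lib.Helper5.Misc.BMLib Groth.Agent.Lib.Helper5.Misc.BMColim
open Groth.Agent.Lib.Helper5.Misc.BMGeo Groth.Agent.Lib.Helper5.Misc.BMVan
open Groth.Agent.Lib.Helper5.Misc.BMBij Groth.Agent.Lib.Helper5.Misc.WeilGeo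
open Groth.Agent.Lib.Helper5.Misc.WeilGen
open Groth.Agent.Lib.Helper5.Misc.BMGeo2 Groth.Agent.Lib.Helper5.Misc.BMStep
open Groth.Agent.Lib.Helper5.Misc.BMFj Groth.Agent.Lib.Helper5.Misc.BMRes
open Groth.Agent.Lib.Helper5.Misc.BMStep.StepData Groth.Agent.Lib.Helper5.Misc.BMExact1
open Groth.Agent.Lib.Helper5.Misc.BMExact2 Groth.Agent.Lib.Helper5.Misc.BMUniq
open Groth.Agent.Lib.Helper5.Misc.BMAdd Groth.Agent.Lib.Helper5.Misc.BMConf

variable {V : ObjectProperty Scheme.{u}} [IsConstructible V] {R : Type u} [CommRing R]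
  {A : Coefs R}

section Chain

/-- A strictly increasing sequence of natural numbers indexed by `Fin (N + 1)` and bounded by `N`
is the identity. -/
lemma strictMono_bounded_eq (N : ℕ) (g : Fin (N + 1) → ℕ) (hmono : ∀ k k', k < k' → g k < g k')
    (hub : ∀ k, g k ≤ N) (k : Fin (N + 1)) : g k = k.val := by
  have h1 : ∀ (m : ℕ) (hm : m < N + 1), m ≤ g ⟨m, hm⟩ := by
    intro m
    induction m with
    | zero => intro _; exact Nat.zero_le _
    | succ m ih =>
      intro hm
      have := ih (by omega)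
      have := hmono ⟨m, by omega⟩ ⟨m + 1, hm⟩ (by show m < m + 1; omega)
      omega
  have h2 : ∀ (s m : ℕ) (hm : m < N + 1), m + s = N → g ⟨m, hm⟩ + s ≤ g ⟨N, by omega⟩ := by
    intro s
    induction s with
    | zero =>
      intro m hm hms
      have : m = N := by omega
      subst this
      exact le_refl _
    | succ s ih =>
      intro m hm hms
      have := ih (m + 1) (by omega) (by omega)
      have := hmono ⟨m, hm⟩ ⟨m + 1, by omega⟩ (by show m < m + 1; omega)
      omega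
  have ha := h1 k.val k.isLt
  have hb := h2 (N - k.val) k.val k.isLt (by have := k.isLt; omega)
  have hc := hub ⟨N, by omega⟩
  have : g k = g ⟨k.val, k.isLt⟩ := rfl
  have := k.isLt
  omega

/-- A nonempty object has points whose closures have every dimension up to that of the
object. -/
lemma exists_pdim_eq (X : Obj V) [Nonempty ↥X.scheme] (t : ℕ) (ht : t ≤ WeilCoh.dim X.scheme) :
    ∃ x : X.scheme, WeilCoh.pdim X.scheme x = t := by
  have hfin := dim_lt_top_obj X
  have hle : ((WeilCoh.dim X.scheme : ℕ) : WithBot ℕ∞) ≤ topologicalKrullDim ↥X.scheme := by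
    unfold WeilCoh.dim WeilCoh.natDim
    have h0 : (0 : WithBot ℕ∞) ≤ topologicalKrullDim ↥X.scheme := by
      obtain ⟨s⟩ := ‹Nonempty ↥X.scheme›
      have : Nonempty (IrreducibleCloseds ↥X.scheme) :=
        ⟨⟨closure {s}, isIrreducible_singleton.closure, isClosed_closure⟩⟩
      exact Order.krullDim_nonneg
    generalize topologicalKrullDim ↥X.scheme = a at h0 hfin
    induction a using WithBot.recBotCoe with
    | bot => exact absurd h0 (by simp)
    | coe a =>
      have ha : a ≠ ⊤ := by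
        intro ha; rw [ha] at hfin; exact lt_irrefl _ hfin
      obtain ⟨a', rfl⟩ := ENat.ne_top_iff_exists.mp ha
      show (((a' : ℕ∞)).toNat : WithBot ℕ∞) ≤ ((a' : ℕ∞) : WithBot ℕ∞)
      rw [ENat.toNat_natCast]
      exact le_refl _
  obtain ⟨l, hl⟩ := Order.le_krullDim_iff.mp hle
  let g : Fin (l.length + 1) → ℕ := fun k => WeilCoh.natDim ↥((l k : IrreducibleCloseds ↥X.scheme) : Set ↥X.scheme)
  have hmono : ∀ k k', k < k' → g k < g k' := by
    intro k k' hkk'
    have hlt : l k < l k' := l.strictMono hkk'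
    have hsub : ((l k : IrreducibleCloseds ↥X.scheme) : Set ↥X.scheme) ⊆ (l k' : Set ↥X.scheme) :=
      hlt.le
    have hne : ((l k : IrreducibleCloseds ↥X.scheme) : Set ↥X.scheme) ≠ (l k' : Set ↥X.scheme) := by
      intro h
      exact hlt.ne (IrreducibleCloseds.ext h)
    have hfin' : topologicalKrullDim ↥((l k' : IrreducibleCloseds ↥X.scheme) : Set ↥X.scheme) < ⊤ :=
      lt_of_le_of_lt (topologicalKrullDim_subspace_le _ _) hfin
    have h1 := Groth.Agent.Helper8.topDim_lt_of_ssubset (l k).isClosed (l k').isIrreducible hsub hne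
      hfin'
    have : Nonempty ↥((l k : IrreducibleCloseds ↥X.scheme) : Set ↥X.scheme) :=
      (l k).isIrreducible.nonempty.to_subtype
    exact natDim_lt_of_lt h1 hfin'
  have hub : ∀ k, g k ≤ l.length := by
    intro k
    rw [hl]
    exact natDim_le_of_le (topologicalKrullDim_subspace_le _ _) hfin
  have hg := strictMono_bounded_eq l.length g hmono hub
  have htl : t < l.length + 1 := by rw [hl]; omega
  obtain ⟨x, hx⟩ := QuasiSober.sober (l ⟨t, htl⟩).isIrreducible (l ⟨t, htl⟩).isClosed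
  refine ⟨x, ?_⟩
  have := hg ⟨t, htl⟩
  unfold WeilCoh.pdim
  rw [natDim_congr hx.def]
  exact this

end Chain

section ZDecomp

variable (X Z : Obj V) (ι : Z.scheme ⟶ X.scheme) [IsClosedImmersion ι]

/-- The part of the open `X'` outside the image of `Z`. -/
def zcompl (X' : X.scheme.Opens) : X.scheme.Opens :=
  X' ⊓ ⟨(Set.range ι)ᶜ, ι.isClosedEmbedding.isClosed_range.isOpen_compl⟩

omit [IsConstructible V] in
lemma zcompl_le (X' : X.scheme.Opens) : zcompl X Z ι X' ≤ X' := inf_le_left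

omit [IsConstructible V] in
lemma zcompl_mono {X'' X' : X.scheme.Opens} (h : X'' ≤ X') :
    zcompl X Z ι X'' ≤ zcompl X Z ι X' := inf_le_inf_right _ h

instance isClosedImmersion_zrestrict (X' : X.scheme.Opens) : IsClosedImmersion (ι ∣_ X') :=
  AlgebraicGeometry.IsZariskiLocalAtTarget.restrict (P := @IsClosedImmersion) inferInstance X'

/-- The dimension conditions making the decomposition of `X'` along `Z` valid. -/
structure ZOk (X' : X.scheme.Opens) : Prop where
  hdX : WeilCoh.dim (X' : Scheme.{u}) = WeilCoh.dim X.scheme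
  hdU : WeilCoh.dim ((zcompl X Z ι X' : X.scheme.Opens) : Scheme.{u}) = WeilCoh.dim X.scheme
  hdZ : WeilCoh.dim ((ι ⁻¹ᵁ X' : Z.scheme.Opens) : Scheme.{u}) = WeilCoh.dim Z.scheme

variable {X Z ι}

/-- The decomposition of `X'` into the trace of `Z` and its complement. -/
noncomputable def zdecomp {X' : X.scheme.Opens} (h : ZOk X Z ι X') : Decomp (X.res X') where
  Z := Z.res (ι ⁻¹ᵁ X')
  U := X.res (zcompl X Z ι X')
  i := ι ∣_ X'
  closedImm := inferInstance
  j := X.resLE (zcompl_le X Z ι X') (h.hdU.trans h.hdX.symm)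
  range_eq := by
    ext y
    have h1 : y ∈ Set.range (X.scheme.homOfLE (zcompl_le X Z ι X')) ↔
        y.1 ∈ zcompl X Z ι X' := by
      constructor
      · rintro ⟨z, rfl⟩
        rw [Scheme.homOfLE_apply]; exact z.2
      · intro hy
        exact ⟨⟨y.1, hy⟩, Subtype.ext (Scheme.homOfLE_apply _ _)⟩
    have h2 : y ∈ Set.range (ι ∣_ X') ↔ y.1 ∈ Set.range ι := by
      constructor
      · rintro ⟨z, rfl⟩
        rw [morphismRestrict_base_coe]
        exact ⟨_, rfl⟩
      · rintro ⟨w, hw⟩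
        refine ⟨⟨w, ?_⟩, ?_⟩
        · show ι w ∈ X'
          rw [hw]; exact y.2
        · apply Subtype.ext
          rw [morphismRestrict_base_coe]
          exact hw
    show y ∈ Set.range (X.scheme.homOfLE (zcompl_le X Z ι X')) ↔ y ∈ (Set.range (ι ∣_ X'))ᶜ
    rw [Set.mem_compl_iff, h1, h2]
    constructor
    · intro hy
      exact hy.2
    · intro hy
      exact ⟨y.2, hy⟩

lemma relCodim_zdecomp {X' : X.scheme.Opens} (h : ZOk X Z ι X') :
    relCodim (zdecomp h).Z.scheme (X.res X').scheme =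
      (WeilCoh.dim X.scheme : ℤ) - (WeilCoh.dim Z.scheme : ℤ) := by
  unfold relCodim
  show ((WeilCoh.dim (X' : Scheme.{u}) : ℤ)) -
    (WeilCoh.dim ((ι ⁻¹ᵁ X' : Z.scheme.Opens) : Scheme.{u}) : ℤ) = _
  rw [h.hdX, h.hdZ]

omit [IsConstructible V] [IsClosedImmersion ι] in
/-- The base-change square of the restrictions of the closed immersion of `Z`. -/
lemma isPullback_zrestrict {X'' X' : X.scheme.Opens} (hle : X'' ≤ X')
    (hpre : ι ⁻¹ᵁ X'' ≤ ι ⁻¹ᵁ X') :
    IsPullback (Z.scheme.homOfLE hpre) (ι ∣_ X'') (ι ∣_ X') (X.scheme.homOfLE hle) := by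
  apply IsPullback.flip
  refine IsPullback.of_bot ?_ ?_ (isPullback_morphismRestrict ι X')
  · rw [Scheme.homOfLE_ι, Scheme.homOfLE_ι]
    exact isPullback_morphismRestrict ι X''
  · rw [← cancel_mono X'.ι]
    simp only [Category.assoc, morphismRestrict_ι, Scheme.homOfLE_ι, Scheme.homOfLE_ι_assoc]

section Codim

variable (j m : ℕ) (hdim : WeilCoh.dim Z.scheme + (j + 1) = WeilCoh.dim X.scheme)

include hdim in
/-- Codimensions in `X` of points of `Z`. -/
lemma codim_z (z : Z.scheme) :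
    WeilCoh.codim X.scheme (ι z) = WeilCoh.codim Z.scheme z + (j + 1) := by
  have h1 : WeilCoh.pdim X.scheme (ι z) = WeilCoh.pdim Z.scheme z :=
    pdim_closedEmbedding ι ι.isClosedEmbedding z
  have h2 := pdim_le_dim_obj Z z
  unfold WeilCoh.codim
  omega

include hdim in
lemma containsFj_pre {X' : X.scheme.Opens} (hX' : ContainsFj X (j + 1 + m) X') :
    ContainsFj Z m (ι ⁻¹ᵁ X') := by
  intro z hz
  show ι z ∈ X'
  apply hX'
  rw [codim_z j hdim z]
  omega

include hdim in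
lemma containsFj_zcompl {X' : X.scheme.Opens} (hX' : ContainsFj X j X') :
    ContainsFj X j (zcompl X Z ι X') := by
  intro y hy
  refine ⟨hX' y hy, ?_⟩
  rintro ⟨z, rfl⟩
  rw [codim_z j hdim z] at hy
  omega

include hdim in
lemma zok_of_containsFj {X' : X.scheme.Opens} (hX' : ContainsFj X (j + 1 + m) X') :
    ZOk X Z ι X' where
  hdX := dim_of_containsFj X (j + 1 + m) X' hX'
  hdU := dim_of_containsFj X j _
    (containsFj_zcompl j hdim (containsFj_mono X (by omega) X' hX'))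
  hdZ := dim_of_containsFj Z m _ (containsFj_pre j m hdim hX')

/-- The open of `X` obtained by removing the part of `Z` outside the open `W` of `Z`. -/
def zshrink (W : Z.scheme.Opens) : X.scheme.Opens :=
  ⟨(ι '' ((W : Set Z.scheme)ᶜ))ᶜ,
    (ι.isClosedEmbedding.isClosedMap _ W.isOpen.isClosed_compl).isOpen_compl⟩

omit [IsConstructible V] in
lemma pre_zshrink_le (W : Z.scheme.Opens) : ι ⁻¹ᵁ (zshrink (ι := ι) W) ≤ W := by
  intro y hy
  by_contra hyW
  exact hy ⟨y, hyW, rfl⟩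

include hdim in
lemma containsFj_zshrink (W : Z.scheme.Opens) (hW : ContainsFj Z m W) :
    ContainsFj X (j + 1 + m) (zshrink (ι := ι) W) := by
  rintro y hy ⟨z, hzW, rfl⟩
  apply hzW
  apply hW
  rw [codim_z j hdim z] at hy
  omega

end Codim

end ZDecomp

section ZAlg

variable (T : TheoryOn V R A) {X Z : Obj V} {ι : Z.scheme ⟶ X.scheme} [IsClosedImmersion ι]
  (M : A.Cat)

/-- Compatibility of the residue maps of the decompositions along `Z` with restriction. -/
lemma zres_pull {X'' X' : X.scheme.Opens} (h' : ZOk X Z ι X') (h'' : ZOk X Z ι X'')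
    (hle : X'' ≤ X') (hpre : ι ⁻¹ᵁ X'' ≤ ι ⁻¹ᵁ X') (i n i' n' : ℤ)
    (hi' : i' = i + 1 - 2 * (zdecomp h').codim) (hn' : n' = n - (zdecomp h').codim)
    (hi'' : i' = i + 1 - 2 * (zdecomp h'').codim) (hn'' : n' = n - (zdecomp h'').codim)
    (a : T.gp (X.res (zcompl X Z ι X')) M i n) :
    (T.pull (Z.resLE hpre (h''.hdZ.trans h'.hdZ.symm)) M i' n').hom
      ((T.res (zdecomp h') M i n i' n' hi' hn').hom a) =
    (T.res (zdecomp h'') M i n i' n' hi'' hn'').hom
      ((T.pull (X.resLE (zcompl_mono X Z ι hle) (h''.hdU.trans h'.hdU.symm)) M i n).hom a) := by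
  let g : X.res X'' ⟶ X.res X' := X.resLE hle (h''.hdX.trans h'.hdX.symm)
  let gZ : Z.res (ι ⁻¹ᵁ X'') ⟶ Z.res (ι ⁻¹ᵁ X') := Z.resLE hpre (h''.hdZ.trans h'.hdZ.symm)
  let gU : X.res (zcompl X Z ι X'') ⟶ X.res (zcompl X Z ι X') :=
    X.resLE (zcompl_mono X Z ι hle) (h''.hdU.trans h'.hdU.symm)
  have hZ : gZ.hom ≫ (zdecomp h').i = (zdecomp h'').i ≫ g.hom := (isPullback_zrestrict hle hpre).w
  have hU : gU ≫ (zdecomp h').j = (zdecomp h'').j ≫ g := by
    apply BMCoh.Hom.ext
    show X.scheme.homOfLE (zcompl_mono X Z ι hle) ≫ X.scheme.homOfLE (zcompl_le X Z ι X') =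
      X.scheme.homOfLE (zcompl_le X Z ι X'') ≫ X.scheme.homOfLE hle
    rw [Scheme.homOfLE_homOfLE, Scheme.homOfLE_homOfLE]
  have hrp := T.res_pull (zdecomp h') (zdecomp h'') g gZ gU hZ hU M i n i' n' hi' hn' hi'' hn''
  exact congrArg (fun φ => φ.hom a) hrp

/-- Base change for the push-forwards of the decompositions along `Z`. -/
lemma zpull_push {X'' X' : X.scheme.Opens} (h' : ZOk X Z ι X') (h'' : ZOk X Z ι X'')
    (hle : X'' ≤ X') (hpre : ι ⁻¹ᵁ X'' ≤ ι ⁻¹ᵁ X') (i n i' n' : ℤ)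
    (hi5 : i' = i + 2 * relCodim (Z.res (ι ⁻¹ᵁ X')).scheme (X.res X').scheme)
    (hn5 : n' = n + relCodim (Z.res (ι ⁻¹ᵁ X')).scheme (X.res X').scheme)
    (hi4 : i' = i + 2 * relCodim (Z.res (ι ⁻¹ᵁ X'')).scheme (X.res X'').scheme)
    (hn4 : n' = n + relCodim (Z.res (ι ⁻¹ᵁ X'')).scheme (X.res X'').scheme)
    (b : T.gp (Z.res (ι ⁻¹ᵁ X')) M i n) :
    (T.pull (X.resLE hle (h''.hdX.trans h'.hdX.symm)) M i' n').hom
      ((T.push (X := Z.res (ι ⁻¹ᵁ X')) (Y := X.res X') (ι ∣_ X') M i n i' n' hi5 hn5).hom b) =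
    (T.push (X := Z.res (ι ⁻¹ᵁ X'')) (Y := X.res X'') (ι ∣_ X'') M i n i' n' hi4 hn4).hom
      ((T.pull (Z.resLE hpre (h''.hdZ.trans h'.hdZ.symm)) M i n).hom b) := by
  have hpb := isPullback_zrestrict (ι := ι) hle hpre
  have hbc := T.push_pull (X := Z.res (ι ⁻¹ᵁ X')) (Y := X.res X')
    (X' := Z.res (ι ⁻¹ᵁ X'')) (Y' := X.res X'') (ι ∣_ X') (ι ∣_ X'')
    (X.resLE hle (h''.hdX.trans h'.hdX.symm)) (Z.resLE hpre (h''.hdZ.trans h'.hdZ.symm))
    hpb M i n i' n' hi5 hn5 hi4 hn4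
  exact congrArg (fun φ => φ.hom b) hbc

end ZAlg

section Triv

variable (T : TheoryOn V R A) (X : Obj V) (M : A.Cat) (i n : ℤ)

/-- If every open containing `F_jX` contains `F_kX`, the restriction map is bijective. -/
theorem fjRes_bijective_of_imp {j k : ℕ} (hjk : j ≤ k)
    (hall : ∀ U : X.scheme.Opens, ContainsFj X j U → ContainsFj X k U) :
    Function.Bijective ((T.fjRes X hjk i n).app M).hom := by
  constructor
  · rw [injective_iff_map_eq_zero]
    intro w hw
    obtain ⟨U', a', rfl⟩ := exists_rep T.toPreTheory X (ContainsFj X k) i n M w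
    have hw' : ((T.ocolimMap X (containsFj_mono X hjk) i n).app M).hom
        (((T.ocolimι X (ContainsFj X k) i n U').app M).hom a') = 0 := hw
    rw [ocolimMap_ι] at hw'
    obtain ⟨U, hUle, hU0⟩ := exists_pull_eq_zero T.toPreTheory X (ContainsFj X j) i n M
      (⟨U'.1, containsFj_mono X hjk _ U'.2.1, U'.2.2⟩ : Idx X (ContainsFj X j)) a' hw'
    have hle : U.1 ≤ U'.1 := hUle
    have := ocolimι_pull T.toPreTheory X (ContainsFj X k) i n M
      (U := U') (U' := ⟨U.1, hall U.1 U.2.1, U.2.2⟩) hle a'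
    rw [← this]
    show ((T.ocolimι X (ContainsFj X k) i n ⟨U.1, hall U.1 U.2.1, U.2.2⟩).app M).hom
      ((T.pull (X.resLE hle _) M i n).hom a') = 0
    rw [hU0, map_zero]
  · intro z
    obtain ⟨U, a, rfl⟩ := exists_rep T.toPreTheory X (ContainsFj X j) i n M z
    refine ⟨((T.ocolimι X (ContainsFj X k) i n ⟨U.1, hall U.1 U.2.1, U.2.2⟩).app M).hom a, ?_⟩
    show ((T.ocolimMap X (containsFj_mono X hjk) i n).app M).hom _ = _
    rw [ocolimMap_ι]

end Triv

section Main

variable (T : TheoryOn V R A) (X : Obj V) (M : A.Cat) (j m : ℕ) (i n : ℤ)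

/-- The closed complement of `U` enlarged by the closure of `x0`. -/
def cset (U : X.scheme.Opens) (x0 : X.scheme) : Closeds X.scheme :=
  ⟨(U : Set X.scheme)ᶜ ∪ closure {x0}, U.isOpen.isClosed_compl.union isClosed_closure⟩

lemma dim_redSub_cset (U : X.scheme.Opens) (hU : ContainsFj X j U) (x0 : X.scheme)
    (hx0 : WeilCoh.codim X.scheme x0 = j + 1) :
    WeilCoh.dim (redSub X (cset X U x0)).scheme + (j + 1) = WeilCoh.dim X.scheme := by
  have hr := range_redSubι X (cset X U x0)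
  have hpd0 : WeilCoh.pdim X.scheme x0 + (j + 1) = WeilCoh.dim X.scheme := by
    have h1 := pdim_le_dim_obj X x0
    unfold WeilCoh.codim at hx0
    omega
  have hx0C : x0 ∈ Set.range (redSubι X (cset X U x0)) := by
    rw [hr]; exact Or.inr (subset_closure rfl)
  obtain ⟨z0, hz0⟩ := hx0C
  have : Nonempty ↥(redSub X (cset X U x0)).scheme := ⟨z0⟩
  apply le_antisymm
  · obtain ⟨z, -, -, -, hz⟩ := exists_top_point_obj (redSub X (cset X U x0))
    have h1 : WeilCoh.pdim X.scheme (redSubι X (cset X U x0) z) =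
        WeilCoh.pdim (redSub X (cset X U x0)).scheme z :=
      pdim_closedEmbedding _ (redSubι X (cset X U x0)).isClosedEmbedding z
    have hzC : redSubι X (cset X U x0) z ∈ ((cset X U x0 : Closeds X.scheme) : Set X.scheme) := by
      rw [← hr]; exact ⟨z, rfl⟩
    have h3 := pdim_le_dim_obj X (redSubι X (cset X U x0) z)
    rcases hzC with hzU | hzcl
    · have h4 : ¬ WeilCoh.codim X.scheme (redSubι X (cset X U x0) z) ≤ j :=
        fun hc => hzU (hU _ hc)
      unfold WeilCoh.codim at h4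
      omega
    · have h4 := pdim_le_of_mem_closure X hzcl
      omega
  · have h1 : WeilCoh.pdim X.scheme (redSubι X (cset X U x0) z0) =
        WeilCoh.pdim (redSub X (cset X U x0)).scheme z0 :=
      pdim_closedEmbedding _ (redSubι X (cset X U x0)).isClosedEmbedding z0
    rw [hz0] at h1
    have h2 := pdim_le_dim_obj (redSub X (cset X U x0)) z0
    omega

lemma zcompl_cset_le (U : X.scheme.Opens) (x0 : X.scheme) (X' : X.scheme.Opens) :
    zcompl X (redSub X (cset X U x0)) (redSubι X (cset X U x0)) X' ≤ U := by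
  rintro y ⟨-, hy⟩
  by_contra hyU
  apply hy
  rw [range_redSubι]
  exact Or.inl hyU

theorem fjRes_bijective_of_Z
    (hZ : ∀ (Z : Obj V) (ι : Z.scheme ⟶ X.scheme) [IsClosedImmersion ι] [IsReduced Z.scheme],
      WeilCoh.dim Z.scheme + (j + 1) = WeilCoh.dim X.scheme →
      IsZero (T.fjGp Z m M (i - 2 * ((j : ℤ) + 1)) (n - ((j : ℤ) + 1))) ∧
      IsZero (T.fjGp Z m M (i + 1 - 2 * ((j : ℤ) + 1)) (n - ((j : ℤ) + 1)))) :
    Function.Bijective
      ((T.fjRes X ((Nat.le_succ j).trans (Nat.le_add_right (j + 1) m)) i n).app M).hom := by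
  by_cases hd : j + 1 ≤ WeilCoh.dim X.scheme
  swap
  · apply fjRes_bijective_of_imp
    intro U hU y _
    apply hU
    have := pdim_le_dim_obj X y
    unfold WeilCoh.codim
    omega
  have hne : Nonempty ↥X.scheme := by
    by_contra hemp
    rw [not_nonempty_iff] at hemp
    have : WeilCoh.dim X.scheme = 0 := natDim_of_isEmpty _
    omega
  obtain ⟨x0, hx0p⟩ := exists_pdim_eq X (WeilCoh.dim X.scheme - (j + 1)) (Nat.sub_le _ _)
  have hx0 : WeilCoh.codim X.scheme x0 = j + 1 := by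
    unfold WeilCoh.codim; omega
  constructor
  · -- injectivity
    rw [injective_iff_map_eq_zero]
    intro w hw
    obtain ⟨U', a', rfl⟩ := exists_rep T.toPreTheory X (ContainsFj X (j + 1 + m)) i n M w
    have hw' : ((T.ocolimMap X (containsFj_mono X
        ((Nat.le_succ j).trans (Nat.le_add_right (j + 1) m))) i n).app M).hom
        (((T.ocolimι X (ContainsFj X (j + 1 + m)) i n U').app M).hom a') = 0 := hw
    rw [ocolimMap_ι] at hw'
    obtain ⟨U, hUle, hU0⟩ := exists_pull_eq_zero T.toPreTheory X (ContainsFj X j) i n M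
      (⟨U'.1, containsFj_mono X ((Nat.le_succ j).trans (Nat.le_add_right (j + 1) m)) _ U'.2.1,
        U'.2.2⟩ : Idx X (ContainsFj X j)) a' hw'
    have hUle' : U.1 ≤ U'.1 := hUle
    have hdimZ := dim_redSub_cset X j U.1 U.2.1 x0 hx0
    have hZ0 := (hZ (redSub X (cset X U.1 x0)) (redSubι X (cset X U.1 x0)) hdimZ).1
    have h' : ZOk X (redSub X (cset X U.1 x0)) (redSubι X (cset X U.1 x0)) U'.1 :=
      zok_of_containsFj j m hdimZ U'.2.1
    have hcD : relCodim (zdecomp h').Z.scheme (X.res U'.1).scheme = (j : ℤ) + 1 := by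
      rw [relCodim_zdecomp h']; omega
    obtain ⟨i0, rfl⟩ : ∃ i0, i = i0 + 1 := ⟨i - 1, by ring⟩
    have hiD : i0 + 1 = (i0 + 1 - 2 * ((j : ℤ) + 1)) + 2 * relCodim (zdecomp h').Z.scheme
        (X.res U'.1).scheme := by rw [hcD]; ring
    have hnD : n = (n - ((j : ℤ) + 1)) + relCodim (zdecomp h').Z.scheme
        (X.res U'.1).scheme := by rw [hcD]; ring
    have hex := T.exact_push_pull (zdecomp h') M i0 n (i0 + 1 - 2 * ((j : ℤ) + 1))
      (n - ((j : ℤ) + 1)) hiD hnD
    have hle1 := zcompl_cset_le X U.1 x0 U'.1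
    have hpull0 : (T.pull (zdecomp h').j M (i0 + 1) n).hom a' = 0 := by
      show (T.pull (X.resLE (zcompl_le X _ _ U'.1) (h'.hdU.trans h'.hdX.symm)) M (i0 + 1) n).hom a'
        = 0
      have hfac : X.resLE (zcompl_le X _ _ U'.1) (h'.hdU.trans h'.hdX.symm) =
          X.resLE hle1 (h'.hdU.trans U.2.2.symm) ≫ X.resLE hUle' (U.2.2.trans U'.2.2.symm) :=
        (resLE_comp X _ _ _ _).symm
      rw [hfac, pull_comp_apply, hU0, map_zero]
    obtain ⟨b, hb⟩ := (hex a').mp hpull0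
    -- `b` dies on an open of `Z` containing `F_mZ`
    have hsub : Subsingleton (T.fjGp (redSub X (cset X U.1 x0)) m M
        (i0 + 1 - 2 * ((j : ℤ) + 1)) (n - ((j : ℤ) + 1))) := ModuleCat.subsingleton_of_isZero hZ0
    have hfil := isFiltered_fjIdx (redSub X (cset X U.1 x0)) m
    obtain ⟨W, hWle, hW0⟩ := exists_pull_eq_zero T.toPreTheory (redSub X (cset X U.1 x0))
      (ContainsFj (redSub X (cset X U.1 x0)) m) (i0 + 1 - 2 * ((j : ℤ) + 1)) (n - ((j : ℤ) + 1)) M
      ⟨(redSubι X (cset X U.1 x0)) ⁻¹ᵁ U'.1, containsFj_pre j m hdimZ U'.2.1, h'.hdZ⟩ b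
      (Subsingleton.elim _ _)
    have hWle' : W.1 ≤ (redSubι X (cset X U.1 x0)) ⁻¹ᵁ U'.1 := hWle
    have hX''F : ContainsFj X (j + 1 + m)
        (U'.1 ⊓ zshrink (ι := redSubι X (cset X U.1 x0)) W.1) :=
      fun y hy => ⟨U'.2.1 y hy, containsFj_zshrink j m hdimZ W.1 W.2.1 y hy⟩
    have h'' : ZOk X (redSub X (cset X U.1 x0)) (redSubι X (cset X U.1 x0))
        (U'.1 ⊓ zshrink (ι := redSubι X (cset X U.1 x0)) W.1) :=
      zok_of_containsFj j m hdimZ hX''F
    have hpreW : (redSubι X (cset X U.1 x0)) ⁻¹ᵁ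
        (U'.1 ⊓ zshrink (ι := redSubι X (cset X U.1 x0)) W.1) ≤ W.1 :=
      fun z hz => pre_zshrink_le (ι := redSubι X (cset X U.1 x0)) W.1 hz.2
    have hpre'' : (redSubι X (cset X U.1 x0)) ⁻¹ᵁ
        (U'.1 ⊓ zshrink (ι := redSubι X (cset X U.1 x0)) W.1) ≤
        (redSubι X (cset X U.1 x0)) ⁻¹ᵁ U'.1 := fun z hz => hz.1
    have hcD'' : relCodim ((redSub X (cset X U.1 x0)).res ((redSubι X (cset X U.1 x0)) ⁻¹ᵁ
        (U'.1 ⊓ zshrink (ι := redSubι X (cset X U.1 x0)) W.1))).scheme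
        (X.res (U'.1 ⊓ zshrink (ι := redSubι X (cset X U.1 x0)) W.1)).scheme = (j : ℤ) + 1 :=
      (relCodim_zdecomp h'').trans (by omega)
    have hbc := zpull_push T M h' h'' inf_le_left hpre'' (i0 + 1 - 2 * ((j : ℤ) + 1))
      (n - ((j : ℤ) + 1)) (i0 + 1) n hiD hnD (by rw [hcD'']; ring) (by rw [hcD'']; ring) b
    have hb0 : (T.pull ((redSub X (cset X U.1 x0)).resLE hpre'' (h''.hdZ.trans h'.hdZ.symm)) M
        (i0 + 1 - 2 * ((j : ℤ) + 1)) (n - ((j : ℤ) + 1))).hom b = 0 := by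
      have hfac : (redSub X (cset X U.1 x0)).resLE hpre'' (h''.hdZ.trans h'.hdZ.symm) =
          (redSub X (cset X U.1 x0)).resLE hpreW (h''.hdZ.trans W.2.2.symm) ≫
            (redSub X (cset X U.1 x0)).resLE hWle' (W.2.2.trans h'.hdZ.symm) :=
        (resLE_comp _ _ _ _ _).symm
      rw [hfac, pull_comp_apply, hW0, map_zero]
    have ha'0 : (T.pull (X.resLE (inf_le_left : U'.1 ⊓ zshrink
        (ι := redSubι X (cset X U.1 x0)) W.1 ≤ U'.1) (h''.hdX.trans h'.hdX.symm)) M (i0 + 1) n).hom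
        a' = 0 := by
      rw [← hb]
      refine hbc.trans ?_
      rw [hb0, map_zero]
    have := ocolimι_pull T.toPreTheory X (ContainsFj X (j + 1 + m)) (i0 + 1) n M
      (U := U') (U' := ⟨_, hX''F, h''.hdX⟩)
      (inf_le_left : U'.1 ⊓ zshrink (ι := redSubι X (cset X U.1 x0)) W.1 ≤ U'.1) a'
    rw [← this]
    exact (congrArg (fun t => ((T.ocolimι X (ContainsFj X (j + 1 + m)) (i0 + 1) n
      ⟨_, hX''F, h''.hdX⟩).app M).hom t) ha'0).trans (map_zero _)
  · -- surjectivity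
    intro z
    obtain ⟨U, a, rfl⟩ := exists_rep T.toPreTheory X (ContainsFj X j) i n M z
    have hdimZ := dim_redSub_cset X j U.1 U.2.1 x0 hx0
    have hZ1 := (hZ (redSub X (cset X U.1 x0)) (redSubι X (cset X U.1 x0)) hdimZ).2
    have htop : ZOk X (redSub X (cset X U.1 x0)) (redSubι X (cset X U.1 x0)) ⊤ :=
      zok_of_containsFj j m hdimZ (fun _ _ => trivial)
    have hcD : (zdecomp htop).codim = (j : ℤ) + 1 := by
      show relCodim (zdecomp htop).Z.scheme (X.res ⊤).scheme = _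
      rw [relCodim_zdecomp htop]; omega
    have hiD : i + 1 - 2 * ((j : ℤ) + 1) = i + 1 - 2 * (zdecomp htop).codim := by rw [hcD]
    have hnD : n - ((j : ℤ) + 1) = n - (zdecomp htop).codim := by rw [hcD]
    have hle1 := zcompl_cset_le X U.1 x0 ⊤
    let a1 : T.gp (X.res (zcompl X _ (redSubι X (cset X U.1 x0)) ⊤)) M i n :=
      (T.pull (X.resLE hle1 (htop.hdU.trans U.2.2.symm)) M i n).hom a
    let r := (T.res (zdecomp htop) M i n (i + 1 - 2 * ((j : ℤ) + 1)) (n - ((j : ℤ) + 1))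
      hiD hnD).hom a1
    have hsub : Subsingleton (T.fjGp (redSub X (cset X U.1 x0)) m M
        (i + 1 - 2 * ((j : ℤ) + 1)) (n - ((j : ℤ) + 1))) := ModuleCat.subsingleton_of_isZero hZ1
    have hfil := isFiltered_fjIdx (redSub X (cset X U.1 x0)) m
    obtain ⟨W, hWle, hW0⟩ := exists_pull_eq_zero T.toPreTheory (redSub X (cset X U.1 x0))
      (ContainsFj (redSub X (cset X U.1 x0)) m) (i + 1 - 2 * ((j : ℤ) + 1)) (n - ((j : ℤ) + 1)) M
      ⟨(redSubι X (cset X U.1 x0)) ⁻¹ᵁ ⊤, containsFj_pre j m hdimZ (fun _ _ => trivial),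
        htop.hdZ⟩ r (Subsingleton.elim _ _)
    have hWle' : W.1 ≤ (redSubι X (cset X U.1 x0)) ⁻¹ᵁ ⊤ := hWle
    have hX''F : ContainsFj X (j + 1 + m) (zshrink (ι := redSubι X (cset X U.1 x0)) W.1) :=
      containsFj_zshrink j m hdimZ W.1 W.2.1
    have h'' : ZOk X (redSub X (cset X U.1 x0)) (redSubι X (cset X U.1 x0))
        (zshrink (ι := redSubι X (cset X U.1 x0)) W.1) := zok_of_containsFj j m hdimZ hX''F
    have hpreW := pre_zshrink_le (ι := redSubι X (cset X U.1 x0)) W.1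
    have hpre'' : (redSubι X (cset X U.1 x0)) ⁻¹ᵁ (zshrink (ι := redSubι X (cset X U.1 x0)) W.1) ≤
        (redSubι X (cset X U.1 x0)) ⁻¹ᵁ ⊤ := fun _ _ => trivial
    have hcD'' : (zdecomp h'').codim = (j : ℤ) + 1 := by
      show relCodim (zdecomp h'').Z.scheme (X.res _).scheme = _
      rw [relCodim_zdecomp h'']; omega
    have hiD'' : i + 1 - 2 * ((j : ℤ) + 1) = i + 1 - 2 * (zdecomp h'').codim := by rw [hcD'']
    have hnD'' : n - ((j : ℤ) + 1) = n - (zdecomp h'').codim := by rw [hcD'']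
    have hrp := zres_pull T M htop h'' le_top hpre'' i n (i + 1 - 2 * ((j : ℤ) + 1))
      (n - ((j : ℤ) + 1)) hiD hnD hiD'' hnD'' a1
    have hr0 : (T.pull ((redSub X (cset X U.1 x0)).resLE hpre'' (h''.hdZ.trans htop.hdZ.symm)) M
        (i + 1 - 2 * ((j : ℤ) + 1)) (n - ((j : ℤ) + 1))).hom r = 0 := by
      have hfac : (redSub X (cset X U.1 x0)).resLE hpre'' (h''.hdZ.trans htop.hdZ.symm) =
          (redSub X (cset X U.1 x0)).resLE hpreW (h''.hdZ.trans W.2.2.symm) ≫
            (redSub X (cset X U.1 x0)).resLE hWle' (W.2.2.trans htop.hdZ.symm) :=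
        (resLE_comp _ _ _ _ _).symm
      rw [hfac, pull_comp_apply, hW0, map_zero]
    let a2 : T.gp (X.res (zcompl X _ (redSubι X (cset X U.1 x0))
        (zshrink (ι := redSubι X (cset X U.1 x0)) W.1))) M i n :=
      (T.pull (X.resLE (zcompl_mono X _ (redSubι X (cset X U.1 x0)) le_top)
        (h''.hdU.trans htop.hdU.symm)) M i n).hom a1
    have hres0 : (T.res (zdecomp h'') M i n (i + 1 - 2 * ((j : ℤ) + 1)) (n - ((j : ℤ) + 1))
        hiD'' hnD'').hom a2 = 0 := hrp.symm.trans hr0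
    have hex := T.exact_pull_res (zdecomp h'') M i n (i + 1 - 2 * ((j : ℤ) + 1))
      (n - ((j : ℤ) + 1)) hiD'' hnD''
    obtain ⟨a'', ha''⟩ := (hex a2).mp hres0
    refine ⟨((T.ocolimι X (ContainsFj X (j + 1 + m)) i n ⟨_, hX''F, h''.hdX⟩).app M).hom a'', ?_⟩
    show ((T.ocolimMap X (containsFj_mono X
      ((Nat.le_succ j).trans (Nat.le_add_right (j + 1) m))) i n).app M).hom _ = _
    rw [ocolimMap_ι]
    have hF2 : ContainsFj X j (zcompl X _ (redSubι X (cset X U.1 x0))
        (zshrink (ι := redSubι X (cset X U.1 x0)) W.1)) :=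
      containsFj_zcompl j hdimZ (containsFj_mono X
        ((Nat.le_succ j).trans (Nat.le_add_right (j + 1) m)) _ hX''F)
    have e1 := ocolimι_pull T.toPreTheory X (ContainsFj X j) i n M
      (U := ⟨zshrink (ι := redSubι X (cset X U.1 x0)) W.1, containsFj_mono X
        ((Nat.le_succ j).trans (Nat.le_add_right (j + 1) m)) _ hX''F, h''.hdX⟩)
      (U' := ⟨_, hF2, h''.hdU⟩) (zcompl_le X _ _ _) a''
    rw [← e1]
    have e2 := ocolimι_pull T.toPreTheory X (ContainsFj X j) i n M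
      (U := U) (U' := ⟨_, hF2, h''.hdU⟩)
      (zcompl_cset_le X U.1 x0 (zshrink (ι := redSubι X (cset X U.1 x0)) W.1)) a
    rw [← e2]
    congr 1
    refine ha''.trans ?_
    show (T.pull _ M i n).hom ((T.pull _ M i n).hom a) = _
    rw [← pull_comp_apply, resLE_comp]

end Main

end Groth.Agent.Lib.Helper5.Misc.BMZ
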