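import Mathlib
import Groth.Prelude.Def_BMCoh4
import Groth.Agent.Lib.Helper5.Misc.BMZ

set_option autoImplicit false
universe u
open CategoryTheory CategoryTheory.Limits AlgebraicGeometry Opposite TopologicalSpace
open BMCoh

namespace Groth.Agent.Lib.Helper5.Misc.BMPt

open Groth.Agent.Lib.Helper5.Misc.BMLib Groth.Agent.Lib.Helper5.Misc.BMColim
open Groth.Agent.Lib.Helper5.Misc.BMGeo Groth.Agent.Lib.Helper5.Misc.BMVan
open Groth.Agent.Lib.Helper5.Misc.BMBij Groth.Agent.Lib.Helper5.Misc.WeilGeo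
open Groth.Agent.Lib.Helper5.Misc.WeilGen
open Groth.Agent.Lib.Helper5.Misc.BMGeo2 Groth.Agent.Lib.Helper5.Misc.BMStep
open Groth.Agent.Lib.Helper5.Misc.BMFj Groth.Agent.Lib.Helper5.Misc.BMRes
open Groth.Agent.Lib.Helper5.Misc.BMExact1
open Groth.Agent.Lib.Helper5.Misc.BMExact2 Groth.Agent.Lib.Helper5.Misc.BMUniq
open Groth.Agent.Lib.Helper5.Misc.BMZ

variable {V : ObjectProperty Scheme.{u}} [IsConstructible V] {R : Type u} [CommRing R]
  {A : Coefs R}

section Dim

/-- A closed continuous map between objects does not raise the dimension of the closure of a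
point. -/
lemma pdim_map_le {Y X : Obj V} (f : Y.scheme ⟶ X.scheme) (hf : IsClosedMap f) :
    ∀ (n : ℕ) (s : Y.scheme), WeilCoh.pdim Y.scheme s = n → WeilCoh.pdim X.scheme (f s) ≤ n := by
  intro n
  induction n using Nat.strong_induction_on with
  | _ n IH =>
    intro s hs
    by_contra hlt
    push Not at hlt
    have hu : f s ∈ Set.range (X.ptSubι (f s)) := by
      rw [range_ptSubι]; exact subset_closure rfl
    obtain ⟨w0, hw0⟩ := hu
    have : Nonempty ↥(X.ptSub (f s)).scheme := ⟨w0⟩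
    have hdp : WeilCoh.dim (X.ptSub (f s)).scheme = WeilCoh.pdim X.scheme (f s) := dim_ptSub X (f s)
    obtain ⟨w, hw⟩ := exists_pdim_eq (X.ptSub (f s)) (WeilCoh.pdim X.scheme (f s) - 1)
      (by rw [hdp]; omega)
    have hpt : WeilCoh.pdim X.scheme ((X.ptSubι (f s)) w) =
        WeilCoh.pdim (X.ptSub (f s)).scheme w :=
      pdim_closedEmbedding (X.ptSubι (f s)) (X.ptSubι (f s)).isClosedEmbedding w
    have htcl : (X.ptSubι (f s)) w ∈ closure ({f s} : Set X.scheme) := by
      rw [← range_ptSubι]; exact ⟨w, rfl⟩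
    have hsub : closure ({f s} : Set X.scheme) ⊆ f '' closure ({s} : Set Y.scheme) := by
      apply closure_minimal
      · rw [Set.singleton_subset_iff]
        exact ⟨s, subset_closure rfl, rfl⟩
      · exact hf _ isClosed_closure
    obtain ⟨s', hs'cl, hs'⟩ := hsub htcl
    have hne : s' ≠ s := by
      intro h
      have h3 : WeilCoh.pdim X.scheme ((X.ptSubι (f s)) w) = WeilCoh.pdim X.scheme (f s) := by
        rw [← hs', h]
      omega
    have h1 := pdim_lt_of_mem_closure_ne Y hs'cl hne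
    have h2 := IH (WeilCoh.pdim Y.scheme s') (by omega) s' rfl
    rw [hs'] at h2
    omega

end Dim

section PtMap

variable {Y X : Obj V} (φ : Y.scheme ⟶ X.scheme) (y : Y.scheme) (x : X.scheme)
  (hyx : φ y = x)

include hyx in
lemma range_comp_subset : Set.range (Y.ptSubι y ≫ φ) ⊆ closure ({x} : Set X.scheme) := by
  rintro _ ⟨z, rfl⟩
  have hz : (Y.ptSubι y) z ∈ closure ({y} : Set Y.scheme) := by
    rw [← range_ptSubι]; exact ⟨z, rfl⟩
  have h1 := image_closure_subset_closure_image (f := φ) (s := {y}) φ.continuous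
  rw [Set.image_singleton, hyx] at h1
  exact h1 ⟨_, hz, rfl⟩

include hyx in
lemma ker_le : (X.ptSubι x).ker ≤ (Y.ptSubι y ≫ φ).ker := by
  rw [Scheme.IdealSheafData.ker_subschemeι,
    Groth.Agent.Helper1.SchSect.ker_eq_vanishingIdeal_of_isReduced]
  apply Scheme.IdealSheafData.vanishingIdeal_antimono
  show closure (Set.range (Y.ptSubι y ≫ φ)) ⊆ closure ({x} : Set X.scheme)
  exact closure_minimal (range_comp_subset φ y x hyx) isClosed_closure

/-- The morphism between the reduced closures of `y` and of `x = φ y` induced by `φ`. -/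
noncomputable def ptMap : (Y.ptSub y).scheme ⟶ (X.ptSub x).scheme :=
  IsClosedImmersion.lift (X.ptSubι x) (Y.ptSubι y ≫ φ) (ker_le φ y x hyx)

lemma ptMap_fac : ptMap φ y x hyx ≫ X.ptSubι x = Y.ptSubι y ≫ φ :=
  IsClosedImmersion.lift_fac _ _ _

instance isProper_ptMap [IsProper φ] : IsProper (ptMap φ y x hyx) := by
  have : IsProper (ptMap φ y x hyx ≫ X.ptSubι x) := by
    rw [ptMap_fac]; infer_instance
  exact IsProper.of_comp (ptMap φ y x hyx) (X.ptSubι x)

/-- Every point of the reduced closure of `x` is a specialisation of the point over `x`. -/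
lemma mem_closure_generic (X : Obj V) (x : X.scheme) (w z : (X.ptSub x).scheme)
    (hw : (X.ptSubι x) w = x) : z ∈ closure ({w} : Set (X.ptSub x).scheme) := by
  have hemb := (X.ptSubι x).isClosedEmbedding
  rw [hemb.isEmbedding.isInducing.closure_eq_preimage_closure_image]
  show (X.ptSubι x) z ∈ closure ((X.ptSubι x) '' {w})
  rw [Set.image_singleton, hw, ← range_ptSubι]
  exact ⟨z, rfl⟩

lemma exists_generic (X : Obj V) (x : X.scheme) : ∃ w : (X.ptSub x).scheme, (X.ptSubι x) w = x := by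
  have hu : x ∈ Set.range (X.ptSubι x) := by
    rw [range_ptSubι]; exact subset_closure rfl
  exact hu

/-- The open of the closure of `x` complementary to the image of the complement of `W`. -/
noncomputable def imgOpen [IsProper φ] (W : (Y.ptSub y).scheme.Opens) : (X.ptSub x).scheme.Opens :=
  ⟨((ptMap φ y x hyx) '' ((W : Set (Y.ptSub y).scheme)ᶜ))ᶜ,
    ((ptMap φ y x hyx).isClosedMap _ W.isOpen.isClosed_compl).isOpen_compl⟩

lemma preimage_imgOpen_le [IsProper φ] (W : (Y.ptSub y).scheme.Opens) :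
    (ptMap φ y x hyx) ⁻¹ᵁ (imgOpen φ y x hyx W) ≤ W := by
  intro z hz
  by_contra hzW
  exact hz ⟨z, hzW, rfl⟩

lemma generic_mem_imgOpen [IsProper φ]
    (hdim : WeilCoh.dim (Y.ptSub y).scheme = WeilCoh.dim (X.ptSub x).scheme)
    (W : (Y.ptSub y).scheme.Opens) (hW : (W : Set (Y.ptSub y).scheme).Nonempty)
    (wy : (Y.ptSub y).scheme) (hwy : (Y.ptSubι y) wy = y) :
    (ptMap φ y x hyx) wy ∈ imgOpen φ y x hyx W := by
  rintro ⟨c, hcW, hc⟩
  have hwx : (X.ptSubι x) ((ptMap φ y x hyx) wy) = x := by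
    have := congrArg (fun g => g wy) (congrArg (fun g => (g.base : _ → _)) (ptMap_fac φ y x hyx))
    simp only [Scheme.Hom.comp_base, TopCat.hom_comp, ContinuousMap.comp_apply] at this
    rw [this, hwy, hyx]
  have hne : c ≠ wy := by
    rintro rfl
    exact hcW (mem_of_ptSubι_eq Y y W hW c hwy)
  have h1 := pdim_lt_of_mem_closure_ne (Y.ptSub y) (mem_closure_generic Y y wy c hwy) hne
  have h2 := pdim_map_le (Y := Y.ptSub y) (X := X.ptSub x) (ptMap φ y x hyx)
    (ptMap φ y x hyx).isClosedMap _ c rfl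
  rw [hc] at h2
  have h3 : WeilCoh.pdim (X.ptSub x).scheme ((ptMap φ y x hyx) wy) = WeilCoh.dim (X.ptSub x).scheme := by
    rw [← pdim_closedEmbedding (X.ptSubι x) (X.ptSubι x).isClosedEmbedding, hwx, dim_ptSub]
  have h4 : WeilCoh.pdim (Y.ptSub y).scheme wy = WeilCoh.dim (Y.ptSub y).scheme := by
    rw [← pdim_closedEmbedding (Y.ptSubι y) (Y.ptSubι y).isClosedEmbedding, hwy, dim_ptSub]
  omega

end PtMap

section Uniq

variable (T : PreTheory V R A) {Y X : Obj V} (φ : Y.scheme ⟶ X.scheme) [IsProper φ]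
  (y : Y.scheme) (x : X.scheme)

/-- For every nonempty open `W` of the closure of `y` there is a smaller one mapping properly
onto an open of the closure of `x`. -/
lemma exists_test (hyx : φ y = x)
    (hdim : WeilCoh.dim (Y.ptSub y).scheme = WeilCoh.dim (X.ptSub x).scheme) (W : ptIdx Y y) :
    ∃ (W0 : ptIdx Y y) (_ : W0 ≤ W) (W' : ptIdx X x)
      (f : ((Y.ptSub y).res W0.1).scheme ⟶ ((X.ptSub x).res W'.1).scheme) (_ : IsProper f),
      f ≫ W'.1.ι ≫ X.ptSubι x = W0.1.ι ≫ Y.ptSubι y ≫ φ := by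
  obtain ⟨wy, hwy⟩ := exists_generic Y y
  have hmem := generic_mem_imgOpen φ y x hyx hdim W.1 W.2.1 wy hwy
  have hne' : ((imgOpen φ y x hyx W.1 : (X.ptSub x).scheme.Opens) :
      Set (X.ptSub x).scheme).Nonempty := ⟨_, hmem⟩
  have hne0 : (((ptMap φ y x hyx) ⁻¹ᵁ (imgOpen φ y x hyx W.1) : (Y.ptSub y).scheme.Opens) :
      Set (Y.ptSub y).scheme).Nonempty := ⟨wy, hmem⟩
  refine ⟨⟨(ptMap φ y x hyx) ⁻¹ᵁ (imgOpen φ y x hyx W.1), hne0, dim_open_ptSub Y y _ hne0⟩,
    preimage_imgOpen_le φ y x hyx W.1,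
    ⟨imgOpen φ y x hyx W.1, hne', dim_open_ptSub X x _ hne'⟩,
    (ptMap φ y x hyx) ∣_ (imgOpen φ y x hyx W.1), ?_, ?_⟩
  · exact AlgebraicGeometry.IsZariskiLocalAtTarget.restrict (P := @IsProper) inferInstance _
  · show ((ptMap φ y x hyx) ∣_ (imgOpen φ y x hyx W.1)) ≫ (imgOpen φ y x hyx W.1).ι ≫ X.ptSubι x =
      ((ptMap φ y x hyx) ⁻¹ᵁ (imgOpen φ y x hyx W.1)).ι ≫ Y.ptSubι y ≫ φ
    rw [← Category.assoc, morphismRestrict_ι, Category.assoc, ptMap_fac]

theorem cpt_eq (L L' : T.PtPush φ y x) (M : A.Cat) (i n : ℤ) : L.cpt M i n = L'.cpt M i n := by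
  apply ModuleCat.hom_ext
  apply LinearMap.ext
  intro z
  obtain ⟨W, a, rfl⟩ := exists_rep T (Y.ptSub y)
    (fun U => (U : Set (Y.ptSub y).scheme).Nonempty) i n M z
  have hdim : WeilCoh.dim (Y.ptSub y).scheme = WeilCoh.dim (X.ptSub x).scheme := by
    have := L.codim_eq
    unfold relCodim at this
    omega
  obtain ⟨W0, hle, W', f, hf, hfac⟩ := exists_test φ y x L.maps_pt hdim W
  have hrc : relCodim ((Y.ptSub y).res W0.1).scheme ((X.ptSub x).res W'.1).scheme = 0 := by
    unfold relCodim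
    have h1 : WeilCoh.dim ((Y.ptSub y).res W0.1).scheme = WeilCoh.dim (Y.ptSub y).scheme := W0.2.2
    have h2 : WeilCoh.dim ((X.ptSub x).res W'.1).scheme = WeilCoh.dim (X.ptSub x).scheme := W'.2.2
    rw [h1, h2, hdim]; omega
  have hi' : i = i + 2 * relCodim ((Y.ptSub y).res W0.1).scheme ((X.ptSub x).res W'.1).scheme := by
    rw [hrc]; omega
  have hn' : n = n + relCodim ((Y.ptSub y).res W0.1).scheme ((X.ptSub x).res W'.1).scheme := by
    rw [hrc]; omega
  have k1 := L.cpt_spec M i n W0 W' f hfac hi' hn'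
  have k2 := L'.cpt_spec M i n W0 W' f hfac hi' hn'
  have hpull := ocolimι_pull T (Y.ptSub y) (fun U => (U : Set (Y.ptSub y).scheme).Nonempty)
    i n M (U := W) (U' := W0) hle a
  have k3 := congrArg (fun g => g.hom
    ((T.pull ((Y.ptSub y).resLE (show W0.1 ≤ W.1 from hle) (W0.2.2.trans W.2.2.symm)) M i n).hom a))
    (k1.trans k2.symm)
  simp only [ModuleCat.hom_comp, LinearMap.comp_apply] at k3
  show (L.cpt M i n).hom (((T.ocolimι (Y.ptSub y)
    (fun U => (U : Set (Y.ptSub y).scheme).Nonempty) i n W).app M).hom a) =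
    (L'.cpt M i n).hom (((T.ocolimι (Y.ptSub y)
    (fun U => (U : Set (Y.ptSub y).scheme).Nonempty) i n W).app M).hom a)
  rw [← hpull]
  exact k3

theorem subsingleton_ptPush : Subsingleton (T.PtPush φ y x) := by
  constructor
  intro L L'
  have h : L.cpt = L'.cpt := by
    funext M i n
    exact cpt_eq T φ y x L L' M i n
  cases L with
  | mk m c p s =>
    cases L' with
    | mk m' c' p' s' =>
      simp only at h
      subst h
      rfl

end Uniq

end Groth.Agent.Lib.Helper5.Misc.BMPt
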