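import Mathlib
import Groth.Prelude.Def_BMCoh4
import Groth.Agent.Lib.Helper5.Misc.BMPt
import Groth.Agent.Lib.Helper5.Misc.BMConf
import Groth.Agent.Lib.Helper4.Japanese2
import Groth.Agent.Lib.Helper4.NormalizationField2

set_option autoImplicit false
universe u
open CategoryTheory CategoryTheory.Limits AlgebraicGeometry Opposite TopologicalSpace
open BMCoh

namespace Groth.Agent.Lib.Helper5.Misc.BMNorm

open Groth.Agent.Lib.Helper5.Misc.BMLib Groth.Agent.Lib.Helper5.Misc.BMColim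
open Groth.Agent.Lib.Helper5.Misc.BMGeo Groth.Agent.Lib.Helper5.Misc.BMVan
open Groth.Agent.Lib.Helper5.Misc.BMBij Groth.Agent.Lib.Helper5.Misc.WeilGeo
open Groth.Agent.Lib.Helper5.Misc.WeilGen
open Groth.Agent.Lib.Helper5.Misc.BMGeo2 Groth.Agent.Lib.Helper5.Misc.BMStep
open Groth.Agent.Lib.Helper5.Misc.BMFj Groth.Agent.Lib.Helper5.Misc.BMRes
open Groth.Agent.Lib.Helper5.Misc.BMExact1
open Groth.Agent.Lib.Helper5.Misc.BMExact2 Groth.Agent.Lib.Helper5.Misc.BMUniq
open Groth.Agent.Lib.Helper5.Misc.BMZ Groth.Agent.Lib.Helper5.Misc.BMPt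
open Groth.Agent.Lib.Helper5.Misc.BMConf

variable {V : ObjectProperty Scheme.{u}} [IsConstructible V] {R : Type u} [CommRing R]
  {A : Coefs R}

section Sch

/-- The base-change square of the restrictions of a morphism to nested opens. -/
lemma isPullback_restrict_gen {S S' : Scheme.{u}} (ψ : S ⟶ S') {O1 O2 : S'.Opens} (hle : O2 ≤ O1)
    (hpre : ψ ⁻¹ᵁ O2 ≤ ψ ⁻¹ᵁ O1) :
    IsPullback (S.homOfLE hpre) (ψ ∣_ O2) (ψ ∣_ O1) (S'.homOfLE hle) := by
  apply IsPullback.flip
  refine IsPullback.of_bot ?_ ?_ (isPullback_morphismRestrict ψ O1)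
  · rw [Scheme.homOfLE_ι, Scheme.homOfLE_ι]
    exact isPullback_morphismRestrict ψ O2
  · rw [← cancel_mono O1.ι]
    simp only [Category.assoc, morphismRestrict_ι, Scheme.homOfLE_ι, Scheme.homOfLE_ι_assoc]

lemma isIso_restrict_of_le {S S' : Scheme.{u}} (ψ : S ⟶ S') {O1 O2 : S'.Opens} (hle : O2 ≤ O1)
    [IsIso (ψ ∣_ O1)] : IsIso (ψ ∣_ O2) :=
  (isPullback_restrict_gen ψ hle (fun _ hx => hle hx)).isIso_snd_of_isIso

lemma isIso_restrict_comp {S1 S2 S3 : Scheme.{u}} (f : S1 ⟶ S2) (g : S2 ⟶ S3) [IsIso f]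
    (U : S3.Opens) [hg : IsIso (g ∣_ U)] : IsIso ((f ≫ g) ∣_ U) := by
  rw [morphismRestrict_comp]
  have h1 : IsIso (f ∣_ g ⁻¹ᵁ U) := instIsIsoSchemeMorphismRestrict f (g ⁻¹ᵁ U)
  exact @IsIso.comp_isIso _ _ _ _ _ _ _ h1 hg

end Sch

section Push

variable (T : PreTheory V R A)

omit [IsConstructible V] in
lemma relCodim_of_iso {S S' : Scheme.{u}} (f : S ⟶ S') [IsIso f] : relCodim S S' = 0 := by
  unfold relCodim
  rw [dim_eq_of_iso (asIso f)]
  omega

/-- Push-forward along an isomorphism is bijective. -/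
lemma push_iso_bijective {X' Y' : Obj V} (f : X'.scheme ⟶ Y'.scheme) [IsIso f] (M : A.Cat)
    (i n i' n' : ℤ) (hi : i' = i + 2 * relCodim X'.scheme Y'.scheme)
    (hn : n' = n + relCodim X'.scheme Y'.scheme) :
    Function.Bijective (T.push f M i n i' n' hi hn).hom := by
  have h0 : relCodim X'.scheme Y'.scheme = 0 := relCodim_of_iso f
  have h0' : relCodim Y'.scheme X'.scheme = 0 := relCodim_of_iso (inv f)
  have h00 : relCodim X'.scheme X'.scheme = 0 := relCodim_self _
  have h00' : relCodim Y'.scheme Y'.scheme = 0 := relCodim_self _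
  have e1 := T.push_comp f (inv f) M i n i' n' i n hi hn (by rw [h0', hi, h0]; ring)
    (by rw [h0', hn, h0]; ring) (by rw [h00]; ring) (by rw [h00]; ring)
  have e2 := T.push_comp (inv f) f M i' n' i n i' n' (by rw [h0', hi, h0]; ring)
    (by rw [h0', hn, h0]; ring) hi hn (by rw [h00']; ring) (by rw [h00']; ring)
  rw [push_congr T (IsIso.hom_inv_id f), T.push_id] at e1
  rw [push_congr T (IsIso.inv_hom_id f), T.push_id] at e2
  rw [Function.bijective_iff_has_inverse]
  refine ⟨(T.push (inv f) M i' n' i n (by rw [h0', hi, h0]; ring)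
    (by rw [h0', hn, h0]; ring)).hom, ?_, ?_⟩
  · intro a
    have := congrArg (fun g => g.hom a) e1
    simpa using this
  · intro b
    have := congrArg (fun g => g.hom b) e2
    simpa using this

end Push

section Cpt

variable (T : PreTheory V R A) {Y X : Obj V} (φ : Y.scheme ⟶ X.scheme) [IsProper φ]
  (y : Y.scheme) (x : X.scheme) (hyx : φ y = x)

include hyx in
lemma ptMap_generic (wy : (Y.ptSub y).scheme) (hwy : (Y.ptSubι y) wy = y) :
    (X.ptSubι x) ((ptMap φ y x hyx) wy) = x := by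
  have := congrArg (fun g => g wy) (congrArg (fun g => (g.base : _ → _)) (ptMap_fac φ y x hyx))
  simp only [Scheme.Hom.comp_base, TopCat.hom_comp, ContinuousMap.comp_apply] at this
  rw [this, hwy, hyx]

lemma nonempty_preimage (W' : (X.ptSub x).scheme.Opens)
    (hW' : (W' : Set (X.ptSub x).scheme).Nonempty) :
    (((ptMap φ y x hyx) ⁻¹ᵁ W' : (Y.ptSub y).scheme.Opens) : Set (Y.ptSub y).scheme).Nonempty := by
  obtain ⟨wy, hwy⟩ := exists_generic Y y
  exact ⟨wy, mem_of_ptSubι_eq X x W' hW' _ (ptMap_generic φ y x hyx wy hwy)⟩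

/-- The member of the index family of `y` over a member of the index family of `x`. -/
noncomputable abbrev preIdx (W' : ptIdx X x) : ptIdx Y y :=
  ⟨(ptMap φ y x hyx) ⁻¹ᵁ W'.1, nonempty_preimage φ y x hyx W'.1 W'.2.1,
    dim_open_ptSub Y y _ (nonempty_preimage φ y x hyx W'.1 W'.2.1)⟩

lemma relCodim_preIdx (hdim : WeilCoh.dim (Y.ptSub y).scheme = WeilCoh.dim (X.ptSub x).scheme)
    (W' : ptIdx X x) :
    relCodim ((Y.ptSub y).res (preIdx φ y x hyx W').1).scheme ((X.ptSub x).res W'.1).scheme = 0 := by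
  unfold relCodim
  have h1 : WeilCoh.dim ((Y.ptSub y).res (preIdx φ y x hyx W').1).scheme =
      WeilCoh.dim (Y.ptSub y).scheme := (preIdx φ y x hyx W').2.2
  have h2 : WeilCoh.dim ((X.ptSub x).res W'.1).scheme = WeilCoh.dim (X.ptSub x).scheme := W'.2.2
  rw [h1, h2, hdim]; omega

instance isProper_restrict_ptMap (W' : (X.ptSub x).scheme.Opens) :
    IsProper ((ptMap φ y x hyx) ∣_ W') :=
  AlgebraicGeometry.IsZariskiLocalAtTarget.restrict (P := @IsProper) inferInstance _

lemma restrict_fac (W' : (X.ptSub x).scheme.Opens) :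
    ((ptMap φ y x hyx) ∣_ W') ≫ W'.ι ≫ X.ptSubι x =
      ((ptMap φ y x hyx) ⁻¹ᵁ W').ι ≫ Y.ptSubι y ≫ φ := by
  rw [← Category.assoc, morphismRestrict_ι, Category.assoc, ptMap_fac]

/-- For every member `W` of the index family of `y` and `V'` of that of `x` there is a member
`W' ≤ V'` whose preimage is inside `W`. -/
lemma exists_le_pre (hdim : WeilCoh.dim (Y.ptSub y).scheme = WeilCoh.dim (X.ptSub x).scheme)
    (W : ptIdx Y y) (V' : ptIdx X x) :
    ∃ W' : ptIdx X x, W' ≤ V' ∧ preIdx φ y x hyx W' ≤ W := by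
  obtain ⟨wy, hwy⟩ := exists_generic Y y
  have hmem := generic_mem_imgOpen φ y x hyx hdim W.1 W.2.1 wy hwy
  have hmem2 : (ptMap φ y x hyx) wy ∈ V'.1 :=
    mem_of_ptSubι_eq X x V'.1 V'.2.1 _ (ptMap_generic φ y x hyx wy hwy)
  have hne : (((imgOpen φ y x hyx W.1) ⊓ V'.1 : (X.ptSub x).scheme.Opens) :
      Set (X.ptSub x).scheme).Nonempty := ⟨_, hmem, hmem2⟩
  refine ⟨⟨(imgOpen φ y x hyx W.1) ⊓ V'.1, hne, dim_open_ptSub X x _ hne⟩,
    (inf_le_right : (imgOpen φ y x hyx W.1) ⊓ V'.1 ≤ V'.1), ?_⟩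
  intro z hz
  exact preimage_imgOpen_le φ y x hyx W.1 hz.1

variable (L : T.PtPush φ y x)

include L in
lemma dim_eq_of_ptPush : WeilCoh.dim (Y.ptSub y).scheme = WeilCoh.dim (X.ptSub x).scheme := by
  have := L.codim_eq
  unfold relCodim at this
  omega

/-- The datum computed on the preimage of a member of the index family of `x`. -/
lemma cpt_preIdx (M : A.Cat) (i n : ℤ) (W' : ptIdx X x)
    (hi' : i = i + 2 * relCodim ((Y.ptSub y).res (preIdx φ y x L.maps_pt W').1).scheme
      ((X.ptSub x).res W'.1).scheme)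
    (hn' : n = n + relCodim ((Y.ptSub y).res (preIdx φ y x L.maps_pt W').1).scheme
      ((X.ptSub x).res W'.1).scheme)
    (b : T.gp ((Y.ptSub y).res (preIdx φ y x L.maps_pt W').1) M i n) :
    (L.cpt M i n).hom (((T.ptι Y y i n (preIdx φ y x L.maps_pt W')).app M).hom b) =
      ((T.ptι X x i n W').app M).hom
        ((T.push ((ptMap φ y x L.maps_pt) ∣_ W'.1) M i n i n hi' hn').hom b) := by
  have k1 := L.cpt_spec M i n (preIdx φ y x L.maps_pt W') W' ((ptMap φ y x L.maps_pt) ∣_ W'.1)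
    (restrict_fac φ y x L.maps_pt W'.1) hi' hn'
  have k3 := congrArg (fun g => g.hom b) k1
  simp only [ModuleCat.hom_comp, LinearMap.comp_apply] at k3
  exact k3

lemma exists_inf (W1 W2 : ptIdx X x) : ∃ W3 : ptIdx X x, W3 ≤ W1 ∧ W3 ≤ W2 := by
  obtain ⟨wx, hwx⟩ := exists_generic X x
  have hne : ((W1.1 ⊓ W2.1 : (X.ptSub x).scheme.Opens) : Set (X.ptSub x).scheme).Nonempty :=
    ⟨wx, mem_of_ptSubι_eq X x W1.1 W1.2.1 _ hwx, mem_of_ptSubι_eq X x W2.1 W2.2.1 _ hwx⟩
  exact ⟨⟨W1.1 ⊓ W2.1, hne, dim_open_ptSub X x _ hne⟩, (inf_le_left : W1.1 ⊓ W2.1 ≤ W1.1),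
    (inf_le_right : W1.1 ⊓ W2.1 ≤ W2.1)⟩

/-- If the morphism between the closures is an isomorphism over a nonempty open, the datum is
bijective. -/
theorem cpt_bijective_of_isIso (V' : ptIdx X x) [IsIso ((ptMap φ y x L.maps_pt) ∣_ V'.1)]
    (M : A.Cat) (i n : ℤ) : Function.Bijective (L.cpt M i n).hom := by
  have hdim := dim_eq_of_ptPush T φ y x L
  constructor
  · rw [injective_iff_map_eq_zero]
    intro z hz
    obtain ⟨W, a0, rfl⟩ := exists_rep T (Y.ptSub y)
      (fun U => (U : Set (Y.ptSub y).scheme).Nonempty) i n M z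
    obtain ⟨W', hW'V, hW'W⟩ := exists_le_pre φ y x L.maps_pt hdim W V'
    have hpull := ocolimι_pull T (Y.ptSub y) (fun U => (U : Set (Y.ptSub y).scheme).Nonempty)
      i n M (U := W) (U' := preIdx φ y x L.maps_pt W') hW'W a0
    have hrc := relCodim_preIdx φ y x L.maps_pt hdim W'
    have key := cpt_preIdx T φ y x L M i n W' (by rw [hrc]; ring) (by rw [hrc]; ring)
      ((T.pull ((Y.ptSub y).resLE (show (preIdx φ y x L.maps_pt W').1 ≤ W.1 from hW'W)
        ((preIdx φ y x L.maps_pt W').2.2.trans W.2.2.symm)) M i n).hom a0)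
    rw [hpull] at key
    have hz' : ((T.ptι X x i n W').app M).hom
        ((T.push ((ptMap φ y x L.maps_pt) ∣_ W'.1) M i n i n (by rw [hrc]; ring)
          (by rw [hrc]; ring)).hom
          ((T.pull ((Y.ptSub y).resLE (show (preIdx φ y x L.maps_pt W').1 ≤ W.1 from hW'W)
        ((preIdx φ y x L.maps_pt W').2.2.trans W.2.2.symm)) M i n).hom a0)) = 0 :=
      key.symm.trans hz
    obtain ⟨W'', hW''W', hz''⟩ := exists_pull_eq_zero T (X.ptSub x)
      (fun U => (U : Set (X.ptSub x).scheme).Nonempty) i n M W' _ hz'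
    have hpre : (ptMap φ y x L.maps_pt) ⁻¹ᵁ W''.1 ≤ (ptMap φ y x L.maps_pt) ⁻¹ᵁ W'.1 :=
      fun _ hx => hW''W' hx
    have hpb := isPullback_restrict_gen (ptMap φ y x L.maps_pt)
      (show W''.1 ≤ W'.1 from hW''W') hpre
    have hrc'' := relCodim_preIdx φ y x L.maps_pt hdim W''
    let g : (X.ptSub x).res W''.1 ⟶ (X.ptSub x).res W'.1 :=
      (X.ptSub x).resLE (show W''.1 ≤ W'.1 from hW''W') (W''.2.2.trans W'.2.2.symm)
    let g' : (Y.ptSub y).res (preIdx φ y x L.maps_pt W'').1 ⟶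
        (Y.ptSub y).res (preIdx φ y x L.maps_pt W').1 :=
      (Y.ptSub y).resLE hpre ((preIdx φ y x L.maps_pt W'').2.2.trans
        (preIdx φ y x L.maps_pt W').2.2.symm)
    have hbc := T.push_pull (X := (Y.ptSub y).res (preIdx φ y x L.maps_pt W').1)
      (Y := (X.ptSub x).res W'.1) (X' := (Y.ptSub y).res (preIdx φ y x L.maps_pt W'').1)
      (Y' := (X.ptSub x).res W''.1)
      ((ptMap φ y x L.maps_pt) ∣_ W'.1) ((ptMap φ y x L.maps_pt) ∣_ W''.1)
      g g' hpb M i n i n (by rw [hrc]; ring) (by rw [hrc]; ring) (by rw [hrc'']; ring)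
      (by rw [hrc'']; ring)
    have hbc' := congrArg (fun ψ => ψ.hom
      ((T.pull ((Y.ptSub y).resLE (show (preIdx φ y x L.maps_pt W').1 ≤ W.1 from hW'W)
        ((preIdx φ y x L.maps_pt W').2.2.trans W.2.2.symm)) M i n).hom a0)) hbc
    simp only [ModuleCat.hom_comp, LinearMap.comp_apply] at hbc'
    have hz3 : (T.push ((ptMap φ y x L.maps_pt) ∣_ W''.1) M i n i n (by rw [hrc'']; ring)
        (by rw [hrc'']; ring)).hom ((T.pull g' M i n).hom
          ((T.pull ((Y.ptSub y).resLE (show (preIdx φ y x L.maps_pt W').1 ≤ W.1 from hW'W)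
        ((preIdx φ y x L.maps_pt W').2.2.trans W.2.2.symm)) M i n).hom a0)) = 0 :=
      hbc'.symm.trans hz''
    have : IsIso ((ptMap φ y x L.maps_pt) ∣_ W''.1) :=
      isIso_restrict_of_le (ptMap φ y x L.maps_pt)
        (show W''.1 ≤ V'.1 from fun _ hx => hW'V (hW''W' hx))
    have hinj := (push_iso_bijective T (X' := (Y.ptSub y).res (preIdx φ y x L.maps_pt W'').1)
      (Y' := (X.ptSub x).res W''.1) ((ptMap φ y x L.maps_pt) ∣_ W''.1) M i n i n
      (by rw [hrc'']; ring) (by rw [hrc'']; ring)).1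
    have hz4 := hinj (hz3.trans (map_zero _).symm)
    have hpull2 := ocolimι_pull T (Y.ptSub y) (fun U => (U : Set (Y.ptSub y).scheme).Nonempty)
      i n M (U := preIdx φ y x L.maps_pt W') (U' := preIdx φ y x L.maps_pt W'') hpre
      ((T.pull ((Y.ptSub y).resLE (show (preIdx φ y x L.maps_pt W').1 ≤ W.1 from hW'W)
        ((preIdx φ y x L.maps_pt W').2.2.trans W.2.2.symm)) M i n).hom a0)
    rw [← hpull, ← hpull2]
    exact (congrArg (fun t => ((T.ocolimι (Y.ptSub y)
      (fun U => (U : Set (Y.ptSub y).scheme).Nonempty) i n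
      (preIdx φ y x L.maps_pt W'')).app M).hom t) hz4).trans (map_zero _)
  · intro b
    obtain ⟨W1, b1, rfl⟩ := exists_rep T (X.ptSub x)
      (fun U => (U : Set (X.ptSub x).scheme).Nonempty) i n M b
    obtain ⟨W3, h31, h3V⟩ := exists_inf x W1 V'
    have hpull := ocolimι_pull T (X.ptSub x) (fun U => (U : Set (X.ptSub x).scheme).Nonempty)
      i n M (U := W1) (U' := W3) h31 b1
    have hrc := relCodim_preIdx φ y x L.maps_pt hdim W3
    have : IsIso ((ptMap φ y x L.maps_pt) ∣_ W3.1) :=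
      isIso_restrict_of_le (ptMap φ y x L.maps_pt) (show W3.1 ≤ V'.1 from h3V)
    have hsur := (push_iso_bijective T (X' := (Y.ptSub y).res (preIdx φ y x L.maps_pt W3).1)
      (Y' := (X.ptSub x).res W3.1) ((ptMap φ y x L.maps_pt) ∣_ W3.1) M i n i n
      (by rw [hrc]; ring) (by rw [hrc]; ring)).2
    obtain ⟨a1, ha1⟩ := hsur ((T.pull ((X.ptSub x).resLE (show W3.1 ≤ W1.1 from h31)
      (W3.2.2.trans W1.2.2.symm)) M i n).hom b1)
    refine ⟨((T.ptι Y y i n (preIdx φ y x L.maps_pt W3)).app M).hom a1, ?_⟩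
    rw [cpt_preIdx T φ y x L M i n W3 (by rw [hrc]; ring) (by rw [hrc]; ring) a1, ha1]
    exact hpull

end Cpt

section Gen

/-- For an integral object the reduced closure of the generic point is the whole object. -/
instance isIso_ptSubι_generic (Y : Obj V) [IsIntegral Y.scheme] :
    IsIso (Y.ptSubι (genericPoint Y.scheme)) := by
  have : Surjective (Y.ptSubι (genericPoint Y.scheme)) := by
    constructor
    rw [← Set.range_eq_univ, range_ptSubι]
    exact (genericPoint_spec Y.scheme).def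
  exact isIso_of_isClosedImmersion_of_surjective _

end Gen

section Norm

open Groth.Agent.Lib.Helper4.NormalizationField2 Groth.Agent.Lib.Helper4.Japanese2

variable (T : PreTheory V R A)

/-- A proper morphism from an integral object which is isomorphic over the closure of `w` to its
normalisation induces an isomorphism over a nonempty open of that closure. -/
theorem exists_isIso_restrict (X : Obj V) (w : X.scheme)
    [IsIntegral (X.ptSub w).scheme]
    [QuasiCompact ((X.ptSub w).scheme.fromSpecStalk (genericPoint (X.ptSub w).scheme))]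
    [QuasiSeparated ((X.ptSub w).scheme.fromSpecStalk (genericPoint (X.ptSub w).scheme))]
    (Y : Obj V) [IsIntegral Y.scheme] (e : Y.scheme ≅ Curv2.normalization (X.ptSub w).scheme)
    (φ : Y.scheme ⟶ X.scheme) [IsProper φ]
    (hφ : φ = e.hom ≫ Curv2.normalizationι (X.ptSub w).scheme ≫ X.ptSubι w)
    (hyx : φ (genericPoint Y.scheme) = w) :
    ∃ V' : ptIdx X w, IsIso ((ptMap φ (genericPoint Y.scheme) w hyx) ∣_ V'.1) := by
  obtain ⟨-, hint, hYint, hgen, hbij⟩ := props_of_iso_normalization (X.ptSub w).scheme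
    (e.hom ≫ Curv2.normalizationι (X.ptSub w).scheme) e rfl
  have hprop : IsProper (e.hom ≫ Curv2.normalizationι (X.ptSub w).scheme) := by
    have : IsProper ((e.hom ≫ Curv2.normalizationι (X.ptSub w).scheme) ≫ X.ptSubι w) := by
      rw [Category.assoc, ← hφ]; infer_instance
    exact IsProper.of_comp _ (X.ptSubι w)
  have hfin : IsFinite (e.hom ≫ Curv2.normalizationι (X.ptSub w).scheme) :=
    (IsFinite.iff_isIntegralHom_and_locallyOfFiniteType _).mpr ⟨hint, inferInstance⟩
  obtain ⟨V0, hV0, hiso⟩ := exists_open_isIso_of_finite_birational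
    (e.hom ≫ Curv2.normalizationι (X.ptSub w).scheme) hgen hbij
  refine ⟨⟨V0, hV0, dim_open_ptSub X w V0 hV0⟩, ?_⟩
  have hψ : ptMap φ (genericPoint Y.scheme) w hyx =
      Y.ptSubι (genericPoint Y.scheme) ≫ (e.hom ≫ Curv2.normalizationι (X.ptSub w).scheme) := by
    rw [← cancel_mono (X.ptSubι w), ptMap_fac, hφ]
    simp only [Category.assoc]
  show IsIso ((ptMap φ (genericPoint Y.scheme) w hyx) ∣_ V0)
  rw [hψ]
  have h0 : IsIso (Y.ptSubι (genericPoint Y.scheme)) := isIso_ptSubι_generic Y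
  exact @isIso_restrict_comp _ _ _ _ _ h0 V0 hiso

theorem cpt_bijective_normalization (X : Obj V) (w : X.scheme)
    [IsIntegral (X.ptSub w).scheme]
    [QuasiCompact ((X.ptSub w).scheme.fromSpecStalk (genericPoint (X.ptSub w).scheme))]
    [QuasiSeparated ((X.ptSub w).scheme.fromSpecStalk (genericPoint (X.ptSub w).scheme))]
    (Y : Obj V) [IsIntegral Y.scheme] (e : Y.scheme ≅ Curv2.normalization (X.ptSub w).scheme)
    (φ : Y.scheme ⟶ X.scheme) [IsProper φ]
    (hφ : φ = e.hom ≫ Curv2.normalizationι (X.ptSub w).scheme ≫ X.ptSubι w)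
    (L : T.PtPush φ (genericPoint Y.scheme) w) (M : A.Cat) (i n : ℤ) :
    Function.Bijective (L.cpt M i n).hom := by
  obtain ⟨V', hV'⟩ := exists_isIso_restrict X w Y e φ hφ L.maps_pt
  exact cpt_bijective_of_isIso T φ (genericPoint Y.scheme) w L V' M i n

end Norm

end Groth.Agent.Lib.Helper5.Misc.BMNorm
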