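import Mathlib
import Groth.Prelude.Def_BMCoh4
import Groth.Agent.Lib.Helper5.Misc.BMD1b
import Groth.Agent.Lib.Helper5.Misc.BMNorm

set_option autoImplicit false
universe u
open CategoryTheory CategoryTheory.Limits AlgebraicGeometry Opposite TopologicalSpace
open BMCoh

namespace Groth.Agent.Lib.Helper5.Misc.BMD1c

open Groth.Agent.Lib.Helper5.Misc.BMLib Groth.Agent.Lib.Helper5.Misc.BMColim
open Groth.Agent.Lib.Helper5.Misc.BMGeo Groth.Agent.Lib.Helper5.Misc.BMVan
open Groth.Agent.Lib.Helper5.Misc.BMBij Groth.Agent.Lib.Helper5.Misc.WeilGeo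
open Groth.Agent.Lib.Helper5.Misc.BMGeo2 Groth.Agent.Lib.Helper5.Misc.BMStep
open Groth.Agent.Lib.Helper5.Misc.BMFj Groth.Agent.Lib.Helper5.Misc.BMRes
open Groth.Agent.Lib.Helper5.Misc.BMStep.StepData Groth.Agent.Lib.Helper5.Misc.BMExact1
open Groth.Agent.Lib.Helper5.Misc.BMExact2 Groth.Agent.Lib.Helper5.Misc.BMUniq
open Groth.Agent.Lib.Helper5.Misc.BMAdd Groth.Agent.Lib.Helper5.Misc.BMConf
open Groth.Agent.Lib.Helper5.Misc.BMD1a Groth.Agent.Lib.Helper5.Misc.BMD1b
open Groth.Agent.Lib.Helper5.Misc.BMPt Groth.Agent.Lib.Helper5.Misc.BMNorm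

variable {V : ObjectProperty Scheme.{u}} [IsConstructible V] {R : Type u} [CommRing R]
  {A : Coefs R}

section Basic

variable (N : Obj V) [IsIntegral N.scheme]

/-- Every point of an integral object other than the generic point has a closure of smaller
dimension. -/
lemma pdim_lt_of_ne_generic (z : N.scheme) (hz : z ≠ genericPoint N.scheme) :
    WeilCoh.pdim N.scheme z < WeilCoh.pdim N.scheme (genericPoint N.scheme) := by
  apply pdim_lt_of_mem_closure_ne N _ hz
  rw [(genericPoint_spec N.scheme).def]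
  exact Set.mem_univ z

lemma pdim_generic (hη : WeilCoh.codim N.scheme (genericPoint N.scheme) = 0) :
    WeilCoh.pdim N.scheme (genericPoint N.scheme) = WeilCoh.dim N.scheme := by
  have h1 := pdim_le_dim_obj N (genericPoint N.scheme)
  unfold WeilCoh.codim at hη
  omega

end Basic

section Geo

variable {N X : Obj V} [IsIntegral N.scheme] (φ : N.scheme ⟶ X.scheme) [IsProper φ]
  (hη : WeilCoh.codim N.scheme (genericPoint N.scheme) = 0)
  (hdim : WeilCoh.pdim X.scheme (φ (genericPoint N.scheme)) = WeilCoh.dim N.scheme)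
  (q : ℕ) (hw : WeilCoh.codim X.scheme (φ (genericPoint N.scheme)) = q)
  (x : X.scheme) (hx : WeilCoh.codim X.scheme x = q + 1)

include hη hdim hw hx

/-- The closure of `x` has dimension one less than `N`. -/
lemma pdim_x_add : WeilCoh.pdim X.scheme x + 1 = WeilCoh.dim N.scheme := by
  have h1 := pdim_le_dim_obj X x
  have h2 := pdim_le_dim_obj X (φ (genericPoint N.scheme))
  unfold WeilCoh.codim at hw hx
  omega

/-- A point over `x` has codimension one. -/
lemma codim_of_map_eq (z : N.scheme) (hz : φ z = x) : WeilCoh.codim N.scheme z = 1 := by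
  have h0 := pdim_x_add φ hη hdim q hw x hx
  have h1 := pdim_map_le (Y := N) (X := X) φ φ.isClosedMap _ z rfl
  rw [hz] at h1
  have hne : z ≠ genericPoint N.scheme := by
    rintro rfl
    rw [hz] at hdim
    omega
  have h2 := pdim_lt_of_ne_generic N z hne
  have h3 := pdim_generic N hη
  unfold WeilCoh.codim
  omega

omit hη hdim hw hx in
/-- The image of `φ` contains the closure of the image of the generic point. -/
lemma exists_map_eq_of_mem_closure (x : X.scheme)
    (hxw : x ∈ closure ({φ (genericPoint N.scheme)} : Set X.scheme)) : ∃ z : N.scheme, φ z = x := by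
  have hsub : closure ({φ (genericPoint N.scheme)} : Set X.scheme) ⊆ Set.range φ := by
    apply closure_minimal
    · rw [Set.singleton_subset_iff]
      exact ⟨_, rfl⟩
    · exact φ.isClosedMap.isClosed_range
  exact hsub hxw

omit hη hdim hw hx in
lemma map_mem_closure (z : N.scheme) :
    φ z ∈ closure ({φ (genericPoint N.scheme)} : Set X.scheme) := by
  have h1 := image_closure_subset_closure_image (f := φ) (s := {genericPoint N.scheme})
    φ.continuous
  rw [Set.image_singleton] at h1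
  apply h1
  refine ⟨z, ?_, rfl⟩
  rw [(genericPoint_spec N.scheme).def]
  exact Set.mem_univ z

/-- The open complement of the closure of `x`, pulled back to `N`, contains the generic point. -/
lemma containsFj_pre_compl :
    ContainsFj N 0 (φ ⁻¹ᵁ ⟨(closure ({x} : Set X.scheme))ᶜ, isClosed_closure.isOpen_compl⟩) := by
  intro z hz
  have h3 := pdim_generic N hη
  have hzη : z = genericPoint N.scheme := by
    by_contra hne
    have h2 := pdim_lt_of_ne_generic N z hne
    have h4 := pdim_le_dim_obj N z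
    unfold WeilCoh.codim at hz
    omega
  subst hzη
  intro hcl
  have h1 := pdim_le_of_mem_closure X hcl
  have h0 := pdim_x_add φ hη hdim q hw x hx
  omega

/-- The fibre over `x` is finite. -/
lemma finite_fibre : {z : N.scheme | φ z = x}.Finite := by
  have hfin := finite_bad N 0 _ (containsFj_pre_compl φ hη hdim q hw x hx)
  refine hfin.subset ?_
  intro z hz
  refine ⟨codim_of_map_eq φ hη hdim q hw x hx z hz, ?_⟩
  intro hzU
  apply hzU
  show φ z ∈ closure ({x} : Set X.scheme)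
  rw [hz]
  exact subset_closure rfl

/-- The configuration around `x`: a step on `X` and a configuration on `N` over it. -/
structure Cfg (r : ℕ) (y : Fin (r + 1) → N.scheme)
    (W : (N.ptSub (genericPoint N.scheme)).scheme.Opens) (O O1 : X.scheme.Opens) : Prop where
  step : StepData X x O O1
  hOF : ContainsFj X q O
  conf : Conf2 N 0 r y (φ ⁻¹ᵁ O1) (φ ⁻¹ᵁ O)
  hW : (N.ptSubι (genericPoint N.scheme)) ⁻¹ᵁ (φ ⁻¹ᵁ O) ≤ W

omit hη hdim hw hx in
lemma generic_mem (W : (N.ptSub (genericPoint N.scheme)).scheme.Opens)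
    (hW : (W : Set (N.ptSub (genericPoint N.scheme)).scheme).Nonempty)
    (u : (N.ptSub (genericPoint N.scheme)).scheme) (hu : u ∉ W) :
    (N.ptSubι (genericPoint N.scheme)) u ≠ genericPoint N.scheme :=
  fun h => hu (mem_of_ptSubι_eq N _ W hW u h)

theorem exists_cfg (W : (N.ptSub (genericPoint N.scheme)).scheme.Opens)
    (hW : (W : Set (N.ptSub (genericPoint N.scheme)).scheme).Nonempty)
    (r : ℕ) (y : Fin (r + 1) → N.scheme) (hinj : Function.Injective y)
    (hy : ∀ z : N.scheme, φ z = x ↔ ∃ k, y k = z) :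
    ∃ O O1 : X.scheme.Opens, Cfg φ q x r y W O O1 := by
  have h0 := pdim_x_add φ hη hdim q hw x hx
  have hgen := pdim_generic N hη
  have hyx : ∀ k, φ (y k) = x := fun k => (hy (y k)).mpr ⟨k, rfl⟩
  have hcod : ∀ k, WeilCoh.codim N.scheme (y k) = 1 :=
    fun k => codim_of_map_eq φ hη hdim q hw x hx (y k) (hyx k)
  have hpd : ∀ k, WeilCoh.pdim N.scheme (y k) + 1 = WeilCoh.dim N.scheme := by
    intro k
    have h1 := pdim_le_dim_obj N (y k)
    have h2 := hcod k
    unfold WeilCoh.codim at h2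
    omega
  -- the closed set where the class is not defined
  let E : Set X.scheme := (N.ptSubι (genericPoint N.scheme) ≫ φ) '' ((W : Set _)ᶜ)
  have hE : IsClosed E :=
    (N.ptSubι (genericPoint N.scheme) ≫ φ).isClosedMap _ W.isOpen.isClosed_compl
  let O : X.scheme.Opens := ⟨(closure ({x} : Set X.scheme) ∪ E)ᶜ,
    (isClosed_closure.union hE).isOpen_compl⟩
  have hOF : ContainsFj X q O := by
    intro z hz
    rintro (hzx | ⟨u, hu, rfl⟩)
    · have h1 := pdim_le_of_mem_closure X hzx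
      have h2 := pdim_le_dim_obj X z
      have h3 := pdim_le_dim_obj X x
      unfold WeilCoh.codim at hz hx
      omega
    · have hne := generic_mem W hW u hu
      have h1 := pdim_lt_of_ne_generic N _ hne
      have h2 := pdim_map_le (Y := N) (X := X) φ φ.isClosedMap _
        ((N.ptSubι (genericPoint N.scheme)) u) rfl
      have h3 : (N.ptSubι (genericPoint N.scheme) ≫ φ) u =
        φ ((N.ptSubι (genericPoint N.scheme)) u) := rfl
      rw [h3] at hz
      have h4 := pdim_le_dim_obj X (φ (genericPoint N.scheme))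
      have h5 := pdim_le_dim_obj X (φ ((N.ptSubι (genericPoint N.scheme)) u))
      unfold WeilCoh.codim at hz hw
      omega
  have hxO : x ∉ O := fun h => h (Or.inl (subset_closure rfl))
  have hwO : φ (genericPoint N.scheme) ∈ O := hOF _ (le_of_eq hw)
  -- the open of `N`
  have hU1 : ContainsFj N 0 (φ ⁻¹ᵁ O) := by
    intro z hz
    have hzη : z = genericPoint N.scheme := by
      by_contra hne
      have h2 := pdim_lt_of_ne_generic N z hne
      have h4 := pdim_le_dim_obj N z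
      unfold WeilCoh.codim at hz
      omega
    subst hzη
    exact hwO
  have hdimN : ∀ k, ∀ z : N.scheme, z ∉ φ ⁻¹ᵁ O →
      WeilCoh.pdim N.scheme z ≤ WeilCoh.pdim N.scheme (y k) := by
    intro k z hz
    have hne : z ≠ genericPoint N.scheme := by
      rintro rfl
      exact hz hwO
    have h2 := pdim_lt_of_ne_generic N z hne
    have := hpd k
    omega
  have hstepN : ∀ k, ∃ G : N.scheme.Opens, φ ⁻¹ᵁ O ≤ G ∧ y k ∈ G ∧
      ∀ z ∈ G, z ∉ φ ⁻¹ᵁ O → z ∈ closure ({y k} : Set N.scheme) :=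
    fun k => exists_step_open N (φ ⁻¹ᵁ O) (y k) (hdimN k)
  choose G hGle hGy hGsub using hstepN
  let EN : Set N.scheme := ⋃ p : {p : Fin (r + 1) × Fin (r + 1) // p.1 ≠ p.2},
    closure ({y p.1.1} : Set N.scheme) ∩ closure ({y p.1.2} : Set N.scheme)
  have hEN : IsClosed EN :=
    isClosed_iUnion_of_finite fun _ => isClosed_closure.inter isClosed_closure
  have hynU : ∀ k, y k ∉ φ ⁻¹ᵁ O := by
    intro k hk
    have : φ (y k) ∈ O := hk
    rw [hyx k] at this
    exact hxO this
  have hclU : ∀ k z, z ∈ closure ({y k} : Set N.scheme) → z ∉ φ ⁻¹ᵁ O := by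
    intro k z hz hzU
    obtain ⟨w, hwU, hw'⟩ := mem_closure_iff.mp hz _ (φ ⁻¹ᵁ O).isOpen hzU
    rw [Set.mem_singleton_iff] at hw'
    exact hynU k (hw' ▸ hwU)
  have hyE : ∀ k, y k ∉ EN := by
    intro k hk
    simp only [EN, Set.mem_iUnion] at hk
    obtain ⟨⟨⟨k', l'⟩, hkl⟩, hk1, hk2⟩ := hk
    have hkey : ∀ m, y k ∈ closure ({y m} : Set N.scheme) → y k = y m := by
      intro m hm
      by_contra hne
      have := pdim_lt_of_mem_closure_ne N hm hne
      have := hpd k
      have := hpd m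
      omega
    exact hkl (hinj ((hkey k' hk1).symm.trans (hkey l' hk2)))
  let Y1' : N.scheme.Opens := (⨆ k, G k) ⊓ ⟨ENᶜ, hEN.isOpen_compl⟩
  have hUY1' : φ ⁻¹ᵁ O ≤ Y1' := by
    intro z hz
    refine ⟨Opens.mem_iSup.mpr ⟨0, hGle 0 hz⟩, ?_⟩
    intro hzE
    simp only [EN, Set.mem_iUnion] at hzE
    obtain ⟨p, hz1, -⟩ := hzE
    exact hclU _ z hz1 hz
  have hyY1' : ∀ k, y k ∈ Y1' := fun k => ⟨Opens.mem_iSup.mpr ⟨k, hGy k⟩, hyE k⟩
  -- the step on `X`
  have hdimX : ∀ z : X.scheme, z ∉ O → WeilCoh.pdim X.scheme z ≤ WeilCoh.pdim X.scheme x :=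
    fun z hz => pdim_le_of_not_mem X q hOF hx z hz
  obtain ⟨O1X, hO1Xle, hxO1X, hO1Xsub⟩ := exists_step_open X O x hdimX
  let B : Set X.scheme := φ '' ((Y1' : Set N.scheme)ᶜ)
  have hB : IsClosed B := φ.isClosedMap _ Y1'.isOpen.isClosed_compl
  have hxB : x ∉ B := by
    rintro ⟨u, hu, hux⟩
    obtain ⟨k, rfl⟩ := (hy u).mp hux
    exact hu (hyY1' k)
  have hOB : ∀ z ∈ O, z ∉ B := by
    rintro z hz ⟨u, hu, rfl⟩
    exact hu (hUY1' hz)
  let O1 : X.scheme.Opens := O1X ⊓ ⟨Bᶜ, hB.isOpen_compl⟩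
  have hle : O ≤ O1 := fun z hz => ⟨hO1Xle hz, hOB z hz⟩
  have hxO1 : x ∈ O1 := ⟨hxO1X, hxB⟩
  have hpreY1' : ∀ z : N.scheme, z ∈ φ ⁻¹ᵁ O1 → z ∈ Y1' := by
    intro z hz
    by_contra hzY
    exact hz.2 ⟨z, hzY, rfl⟩
  have hdO : WeilCoh.dim (O : Scheme.{u}) = WeilCoh.dim X.scheme := dim_of_containsFj X q O hOF
  have hdU1 : WeilCoh.dim ((φ ⁻¹ᵁ O : N.scheme.Opens) : Scheme.{u}) = WeilCoh.dim N.scheme :=
    dim_of_containsFj N 0 _ hU1
  have hpre_le : φ ⁻¹ᵁ O ≤ φ ⁻¹ᵁ O1 := fun z hz => hle hz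
  refine ⟨O, O1, ⟨hdO, hle, hxO, ⟨x, hxO1, hxO⟩, fun z hz hzO => hO1Xsub z hz.1 hzO⟩, hOF,
    ⟨hcod, hpre_le, hU1, dim_eq_of_le N hpre_le hdU1, ?_, hynU, ?_, ?_⟩, ?_⟩
  · intro k
    show φ (y k) ∈ O1
    rw [hyx k]; exact hxO1
  · intro z hz hzU
    obtain ⟨hz1, -⟩ := hpreY1' z hz
    obtain ⟨k, hk⟩ := Opens.mem_iSup.mp hz1
    exact ⟨k, hGsub k z hk hzU⟩
  · intro k l hkl z hz hzk hzl
    obtain ⟨-, hzE⟩ := hpreY1' z hz
    apply hzE
    simp only [EN, Set.mem_iUnion]
    exact ⟨⟨(k, l), hkl⟩, hzk, hzl⟩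
  · intro u hu
    by_contra huW
    exact hu (Or.inr ⟨u, huW, rfl⟩)

end Geo

end Groth.Agent.Lib.Helper5.Misc.BMD1c
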