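import Mathlib
import Groth.Prelude.Def_BMCoh4
import Groth.Agent.Lib.Helper5.Misc.BMD1c

set_option autoImplicit false
universe u
open CategoryTheory CategoryTheory.Limits AlgebraicGeometry Opposite TopologicalSpace
open BMCoh

namespace Groth.Agent.Lib.Helper5.Misc.BMD1c

open Groth.Agent.Lib.Helper5.Misc.BMLib Groth.Agent.Lib.Helper5.Misc.BMColim
open Groth.Agent.Lib.Helper5.Misc.BMGeo Groth.Agent.Lib.Helper5.Misc.BMVan
open Groth.Agent.Lib.Helper5.Misc.BMBij Groth.Agent.Lib.Helper5.Misc.WeilGeo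
open Groth.Agent.Lib.Helper5.Misc.BMGeo2 Groth.Agent.Lib.Helper5.Misc.BMStep
open Groth.Agent.Lib.Helper5.Misc.BMFj Groth.Agent.Lib.Helper5.Misc.BMRes
open Groth.Agent.Lib.Helper5.Misc.BMStep.StepData Groth.Agent.Lib.Helper5.Misc.BMExact1
open Groth.Agent.Lib.Helper5.Misc.BMExact2 Groth.Agent.Lib.Helper5.Misc.BMUniq
open Groth.Agent.Lib.Helper5.Misc.BMAdd Groth.Agent.Lib.Helper5.Misc.BMConf
open Groth.Agent.Lib.Helper5.Misc.BMD1a Groth.Agent.Lib.Helper5.Misc.BMD1b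
open Groth.Agent.Lib.Helper5.Misc.BMPt Groth.Agent.Lib.Helper5.Misc.BMNorm
open Groth.Agent.Lib.Helper5.Misc.WeilGen

variable {V : ObjectProperty Scheme.{u}} [IsConstructible V] {R : Type u} [CommRing R]
  {A : Coefs R}

section Cart

variable {N X : Obj V} [IsIntegral N.scheme] {φ : N.scheme ⟶ X.scheme} [IsProper φ]
  {q : ℕ} {x : X.scheme} {r : ℕ} {y : Fin (r + 1) → N.scheme}
  {W : (N.ptSub (genericPoint N.scheme)).scheme.Opens} {O O1 : X.scheme.Opens}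

instance isProper_restrict (O' : X.scheme.Opens) : IsProper (φ ∣_ O') :=
  AlgebraicGeometry.IsZariskiLocalAtTarget.restrict (P := @IsProper) inferInstance _

namespace Cfg

variable (c : Cfg φ q x r y W O O1)

/-- The scheme-theoretic preimage of the piece of the closure of `x`, as an object. -/
noncomputable def cartZ (_ : Cfg φ q x r y W O O1) : Obj V :=
  ⟨pullback (φ ∣_ O1) ((X.ptSubι x) ∣_ O1),
    IsConstructible.of_isClosedImmersion (pullback.fst (φ ∣_ O1) ((X.ptSubι x) ∣_ O1))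
      (h := inferInstance) (N.res (φ ⁻¹ᵁ O1)).mem⟩


include c in
lemma mem_closure_iff_not_mem (z : X.scheme) (hz : z ∈ O1) :
    z ∈ closure ({x} : Set X.scheme) ↔ z ∉ O := by
  constructor
  · intro h; exact c.step.disjoint h
  · intro h; exact c.step.sub z hz h

include c in
lemma range_cart_fst :
    Set.range (pullback.fst (φ ∣_ O1) ((X.ptSubι x) ∣_ O1)) =
      {z : ((φ ⁻¹ᵁ O1 : N.scheme.Opens) : Scheme.{u}) | z.1 ∉ φ ⁻¹ᵁ O} := by
  rw [Scheme.Pullback.range_fst, range_ptRestrict X x O1]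
  ext z
  show ((φ ∣_ O1) z).1 ∈ closure ({x} : Set X.scheme) ↔ _
  rw [morphismRestrict_base_coe]
  exact c.mem_closure_iff_not_mem (φ z.1) z.2

/-- The decomposition of the preimage of `O1` with the scheme-theoretic preimage as closed part. -/
noncomputable def cart : Decomp (N.res (φ ⁻¹ᵁ O1)) where
  Z := c.cartZ
  U := N.res (φ ⁻¹ᵁ O)
  i := pullback.fst (φ ∣_ O1) ((X.ptSubι x) ∣_ O1)
  closedImm := (inferInstance : IsClosedImmersion (pullback.fst (φ ∣_ O1) ((X.ptSubι x) ∣_ O1)))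
  j := N.resLE c.conf.le (c.conf.hdU.trans c.conf.hdY.symm)
  range_eq := by
    have h1 : Set.range c.conf.decomp.j.hom = {z | z.1 ∉ φ ⁻¹ᵁ O}ᶜ :=
      c.conf.decomp.range_eq.trans (congrArg _ c.conf.range_decomp_i)
    exact h1.trans (congrArg _ c.range_cart_fst.symm)

lemma cart_i : c.cart.i = pullback.fst (φ ∣_ O1) ((X.ptSubι x) ∣_ O1) := rfl

lemma range_cart_i :
    Set.range c.cart.i = {z : ((φ ⁻¹ᵁ O1 : N.scheme.Opens) : Scheme.{u}) | z.1 ∉ φ ⁻¹ᵁ O} :=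
  c.range_cart_fst

/-- The induced proper map between the closed parts. -/
noncomputable def fZ : c.cart.Z.scheme ⟶ ((X.ptSub x).res ((X.ptSubι x) ⁻¹ᵁ O1)).scheme :=
  pullback.snd (φ ∣_ O1) ((X.ptSubι x) ∣_ O1)

instance : IsProper c.fZ :=
  (inferInstance : IsProper (pullback.snd (φ ∣_ O1) ((X.ptSubι x) ∣_ O1)))

lemma isPullback_Z : IsPullback c.cart.i c.fZ (φ ∣_ O1) ((X.ptSubι x) ∣_ O1) :=
  IsPullback.of_hasPullback (φ ∣_ O1) ((X.ptSubι x) ∣_ O1)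

lemma isPullback_U : IsPullback (N.scheme.homOfLE c.conf.le) (φ ∣_ O) (φ ∣_ O1)
    (X.scheme.homOfLE c.step.le) :=
  isPullback_restrict_gen φ c.step.le c.conf.le

lemma ker_le : c.cart.i.ker ≤ c.conf.decomp.i.ker := by
  show c.cart.i.ker ≤ (Scheme.IdealSheafData.vanishingIdeal c.conf.C).subschemeι.ker
  rw [Scheme.IdealSheafData.ker_subschemeι,
    ← Scheme.IdealSheafData.le_support_iff_le_vanishingIdeal]
  intro z hz
  show z ∈ (c.cart.i.ker.support : Set _)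
  rw [Scheme.Hom.support_ker]
  apply subset_closure
  rw [c.range_cart_i]
  exact hz

/-- The reduced closed part maps to the scheme-theoretic preimage. -/
noncomputable def kk : c.conf.decomp.Z.scheme ⟶ c.cart.Z.scheme :=
  IsClosedImmersion.lift c.cart.i c.conf.decomp.i c.ker_le

lemma kk_fac : c.kk ≫ c.cart.i = c.conf.decomp.i :=
  IsClosedImmersion.lift_fac _ _ _

instance : IsClosedImmersion c.kk := by
  have : IsClosedImmersion (c.kk ≫ c.cart.i) := by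
    rw [kk_fac]; infer_instance
  exact IsClosedImmersion.of_comp c.kk c.cart.i

instance : Surjective c.kk := by
  constructor
  intro z
  have hz : c.cart.i z ∈ Set.range c.cart.i := ⟨z, rfl⟩
  rw [c.range_cart_i, ← c.conf.range_decomp_i] at hz
  obtain ⟨u, hu⟩ := hz
  refine ⟨u, ?_⟩
  apply c.cart.i.isClosedEmbedding.injective
  rw [← hu]
  exact congrArg (fun g => g.base u) c.kk_fac

lemma dim_cart_Z : WeilCoh.dim c.cart.Z.scheme = WeilCoh.dim c.conf.decomp.Z.scheme := by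
  rw [dim_eq_natDim_range c.cart.i, dim_eq_natDim_range c.conf.decomp.i]
  exact natDim_congr (c.range_cart_i.trans c.conf.range_decomp_i.symm)

/-- The test morphism from the piece of the closure of `y k` to the piece of the closure of `x`. -/
noncomputable def gk (k : Fin (r + 1)) :
    ((N.ptSub (y k)).res ((N.ptSubι (y k)) ⁻¹ᵁ (φ ⁻¹ᵁ O1))).scheme ⟶
      ((X.ptSub x).res ((X.ptSubι x) ⁻¹ᵁ O1)).scheme :=
  (c.conf.pieceHom k).hom ≫ c.kk ≫ c.fZ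

instance (k : Fin (r + 1)) : IsProper (c.gk k) := by
  unfold gk
  infer_instance

lemma gk_fac (k : Fin (r + 1)) :
    c.gk k ≫ ((X.ptSubι x) ⁻¹ᵁ O1).ι ≫ X.ptSubι x =
      ((N.ptSubι (y k)) ⁻¹ᵁ (φ ⁻¹ᵁ O1)).ι ≫ N.ptSubι (y k) ≫ φ := by
  have h1 : c.fZ ≫ ((X.ptSubι x) ∣_ O1) = c.cart.i ≫ (φ ∣_ O1) := c.isPullback_Z.w.symm
  calc c.gk k ≫ ((X.ptSubι x) ⁻¹ᵁ O1).ι ≫ X.ptSubι x
      = c.gk k ≫ ((X.ptSubι x) ∣_ O1) ≫ O1.ι := by rw [morphismRestrict_ι]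
    _ = (c.conf.pieceHom k).hom ≫ c.kk ≫ (c.fZ ≫ ((X.ptSubι x) ∣_ O1)) ≫ O1.ι := by
        unfold gk; simp only [Category.assoc]
    _ = (c.conf.pieceHom k).hom ≫ (c.kk ≫ c.cart.i) ≫ (φ ∣_ O1) ≫ O1.ι := by
        rw [h1]; simp only [Category.assoc]
    _ = ((c.conf.pieceHom k).hom ≫ c.conf.decomp.i) ≫ (φ ∣_ O1) ≫ O1.ι := by
        rw [c.kk_fac]; simp only [Category.assoc]
    _ = ((N.ptSubι (y k)) ∣_ (φ ⁻¹ᵁ O1)) ≫ (φ ⁻¹ᵁ O1).ι ≫ φ := by
        rw [c.conf.pieceHom_fac k, morphismRestrict_ι]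
    _ = ((N.ptSubι (y k)) ⁻¹ᵁ (φ ⁻¹ᵁ O1)).ι ≫ N.ptSubι (y k) ≫ φ := by
        rw [← Category.assoc, morphismRestrict_ι, Category.assoc]

end Cfg

end Cart

section Num

variable {N X : Obj V} [IsIntegral N.scheme] {φ : N.scheme ⟶ X.scheme} [IsProper φ]
  {q : ℕ} {x : X.scheme} {r : ℕ} {y : Fin (r + 1) → N.scheme}
  {W : (N.ptSub (genericPoint N.scheme)).scheme.Opens} {O O1 : X.scheme.Opens}
  (c : Cfg φ q x r y W O O1)
  (hx : WeilCoh.codim X.scheme x = q + 1)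
  (hpx : WeilCoh.pdim X.scheme x + 1 = WeilCoh.dim N.scheme)

namespace Cfg

include c hx in
lemma rc_stepZ : relCodim ((X.ptSub x).res ((X.ptSubι x) ⁻¹ᵁ O1)).scheme (X.res O1).scheme =
    (q : ℤ) + 1 :=
  (c.step.relCodim_decomp).trans (codim_cast X q hx)

lemma rc_confZ : relCodim c.conf.decomp.Z.scheme (N.res (φ ⁻¹ᵁ O1)).scheme = 1 := by
  have := c.conf.relCodim_decomp
  simpa using this

lemma rc_cartZ : relCodim c.cart.Z.scheme (N.res (φ ⁻¹ᵁ O1)).scheme = 1 := by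
  have h1 := c.rc_confZ
  unfold relCodim at h1 ⊢
  rw [c.dim_cart_Z]
  exact h1

lemma rc_kk : relCodim c.conf.decomp.Z.scheme c.cart.Z.scheme = 0 :=
  relCodim_of_dim_eq c.dim_cart_Z.symm

include hpx in
lemma dim_confZ : WeilCoh.dim c.conf.decomp.Z.scheme =
    WeilCoh.dim ((X.ptSub x).res ((X.ptSubι x) ⁻¹ᵁ O1)).scheme := by
  have h1 := c.conf.dim_decomp_Z 0
  have h2 := c.conf.pdim_add 0
  have h3 : WeilCoh.dim ((X.ptSub x).res ((X.ptSubι x) ⁻¹ᵁ O1)).scheme =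
    WeilCoh.pdim X.scheme x := c.step.dim_pre
  omega

include hpx in
lemma rc_kfZ : relCodim c.conf.decomp.Z.scheme
    ((X.ptSub x).res ((X.ptSubι x) ⁻¹ᵁ O1)).scheme = 0 :=
  relCodim_of_dim_eq (c.dim_confZ hpx)

include hpx in
lemma rc_fZ : relCodim c.cart.Z.scheme ((X.ptSub x).res ((X.ptSubι x) ⁻¹ᵁ O1)).scheme = 0 :=
  relCodim_of_dim_eq (c.dim_cart_Z.trans (c.dim_confZ hpx))

lemma rc_piece (k : Fin (r + 1)) :
    relCodim ((N.ptSub (y k)).res ((N.ptSubι (y k)) ⁻¹ᵁ (φ ⁻¹ᵁ O1))).scheme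
      c.conf.decomp.Z.scheme = 0 := c.conf.relCodim_piece k

include c hpx in
lemma rc_gk (k : Fin (r + 1)) :
    relCodim ((N.ptSub (y k)).res ((N.ptSubι (y k)) ⁻¹ᵁ (φ ⁻¹ᵁ O1))).scheme
      ((X.ptSub x).res ((X.ptSubι x) ⁻¹ᵁ O1)).scheme = 0 := by
  have h1 := c.rc_piece k
  have h2 := c.rc_kfZ hpx
  unfold relCodim at h1 h2 ⊢
  omega

omit [IsIntegral N.scheme] in
include hx hpx in
lemma _root_.Groth.Agent.Lib.Helper5.Misc.BMD1c.dim_X_eq :
    WeilCoh.dim X.scheme = WeilCoh.dim N.scheme + q := by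
  have h1 := pdim_le_dim_obj X x
  unfold WeilCoh.codim at hx
  omega

include c hx hpx in
lemma rc_U : relCodim (N.res (φ ⁻¹ᵁ O)).scheme (X.res O).scheme = (q : ℤ) := by
  unfold relCodim
  have h1 : WeilCoh.dim (X.res O).scheme = WeilCoh.dim X.scheme := c.step.hO
  have h2 : WeilCoh.dim (N.res (φ ⁻¹ᵁ O)).scheme = WeilCoh.dim N.scheme := c.conf.hdU
  have h3 := dim_X_eq hx hpx
  rw [h1, h2, h3]
  push_cast
  ring

end Cfg

end Num

section Compat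

variable (T : PreTheory V R A)
  (hred : ∀ (S : BMCoh.Obj V) (D D'' : BMCoh.Decomp S) (gU : D''.U ⟶ D.U)
      (k : D''.Z.scheme ⟶ D.Z.scheme) [IsClosedImmersion k] [AlgebraicGeometry.Surjective k],
      gU ≫ D.j = D''.j → k ≫ D.i = D''.i →
      ∀ (M : A.Cat) (i n i' n' : ℤ) (hi : i' = i + 1 - 2 * D.codim) (hn : n' = n - D.codim)
        (hi'' : i' = i + 1 - 2 * D''.codim) (hn'' : n' = n - D''.codim)
        (hk : i' = i' + 2 * BMCoh.relCodim D''.Z.scheme D.Z.scheme)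
        (hk' : n' = n' + BMCoh.relCodim D''.Z.scheme D.Z.scheme),
      T.pull gU M i n ≫ T.res D'' M i n i' n' hi'' hn'' ≫ T.push k M i' n' i' n' hk hk' =
        T.res D M i n i' n' hi hn)
  {N X : Obj V} [IsIntegral N.scheme] {φ : N.scheme ⟶ X.scheme} [IsProper φ]
  {q : ℕ} {x : X.scheme} {r : ℕ} {y : Fin (r + 1) → N.scheme}
  {W : (N.ptSub (genericPoint N.scheme)).scheme.Opens} {O O1 : X.scheme.Opens}
  (c : Cfg φ q x r y W O O1)
  (hx : WeilCoh.codim X.scheme x = q + 1)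
  (hpx : WeilCoh.pdim X.scheme x + 1 = WeilCoh.dim N.scheme)

include hred hpx in
/-- The residue of the push-forward is the sum of the push-forwards of the residues on the pieces
above. -/
theorem Cfg.res_push_eq (M : A.Cat) (i n i₁ n₁ i₂ n₂ : ℤ)
    (α : T.gp (N.res (φ ⁻¹ᵁ O)) M i n)
    (hpU : i₁ = i + 2 * relCodim (N.res (φ ⁻¹ᵁ O)).scheme (X.res O).scheme)
    (hpU' : n₁ = n + relCodim (N.res (φ ⁻¹ᵁ O)).scheme (X.res O).scheme)
    (hrD : i₂ = i₁ + 1 - 2 * c.step.decomp.codim) (hrD' : n₂ = n₁ - c.step.decomp.codim)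
    (hrC : i₂ = i + 1 - 2 * c.conf.decomp.codim) (hrC' : n₂ = n - c.conf.decomp.codim)
    (hg : ∀ k, i₂ = i₂ + 2 * relCodim
      ((N.ptSub (y k)).res ((N.ptSubι (y k)) ⁻¹ᵁ (φ ⁻¹ᵁ O1))).scheme
      ((X.ptSub x).res ((X.ptSubι x) ⁻¹ᵁ O1)).scheme)
    (hg' : ∀ k, n₂ = n₂ + relCodim
      ((N.ptSub (y k)).res ((N.ptSubι (y k)) ⁻¹ᵁ (φ ⁻¹ᵁ O1))).scheme
      ((X.ptSub x).res ((X.ptSubι x) ⁻¹ᵁ O1)).scheme) :
    (T.res c.step.decomp M i₁ n₁ i₂ n₂ hrD hrD').hom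
      ((T.push (X := N.res (φ ⁻¹ᵁ O)) (Y := X.res O) (φ ∣_ O) M i n i₁ n₁ hpU hpU').hom α) =
    ∑ k, (T.push (X := (N.ptSub (y k)).res ((N.ptSubι (y k)) ⁻¹ᵁ (φ ⁻¹ᵁ O1)))
        (Y := (X.ptSub x).res ((X.ptSubι x) ⁻¹ᵁ O1)) (c.gk k) M i₂ n₂ i₂ n₂ (hg k) (hg' k)).hom
      ((T.pull (c.conf.pieceHom k) M i₂ n₂).hom
        ((T.res c.conf.decomp M i n i₂ n₂ hrC hrC').hom α)) := by
  have e_cartZ := c.rc_cartZ
  have e_kk := c.rc_kk
  have e_fZ := c.rc_fZ hpx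
  have e_kfZ := c.rc_kfZ hpx
  have e_piece := c.rc_piece
  have e_conf := c.rc_confZ
  have hcc : c.conf.decomp.codim = 1 := e_conf
  have hrC1 : i₂ = i + 1 - 2 * 1 := hrC.trans (by rw [hcc])
  have hrC1' : n₂ = n - 1 := hrC'.trans (by rw [hcc])
  have hfZ : @IsProper c.cart.Z.scheme c.step.decomp.Z.scheme c.fZ :=
    (inferInstance : IsProper c.fZ)
  have hfU : @IsProper c.cart.U.scheme c.step.decomp.U.scheme (φ ∣_ O) :=
    (inferInstance : IsProper (φ ∣_ O))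
  have hiA : i₂ = i + 1 - 2 * c.cart.codim := by
    show i₂ = i + 1 - 2 * relCodim c.cart.Z.scheme (N.res (φ ⁻¹ᵁ O1)).scheme
    rw [e_cartZ]; exact hrC1
  have hnA : n₂ = n - c.cart.codim := by
    show n₂ = n - relCodim c.cart.Z.scheme (N.res (φ ⁻¹ᵁ O1)).scheme
    rw [e_cartZ]; exact hrC1'
  have hiF : i₂ = i₂ + 2 * relCodim c.cart.Z.scheme
      ((X.ptSub x).res ((X.ptSubι x) ⁻¹ᵁ O1)).scheme := by rw [e_fZ]; ring
  have hnF : n₂ = n₂ + relCodim c.cart.Z.scheme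
      ((X.ptSub x).res ((X.ptSubι x) ⁻¹ᵁ O1)).scheme := by rw [e_fZ]; ring
  have hiK : i₂ = i₂ + 2 * relCodim c.conf.decomp.Z.scheme c.cart.Z.scheme := by
    rw [e_kk]; ring
  have hnK : n₂ = n₂ + relCodim c.conf.decomp.Z.scheme c.cart.Z.scheme := by
    rw [e_kk]; ring
  have hiKF : i₂ = i₂ + 2 * relCodim c.conf.decomp.Z.scheme
      ((X.ptSub x).res ((X.ptSubι x) ⁻¹ᵁ O1)).scheme := by rw [e_kfZ]; ring
  have hnKF : n₂ = n₂ + relCodim c.conf.decomp.Z.scheme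
      ((X.ptSub x).res ((X.ptSubι x) ⁻¹ᵁ O1)).scheme := by rw [e_kfZ]; ring
  have hiP : ∀ k, i₂ = i₂ + 2 * relCodim
      ((N.ptSub (y k)).res ((N.ptSubι (y k)) ⁻¹ᵁ (φ ⁻¹ᵁ O1))).scheme c.conf.decomp.Z.scheme :=
    fun k => by rw [e_piece k]; ring
  have hnP : ∀ k, n₂ = n₂ + relCodim
      ((N.ptSub (y k)).res ((N.ptSubι (y k)) ⁻¹ᵁ (φ ⁻¹ᵁ O1))).scheme c.conf.decomp.Z.scheme :=
    fun k => by rw [e_piece k]; ring
  -- step 1: residues commute with proper push-forward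
  have step1 := T.res_push c.step.decomp c.cart (φ ∣_ O1) c.fZ (φ ∣_ O) c.isPullback_Z
    c.isPullback_U M i n i₂ n₂ i₁ n₁ i₂ n₂ hiA hnA hpU hpU' hiF hnF hrD hrD'
  -- step 2: the reduced structure
  have step2 := hred (N.res (φ ⁻¹ᵁ O1)) c.cart c.conf.decomp (𝟙 (N.res (φ ⁻¹ᵁ O))) c.kk
    (Category.id_comp _) c.kk_fac M i n i₂ n₂ hiA hnA hrC hrC' hiK hnK
  -- step 3: composite push-forward
  have step3 := T.push_comp (X := c.conf.decomp.Z) (Y := c.cart.Z)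
    (Z := (X.ptSub x).res ((X.ptSubι x) ⁻¹ᵁ O1)) c.kk c.fZ M i₂ n₂ i₂ n₂ i₂ n₂ hiK hnK hiF hnF
    hiKF hnKF
  -- the class on the reduced closed part
  let β : T.gp c.conf.decomp.Z M i₂ n₂ := (T.res c.conf.decomp M i n i₂ n₂ hrC hrC').hom α
  have s1 := congrArg (fun g => g.hom α) step1
  have s2 := congrArg (fun g => g.hom α) step2
  simp only [ModuleCat.hom_comp, LinearMap.comp_apply] at s1 s2
  have e1 : (T.pull (𝟙 (N.res (φ ⁻¹ᵁ O))) M i n).hom α = α := pull_id_apply T _ M i n α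
  have s3 := congrArg (fun g => g.hom β) step3
  simp only [ModuleCat.hom_comp, LinearMap.comp_apply] at s3
  -- additivity
  have hadd := sum_push_pull T r c.conf.decomp.Z
    (fun k => (N.ptSub (y k)).res ((N.ptSubι (y k)) ⁻¹ᵁ (φ ⁻¹ᵁ O1))) (fun k => c.conf.pieceHom k)
    (fun k l hkl a b => c.conf.pieceHom_disj k l hkl a b) c.conf.pieceHom_cov M i₂ n₂
    hiP hnP β
  have step5 : ∀ k, (T.push (X := c.conf.decomp.Z) (Y := (X.ptSub x).res ((X.ptSubι x) ⁻¹ᵁ O1))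
        (c.kk ≫ c.fZ) M i₂ n₂ i₂ n₂ hiKF hnKF).hom
      ((T.push (c.conf.pieceHom k).hom M i₂ n₂ i₂ n₂ (hiP k) (hnP k)).hom
        ((T.pull (c.conf.pieceHom k) M i₂ n₂).hom β)) =
      (T.push (X := (N.ptSub (y k)).res ((N.ptSubι (y k)) ⁻¹ᵁ (φ ⁻¹ᵁ O1)))
        (Y := (X.ptSub x).res ((X.ptSubι x) ⁻¹ᵁ O1)) (c.gk k) M i₂ n₂ i₂ n₂ (hg k) (hg' k)).hom
      ((T.pull (c.conf.pieceHom k) M i₂ n₂).hom β) := by
    intro k
    have hc := T.push_comp (X := (N.ptSub (y k)).res ((N.ptSubι (y k)) ⁻¹ᵁ (φ ⁻¹ᵁ O1)))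
      (Y := c.conf.decomp.Z) (Z := (X.ptSub x).res ((X.ptSubι x) ⁻¹ᵁ O1))
      (c.conf.pieceHom k).hom (c.kk ≫ c.fZ) M i₂ n₂ i₂ n₂ i₂ n₂
      (hiP k) (hnP k) hiKF hnKF (hg k) (hg' k)
    exact congrArg (fun g => g.hom ((T.pull (c.conf.pieceHom k) M i₂ n₂).hom β)) hc
  -- assemble
  have s2' : (T.res c.cart M i n i₂ n₂ hiA hnA).hom α =
      (T.push (X := c.conf.decomp.Z) (Y := c.cart.Z) c.kk M i₂ n₂ i₂ n₂ hiK hnK).hom β := by
    refine s2.symm.trans ?_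
    exact congrArg (fun t => (T.push (X := c.conf.decomp.Z) (Y := c.cart.Z) c.kk M i₂ n₂ i₂ n₂
      hiK hnK).hom ((T.res c.conf.decomp M i n i₂ n₂ hrC hrC').hom t)) e1
  refine s1.symm.trans ?_
  refine (congrArg (fun t => (T.push (X := c.cart.Z)
    (Y := (X.ptSub x).res ((X.ptSubι x) ⁻¹ᵁ O1)) c.fZ M i₂ n₂ i₂ n₂ hiF hnF).hom t) s2').trans ?_
  refine s3.trans ?_
  refine (congrArg (fun t => (T.push (X := c.conf.decomp.Z)
    (Y := (X.ptSub x).res ((X.ptSubι x) ⁻¹ᵁ O1)) (c.kk ≫ c.fZ) M i₂ n₂ i₂ n₂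
    hiKF hnKF).hom t) hadd).trans ?_
  rw [map_sum]
  exact Finset.sum_congr rfl (fun k _ => step5 k)

end Compat

end Groth.Agent.Lib.Helper5.Misc.BMD1c
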