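import Mathlib
import Groth.Prelude.Def_BMCoh4
import Groth.Agent.Lib.Helper5.Misc.BMD1d

set_option autoImplicit false
universe u
open CategoryTheory CategoryTheory.Limits AlgebraicGeometry Opposite TopologicalSpace
open BMCoh

namespace Groth.Agent.Lib.Helper5.Misc.BMD1c

open Groth.Agent.Lib.Helper5.Misc.BMLib Groth.Agent.Lib.Helper5.Misc.BMColim
open Groth.Agent.Lib.Helper5.Misc.BMGeo Groth.Agent.Lib.Helper5.Misc.BMVan
open Groth.Agent.Lib.Helper5.Misc.BMBij Groth.Agent.Lib.Helper5.Misc.WeilGeo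
open Groth.Agent.Lib.Helper5.Misc.BMGeo2 Groth.Agent.Lib.Helper5.Misc.BMStep
open Groth.Agent.Lib.Helper5.Misc.BMFj Groth.Agent.Lib.Helper5.Misc.BMRes
open Groth.Agent.Lib.Helper5.Misc.BMStep.StepData Groth.Agent.Lib.Helper5.Misc.BMExact1
open Groth.Agent.Lib.Helper5.Misc.BMExact2 Groth.Agent.Lib.Helper5.Misc.BMUniq
open Groth.Agent.Lib.Helper5.Misc.BMAdd Groth.Agent.Lib.Helper5.Misc.BMConf
open Groth.Agent.Lib.Helper5.Misc.BMD1a Groth.Agent.Lib.Helper5.Misc.BMD1b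
open Groth.Agent.Lib.Helper5.Misc.BMPt Groth.Agent.Lib.Helper5.Misc.BMNorm
open Groth.Agent.Lib.Helper5.Misc.WeilGen

variable {V : ObjectProperty Scheme.{u}} [IsConstructible V] {R : Type u} [CommRing R]
  {A : Coefs R}

section Sch

lemma isIso_homOfLE_of_eq {S : Scheme.{u}} {U U' : S.Opens} (h : U = U') :
    IsIso (S.homOfLE (le_of_eq h)) := by
  subst h
  rw [Scheme.homOfLE_rfl]
  infer_instance

end Sch

section Alpha

variable (T : PreTheory V R A)
  {N X : Obj V} [IsIntegral N.scheme] {φ : N.scheme ⟶ X.scheme} [IsProper φ]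
  {q : ℕ} {x : X.scheme} {r : ℕ} {y : Fin (r + 1) → N.scheme}
  {O O1 : X.scheme.Opens}
  (w : X.cdPt q) (L : T.PtPush φ (genericPoint N.scheme) w.1)
  (Wa : ptIdx N (genericPoint N.scheme))
  (c : Cfg φ q x r y Wa.1 O O1)
  (hx : WeilCoh.codim X.scheme x = q + 1)
  (hpx : WeilCoh.pdim X.scheme x + 1 = WeilCoh.dim N.scheme)
  (hη : WeilCoh.codim N.scheme (genericPoint N.scheme) = 0)

include c L in
lemma w_mem_O : w.1 ∈ O := c.hOF w.1 (le_of_eq w.2)

include c L in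
lemma nonempty_Ww : ((((X.ptSubι w.1) ⁻¹ᵁ O : (X.ptSub w.1).scheme.Opens)) :
    Set (X.ptSub w.1).scheme).Nonempty := by
  obtain ⟨u, hu⟩ := exists_generic X w.1
  exact ⟨u, by show (X.ptSubι w.1) u ∈ O; rw [hu]; exact w_mem_O T w L Wa c⟩

/-- The open of the closure of `w` cut out by `O`. -/
noncomputable abbrev Cfg.Ww (c : Cfg φ q x r y Wa.1 O O1) (w : X.cdPt q)
    (L : T.PtPush φ (genericPoint N.scheme) w.1) : ptIdx X w.1 :=
  ⟨(X.ptSubι w.1) ⁻¹ᵁ O, nonempty_Ww T w L Wa c,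
    dim_open_ptSub X w.1 _ (nonempty_Ww T w L Wa c)⟩

lemma Cfg.Ww_val : (c.Ww T Wa w L).1 = (X.ptSubι w.1) ⁻¹ᵁ O := rfl

/-- The two descriptions of the open of the closure of the generic point over `O`. -/
lemma Cfg.pre_eq :
    (preIdx φ (genericPoint N.scheme) w.1 L.maps_pt (c.Ww T Wa w L)).1 =
      (N.ptSubι (genericPoint N.scheme)) ⁻¹ᵁ (φ ⁻¹ᵁ O) := by
  ext u
  show (X.ptSubι w.1) ((ptMap φ (genericPoint N.scheme) w.1 L.maps_pt) u) ∈ O ↔
    φ ((N.ptSubι (genericPoint N.scheme)) u) ∈ O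
  have := congrArg (fun g => g u) (congrArg (fun g => (g.base : _ → _))
    (ptMap_fac φ (genericPoint N.scheme) w.1 L.maps_pt))
  simp only [Scheme.Hom.comp_base, TopCat.hom_comp, ContinuousMap.comp_apply] at this
  rw [this]

/-- The proper map from the open of the closure of the generic point to the open of `N`. -/
noncomputable def Cfg.fη (c : Cfg φ q x r y Wa.1 O O1) (w : X.cdPt q)
    (L : T.PtPush φ (genericPoint N.scheme) w.1) :
    ((N.ptSub (genericPoint N.scheme)).res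
      (preIdx φ (genericPoint N.scheme) w.1 L.maps_pt (c.Ww T Wa w L)).1).scheme ⟶
      (N.res (φ ⁻¹ᵁ O)).scheme :=
  (N.ptSub (genericPoint N.scheme)).scheme.homOfLE (le_of_eq (c.pre_eq T w L Wa)) ≫
    ((N.ptSubι (genericPoint N.scheme)) ∣_ (φ ⁻¹ᵁ O))

instance : IsProper (c.fη T Wa w L) := by
  have := isIso_homOfLE_of_eq (c.pre_eq T w L Wa)
  unfold Cfg.fη
  infer_instance

lemma Cfg.fη_fac : c.fη T Wa w L ≫ (φ ⁻¹ᵁ O).ι =
    (preIdx φ (genericPoint N.scheme) w.1 L.maps_pt (c.Ww T Wa w L)).1.ι ≫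
      N.ptSubι (genericPoint N.scheme) := by
  unfold Cfg.fη
  rw [Category.assoc, morphismRestrict_ι, Scheme.homOfLE_ι_assoc]

lemma Cfg.fη_comm : c.fη T Wa w L ≫ (φ ∣_ O) =
    ((ptMap φ (genericPoint N.scheme) w.1 L.maps_pt) ∣_ (c.Ww T Wa w L).1) ≫
      ((X.ptSubι w.1) ∣_ O) := by
  rw [← cancel_mono O.ι]
  simp only [Category.assoc]
  rw [morphismRestrict_ι, reassoc_of% (c.fη_fac T w L Wa), morphismRestrict_ι]
  rw [← ptMap_fac φ (genericPoint N.scheme) w.1 L.maps_pt, morphismRestrict_ι_assoc]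

include hx hpx hη in
/-- The class on the open of `N` defined by a representative of a class of the generic point, and
its two uses. -/
theorem Cfg.exists_alpha (P : T.PushData X q) (P' : T.PushData N 0) (M : A.Cat)
    (i n i₁ n₁ i₃ n₃ : ℤ) (h1 : i₁ = i + 2 * (q : ℤ)) (h1' : n₁ = n + (q : ℤ))
    (h3 : i₃ = i + 2 * ((0 : ℕ) : ℤ)) (h3' : n₃ = n + ((0 : ℕ) : ℤ))
    (a0 : T.gp ((N.ptSub (genericPoint N.scheme)).res Wa.1) M i n)
    (hpU : i₁ = i₃ + 2 * relCodim (N.res (φ ⁻¹ᵁ O)).scheme (X.res O).scheme)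
    (hpU' : n₁ = n₃ + relCodim (N.res (φ ⁻¹ᵁ O)).scheme (X.res O).scheme) :
    ∃ α : T.gp (N.res (φ ⁻¹ᵁ O)) M i₃ n₃,
      (P'.cpt ⟨genericPoint N.scheme, hη⟩ M i n i₃ n₃ h3 h3').hom
        (((T.ptι N (genericPoint N.scheme) i n Wa).app M).hom a0) =
        ((T.fjι N 0 i₃ n₃ ⟨φ ⁻¹ᵁ O, c.conf.hU, c.conf.hdU⟩).app M).hom α ∧
      (P.cpt w M i n i₁ n₁ h1 h1').hom ((L.cpt M i n).hom
        (((T.ptι N (genericPoint N.scheme) i n Wa).app M).hom a0)) =
        ((T.fjι X q i₁ n₁ ⟨O, c.hOF, c.step.hO⟩).app M).hom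
          ((T.push (X := N.res (φ ⁻¹ᵁ O)) (Y := X.res O) (φ ∣_ O) M i₃ n₃ i₁ n₁ hpU hpU').hom α) := by
  have hdimL := dim_eq_of_ptPush T φ (genericPoint N.scheme) w.1 L
  have rc0 := relCodim_preIdx φ (genericPoint N.scheme) w.1 L.maps_pt hdimL (c.Ww T Wa w L)
  have rcWO : relCodim ((X.ptSub w.1).res ((X.ptSubι w.1) ⁻¹ᵁ O)).scheme (X.res O).scheme =
      (q : ℤ) := by
    rw [relCodim_pre X w.1 O c.step.hO (nonempty_Ww T w L Wa c)]
    have h1 := pdim_le_dim_obj X w.1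
    have h2 := w.2
    unfold WeilCoh.codim at h2
    omega
  have rcη : relCodim ((N.ptSub (genericPoint N.scheme)).res
      (preIdx φ (genericPoint N.scheme) w.1 L.maps_pt (c.Ww T Wa w L)).1).scheme
      (N.res (φ ⁻¹ᵁ O)).scheme = 0 := by
    apply relCodim_of_dim_eq
    have h1 : WeilCoh.dim ((N.ptSub (genericPoint N.scheme)).res
      (preIdx φ (genericPoint N.scheme) w.1 L.maps_pt (c.Ww T Wa w L)).1).scheme =
      WeilCoh.dim (N.ptSub (genericPoint N.scheme)).scheme :=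
      (preIdx φ (genericPoint N.scheme) w.1 L.maps_pt (c.Ww T Wa w L)).2.2
    have h2 : WeilCoh.dim (N.res (φ ⁻¹ᵁ O)).scheme = WeilCoh.dim N.scheme := c.conf.hdU
    rw [h1, h2, dim_ptSub, pdim_generic N hη]
  have rcU := c.rc_U hx hpx
  have rcηO : relCodim ((N.ptSub (genericPoint N.scheme)).res
      (preIdx φ (genericPoint N.scheme) w.1 L.maps_pt (c.Ww T Wa w L)).1).scheme
      (X.res O).scheme = (q : ℤ) := by
    unfold relCodim at rcη rcU ⊢
    omega
  -- the class restricted to the small open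
  have hle : preIdx φ (genericPoint N.scheme) w.1 L.maps_pt (c.Ww T Wa w L) ≤ Wa := by
    show (preIdx φ (genericPoint N.scheme) w.1 L.maps_pt (c.Ww T Wa w L)).1 ≤ Wa.1
    rw [c.pre_eq T w L Wa]
    exact c.hW
  let a1 : T.gp ((N.ptSub (genericPoint N.scheme)).res
      (preIdx φ (genericPoint N.scheme) w.1 L.maps_pt (c.Ww T Wa w L)).1) M i n :=
    (T.pull ((N.ptSub (genericPoint N.scheme)).resLE
      (show (preIdx φ (genericPoint N.scheme) w.1 L.maps_pt (c.Ww T Wa w L)).1 ≤ Wa.1 from hle)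
      ((preIdx φ (genericPoint N.scheme) w.1 L.maps_pt (c.Ww T Wa w L)).2.2.trans
        Wa.2.2.symm)) M i n).hom a0
  have hpull := ocolimι_pull T (N.ptSub (genericPoint N.scheme))
    (fun U => (U : Set (N.ptSub (genericPoint N.scheme)).scheme).Nonempty)
    i n M (U := Wa) (U' := preIdx φ (genericPoint N.scheme) w.1 L.maps_pt (c.Ww T Wa w L)) hle a0
  have hiη : i₃ = i + 2 * relCodim ((N.ptSub (genericPoint N.scheme)).res
      (preIdx φ (genericPoint N.scheme) w.1 L.maps_pt (c.Ww T Wa w L)).1).scheme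
      (N.res (φ ⁻¹ᵁ O)).scheme := by rw [rcη, h3]; push_cast; ring
  have hnη : n₃ = n + relCodim ((N.ptSub (genericPoint N.scheme)).res
      (preIdx φ (genericPoint N.scheme) w.1 L.maps_pt (c.Ww T Wa w L)).1).scheme
      (N.res (φ ⁻¹ᵁ O)).scheme := by rw [rcη, h3']; push_cast; ring
  refine ⟨(T.push (X := (N.ptSub (genericPoint N.scheme)).res
      (preIdx φ (genericPoint N.scheme) w.1 L.maps_pt (c.Ww T Wa w L)).1)
      (Y := N.res (φ ⁻¹ᵁ O)) (c.fη T Wa w L) M i n i₃ n₃ hiη hnη).hom a1, ?_, ?_⟩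
  · -- the push-forward datum of `N` at the generic point
    have hspec := P'.cpt_spec ⟨genericPoint N.scheme, hη⟩ M i n i₃ n₃ h3 h3'
      ⟨φ ⁻¹ᵁ O, c.conf.hU, c.conf.hdU⟩
      (preIdx φ (genericPoint N.scheme) w.1 L.maps_pt (c.Ww T Wa w L))
      (c.fη T Wa w L) (c.fη_fac T w L Wa) hiη hnη
    have h4 := congrArg (fun g => g.hom a1) hspec
    simp only [ModuleCat.hom_comp, LinearMap.comp_apply] at h4
    rw [← hpull]
    exact h4
  · -- the other composite
    have hi0 : i = i + 2 * relCodim ((N.ptSub (genericPoint N.scheme)).res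
        (preIdx φ (genericPoint N.scheme) w.1 L.maps_pt (c.Ww T Wa w L)).1).scheme
        ((X.ptSub w.1).res (c.Ww T Wa w L).1).scheme := by rw [rc0]; ring
    have hn0 : n = n + relCodim ((N.ptSub (genericPoint N.scheme)).res
        (preIdx φ (genericPoint N.scheme) w.1 L.maps_pt (c.Ww T Wa w L)).1).scheme
        ((X.ptSub w.1).res (c.Ww T Wa w L).1).scheme := by rw [rc0]; ring
    have hL := cpt_preIdx T φ (genericPoint N.scheme) w.1 L M i n (c.Ww T Wa w L) hi0 hn0 a1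
    have hiW : i₁ = i + 2 * relCodim ((X.ptSub w.1).res ((X.ptSubι w.1) ⁻¹ᵁ O)).scheme
        (X.res O).scheme := by rw [rcWO]; exact h1
    have hnW : n₁ = n + relCodim ((X.ptSub w.1).res ((X.ptSubι w.1) ⁻¹ᵁ O)).scheme
        (X.res O).scheme := by rw [rcWO]; exact h1'
    have hP := P.cpt_spec w M i n i₁ n₁ h1 h1' ⟨O, c.hOF, c.step.hO⟩ (c.Ww T Wa w L)
      ((X.ptSubι w.1) ∣_ O) (morphismRestrict_ι _ _) hiW hnW
    have hP' := congrArg (fun g => g.hom ((T.push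
      ((ptMap φ (genericPoint N.scheme) w.1 L.maps_pt) ∣_ (c.Ww T Wa w L).1) M i n i n
      hi0 hn0).hom a1)) hP
    simp only [ModuleCat.hom_comp, LinearMap.comp_apply] at hP'
    rw [← hpull, hL]
    refine hP'.trans ?_
    congr 1
    -- two composites of push-forwards
    have hiηO : i₁ = i + 2 * relCodim ((N.ptSub (genericPoint N.scheme)).res
        (preIdx φ (genericPoint N.scheme) w.1 L.maps_pt (c.Ww T Wa w L)).1).scheme
        (X.res O).scheme := by rw [rcηO]; exact h1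
    have hnηO : n₁ = n + relCodim ((N.ptSub (genericPoint N.scheme)).res
        (preIdx φ (genericPoint N.scheme) w.1 L.maps_pt (c.Ww T Wa w L)).1).scheme
        (X.res O).scheme := by rw [rcηO]; exact h1'
    have c1 := T.push_comp (X := (N.ptSub (genericPoint N.scheme)).res
        (preIdx φ (genericPoint N.scheme) w.1 L.maps_pt (c.Ww T Wa w L)).1)
      (Y := (X.ptSub w.1).res (c.Ww T Wa w L).1) (Z := X.res O)
      ((ptMap φ (genericPoint N.scheme) w.1 L.maps_pt) ∣_ (c.Ww T Wa w L).1)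
      ((X.ptSubι w.1) ∣_ O) M i n i n i₁ n₁ hi0 hn0 hiW hnW hiηO hnηO
    have c2 := T.push_comp (X := (N.ptSub (genericPoint N.scheme)).res
        (preIdx φ (genericPoint N.scheme) w.1 L.maps_pt (c.Ww T Wa w L)).1)
      (Y := N.res (φ ⁻¹ᵁ O)) (Z := X.res O) (c.fη T Wa w L) (φ ∣_ O) M i n i₃ n₃ i₁ n₁
      hiη hnη hpU hpU' hiηO hnηO
    have c3 := push_congr T (X' := (N.ptSub (genericPoint N.scheme)).res
        (preIdx φ (genericPoint N.scheme) w.1 L.maps_pt (c.Ww T Wa w L)).1) (Y' := X.res O)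
      (c.fη_comm T w L Wa) M i n i₁ n₁ hiηO hnηO
    have c4 := congrArg (fun g => g.hom a1) (c1.trans (c3.symm.trans c2.symm))
    simp only [ModuleCat.hom_comp, LinearMap.comp_apply] at c4
    exact c4

end Alpha

section Fam

open DirectSum

variable (T : PreTheory V R A) {N X : Obj V} {φ : N.scheme ⟶ X.scheme} {j k : ℕ}
  (t : N.cdPt j → X.cdPt k) (F : ∀ y : N.cdPt j, T.PtPush φ y.1 (t y).1) (M : A.Cat) (i n : ℤ)

/-- The datum at `y` on a class of an open of the closure of `y`, placed in the summand of the image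
point, through a test morphism. -/
lemma lof_cpt_eq [DecidableEq (X.cdPt k)] (yy : N.cdPt j) (x : X.cdPt k) (hyx : φ yy.1 = x.1)
    (Wy : ptIdx N yy.1) (Wx : ptIdx X x.1)
    (g : ((N.ptSub yy.1).res Wy.1).scheme ⟶ ((X.ptSub x.1).res Wx.1).scheme) [IsProper g]
    (hfac : g ≫ Wx.1.ι ≫ X.ptSubι x.1 = Wy.1.ι ≫ N.ptSubι yy.1 ≫ φ)
    (hi' : i = i + 2 * relCodim ((N.ptSub yy.1).res Wy.1).scheme ((X.ptSub x.1).res Wx.1).scheme)
    (hn' : n = n + relCodim ((N.ptSub yy.1).res Wy.1).scheme ((X.ptSub x.1).res Wx.1).scheme)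
    (b : T.gp ((N.ptSub yy.1).res Wy.1) M i n) :
    DirectSum.lof R (X.cdPt k) (fun z : X.cdPt k => T.ptGp X z.1 M i n) (t yy)
      (((F yy).cpt M i n).hom (((T.ptι N yy.1 i n Wy).app M).hom b)) =
    DirectSum.lof R (X.cdPt k) (fun z : X.cdPt k => T.ptGp X z.1 M i n) x
      (((T.ptι X x.1 i n Wx).app M).hom ((T.push g M i n i n hi' hn').hom b)) := by
  have hty : t yy = x := Subtype.ext ((F yy).maps_pt.symm.trans hyx)
  subst hty
  have hspec := (F yy).cpt_spec M i n Wy Wx g hfac hi' hn'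
  have h4 := congrArg (fun g => g.hom b) hspec
  simp only [ModuleCat.hom_comp, LinearMap.comp_apply] at h4
  rw [h4]

/-- The component at `x` of the sum map of a family of push-forward data, as a finite sum over an
enumeration of the points mapped to `x`. -/
lemma famTot_apply_eq [DecidableEq (N.cdPt j)] [DecidableEq (X.cdPt k)]
    (x : X.cdPt k) (m : ℕ) (yy : Fin m → N.cdPt j)
    (hinj : Function.Injective yy) (hcov : ∀ y : N.cdPt j, t y = x → ∃ l, yy l = y)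
    (v : T.ptSum N j M i n) :
    (PreTheory.PtPush.famTot t F M i n).hom v x =
      ∑ l, (DirectSum.lof R (X.cdPt k) (fun z : X.cdPt k => T.ptGp X z.1 M i n) (t (yy l))
        (((F (yy l)).cpt M i n).hom (v (yy l)))) x := by
  induction v using DirectSum.induction_on with
  | zero =>
    rw [map_zero]
    symm
    apply Finset.sum_eq_zero
    intro l _
    have h0 : (0 : T.ptSum N j M i n) (yy l) = 0 := rfl
    rw [h0, map_zero, map_zero]
    rfl
  | of y b =>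
    have hL : (PreTheory.PtPush.famTot t F M i n).hom
        (DirectSum.of (fun z : N.cdPt j => T.ptGp N z.1 M i n) y b) =
        DirectSum.lof R (X.cdPt k) (fun z : X.cdPt k => T.ptGp X z.1 M i n) (t y)
          (((F y).cpt M i n).hom b) := by
      rw [← DirectSum.lof_eq_of R]
      exact PreTheory.PtPush.famTot_lof t F M i n y b
    rw [hL]
    by_cases hy : ∃ l0, yy l0 = y
    · obtain ⟨l0, rfl⟩ := hy
      rw [Finset.sum_eq_single l0]
      · rw [DirectSum.of_eq_same]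
      · intro l _ hl
        rw [DirectSum.of_eq_of_ne _ _ _ (fun h => hl (hinj h)), map_zero, map_zero]
        rfl
      · intro h
        exact absurd (Finset.mem_univ l0) h
    · push Not at hy
      rw [Finset.sum_eq_zero]
      · rw [DirectSum.lof_eq_of, DirectSum.of_eq_of_ne]
        intro hx
        obtain ⟨l, hl⟩ := hcov y hx.symm
        exact hy l hl
      · intro l _
        rw [DirectSum.of_eq_of_ne _ _ _ (fun h => hy l h), map_zero, map_zero]
        rfl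
  | add v v' hv hv' =>
    rw [map_add, DirectSum.add_apply, hv, hv', ← Finset.sum_add_distrib]
    apply Finset.sum_congr rfl
    intro l _
    rw [DirectSum.add_apply, map_add, map_add, DirectSum.add_apply]

end Fam

section Far

variable (T : PreTheory V R A) (X : Obj V) (q : ℕ) (P : T.PushData X q) (Q : T.ResData X q)

/-- The residue at a point outside the closure of `w` of a class pushed forward from `w`
vanishes. -/
theorem cpt_cpt_eq_zero_of_not_mem (w : X.cdPt q) (x : X.cdPt (q + 1))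
    (hxw : x.1 ∉ closure ({w.1} : Set X.scheme)) (M : A.Cat) (i n i₁ n₁ i₂ n₂ : ℤ)
    (h1 : i₁ = i + 2 * (q : ℤ)) (h1' : n₁ = n + (q : ℤ))
    (h2 : i₂ = i₁ + 1 - 2 * ((q : ℤ) + 1)) (h2' : n₂ = n₁ - ((q : ℤ) + 1))
    (b : T.ptGp X w.1 M i n) :
    (Q.cpt x M i₁ n₁ i₂ n₂ h2 h2').hom ((P.cpt w M i n i₁ n₁ h1 h1').hom b) = 0 := by
  obtain ⟨W0, b0, rfl⟩ := exists_rep T (X.ptSub w.1)
    (fun U => (U : Set (X.ptSub w.1).scheme).Nonempty) i n M b
  have hUF : ContainsFj X q (shrink X w.1 ⊤ W0.1) :=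
    containsFj_shrink' X q w.2 ⊤ (fun _ _ => trivial) W0.1 W0.2.1
  have hdU := dim_of_containsFj X q _ hUF
  have hxU : x.1 ∈ shrink X w.1 ⊤ W0.1 := by
    refine ⟨trivial, ?_⟩
    rintro ⟨u, -, hu⟩
    apply hxw
    rw [← hu, ← range_ptSubι]
    exact ⟨u, rfl⟩
  have hne : ((((X.ptSubι w.1) ⁻¹ᵁ (shrink X w.1 ⊤ W0.1) : (X.ptSub w.1).scheme.Opens)) :
      Set (X.ptSub w.1).scheme).Nonempty := by
    obtain ⟨u, hu⟩ := exists_generic X w.1
    refine ⟨u, ?_⟩
    show (X.ptSubι w.1) u ∈ shrink X w.1 ⊤ W0.1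
    rw [hu]
    exact hUF w.1 (le_of_eq w.2)
  let W' : ptIdx X w.1 := ⟨(X.ptSubι w.1) ⁻¹ᵁ (shrink X w.1 ⊤ W0.1), hne,
    dim_open_ptSub X w.1 _ hne⟩
  have hle : W' ≤ W0 := pre_shrink_le X w.1 ⊤ W0.1
  have hpull := ocolimι_pull T (X.ptSub w.1) (fun U => (U : Set (X.ptSub w.1).scheme).Nonempty)
    i n M (U := W0) (U' := W') hle b0
  have rc : relCodim ((X.ptSub w.1).res ((X.ptSubι w.1) ⁻¹ᵁ (shrink X w.1 ⊤ W0.1))).scheme
      (X.res (shrink X w.1 ⊤ W0.1)).scheme = (q : ℤ) := by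
    rw [relCodim_pre X w.1 _ hdU hne]
    have h1 := pdim_le_dim_obj X w.1
    have h2 := w.2
    unfold WeilCoh.codim at h2
    omega
  have hP := P.cpt_spec w M i n i₁ n₁ h1 h1' ⟨shrink X w.1 ⊤ W0.1, hUF, hdU⟩ W'
    ((X.ptSubι w.1) ∣_ (shrink X w.1 ⊤ W0.1)) (morphismRestrict_ι _ _)
    (by rw [rc]; exact h1) (by rw [rc]; exact h1')
  have hP' := congrArg (fun g => g.hom ((T.pull ((X.ptSub w.1).resLE
    (show W'.1 ≤ W0.1 from hle) (W'.2.2.trans W0.2.2.symm)) M i n).hom b0)) hP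
  simp only [ModuleCat.hom_comp, LinearMap.comp_apply] at hP'
  obtain ⟨x, hxc⟩ := x
  rw [← hpull, hP']
  exact cpt_eq_zero_of_mem' T X q Q M i₁ n₁ i₂ n₂ h2 h2' hxc
    ⟨shrink X w.1 ⊤ W0.1, hUF, hdU⟩ hxU _

end Far

section Main

open DirectSum

variable (T : PreTheory V R A)
  (hred : ∀ (S : BMCoh.Obj V) (D D'' : BMCoh.Decomp S) (gU : D''.U ⟶ D.U)
      (k : D''.Z.scheme ⟶ D.Z.scheme) [IsClosedImmersion k] [AlgebraicGeometry.Surjective k],
      gU ≫ D.j = D''.j → k ≫ D.i = D''.i →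
      ∀ (M : A.Cat) (i n i' n' : ℤ) (hi : i' = i + 1 - 2 * D.codim) (hn : n' = n - D.codim)
        (hi'' : i' = i + 1 - 2 * D''.codim) (hn'' : n' = n - D''.codim)
        (hk : i' = i' + 2 * BMCoh.relCodim D''.Z.scheme D.Z.scheme)
        (hk' : n' = n' + BMCoh.relCodim D''.Z.scheme D.Z.scheme),
      T.pull gU M i n ≫ T.res D'' M i n i' n' hi'' hn'' ≫ T.push k M i' n' i' n' hk hk' =
        T.res D M i n i' n' hi hn)

include hred in
/-- The first differential: residue after push-forward from the closure of `w` is the sum of the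
push-forwards of the residues on the source of a proper morphism from an integral object. -/
theorem first_differential (X : Obj V) (q : ℕ) (w : X.cdPt q)
    (N : Obj V) [IsIntegral N.scheme] (φ : N.scheme ⟶ X.scheme) [IsProper φ]
    (hη : WeilCoh.codim N.scheme (genericPoint N.scheme) = 0)
    (P : T.PushData X q) (Q : T.ResData X q) (L : T.PtPush φ (genericPoint N.scheme) w.1)
    (P' : T.PushData N 0) (Q' : T.ResData N 0) (t : N.cdPt 1 → X.cdPt (q + 1))
    (F : ∀ y : N.cdPt 1, T.PtPush φ y.1 (t y).1)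
    (M : A.Cat) (i n i₁ n₁ i₂ n₂ i₃ n₃ : ℤ)
    (h1 : i₁ = i + 2 * (q : ℤ)) (h1' : n₁ = n + (q : ℤ))
    (h2 : i₂ = i₁ + 1 - 2 * ((q : ℤ) + 1)) (h2' : n₂ = n₁ - ((q : ℤ) + 1))
    (h3 : i₃ = i + 2 * ((0 : ℕ) : ℤ)) (h3' : n₃ = n + ((0 : ℕ) : ℤ))
    (h4 : i₂ = i₃ + 1 - 2 * (((0 : ℕ) : ℤ) + 1)) (h4' : n₂ = n₃ - (((0 : ℕ) : ℤ) + 1))
    (a : T.ptGp N (genericPoint N.scheme) M i n) :
    (Q.tot M i₁ n₁ i₂ n₂ h2 h2').hom ((P.cpt w M i n i₁ n₁ h1 h1').hom ((L.cpt M i n).hom a)) =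
      (BMCoh.PreTheory.PtPush.famTot t F M i₂ n₂).hom
        ((Q'.tot M i₃ n₃ i₂ n₂ h4 h4').hom
          ((P'.cpt ⟨genericPoint N.scheme, hη⟩ M i n i₃ n₃ h3 h3').hom a)) := by
  classical
  refine DFinsupp.ext fun xx => ?_
  rw [PreTheory.ResData.tot_apply]
  have hwη : φ (genericPoint N.scheme) = w.1 := L.maps_pt
  have hdimL := dim_eq_of_ptPush T φ (genericPoint N.scheme) w.1 L
  have hdim : WeilCoh.pdim X.scheme (φ (genericPoint N.scheme)) = WeilCoh.dim N.scheme := by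
    rw [hwη, ← dim_ptSub, ← hdimL, dim_ptSub, pdim_generic N hη]
  have hw : WeilCoh.codim X.scheme (φ (genericPoint N.scheme)) = q := by rw [hwη]; exact w.2
  obtain ⟨x, hx⟩ := xx
  -- enumerate the fibre over `x`
  have hfin := finite_fibre φ hη hdim q hw x hx
  have : Finite ↥{z : N.scheme | φ z = x} := hfin.to_subtype
  obtain ⟨m, ⟨e⟩⟩ := Finite.exists_equiv_fin ↥{z : N.scheme | φ z = x}
  have hy0 : ∀ l : Fin m, φ (e.symm l).1 = x := fun l => (e.symm l).2
  have hcod : ∀ l : Fin m, WeilCoh.codim N.scheme (e.symm l).1 = 1 :=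
    fun l => codim_of_map_eq φ hη hdim q hw x hx _ (hy0 l)
  have hinj0 : Function.Injective (fun l : Fin m => (e.symm l).1) :=
    fun k l hkl => e.symm.injective (Subtype.ext hkl)
  have hinj : Function.Injective (fun l : Fin m => (⟨(e.symm l).1, hcod l⟩ : N.cdPt 1)) :=
    fun k l hkl => hinj0 (congrArg (fun z : N.cdPt 1 => z.1) hkl)
  have hcov : ∀ y : N.cdPt 1, t y = ⟨x, hx⟩ →
      ∃ l, (⟨(e.symm l).1, hcod l⟩ : N.cdPt 1) = y := by
    intro y hy
    have hyx : φ y.1 = x := (F y).maps_pt.trans (congrArg Subtype.val hy)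
    refine ⟨e ⟨y.1, hyx⟩, Subtype.ext ?_⟩
    show (e.symm (e ⟨y.1, hyx⟩)).1 = y.1
    rw [Equiv.symm_apply_apply]
  rw [famTot_apply_eq T t F M i₂ n₂ ⟨x, hx⟩ m
    (fun l : Fin m => (⟨(e.symm l).1, hcod l⟩ : N.cdPt 1)) hinj hcov]
  cases m with
  | zero =>
    rw [Finset.univ_eq_empty, Finset.sum_empty]
    apply cpt_cpt_eq_zero_of_not_mem T X q P Q w ⟨x, hx⟩
    intro hxw
    have hxw' : x ∈ closure ({φ (genericPoint N.scheme)} : Set X.scheme) := by rw [hwη]; exact hxw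
    obtain ⟨z, hz⟩ := exists_map_eq_of_mem_closure φ x hxw'
    exact Fin.elim0 (e ⟨z, hz⟩)
  | succ r =>
    obtain ⟨Wa, a0, rfl⟩ := exists_rep T (N.ptSub (genericPoint N.scheme))
      (fun U => (U : Set (N.ptSub (genericPoint N.scheme)).scheme).Nonempty) i n M a
    have hy : ∀ z : N.scheme, φ z = x ↔ ∃ k : Fin (r + 1), (e.symm k).1 = z := by
      intro z
      constructor
      · intro hz
        exact ⟨e ⟨z, hz⟩, by rw [Equiv.symm_apply_apply]⟩
      · rintro ⟨k, rfl⟩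
        exact hy0 k
    obtain ⟨O, O1, c⟩ := exists_cfg φ hη hdim q hw x hx Wa.1 Wa.2.1 r
      (fun l : Fin (r + 1) => (e.symm l).1) hinj0 hy
    have hpx := pdim_x_add φ hη hdim q hw x hx
    have rcU := c.rc_U hx hpx
    have hpU : i₁ = i₃ + 2 * relCodim (N.res (φ ⁻¹ᵁ O)).scheme (X.res O).scheme := by
      rw [rcU, h1, h3]; push_cast; ring
    have hpU' : n₁ = n₃ + relCodim (N.res (φ ⁻¹ᵁ O)).scheme (X.res O).scheme := by
      rw [rcU, h1', h3']; push_cast; ring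
    obtain ⟨α, hα1, hα2⟩ := c.exists_alpha T w L Wa hx hpx hη P P' M i n i₁ n₁ i₃ n₃
      h1 h1' h3 h3' a0 hpU hpU'
    have hcD : c.step.decomp.codim = (q : ℤ) + 1 := c.rc_stepZ hx
    have hrD : i₂ = i₁ + 1 - 2 * c.step.decomp.codim := by rw [hcD]; exact h2
    have hrD' : n₂ = n₁ - c.step.decomp.codim := by rw [hcD]; exact h2'
    have hcC : c.conf.decomp.codim = 1 := c.rc_confZ
    have hrC : i₂ = i₃ + 1 - 2 * c.conf.decomp.codim := by rw [hcC, h4]; push_cast; ring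
    have hrC' : n₂ = n₃ - c.conf.decomp.codim := by rw [hcC, h4']; push_cast; ring
    have hg : ∀ k, i₂ = i₂ + 2 * relCodim
        ((N.ptSub (e.symm k).1).res ((N.ptSubι (e.symm k).1) ⁻¹ᵁ (φ ⁻¹ᵁ O1))).scheme
        ((X.ptSub x).res ((X.ptSubι x) ⁻¹ᵁ O1)).scheme := fun k => by rw [c.rc_gk hpx k]; ring
    have hg' : ∀ k, n₂ = n₂ + relCodim
        ((N.ptSub (e.symm k).1).res ((N.ptSubι (e.symm k).1) ⁻¹ᵁ (φ ⁻¹ᵁ O1))).scheme
        ((X.ptSub x).res ((X.ptSubι x) ⁻¹ᵁ O1)).scheme := fun k => by rw [c.rc_gk hpx k]; ring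
    rw [hα2]
    have hX7 := cpt_eq_of_step' T X q Q M i₁ n₁ i₂ n₂ h2 h2' hx c.step c.hOF
      ((T.push (X := N.res (φ ⁻¹ᵁ O)) (Y := X.res O) (φ ∣_ O) M i₃ n₃ i₁ n₁ hpU hpU').hom α)
      hrD hrD'
    refine hX7.symm.trans ?_
    rw [c.res_push_eq T hred hpx M i₃ n₃ i₁ n₁ i₂ n₂ α hpU hpU' hrD hrD' hrC hrC' hg hg',
      map_sum]
    apply Finset.sum_congr rfl
    intro k _
    have hN := c.conf.cpt_eq T M i₃ n₃ i₂ n₂ Q' h4 h4' α k hrC hrC'
    have hv : ((Q'.tot M i₃ n₃ i₂ n₂ h4 h4').hom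
        ((P'.cpt ⟨genericPoint N.scheme, hη⟩ M i n i₃ n₃ h3 h3').hom
          (((T.ocolimι (N.ptSub (genericPoint N.scheme))
            (fun U => (U : Set (N.ptSub (genericPoint N.scheme)).scheme).Nonempty) i n Wa).app
              M).hom a0))) (⟨(e.symm k).1, hcod k⟩ : N.cdPt 1) =
        ((T.ptι N (e.symm k).1 i₂ n₂ (c.conf.ptIdx k)).app M).hom
          ((T.pull (c.conf.pieceHom k) M i₂ n₂).hom
            ((T.res c.conf.decomp M i₃ n₃ i₂ n₂ hrC hrC').hom α)) := by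
      refine Eq.trans ?_ hN
      rw [PreTheory.ResData.tot_apply]
      exact congrArg (fun z => (Q'.cpt ⟨(e.symm k).1, hcod k⟩ M i₃ n₃ i₂ n₂ h4 h4').hom z) hα1
    rw [hv]
    rw [lof_cpt_eq T t F M i₂ n₂ ⟨(e.symm k).1, hcod k⟩ ⟨x, hx⟩ (hy0 k) (c.conf.ptIdx k)
      (stepIdx c.step) (c.gk k) (c.gk_fac k) (hg k) (hg' k)]
    rw [DirectSum.lof_eq_of, DirectSum.of_eq_same]

end Main

end Groth.Agent.Lib.Helper5.Misc.BMD1c
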