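import Mathlib
import Groth.Prelude.Def_BMCoh3
import Groth.Agent.Lib.Helper5.Misc.BMFjVan

set_option autoImplicit false
universe u
open CategoryTheory CategoryTheory.Limits AlgebraicGeometry Opposite TopologicalSpace
open BMCoh

namespace Groth.Agent.Lib.Helper5.Misc.BMFjVan2

open Groth.Agent.Lib.Helper5.Misc.BMLib Groth.Agent.Lib.Helper5.Misc.BMColim
open Groth.Agent.Lib.Helper5.Misc.BMGeo Groth.Agent.Lib.Helper5.Misc.BMVan
open Groth.Agent.Lib.Helper5.Misc.BMBij Groth.Agent.Lib.Helper5.Misc.WeilGeo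
open Groth.Agent.Lib.Helper5.Misc.BMGeo2 Groth.Agent.Lib.Helper5.Misc.BMStep
open Groth.Agent.Lib.Helper5.Misc.BMFj Groth.Agent.Lib.Helper5.Misc.BMRes
open Groth.Agent.Lib.Helper5.Misc.BMFjVan

variable {V : ObjectProperty Scheme.{u}} [IsConstructible V] {R : Type u} [CommRing R]
  {A : Coefs R}

/-- Classes of large degree on an open containing `F_jX` die on a smaller such open. -/
theorem fj_vanish_aux' (T : TheoryOn V R A) (M : A.Cat) (c : ℕ)
    (X : Obj V) [IsReduced X.scheme]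
    (hc : ∀ (y : X.scheme) (i n : ℤ), (WeilCoh.pdim X.scheme y : ℤ) + c < i →
      IsZero (T.ptGp X y M i n)) :
    ∀ (j : ℕ) (i n : ℤ), (WeilCoh.dim X.scheme : ℤ) + j + c < i →
      ∀ (U : X.scheme.Opens) (hU : WeilCoh.dim (U : Scheme.{u}) = WeilCoh.dim X.scheme)
        (_ : ContainsFj X j U) (a : T.gp (X.res U) M i n),
      ∃ (O : X.scheme.Opens) (hle : O ≤ U)
        (hd : WeilCoh.dim (O : Scheme.{u}) = WeilCoh.dim X.scheme), ContainsFj X j O ∧
        (T.pull (X.resLE hle (hd.trans hU.symm)) M i n).hom a = 0 := by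
  intro j
  induction j with
  | zero =>
    intro i n hi U hU hUF a
    by_cases hemp : IsEmpty ↥X.scheme
    · have : IsEmpty ↥(X.res U).scheme := ⟨fun y => hemp.elim y.1⟩
      have hz := isZero_of_isEmpty T.toPreTheory (X.res U) M i n
      have : Subsingleton (T.gp (X.res U) M i n) := ModuleCat.subsingleton_of_isZero hz
      exact ⟨U, le_refl _, hU, hUF, Subsingleton.elim _ _⟩
    rw [not_isEmpty_iff] at hemp
    obtain ⟨x, W, hxW, hW, hx⟩ := exists_top_point_obj X
    have hxU : x ∈ U := hUF x (by unfold WeilCoh.codim; rw [hx]; simp)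
    have hW0 : ((W ⊓ U : X.scheme.Opens) : Set X.scheme) ⊆ closure {x} := fun y hy => hW hy.1
    have hW0ne : ((W ⊓ U : X.scheme.Opens) : Set X.scheme).Nonempty := ⟨x, hxW, hxU⟩
    have hdW0 := dim_open_of_subset_closure X x hx (W ⊓ U) hW0 hW0ne
    let a0 : T.gp (X.res (W ⊓ U)) M i n :=
      (T.pull (X.resLE (inf_le_right : W ⊓ U ≤ U) (hdW0.trans hU.symm)) M i n).hom a
    have hi0 : (WeilCoh.pdim X.scheme x : ℤ) + c < i := by
      rw [hx]; push_cast at hi; linarith
    obtain ⟨O0, hO0W, hdO0, hO00⟩ := vanish_near_point T X x hx (W ⊓ U) hW0 hW0ne M i n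
      (hc x i n hi0) a0
    have ha' : (T.pull (X.resLE (hO0W.trans inf_le_right) (hdO0.trans hU.symm)) M i n).hom a
        = 0 := by
      have : (T.pull (X.resLE hO0W (hdO0.trans hdW0.symm)) M i n).hom
          ((T.pull (X.resLE (inf_le_right : W ⊓ U ≤ U) (hdW0.trans hU.symm)) M i n).hom a) = 0 :=
        hO00
      rw [← pull_comp_apply, resLE_comp] at this
      exact this
    obtain ⟨O, hle, hd, hOF, hO0⟩ := exists_vanishing_gen T X M 0 i n
      (fun y _ hp => hc y _ _ (by
        have hp' : (WeilCoh.pdim X.scheme y : ℤ) = WeilCoh.dim X.scheme := by exact_mod_cast hp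
        push_cast at hi ⊢
        linarith))
      U hU a O0 hdO0 (hO0W.trans inf_le_right) (fun _ _ => Nat.zero_le _) ha'
    exact ⟨O, hle, hd, fun y hy => hOF y (hUF y hy) hy, hO0⟩
  | succ j IH =>
    intro i n hi U hU hUF a
    have hi' : (WeilCoh.dim X.scheme : ℤ) + (j : ℤ) + c < i := by
      push_cast at hi; linarith
    obtain ⟨O0, hO0U, hdO0, hO0F, hO00⟩ := IH i n hi' U hU
      (containsFj_mono X (Nat.le_succ j) U hUF) a
    obtain ⟨O, hle, hd, hOF, hO0⟩ := exists_vanishing_gen T X M (j + 1) i n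
      (fun y _ hp => hc y _ _ (by
        have hp' : (WeilCoh.pdim X.scheme y : ℤ) + ((j : ℤ) + 1) = WeilCoh.dim X.scheme := by
          exact_mod_cast hp
        push_cast at hi ⊢
        linarith))
      U hU a O0 hdO0 hO0U
      (fun z hz => by
        by_contra hlt
        exact hz (hO0F z (by omega))) hO00
    exact ⟨O, hle, hd, fun y hy => hOF y (hUF y hy) hy, hO0⟩

/-- Vanishing of the groups of `F_jX` in large degrees. -/
theorem fjGp_isZero' (T : TheoryOn V R A) (M : A.Cat) (c : ℕ)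
    (X : Obj V) [IsReduced X.scheme]
    (hc : ∀ (y : X.scheme) (i n : ℤ), (WeilCoh.pdim X.scheme y : ℤ) + c < i →
      IsZero (T.ptGp X y M i n)) (j : ℕ) (i n : ℤ)
    (hi : (WeilCoh.dim X.scheme : ℤ) + j + c < i) : IsZero (T.fjGp X j M i n) := by
  suffices h : ∀ z : T.fjGp X j M i n, z = 0 by
    have : Subsingleton (T.fjGp X j M i n) := ⟨fun a b => by rw [h a, h b]⟩
    exact ModuleCat.isZero_of_subsingleton _
  intro z
  obtain ⟨U, a, rfl⟩ := exists_rep T.toPreTheory X (ContainsFj X j) i n M z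
  obtain ⟨O, hle, hd, hOF, hO0⟩ := fj_vanish_aux' T M c X hc j i n hi U.1 U.2.2 U.2.1 a
  let Oi : Idx X (ContainsFj X j) := ⟨O, hOF, hd⟩
  have := ocolimι_pull T.toPreTheory X (ContainsFj X j) i n M (show Oi ≤ U from hle) a
  rw [← this]
  show ((T.ocolimι X (ContainsFj X j) i n Oi).app M).hom
    ((T.pull (X.resLE hle _) M i n).hom a) = 0
  rw [hO0, map_zero]

end Groth.Agent.Lib.Helper5.Misc.BMFjVan2
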