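import Mathlib
import Groth.Prelude.Def_NonAbH1
import Groth.Agent.Lib.Helper5.Misc.Tors1
import Groth.Agent.Lib.Helper5.Misc.Tors2
import Groth.Agent.Lib.Helper5.Misc.Tors4
import Groth.Agent.Lib.Helper5.Misc.Bdry1

set_option autoImplicit false
universe w' w v u
open CategoryTheory Opposite NonAbH1

namespace Groth.Agent.Lib.Helper5.Tors

variable {C : Type u} [Category.{v} C] {J : GrothendieckTopology C}

section Bdry

variable [J.HasSheafCompose (forget GrpCat.{w})] {F G : Sheaf J GrpCat.{w}} (u : F ⟶ G)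
  {Q : NonAbH1.GSheaf G} (π : NonAbH1.GSheaf.trivial G ⟶ Q)

/-- the map `π` on sections, as a plain function on the groups of sections. -/
def pi (U : Cᵒᵖ) (g : G.obj.obj U) : Q.P.obj.obj U := π.hom.hom.app U (GSheaf.ofGrp g)

lemma pi_mul (U : Cᵒᵖ) (g h : G.obj.obj U) : pi π U (g * h) = Q.smul g (pi π U h) :=
  π.map_smul g (GSheaf.ofGrp h)

lemma pi_map {U V : Cᵒᵖ} (f : U ⟶ V) (g : G.obj.obj U) :
    pi π V (G.obj.map f g) = Q.P.obj.map f (pi π U g) :=
  NatTrans.naturality_apply π.hom.hom f (GSheaf.ofGrp g)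

omit [J.HasSheafCompose (forget GrpCat.{w})] in
lemma u_map {U V : Cᵒᵖ} (f : U ⟶ V) (x : F.obj.obj U) :
    u.hom.app V (F.obj.map f x) = G.obj.map f (u.hom.app U x) :=
  NatTrans.naturality_apply u.hom f x

/-- unpacked form of `IsFibreOver`. -/
structure FibData (c : Q.P.obj.sections) (T : GSheaf F) where
  ι : ∀ U : Cᵒᵖ, T.P.obj.obj U → G.obj.obj U
  nat : ∀ ⦃U V : Cᵒᵖ⦄ (f : U ⟶ V) (t : T.P.obj.obj U), ι V (T.P.obj.map f t) = G.obj.map f (ι U t)
  inj : ∀ U, Function.Injective (ι U)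
  img : ∀ (U : Cᵒᵖ) (g : G.obj.obj U), (∃ t, ι U t = g) ↔ pi π U g = c.1 U
  equiv : ∀ (U : Cᵒᵖ) (f : F.obj.obj U) (t : T.P.obj.obj U),
    ι U (T.smul f t) = ι U t * (u.hom.app U f)⁻¹

variable {u π}

lemma isFibreOver_iff {c : Q.P.obj.sections} {T : GSheaf F} :
    GSheaf.IsFibreOver u π c T ↔ Nonempty (FibData u π c T) := by
  constructor
  · rintro ⟨ι, h1, h2, h3⟩
    exact ⟨⟨fun U t => GSheaf.toGrp (ι.hom.app U t),
      fun U V f t => NatTrans.naturality_apply ι.hom f t, h1, h2, h3⟩⟩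
  · rintro ⟨D⟩
    refine ⟨⟨{ app := fun U => TypeCat.ofHom (fun t => GSheaf.ofGrp (D.ι U t)), naturality := ?_ }⟩,
      D.inj, D.img, D.equiv⟩
    intro U V f
    ext t
    exact D.nat f t

section Fib

variable (hu : ∀ U : Cᵒᵖ, Function.Injective (u.hom.app U)) (hQ : GSheaf.IsQuotientBy u π)
  {c : Q.P.obj.sections} {T : GSheaf F} (D : FibData u π c T)

lemma FibData.pi_ι (U : Cᵒᵖ) (t : T.P.obj.obj U) : pi π U (D.ι U t) = c.1 U :=
  (D.img U _).1 ⟨t, rfl⟩

include hQ in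
lemma pi_eq_iff (U : Cᵒᵖ) (g g' : G.obj.obj U) :
    pi π U g = pi π U g' ↔ ∃ f : F.obj.obj U, g' = g * u.hom.app U f := hQ.1 U g g'

include hu hQ D in
lemma FibData.isPseudoTorsor : T.IsPseudoTorsor := by
  intro U t t'
  obtain ⟨f, hf⟩ := (pi_eq_iff hQ U (D.ι U t) (D.ι U t')).1 ((D.pi_ι U t).trans (D.pi_ι U t').symm)
  refine ⟨f⁻¹, ?_, ?_⟩
  · apply D.inj U
    rw [D.equiv, hf, map_inv, inv_inv]
  · intro f₁ h₁
    apply hu U
    have h2 : D.ι U t * (u.hom.app U f₁)⁻¹ = D.ι U t * u.hom.app U f := by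
      rw [← D.equiv, h₁, hf]
    have h3 := mul_left_cancel h2
    rw [map_inv, ← h3, inv_inv]

include hQ D in
lemma FibData.locallyNonempty : T.LocallyNonempty := by
  intro U
  obtain ⟨S, hS, h⟩ := hQ.2 U (c.1 (op U))
  refine ⟨S, hS, ?_⟩
  intro V a ha
  obtain ⟨g, hg⟩ := h a ha
  have : pi π (op V) g = c.1 (op V) := hg.trans (c.2 a.op)
  obtain ⟨t, -⟩ := (D.img (op V) g).2 this
  exact ⟨t⟩

include hu hQ D in
lemma FibData.isTorsor : T.IsTorsor := ⟨D.isPseudoTorsor hu hQ, D.locallyNonempty hQ⟩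

end Fib

section Translate

lemma nonempty_iso_of_translate {c c' : Q.P.obj.sections} {T T' : GSheaf F}
    (D : FibData u π c T) (D' : FibData u π c' T')
    (g : ∀ U : Cᵒᵖ, G.obj.obj U) (hg : ∀ ⦃U V : Cᵒᵖ⦄ (f : U ⟶ V), G.obj.map f (g U) = g V)
    (hgc : ∀ U, Q.smul (g U) (c.1 U) = c'.1 U) : Nonempty (T ≅ T') := by
  have key : ∀ (U : Cᵒᵖ) (t : T.P.obj.obj U),
      ∃ t' : T'.P.obj.obj U, D'.ι U t' = g U * D.ι U t := by
    intro U t
    apply (D'.img U _).2
    rw [pi_mul, D.pi_ι, hgc]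
  choose φ hφ using key
  refine nonempty_iso_of_bijective φ ?_ ?_ ?_
  · intro U V f t
    apply D'.inj V
    rw [hφ, D'.nat, hφ, D.nat, map_mul, hg f]
  · intro U x t
    apply D'.inj U
    rw [hφ, D'.equiv, hφ, D.equiv, mul_assoc]
  · intro U
    constructor
    · intro t t₂ h
      apply D.inj U
      have := (hφ U t).symm.trans ((congrArg (D'.ι U) h).trans (hφ U t₂))
      exact mul_left_cancel this
    · intro t'
      have : pi π U ((g U)⁻¹ * D'.ι U t') = c.1 U := by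
        rw [pi_mul, D'.pi_ι, ← hgc, ← Q.mul_smul, inv_mul_cancel, Q.one_smul]
      obtain ⟨t, ht⟩ := (D.img U _).2 this
      refine ⟨t, ?_⟩
      apply D'.inj U
      rw [hφ, ht, mul_inv_cancel_left]

lemma nonempty_iso_of_fibData {c : Q.P.obj.sections} {T T' : GSheaf F}
    (D : FibData u π c T) (D' : FibData u π c T') : Nonempty (T ≅ T') :=
  nonempty_iso_of_translate D D' (fun _ => 1) (fun _ _ f => map_one _) (fun _ => Q.one_smul _)

end Translate

section FibSheaf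

variable (π) (c : Q.P.obj.sections)

/-- the presheaf of local liftings of `c`. -/
def fibPre : Cᵒᵖ ⥤ Type w where
  obj U := {g : G.obj.obj U // pi π U g = c.1 U}
  map {U V} f := TypeCat.ofHom (fun g => ⟨G.obj.map f g.1, by rw [pi_map, g.2, c.2 f]⟩)
  map_id U := by
    refine ConcreteCategory.hom_ext _ _ (fun g => ?_)
    apply Subtype.ext
    change G.obj.map (𝟙 U) g.1 = g.1
    rw [CategoryTheory.Functor.map_id]
    rfl
  map_comp f h := by
    refine ConcreteCategory.hom_ext _ _ (fun g => ?_)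
    apply Subtype.ext
    change G.obj.map (f ≫ h) g.1 = G.obj.map h (G.obj.map f g.1)
    rw [CategoryTheory.Functor.map_comp]
    rfl

lemma fibPre_map_val {U V : Cᵒᵖ} (f : U ⟶ V) (g : (fibPre π c).obj U) :
    ((fibPre π c).map f g).1 = G.obj.map f g.1 := rfl

lemma fibPre_isSheaf : Presieve.IsSheaf J (fibPre π c) := by
  intro V S hS x hx
  rw [Presieve.compatible_iff_sieveCompatible] at hx
  have hQ : Presieve.IsSheaf J Q.P.obj := (isSheaf_iff_isSheaf_of_type _ _).1 Q.P.property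
  obtain ⟨g, hg⟩ := G_glue G hS (fun W f hf => (x f hf).1) (by
    intro W W' h f hf
    exact (congrArg Subtype.val (hx f h hf)).symm)
  have hgc : pi π (op V) g = c.1 (op V) := by
    refine (hQ S hS).isSeparatedFor.ext ?_
    intro W f hf
    rw [← pi_map, hg f hf, (x f hf).2, c.2 f.op]
  refine ⟨⟨g, hgc⟩, ?_, ?_⟩
  · intro W f hf
    apply Subtype.ext
    exact hg f hf
  · intro t ht
    apply Subtype.ext
    apply G_ext G hS
    intro W f hf
    rw [hg f hf, ← ht f hf]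
    rfl

variable (u) (hQ : GSheaf.IsQuotientBy u π)

include hQ in
lemma pi_mul_u_inv (U : Cᵒᵖ) (g : G.obj.obj U) (f : F.obj.obj U) :
    pi π U (g * (u.hom.app U f)⁻¹) = pi π U g := by
  symm
  apply (pi_eq_iff hQ U _ _).2
  exact ⟨f⁻¹, by rw [map_inv]⟩

/-- the `F`-sheaf of local liftings of `c`. -/
def fib : GSheaf F where
  P := ⟨fibPre π c, (isSheaf_iff_isSheaf_of_type _ _).2 (fibPre_isSheaf π c)⟩
  smul {U} f g := ⟨g.1 * (u.hom.app U f)⁻¹, by rw [pi_mul_u_inv u π hQ, g.2]⟩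
  one_smul g := by
    apply Subtype.ext
    change g.1 * (u.hom.app _ 1)⁻¹ = g.1
    rw [map_one, inv_one, mul_one]
  mul_smul f h g := by
    apply Subtype.ext
    change g.1 * (u.hom.app _ (f * h))⁻¹ = g.1 * (u.hom.app _ h)⁻¹ * (u.hom.app _ f)⁻¹
    rw [map_mul, mul_inv_rev, mul_assoc]
  map_smul {U V} k f g := by
    apply Subtype.ext
    change G.obj.map k (g.1 * (u.hom.app U f)⁻¹) = G.obj.map k g.1 * (u.hom.app V (F.obj.map k f))⁻¹
    rw [map_mul, map_inv, u_map]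

/-- the fibre data of the sheaf of local liftings. -/
def fibData : FibData u π c (fib u π c hQ) where
  ι U g := g.1
  nat U V f g := rfl
  inj U := Subtype.val_injective
  img U g := ⟨fun ⟨t, ht⟩ => ht ▸ t.2, fun h => ⟨⟨g, h⟩, rfl⟩⟩
  equiv U f g := rfl

end FibSheaf

theorem boundary_wellDefined (hu : ∀ U : Cᵒᵖ, Function.Injective (u.hom.app U))
    (hQ : GSheaf.IsQuotientBy u π) (c : Q.P.obj.sections) :
    (∃ T : NonAbH1.Torsor F, GSheaf.IsFibreOver u π c T.toGSheaf) ∧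
      (∀ T : GSheaf F, GSheaf.IsFibreOver u π c T → T.IsTorsor) ∧
      ∀ T T' : GSheaf F, GSheaf.IsFibreOver u π c T → GSheaf.IsFibreOver u π c T' →
        Nonempty (T ≅ T') := by
  refine ⟨⟨⟨fib u π c hQ, (fibData u π c hQ).isTorsor hu hQ⟩,
    isFibreOver_iff.2 ⟨fibData u π c hQ⟩⟩, ?_, ?_⟩
  · intro T hT
    obtain ⟨D⟩ := isFibreOver_iff.1 hT
    exact D.isTorsor hu hQ
  · intro T T' hT hT'
    obtain ⟨D⟩ := isFibreOver_iff.1 hT
    obtain ⟨D'⟩ := isFibreOver_iff.1 hT'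
    exact nonempty_iso_of_fibData D D'

end Bdry

end Groth.Agent.Lib.Helper5.Tors
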