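import Mathlib
import Groth.Prelude.Def_NonAbH1
import Groth.Agent.Lib.Helper5.Misc.Tors1
import Groth.Agent.Lib.Helper5.Misc.Tors2
import Groth.Agent.Lib.Helper5.Misc.Tors4
import Groth.Agent.Lib.Helper5.Misc.Bdry1
import Groth.Agent.Lib.Helper5.Misc.Bdry2

set_option autoImplicit false
universe w' w v u
open CategoryTheory Opposite NonAbH1

namespace Groth.Agent.Lib.Helper5.Tors

variable {C : Type u} [Category.{v} C] {J : GrothendieckTopology C}

section Ne

variable {F : Sheaf J GrpCat.{w}} (T : GSheaf F)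

/-- objects over which `T` has a section. -/
def neObj (W : C) : Prop := Nonempty (T.P.obj.obj (op W))

lemma neObj_pre ⦃W W' : C⦄ (h : W' ⟶ W) (hW : neObj T W) : neObj T W' := by
  obtain ⟨t⟩ := hW
  exact ⟨T.P.obj.map h.op t⟩

lemma neObj_cov (hT : T.LocallyNonempty) (V : C) :
    goodSieve (neObj T) (neObj_pre T) V ∈ J V := by
  obtain ⟨S, hS, h⟩ := hT V
  refine J.superset_covering ?_ hS
  intro W f hf
  exact h f hf

end Ne

section Bdry

variable [J.HasSheafCompose (forget GrpCat.{w})] {F G : Sheaf J GrpCat.{w}} {u : F ⟶ G}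
  {Q : NonAbH1.GSheaf G} {π : NonAbH1.GSheaf.trivial G ⟶ Q}

/-- S8557. -/
theorem iso_iff_translate (hu : ∀ U : Cᵒᵖ, Function.Injective (u.hom.app U))
    (hQ : GSheaf.IsQuotientBy u π) (c c' : Q.P.obj.sections) (T T' : GSheaf F)
    (hT : GSheaf.IsFibreOver u π c T) (hT' : GSheaf.IsFibreOver u π c' T') :
    Nonempty (T ≅ T') ↔
      ∃ g : (GSheaf.uSh G).obj.sections,
        ∀ U : Cᵒᵖ, Q.smul (GSheaf.toGrp (g.1 U)) (c.1 U) = c'.1 U := by
  obtain ⟨D⟩ := isFibreOver_iff.1 hT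
  obtain ⟨D'⟩ := isFibreOver_iff.1 hT'
  constructor
  · rintro ⟨φ⟩
    have hpt := D.isPseudoTorsor hu hQ
    have hGs : Presieve.IsSheaf J (GSheaf.uSh G).obj :=
      (isSheaf_iff_isSheaf_of_type _ _).1 (GSheaf.uSh G).property
    have hQs : Presieve.IsSheaf J Q.P.obj := (isSheaf_iff_isSheaf_of_type _ _).1 Q.P.property
    -- the local translation
    let x₀ : ∀ (U : Cᵒᵖ), T.P.obj.obj U → G.obj.obj U :=
      fun U t => D'.ι U (φ.hom.hom.hom.app U t) * (D.ι U t)⁻¹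
    have hx₀ : ∀ (U : Cᵒᵖ) (t t₂ : T.P.obj.obj U), x₀ U t = x₀ U t₂ := by
      intro U t t₂
      obtain ⟨f, hf, -⟩ := hpt U t t₂
      rw [← hf]
      change D'.ι U (φ.hom.hom.hom.app U t) * (D.ι U t)⁻¹ =
        D'.ι U (φ.hom.hom.hom.app U (T.smul f t)) * (D.ι U (T.smul f t))⁻¹
      rw [φ.hom.map_smul, D'.equiv, D.equiv]
      group
    have hx₀nat : ∀ ⦃U V : Cᵒᵖ⦄ (f : U ⟶ V) (t : T.P.obj.obj U),
        x₀ V (T.P.obj.map f t) = G.obj.map f (x₀ U t) := by
      intro U V f t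
      change D'.ι V (φ.hom.hom.hom.app V (T.P.obj.map f t)) * (D.ι V (T.P.obj.map f t))⁻¹ =
        G.obj.map f (D'.ι U (φ.hom.hom.hom.app U t) * (D.ι U t)⁻¹)
      rw [NatTrans.naturality_apply φ.hom.hom.hom f t, D'.nat, D.nat, map_mul, map_inv]
    obtain ⟨s, hs⟩ := exists_section_of_good (neObj T) (neObj_pre T)
      (neObj_cov T (D.locallyNonempty hQ)) hGs
      (fun W hW => GSheaf.ofGrp (x₀ (op W) hW.some)) (by
        intro W W' h hW hW'
        rw [hx₀ (op W') hW'.some (T.P.obj.map h.op hW.some), hx₀nat]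
        rfl)
    refine ⟨s, ?_⟩
    intro U
    obtain ⟨U⟩ := U
    refine (hQs _ (neObj_cov T (D.locallyNonempty hQ) U)).isSeparatedFor.ext ?_
    intro W f hf
    have h1 : G.obj.map f.op (GSheaf.toGrp (s.1 (op U))) = x₀ (op W) hf.some :=
      (s.2 f.op).trans (hs W hf)
    rw [Q.map_smul, h1, c.2 f.op, c'.2 f.op, ← D.pi_ι (op W) hf.some, ← pi_mul,
      ← D'.pi_ι (op W) (φ.hom.hom.hom.app (op W) hf.some)]
    congr 1
    change D'.ι _ (φ.hom.hom.hom.app (op W) hf.some) * (D.ι _ hf.some)⁻¹ * D.ι _ hf.some = _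
    group
  · rintro ⟨g, hg⟩
    exact nonempty_iso_of_translate D D' (fun U => GSheaf.toGrp (g.1 U)) (fun U V f => g.2 f) hg

end Bdry

end Groth.Agent.Lib.Helper5.Tors
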