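import Mathlib
import Groth.Prelude.Def_NonAbH1
import Groth.Agent.Lib.Helper5.Misc.Tors1
import Groth.Agent.Lib.Helper5.Misc.Tors2
import Groth.Agent.Lib.Helper5.Misc.Tors4
import Groth.Agent.Lib.Helper5.Misc.Bdry1
import Groth.Agent.Lib.Helper5.Misc.Bdry2
import Groth.Agent.Lib.Helper5.Misc.Bdry3

set_option autoImplicit false
universe w' w v u
open CategoryTheory Opposite NonAbH1

namespace Groth.Agent.Lib.Helper5.Tors

variable {C : Type u} [Category.{v} C] {J : GrothendieckTopology C}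

section Bdry

variable [J.HasSheafCompose (forget GrpCat.{w})] {F G : Sheaf J GrpCat.{w}} {u : F ⟶ G}
  {Q : NonAbH1.GSheaf G} {π : NonAbH1.GSheaf.trivial G ⟶ Q}

/-- S8558. -/
theorem cl_eq_one_iff_lifts (hu : ∀ U : Cᵒᵖ, Function.Injective (u.hom.app U))
    (hQ : GSheaf.IsQuotientBy u π) (c : Q.P.obj.sections) (T : NonAbH1.Torsor F)
    (hT : GSheaf.IsFibreOver u π c T.toGSheaf) :
    T.cl = 1 ↔
      ∃ g : (GSheaf.uSh G).obj.sections, ∀ U : Cᵒᵖ, π.hom.hom.app U (g.1 U) = c.1 U := by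
  obtain ⟨D⟩ := isFibreOver_iff.1 hT
  have hpt := T.isTorsor.1
  change T.cl = (trivialTorsor F).cl ↔ _
  rw [cl_eq_iff]
  constructor
  · rintro ⟨ψ⟩
    let t : ∀ U : Cᵒᵖ, T.P.obj.obj U := fun U => ψ.inv.hom.hom.app U (GSheaf.ofGrp (1 : F.obj.obj U))
    have ht : ∀ ⦃U V : Cᵒᵖ⦄ (f : U ⟶ V), T.P.obj.map f (t U) = t V := by
      intro U V f
      have h1 := NatTrans.naturality_apply ψ.inv.hom.hom f (GSheaf.ofGrp (1 : F.obj.obj U))
      refine h1.symm.trans ?_
      congr 1
      exact map_one (F.obj.map f).hom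
    refine ⟨⟨fun U => GSheaf.ofGrp (D.ι U (t U)), ?_⟩, ?_⟩
    · intro U V f
      change G.obj.map f (D.ι U (t U)) = D.ι V (t V)
      rw [← D.nat, ht f]
    · intro U
      exact D.pi_ι U (t U)
  · rintro ⟨g, hg⟩
    have key : ∀ U : Cᵒᵖ, ∃ t : T.P.obj.obj U, D.ι U t = GSheaf.toGrp (g.1 U) :=
      fun U => (D.img U _).2 (hg U)
    choose t ht using key
    have htn : ∀ ⦃U V : Cᵒᵖ⦄ (f : U ⟶ V), T.P.obj.map f (t U) = t V := by
      intro U V f
      apply D.inj V
      rw [D.nat, ht, ht]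
      exact g.2 f
    refine (nonempty_iso_of_bijective (T := GSheaf.trivial F) (T' := T.toGSheaf)
      (fun U f => T.smul (GSheaf.toGrp f) (t U)) ?_ ?_ ?_).map Iso.symm
    · intro U V f x
      change T.smul (F.obj.map f (GSheaf.toGrp x)) (t V) = T.P.obj.map f (T.smul (GSheaf.toGrp x) (t U))
      rw [T.map_smul, htn f]
    · intro U x y
      change T.smul (x * GSheaf.toGrp y) (t U) = T.smul x (T.smul (GSheaf.toGrp y) (t U))
      rw [T.mul_smul]
    · intro U
      constructor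
      · intro x y h
        exact smul_cancel hpt h
      · intro p
        obtain ⟨x, hx, -⟩ := hpt U (t U) p
        exact ⟨GSheaf.ofGrp x, hx⟩

/-- S8556. -/
theorem pushforward_trivial_iff_fibre (hu : ∀ U : Cᵒᵖ, Function.Injective (u.hom.app U))
    (hQ : GSheaf.IsQuotientBy u π) (T : NonAbH1.Torsor F) :
    GSheaf.IsPushforwardAlong u T.toGSheaf (GSheaf.trivial G) ↔
      ∃ c : Q.P.obj.sections, GSheaf.IsFibreOver u π c T.toGSheaf := by
  have hpt := T.isTorsor.1
  constructor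
  · rintro ⟨f, hf⟩
    have hQs : Presieve.IsSheaf J Q.P.obj := (isSheaf_iff_isSheaf_of_type _ _).1 Q.P.property
    have hTs : Presieve.IsSheaf J T.P.obj := (isSheaf_iff_isSheaf_of_type _ _).1 T.P.property
    let ι : ∀ U : Cᵒᵖ, T.P.obj.obj U → G.obj.obj U := fun U t => (GSheaf.toGrp (f.hom.app U t))⁻¹
    have hιnat : ∀ ⦃U V : Cᵒᵖ⦄ (k : U ⟶ V) (t : T.P.obj.obj U),
        ι V (T.P.obj.map k t) = G.obj.map k (ι U t) := by
      intro U V k t
      change (GSheaf.toGrp (f.hom.app V (T.P.obj.map k t)))⁻¹ =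
        G.obj.map k (GSheaf.toGrp (f.hom.app U t))⁻¹
      rw [map_inv]
      congr 1
      exact NatTrans.naturality_apply f.hom k t
    have hιeq : ∀ (U : Cᵒᵖ) (x : F.obj.obj U) (t : T.P.obj.obj U),
        ι U (T.smul x t) = ι U t * (u.hom.app U x)⁻¹ := by
      intro U x t
      change (GSheaf.toGrp (f.hom.app U (T.smul x t)))⁻¹ =
        (GSheaf.toGrp (f.hom.app U t))⁻¹ * (u.hom.app U x)⁻¹
      rw [hf U x t, ← mul_inv_rev]
      rfl
    have hιinj : ∀ U, Function.Injective (ι U) := by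
      intro U t t' h
      obtain ⟨x, hx, -⟩ := hpt U t t'
      rw [← hx, hιeq] at h
      have h1 : (u.hom.app U x)⁻¹ = 1 := by
        have := mul_left_cancel (a := ι U t) (b := 1) (c := (u.hom.app U x)⁻¹) (by rw [mul_one]; exact h)
        exact this.symm
      have h2 : x = 1 := by
        apply hu U
        rw [map_one, ← inv_inj, h1, inv_one]
      rw [← hx, h2, T.one_smul]
    have hindep : ∀ (U : Cᵒᵖ) (t t₂ : T.P.obj.obj U), pi π U (ι U t) = pi π U (ι U t₂) := by
      intro U t t₂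
      obtain ⟨x, hx, -⟩ := hpt U t t₂
      rw [← hx, hιeq, pi_mul_u_inv u π hQ]
    obtain ⟨c, hc⟩ := exists_section_of_good (neObj T.toGSheaf) (neObj_pre T.toGSheaf)
      (neObj_cov T.toGSheaf T.isTorsor.2) hQs
      (fun W hW => pi π (op W) (ι (op W) hW.some)) (by
        intro W W' h hW hW'
        rw [hindep (op W') hW'.some (T.P.obj.map h.op hW.some), hιnat, pi_map])
    have hc' : ∀ (U : Cᵒᵖ) (t : T.P.obj.obj U), c.1 U = pi π U (ι U t) := by
      intro U t
      obtain ⟨U⟩ := U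
      rw [hc U ⟨t⟩]
      exact hindep _ _ _
    refine ⟨c, isFibreOver_iff.2 ⟨⟨ι, hιnat, hιinj, ?_, hιeq⟩⟩⟩
    intro U g
    constructor
    · rintro ⟨t, rfl⟩
      exact (hc' U t).symm
    · intro hgc
      obtain ⟨V⟩ := U
      have hcov := neObj_cov T.toGSheaf T.isTorsor.2 V
      have key : ∀ ⦃W : C⦄ (k : W ⟶ V), neObj T.toGSheaf W →
          ∃ y : T.P.obj.obj (op W), ι (op W) y = G.obj.map k.op g := by
        intro W k hW
        obtain ⟨t⟩ := hW
        have h1 : pi π (op W) (ι (op W) t) = pi π (op W) (G.obj.map k.op g) := by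
          rw [pi_map, hgc, c.2 k.op, hc' (op W) t]
        obtain ⟨x, hx⟩ := (pi_eq_iff hQ _ _ _).1 h1
        refine ⟨T.smul x⁻¹ t, ?_⟩
        rw [hιeq, hx, map_inv, inv_inv]
      choose y hy using key
      let fam : Presieve.FamilyOfElements T.P.obj
          (goodSieve (neObj T.toGSheaf) (neObj_pre T.toGSheaf) V).arrows := fun W k hk => y k hk
      have hfam : fam.Compatible := by
        rw [Presieve.compatible_iff_sieveCompatible]
        intro W W' k h hk
        apply hιinj (op W')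
        change ι (op W') (y (h ≫ k) _) = ι (op W') (T.P.obj.map h.op (y k hk))
        rw [hy, hιnat, hy, op_comp, Functor.map_comp]
        rfl
      refine ⟨(hTs _ hcov).amalgamate fam hfam, ?_⟩
      apply G_ext G hcov
      intro W k hk
      rw [← hιnat, (hTs _ hcov).valid_glue hfam k hk]
      exact hy k hk
  · rintro ⟨c, hT⟩
    obtain ⟨D⟩ := isFibreOver_iff.1 hT
    refine ⟨⟨{
      app := fun U => TypeCat.ofHom (fun t => GSheaf.ofGrp (D.ι U t)⁻¹)
      naturality := ?_ }⟩, ?_⟩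
    · intro U V k
      ext t
      change (D.ι V (T.P.obj.map k t))⁻¹ = G.obj.map k (D.ι U t)⁻¹
      rw [D.nat, map_inv]
    · intro U x t
      change (D.ι U (T.smul x t))⁻¹ = u.hom.app U x * (D.ι U t)⁻¹
      rw [D.equiv, mul_inv_rev, inv_inv]

end Bdry

end Groth.Agent.Lib.Helper5.Tors
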