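import Mathlib
universe u v
open Polynomial

namespace Groth.Agent.Helper5.CSAOrder

/-- a primitive `d`-th root of unity when `X^d - 1` splits and `d ≠ 0` -/
lemma exists_prim (K : Type u) [Field K] (d : ℕ) (hd : 0 < d) (hdK : (d : K) ≠ 0)
    (hK : (X ^ d - 1 : K[X]).Splits) : ∃ ζ : K, IsPrimitiveRoot ζ d := by
  have : NeZero (d : K) := ⟨hdK⟩
  have hne : (X ^ d - 1 : K[X]) ≠ 0 := X_pow_sub_C_ne_zero hd 1
  have hs : (cyclotomic d K).Splits := hK.of_dvd hne (cyclotomic.dvd_X_pow_sub_one d K)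
  have hdeg : (cyclotomic d K).degree ≠ 0 := by
    rw [degree_cyclotomic]
    have := Nat.totient_pos.2 hd
    exact_mod_cast this.ne'
  obtain ⟨ζ, hζ⟩ := hs.exists_eval_eq_zero hdeg
  exact ⟨ζ, isRoot_cyclotomic_iff.1 hζ⟩

/-- a nontrivial idempotent in a simple artinian ring which is not a division ring -/
lemma exists_idem (A : Type v) [Ring A] [IsSimpleRing A] [IsArtinianRing A]
    (hA : ∃ y : A, y ≠ 0 ∧ ¬ IsUnit y) : ∃ e : A, e * e = e ∧ e ≠ 0 ∧ e ≠ 1 := by
  classical
  obtain ⟨n, hn, D, _, ⟨φ⟩⟩ := IsSimpleRing.exists_ringEquiv_matrix_divisionRing A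
  have hn2 : 2 ≤ n := by
    by_contra hlt
    have hn1 : n = 1 := by have := hn.out; omega
    subst hn1
    obtain ⟨y, hy0, hyu⟩ := hA
    apply hyu
    -- φ y is a 1×1 matrix with nonzero entry
    have h00 : φ y 0 0 ≠ 0 := by
      intro h0
      apply hy0
      apply φ.injective
      rw [map_zero]
      ext i j
      rw [Subsingleton.elim i 0, Subsingleton.elim j 0, h0]; rfl
    have hu : IsUnit (φ y) := by
      refine ⟨⟨φ y, Matrix.of (fun _ _ => (φ y 0 0)⁻¹), ?_, ?_⟩, rfl⟩
      · ext i j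
        rw [Subsingleton.elim i 0, Subsingleton.elim j 0]
        simp [Matrix.mul_apply, h00]
      · ext i j
        rw [Subsingleton.elim i 0, Subsingleton.elim j 0]
        simp [Matrix.mul_apply, h00]
    have := hu.map φ.symm
    simpa using this
  let i0 : Fin n := ⟨0, by omega⟩
  let i1 : Fin n := ⟨1, by omega⟩
  refine ⟨φ.symm (Matrix.single i0 i0 1), ?_, ?_, ?_⟩
  · rw [← map_mul, Matrix.single_mul_single_same, mul_one]
  · intro h0
    have := congrArg φ h0
    rw [φ.apply_symm_apply, map_zero] at this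
    have h1 := congrFun (congrFun this i0) i0
    simp at h1
  · intro h1
    have := congrArg φ h1
    rw [φ.apply_symm_apply, map_one] at this
    have h2 := congrFun (congrFun this i1) i1
    simp [Matrix.single, i0, i1] at h2


theorem main (K : Type u) [Field K] (hK : ∀ n : ℕ, 0 < n → (X ^ n - 1 : K[X]).Splits)
    (A : Type v) [Ring A] [Algebra K A] [IsSimpleRing A] [FiniteDimensional K A]
    (hA : ∃ y : A, y ≠ 0 ∧ ¬ IsUnit y) (d : ℕ) (hd : 0 < d) (hdK : (d : K) ≠ 0) :
    ∃ x : A, IsUnit x ∧ x ^ d ∈ (algebraMap K A).range ∧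
      ∀ k : ℕ, 0 < k → k < d → x ^ k ∉ (algebraMap K A).range := by
  have hart : IsArtinianRing A := IsArtinianRing.of_finite K A
  obtain ⟨ζ, hζ⟩ := exists_prim K d hd hdK (hK d hd)
  obtain ⟨e, hee, he0, he1⟩ := exists_idem A hA
  set f : A := 1 - e with hf
  have hff : f * f = f := by
    rw [hf, mul_sub, mul_one, sub_mul, one_mul, hee, sub_self, sub_zero]
  have hef : e * f = 0 := by rw [hf, mul_sub, mul_one, hee, sub_self]
  have hfe : f * e = 0 := by rw [hf, sub_mul, one_mul, hee, sub_self]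
  have hf0 : f ≠ 0 := by
    rw [hf, sub_ne_zero]; exact fun h => he1 h.symm
  have hpow : ∀ k : ℕ, (ζ • e + f) ^ k = ζ ^ k • e + f := by
    intro k
    induction k with
    | zero => rw [pow_zero, pow_zero, one_smul, hf]; noncomm_ring
    | succ k ih =>
      rw [pow_succ, ih, add_mul, mul_add, mul_add, smul_mul_smul_comm, hee, smul_mul_assoc, hef,
        smul_zero, mul_smul_comm, hfe, smul_zero, hff, ← pow_succ]
      abel
  refine ⟨ζ • e + f, ?_, ?_, ?_⟩
  · have h1 : (ζ • e + f) ^ d = 1 := by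
      rw [hpow, hζ.pow_eq_one, one_smul, hf]; noncomm_ring
    obtain ⟨d', rfl⟩ : ∃ d', d = d' + 1 := ⟨d - 1, by omega⟩
    exact ⟨⟨ζ • e + f, (ζ • e + f) ^ d', by rw [← pow_succ', h1], by rw [← pow_succ, h1]⟩, rfl⟩
  · refine ⟨1, ?_⟩
    rw [map_one, hpow, hζ.pow_eq_one, one_smul, hf]; noncomm_ring
  · rintro k hk0 hkd ⟨c, hc⟩
    rw [hpow, Algebra.algebraMap_eq_smul_one] at hc
    have h1 := congrArg (· * e) hc
    simp only [smul_mul_assoc, one_mul, add_mul, hee, hfe, add_zero] at h1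
    have h2 := congrArg (· * f) hc
    simp only [smul_mul_assoc, one_mul, add_mul, hef, hff, smul_zero, zero_add] at h2
    have hc1 : c = 1 := by
      have : (c - 1) • f = 0 := by rw [sub_smul, one_smul, h2, sub_self]
      rcases smul_eq_zero.1 this with h | h
      · exact sub_eq_zero.1 h
      · exact absurd h hf0
    have hζk : ζ ^ k = c := by
      have : (c - ζ ^ k) • e = 0 := by rw [sub_smul, h1, sub_self]
      rcases smul_eq_zero.1 this with h | h
      · exact (sub_eq_zero.1 h).symm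
      · exact absurd h he0
    exact hζ.pow_ne_one_of_pos_of_lt hk0.ne' hkd (hζk.trans hc1)

end Groth.Agent.Helper5.CSAOrder
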