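import Mathlib

universe u v w

namespace Helper5.S13061

lemma choose_pow_mul_not_dvd (p : ℕ) [Fact p.Prime] (n m : ℕ) (hm : ¬ p ∣ m) :
    ¬ p ∣ Nat.choose (p ^ n * m) (p ^ n) := by
  have h : ∀ n, (Nat.choose (p ^ n * m) (p ^ n) : ℤ) ≡ m [ZMOD p] := by
    intro n
    induction n with
    | zero => simp
    | succ n ih =>
      rw [pow_succ', mul_assoc]
      have := Choose.choose_mul_mul_modEq_choose (p := p) (a := p ^ n * m) (b := p ^ n)
      exact this.trans ih
  intro hdvd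
  have h1 := h n
  have h2 : ((Nat.choose (p ^ n * m) (p ^ n) : ℕ) : ℤ) ≡ 0 [ZMOD p] := by
    rw [Int.modEq_zero_iff_dvd]
    exact_mod_cast hdvd
  have h3 : (m : ℤ) ≡ 0 [ZMOD p] := h1.symm.trans h2
  rw [Int.modEq_zero_iff_dvd] at h3
  exact hm (by exact_mod_cast h3)

end Helper5.S13061

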