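import Mathlib
import Groth.Agent.Lib.Helper3.NoethExt

set_option autoImplicit false
set_option linter.unusedSectionVars false
set_option linter.unusedVariables false
set_option linter.style.haveILetI false
universe w u₁ u₂
open CategoryTheory CategoryTheory.Limits

namespace Groth.Agent.Lib.Helper5.Misc.CohDerGen

section BSide

variable {B : Type u₂} [Category.{w} B] [Abelian B] {ι : Type w} (s : ι → B)

/-- the raw separating hypothesis of the statements -/
def Sep : Prop :=
  ∀ ⦃X Y : B⦄ (f g : X ⟶ Y), (∀ (i : ι) (h : s i ⟶ X), h ≫ f = h ≫ g) → f = g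

lemma isSeparating_of_sep (hsep : Sep s) : ObjectProperty.IsSeparating (.ofObj s) := by
  intro X Y f g h
  exact hsep f g (fun i x => h _ ⟨i⟩ x)

lemma isGrothendieckAbelian_of_sep [HasColimitsOfSize.{w, w} B] [AB5OfSize.{w, w} B]
    (hsep : Sep s) : IsGrothendieckAbelian.{w} B where
  hasSeparator := ⟨⟨∐ s, (isSeparating_of_sep s hsep).isSeparator_coproduct⟩⟩

variable [IsGrothendieckAbelian.{w} B]

/-- index type of quotients of finite coproducts of the `s i` -/
def Sidx : Type (max w u₂) := Σ (n : ℕ) (i : Fin n → ι), Subobject (∐ fun k => s (i k))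

instance : Small.{w} (Sidx s) := by
  unfold Sidx
  infer_instance

/-- the quotient attached to an index -/
noncomputable def Sobj (σ : Sidx s) : B := cokernel σ.2.2.arrow

/-- the filtered index category: lists of morphisms from the `s i` to `X` -/
structure JJ (X : B) : Type w where
  l : List (Σ i, (s i ⟶ X))

instance (X : B) : Preorder (JJ s X) := Preorder.lift (fun j : JJ s X => {x | x ∈ j.l})

lemma JJ.le_iff {X : B} (j j' : JJ s X) : j ≤ j' ↔ ∀ x ∈ j.l, x ∈ j'.l := Iff.rfl

instance (X : B) : Nonempty (JJ s X) := ⟨⟨[]⟩⟩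

instance (X : B) : IsDirected (JJ s X) (· ≤ ·) where
  directed j j' := ⟨⟨j.l ++ j'.l⟩, fun x hx => List.mem_append_left _ hx,
    fun x hx => List.mem_append_right _ hx⟩

noncomputable def phi {X : B} (j : JJ s X) :
    (∐ fun k : Fin j.l.length => s (j.l.get k).1) ⟶ X :=
  Sigma.desc (fun k => (j.l.get k).2)

noncomputable def bb {X : B} (j : JJ s X) : Subobject X := imageSubobject (phi s j)

lemma bb_le_iff {X : B} (j : JJ s X) (P : Subobject X) :
    bb s j ≤ P ↔ ∀ x ∈ j.l, P.Factors x.2 := by
  constructor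
  · intro h x hx
    obtain ⟨k, rfl⟩ := List.get_of_mem hx
    refine Subobject.factors_of_le _ h ?_
    have := imageSubobject_factors_comp_self (f := phi s j)
      (Sigma.ι (fun k : Fin j.l.length => s (j.l.get k).1) k)
    simpa [bb, phi] using this
  · intro h
    refine imageSubobject_le _
      (Sigma.desc (fun k => P.factorThru (j.l.get k).2 (h _ (List.get_mem _ _)))) ?_
    apply Sigma.hom_ext
    intro k
    simp [phi]

lemma bb_mono (X : B) : Monotone (bb s (X := X)) := by
  intro j j' h
  rw [bb_le_iff]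
  intro x hx
  exact (bb_le_iff s j' _).1 le_rfl x (h hx)

/-- the functor to `MonoOver X` -/
noncomputable def Phi (X : B) : JJ s X ⥤ MonoOver X :=
  (bb_mono s X).functor ⋙ Subobject.representative

/-- the diagram of finitely generated subobjects -/
noncomputable def DD (X : B) : JJ s X ⥤ B :=
  (Phi s X ⋙ MonoOver.forget X) ⋙ Over.forget X

lemma DD_obj (X : B) (j : JJ s X) : (DD s X).obj j = (bb s j : B) := rfl

/-- the cocone in `Over X` -/
noncomputable def cOver (X : B) : Cocone (Phi s X ⋙ MonoOver.forget X) where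
  pt := Over.mk (𝟙 X)
  ι :=
    { app := fun j => Over.homMk ((Phi s X).obj j).obj.hom (by simp)
      naturality := by
        intro j j' f
        ext
        simp [MonoOver.forget] }

lemma iSup_bb_eq_top (hsep : Sep s) (X : B) : (⨆ j : JJ s X, bb s j) = ⊤ := by
  refine (Subobject.eq_of_le_of_isDetecting
    ((isSeparating_of_sep s hsep).isDetecting) _ _ le_top ?_)
  rintro _ ⟨i⟩ x _
  refine Subobject.factors_of_le _ (le_iSup (bb s) (⟨[⟨i, x⟩]⟩ : JJ s X)) ?_
  exact (bb_le_iff s (⟨[⟨i, x⟩]⟩ : JJ s X) _).1 le_rfl ⟨i, x⟩ (by simp)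

/-- the colimit cocone with point `X` -/
noncomputable def cc (X : B) : Cocone (DD s X) where
  pt := X
  ι :=
    { app := fun j => (bb s j).arrow
      naturality := by
        intro j j' f
        dsimp
        rw [Category.comp_id]
        exact MonoOver.w ((Phi s X).map f) }

noncomputable def cc_isColimit (hsep : Sep s) (X : B) : IsColimit (cc s X) := by
  haveI : Mono (cOver s X).pt.hom := by
    dsimp [cOver]; infer_instance
  have h : Subobject.mk (cOver s X).pt.hom = ⨆ j, Subobject.mk ((Phi s X).obj j).obj.hom := by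
    have h1 : ∀ j : JJ s X, Subobject.mk ((Phi s X).obj j).obj.hom = bb s j := by
      intro j
      exact Subobject.mk_arrow (bb s j)
    simp only [h1, iSup_bb_eq_top s hsep X]
    exact (Subobject.top_eq_id X).symm
  refine IsColimit.ofIsoColimit
    (IsGrothendieckAbelian.isColimitMapCoconeOfSubobjectMkEqISup (Phi s X) (cOver s X) h)
    (Cocone.ext (Iso.refl _) ?_)
  intro j
  simp [cc, cOver]
  rfl

instance cc_mono (X : B) (j : JJ s X) : Mono ((cc s X).ι.app j) :=
  Subobject.arrow_mono (bb s j)

/-- the structure maps of `cc`, with target syntactically the constant functor at `X` -/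
noncomputable def ccι (X : B) : DD s X ⟶ (Functor.const (JJ s X)).obj X := (cc s X).ι

instance ccι_mono (X : B) (j : JJ s X) : Mono ((ccι s X).app j) := cc_mono s X j

noncomputable def ccι_isColimit (hsep : Sep s) (X : B) : IsColimit (Cocone.mk X (ccι s X)) :=
  cc_isColimit s hsep X

lemma DD_obj_iso (X : B) (j : JJ s X) : ∃ σ : Sidx s, Nonempty ((DD s X).obj j ≅ Sobj s σ) := by
  refine ⟨⟨j.l.length, fun k => (j.l.get k).1, kernelSubobject (phi s j)⟩, ⟨?_⟩⟩
  refine (imageSubobjectIso (phi s j)) ≪≫ (Abelian.coimageIsoImage' (phi s j)).symm ≪≫ ?_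
  exact cokernel.mapIso _ _ (kernelSubobjectIso (phi s j)).symm (Iso.refl _) (by simp)

open Groth.Agent.Helper3.NoethExt in
lemma isNoetherianObject_sigma {n : ℕ} (Z : Fin n → B) (h : ∀ k, IsNoetherianObject (Z k)) :
    IsNoetherianObject (∐ Z) := by
  classical
  let f : Fin n → Subobject (∐ Z) := fun k => imageSubobject (Sigma.ι Z k)
  let P : Subobject (∐ Z) := Finset.univ.sup f
  haveI hP : IsNoetherianObject (P : B) := by
    refine isNoetherianObject_finset_sup Finset.univ f (fun k _ => ?_)
    haveI := h k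
    exact isNoetherianObject_of_epi (factorThruImageSubobject (Sigma.ι Z k))
  have hf : ∀ k, P.Factors (Sigma.ι Z k) := by
    intro k
    refine Subobject.factors_of_le _ (Finset.le_sup (f := f) (Finset.mem_univ k)) ?_
    have h0 := imageSubobject_factors_comp_self (f := Sigma.ι Z k) (𝟙 _)
    rw [Category.id_comp] at h0
    exact h0
  let u : ∐ Z ⟶ (P : B) := Sigma.desc (fun k => P.factorThru (Sigma.ι Z k) (hf k))
  have hu : u ≫ P.arrow = 𝟙 _ := by
    apply Sigma.hom_ext
    intro k
    simp [u]
  haveI : IsSplitEpi P.arrow := ⟨⟨⟨u, hu⟩⟩⟩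
  haveI : IsIso P.arrow := isIso_of_mono_of_isSplitEpi _
  exact isNoetherianObject_of_mono (inv P.arrow)

open Groth.Agent.Helper3.NoethExt in
lemma isNoetherianObject_Sobj (hN : ∀ i, IsNoetherianObject (s i)) (σ : Sidx s) :
    IsNoetherianObject (Sobj s σ) := by
  obtain ⟨n, i, K⟩ := σ
  dsimp only [Sobj]
  haveI : IsNoetherianObject (∐ fun k => s (i k)) :=
    isNoetherianObject_sigma _ (fun k => hN _)
  exact isNoetherianObject_of_epi (cokernel.π K.arrow)

lemma isNoetherianObject_DD_obj (hN : ∀ i, IsNoetherianObject (s i)) (X : B) (j : JJ s X) :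
    IsNoetherianObject ((DD s X).obj j) := by
  obtain ⟨σ, ⟨e⟩⟩ := DD_obj_iso s X j
  haveI := isNoetherianObject_Sobj s hN σ
  exact isNoetherianObject_of_mono e.hom

end BSide

section ASide

variable {A : Type u₁} [Category.{w} A] [Abelian A]
  {B : Type u₂} [Category.{w} B] [Abelian B]
  (F : A ⥤ B) [F.Additive] [F.Faithful] [PreservesFiniteLimits F]

/-- the order-preserving map on subobjects induced by a left exact functor -/
noncomputable def subMap (a : A) : Subobject a →o Subobject (F.obj a) where
  toFun P := Subobject.mk (F.map P.arrow)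
  monotone' P Q h := Subobject.mk_le_mk_of_comm (F.map (Subobject.ofLE P Q h))
    (by rw [← F.map_comp, Subobject.ofLE_arrow])

lemma le_of_subMap_le (a : A) (P Q : Subobject a) (h : subMap F a P ≤ subMap F a Q) : P ≤ Q := by
  have h0 : P.arrow ≫ cokernel.π Q.arrow = 0 := by
    apply F.map_injective
    have e : F.map P.arrow = Subobject.ofMkLEMk _ _ h ≫ F.map Q.arrow :=
      (Subobject.ofMkLEMk_comp h).symm
    rw [F.map_comp, e, Category.assoc, ← F.map_comp, cokernel.condition, F.map_zero,
      F.map_zero, comp_zero]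
  exact Subobject.le_of_comm (Abelian.monoLift Q.arrow P.arrow h0) (Abelian.monoLift_comp _ _ _)

lemma subMap_injective (a : A) : Function.Injective (subMap F a) := by
  intro P Q h
  exact le_antisymm (le_of_subMap_le F a P Q h.le) (le_of_subMap_le F a Q P h.ge)

include F in
lemma wellPowered_of_faithful [WellPowered.{w} B] : WellPowered.{w} A where
  subobject_small a := small_of_injective (subMap_injective F a)

lemma isNoetherianObject_of_map (a : A) [IsNoetherianObject (F.obj a)] : IsNoetherianObject a := by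
  rw [isNoetherianObject_iff_monotone_chain_condition]
  intro f
  obtain ⟨n, hn⟩ := monotone_chain_condition_of_isNoetherianObject ((subMap F a).comp f)
  exact ⟨n, fun m hm => subMap_injective F a (hn m hm)⟩

end ASide

section Pull

variable {A : Type u₁} [Category.{w} A] [Abelian A]
  {B : Type u₂} [Category.{w} B] [Abelian B]
  {F : A ⥤ B} {G : B ⥤ A} (adj : F ⊣ G)
  {a : A} {J : Type w} [SmallCategory J] {D : J ⥤ B} (α : D ⟶ (Functor.const J).obj (F.obj a))

/-- the pullback `a ×_{GFa} G(D j)` -/
noncomputable def aj (j : J) : A := pullback (adj.unit.app a) (G.map (α.app j))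

noncomputable def pj (j : J) : aj adj α j ⟶ a := pullback.fst _ _

noncomputable def qj (j : J) : aj adj α j ⟶ G.obj (D.obj j) := pullback.snd _ _

lemma pj_qj (j : J) : pj adj α j ≫ adj.unit.app a = qj adj α j ≫ G.map (α.app j) :=
  pullback.condition

lemma isPullback_aj (j : J) :
    IsPullback (pj adj α j) (qj adj α j) (adj.unit.app a) (G.map (α.app j)) :=
  IsPullback.of_hasPullback _ _

instance [F.Faithful] (j : J) : Mono (qj adj α j) := by
  unfold qj; exact pullback.snd_of_mono

instance (j : J) [Mono (α.app j)] : Mono (pj adj α j) := by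
  haveI : G.PreservesMonomorphisms := Functor.preservesMonomorphisms_of_adjunction adj
  haveI : Mono (G.map (α.app j)) := inferInstance
  unfold pj; exact pullback.fst_of_mono

lemma map_pj (j : J) :
    F.map (pj adj α j) = (adj.homEquiv _ _).symm (qj adj α j) ≫ α.app j := by
  rw [← Adjunction.homEquiv_naturality_right_symm, ← pj_qj]
  rw [Adjunction.homEquiv_counit, F.map_comp, Category.assoc]
  exact ((congrArg (fun t => F.map (pj adj α j) ≫ t) (adj.left_triangle_components a)).trans
    (Category.comp_id _)).symm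

/-- transition maps -/
lemma exists_trans {j j' : J} (φ : j ⟶ j') :
    ∃ u : aj adj α j ⟶ aj adj α j', u ≫ pj adj α j' = pj adj α j := by
  refine ⟨pullback.lift (pj adj α j) (qj adj α j ≫ G.map (D.map φ)) ?_, pullback.lift_fst _ _ _⟩
  have := α.naturality φ
  simp only [Functor.const_obj_obj, Functor.const_obj_map, Category.comp_id] at this
  rw [Category.assoc, ← G.map_comp, this]
  exact pj_qj adj α j

variable [F.Additive] [F.Faithful] [PreservesFiniteLimits F]
  [IsGrothendieckAbelian.{w} B] [IsFiltered J] [PreservesFilteredColimitsOfSize.{w, w} G]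
  (hα : IsColimit (Cocone.mk _ α))

include hα in
theorem jointly_epi {a' : A} (f : a ⟶ a') (h : ∀ j, pj adj α j ≫ f = 0) : f = 0 := by
  haveI : PreservesColimitsOfSize.{w, w} F := adj.leftAdjoint_preservesColimits
  haveI : PreservesColimitsOfShape J G :=
    PreservesFilteredColimitsOfSize.preserves_filtered_colimits J
  let c₀ : Cocone D := Cocone.mk _ α
  let c : Cocone ((D ⋙ G) ⋙ F) := F.mapCocone (G.mapCocone c₀)
  have hc : IsColimit c := isColimitOfPreserves F (isColimitOfPreserves G hα)
  let z : F.obj a ⟶ c.pt := F.map (adj.unit.app a)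
  haveI := IsGrothendieckAbelian.IsPresentable.surjectivity.isIso_f hc z
  apply F.map_injective
  rw [F.map_zero, ← cancel_epi (IsGrothendieckAbelian.IsPresentable.surjectivity.f z), comp_zero]
  apply colimit.hom_ext
  intro j
  rw [comp_zero, ← Category.assoc, IsGrothendieckAbelian.IsPresentable.surjectivity.hf]
  have cond : (pullback.fst c.ι ((Functor.const J).map z)).app j ≫ c.ι.app j =
      (pullback.snd c.ι ((Functor.const J).map z)).app j ≫ z := by
    have := NatTrans.congr_app (pullback.condition (f := c.ι) (g := (Functor.const J).map z)) j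
    simpa using this
  have sq := (isPullback_aj adj α j).map F
  obtain ⟨u, hu, -⟩ : ∃ u, u ≫ F.map (pj adj α j) =
      (pullback.snd c.ι ((Functor.const J).map z)).app j ∧ u ≫ F.map (qj adj α j) =
      (pullback.fst c.ι ((Functor.const J).map z)).app j :=
    ⟨sq.lift _ _ cond.symm, sq.lift_fst _ _ _, sq.lift_snd _ _ _⟩
  rw [← hu, Category.assoc, ← F.map_comp, h j, F.map_zero, comp_zero]

omit [IsGrothendieckAbelian.{w} B] [IsFiltered J] [PreservesFilteredColimitsOfSize.{w, w} G] in
lemma isNoetherianObject_aj (j : J) [Mono (α.app j)] [IsNoetherianObject (D.obj j)] :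
    IsNoetherianObject (aj adj α j) := by
  haveI : Mono ((adj.homEquiv _ _).symm (qj adj α j) ≫ α.app j) := by
    rw [← map_pj]; infer_instance
  haveI : Mono ((adj.homEquiv _ _).symm (qj adj α j)) := mono_of_mono _ (α.app j)
  haveI : IsNoetherianObject (F.obj (aj adj α j)) :=
    isNoetherianObject_of_mono ((adj.homEquiv _ _).symm (qj adj α j))
  exact isNoetherianObject_of_map F _

include adj hα in
theorem isNoetherianObject_map_of [IsNoetherianObject a] (hmono : ∀ j, Mono (α.app j))
    (hN : ∀ j, IsNoetherianObject (D.obj j)) : IsNoetherianObject (F.obj a) := by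
  -- a maximal element among the subobjects `a_j`
  let S : Set (Subobject a) := Set.range (fun j => Subobject.mk (pj adj α j))
  have hne : S.Nonempty := ⟨_, ⟨IsFiltered.nonempty.some, rfl⟩⟩
  obtain ⟨m, ⟨j₀, rfl⟩, hmax⟩ := (wellFounded_gt (α := Subobject a)).has_min S hne
  have hle : ∀ j, Subobject.mk (pj adj α j) ≤ Subobject.mk (pj adj α j₀) := by
    intro j
    obtain ⟨u, hu⟩ := exists_trans adj α (IsFiltered.leftToMax j j₀)
    obtain ⟨v, hv⟩ := exists_trans adj α (IsFiltered.rightToMax j j₀)
    have h1 : Subobject.mk (pj adj α j) ≤ Subobject.mk (pj adj α (IsFiltered.max j j₀)) :=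
      Subobject.mk_le_mk_of_comm u hu
    have h2 : Subobject.mk (pj adj α j₀) ≤ Subobject.mk (pj adj α (IsFiltered.max j j₀)) :=
      Subobject.mk_le_mk_of_comm v hv
    have h3 : Subobject.mk (pj adj α (IsFiltered.max j j₀)) = Subobject.mk (pj adj α j₀) := by
      by_contra hne'
      exact hmax _ ⟨_, rfl⟩ (lt_of_le_of_ne h2 (Ne.symm hne'))
    exact h1.trans h3.le
  haveI : Epi (pj adj α j₀) := by
    refine Preadditive.epi_of_cancel_zero _ (fun g hg => ?_)
    refine jointly_epi adj α hα g (fun j => ?_)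
    rw [← Subobject.ofMkLEMk_comp (hle j), Category.assoc, hg, comp_zero]
  haveI : IsIso (pj adj α j₀) := isIso_of_mono_of_epi _
  -- the unit factors through `G (D j₀)`
  have hunit : adj.unit.app a = (inv (pj adj α j₀) ≫ qj adj α j₀) ≫ G.map (α.app j₀) := by
    rw [Category.assoc, ← pj_qj, IsIso.inv_hom_id_assoc]
  have hid : (adj.homEquiv _ _).symm (inv (pj adj α j₀) ≫ qj adj α j₀) ≫ α.app j₀ = 𝟙 (F.obj a) := by
    rw [← Adjunction.homEquiv_naturality_right_symm, ← hunit, Adjunction.homEquiv_counit]
    exact adj.left_triangle_components a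
  haveI : IsSplitEpi (α.app j₀) := ⟨⟨⟨_, hid⟩⟩⟩
  haveI : IsIso (α.app j₀) := isIso_of_mono_of_isSplitEpi _
  haveI := hN j₀
  exact isNoetherianObject_of_mono (inv (α.app j₀))

end Pull

section Main

variable {A : Type u₁} [Category.{w} A] [Abelian A]
  {B : Type u₂} [Category.{w} B] [Abelian B]
  {ι : Type w} (s : ι → B)
  {F : A ⥤ B} {G : B ⥤ A} (adj : F ⊣ G) [F.Additive] [F.Faithful]
  [PreservesFiniteLimits F]

include adj in
lemma ab5_of_faithful [HasColimitsOfSize.{w, w} A] [HasColimitsOfSize.{w, w} B]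
    [AB5OfSize.{w, w} B] : AB5OfSize.{w, w} A where
  ofShape J _ _ := by
    haveI : PreservesColimitsOfSize.{w, w} F := adj.leftAdjoint_preservesColimits
    haveI : ReflectsFiniteLimits F :=
      ⟨fun K _ _ => reflectsLimitsOfShape_of_reflectsIsomorphisms⟩
    exact HasExactColimitsOfShape.domain_of_functor J F

variable [IsGrothendieckAbelian.{w} B] [PreservesFilteredColimitsOfSize.{w, w} G]

/-- index type of the separating family in `A` -/
def Tidx₀ (G : B ⥤ A) (Q : A → Prop) : Type (max w u₁ u₂) :=
  {x : Σ σ : Sidx s, Subobject (G.obj (Sobj s σ)) // Q (x.2 : A)}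

theorem main (Q : A → Prop) (hQiso : ∀ {x y : A}, (x ≅ y) → Q x → Q y) (hsep : Sep s)
    (hQ : ∀ (a : A) (j : JJ s (F.obj a)), Q (aj adj (ccι s (F.obj a)) j)) :
    ∃ (κ : Type w) (t : κ → A), (∀ k, Q (t k)) ∧
      ∀ ⦃X Y : A⦄ (f g : X ⟶ Y), (∀ (k : κ) (h : t k ⟶ X), h ≫ f = h ≫ g) → f = g := by
  haveI : WellPowered.{w} A := wellPowered_of_faithful F
  haveI : Small.{w} (Tidx₀ s G Q) := by unfold Tidx₀; infer_instance
  refine ⟨Shrink.{w} (Tidx₀ s G Q), fun k => (((equivShrink _).symm k).1.2 : A),
    fun k => ((equivShrink _).symm k).2, ?_⟩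
  intro X Y f g h
  have h' : ∀ (x : Tidx₀ s G Q) (u : (x.1.2 : A) ⟶ X), u ≫ f = u ≫ g := by
    intro x u
    obtain ⟨k, rfl⟩ := (equivShrink (Tidx₀ s G Q)).symm.surjective x
    exact h k u
  rw [← sub_eq_zero]
  refine jointly_epi adj (ccι s (F.obj X)) (ccι_isColimit s hsep (F.obj X)) _ (fun j => ?_)
  obtain ⟨σ, ⟨e⟩⟩ := DD_obj_iso s (F.obj X) j
  let m := qj adj (ccι s (F.obj X)) j ≫ G.map e.hom
  haveI : Mono m := mono_comp _ _
  let x : Tidx₀ s G Q := ⟨⟨σ, Subobject.mk m⟩, hQiso (Subobject.underlyingIso m).symm (hQ X j)⟩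
  have h2 := h' x ((Subobject.underlyingIso m).hom ≫ pj adj _ j)
  rw [Category.assoc, Category.assoc, cancel_epi] at h2
  rw [Preadditive.comp_sub, h2, sub_self]

end Main

end Groth.Agent.Lib.Helper5.Misc.CohDerGen
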