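import Mathlib
import Groth.Agent.Lib.Helper5.Misc.LanExact

/-!
# Colimits over a category whose connected components are filtered are exact (helper5)

If a category `J` has (weak) pushouts and coequalizers, then each connected component is filtered;
consequently colimits of shape `J` in an abelian category satisfying AB4 and AB5 are exact.
-/
set_option autoImplicit false
universe w v u
open CategoryTheory CategoryTheory.Limits Opposite

namespace Groth.Agent.Lib.Helper5.Misc.CompFiltered

variable {J : Type u} [Category.{v} J]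

/-- weak pushouts: every span can be completed to a (not necessarily commuting) cospan -/
def WeakSpan (J : Type u) [Category.{v} J] : Prop :=
  ∀ ⦃x y z : J⦄ (_ : z ⟶ x) (_ : z ⟶ y), ∃ w : J, Nonempty (x ⟶ w) ∧ Nonempty (y ⟶ w)

/-- weak coequalizers -/
def WeakCoeq (J : Type u) [Category.{v} J] : Prop :=
  ∀ ⦃x y : J⦄ (f g : x ⟶ y), ∃ (z : J) (h : y ⟶ z), f ≫ h = g ≫ h

/-- with weak pushouts, objects related by a zigzag have a common upper bound -/
lemma exists_cospan_of_zigzag (h1 : WeakSpan J) {x y : J} (h : Zigzag x y) :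
    ∃ w : J, Nonempty (x ⟶ w) ∧ Nonempty (y ⟶ w) := by
  induction h with
  | refl => exact ⟨x, ⟨𝟙 x⟩, ⟨𝟙 x⟩⟩
  | tail _ hzag ih =>
    rename_i b c
    obtain ⟨w, ⟨f⟩, ⟨g⟩⟩ := ih
    rcases hzag with ⟨⟨k⟩⟩ | ⟨⟨k⟩⟩
    · -- `b ⟶ c`: complete the span `w ⟵ b ⟶ c`
      obtain ⟨w', ⟨f'⟩, ⟨g'⟩⟩ := h1 g k
      exact ⟨w', ⟨f ≫ f'⟩, ⟨g'⟩⟩
    · -- `c ⟶ b`
      exact ⟨w, ⟨f⟩, ⟨k ≫ g⟩⟩

/-- the projection to the set of connected components -/
abbrev proj (J : Type u) [Category.{v} J] : J ⥤ Discrete (ConnectedComponents J) :=
  ConnectedComponents.functorToDiscrete _ id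

lemma isFiltered_costructuredArrow (h1 : WeakSpan J) (h2 : WeakCoeq J)
    (c : Discrete (ConnectedComponents J)) : IsFiltered (CostructuredArrow (proj J) c) := by
  obtain ⟨c⟩ := c
  have hnonempty : Nonempty (CostructuredArrow (proj J) ⟨c⟩) := by
    induction c using Quotient.inductionOn' with
    | h j => exact ⟨CostructuredArrow.mk (Y := j) (𝟙 _)⟩
  have hcomp : ∀ a : CostructuredArrow (proj J) ⟨c⟩,
      (Quotient.mk (Zigzag.setoid J) a.left : ConnectedComponents J) = c :=
    fun a => Discrete.eq_of_hom a.hom
  refine { toIsFilteredOrEmpty := { cocone_objs := ?_, cocone_maps := ?_ }, nonempty := hnonempty }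
  · intro a b
    have hz : Zigzag a.left b.left := Quotient.exact ((hcomp a).trans (hcomp b).symm)
    obtain ⟨w, ⟨f⟩, ⟨g⟩⟩ := exists_cospan_of_zigzag h1 hz
    have hw : (Quotient.mk (Zigzag.setoid J) w : ConnectedComponents J) = c :=
      (Quotient.sound (Zigzag.of_hom f)).symm.trans (hcomp a)
    refine ⟨CostructuredArrow.mk (Y := w) (Discrete.eqToHom hw),
      CostructuredArrow.homMk f (Subsingleton.elim _ _),
      CostructuredArrow.homMk g (Subsingleton.elim _ _), trivial⟩
  · intro a b f g
    obtain ⟨z, h, hh⟩ := h2 f.left g.left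
    have hz : (Quotient.mk (Zigzag.setoid J) z : ConnectedComponents J) = c :=
      (Quotient.sound (Zigzag.of_hom h)).symm.trans (hcomp b)
    refine ⟨CostructuredArrow.mk (Y := z) (Discrete.eqToHom hz),
      CostructuredArrow.homMk h (Subsingleton.elim _ _), ?_⟩
    apply CostructuredArrow.hom_ext
    exact hh

section Exact

variable (J) (A : Type*) [Category A] [HasFiniteLimits A] [HasColimitsOfShape J A]
  [HasColimitsOfShape (Discrete (ConnectedComponents J)) A]
  [∀ c, HasColimitsOfShape (CostructuredArrow (proj J) c) A]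

/-- the colimit over `J` is the coproduct over the components of the colimits over the
components -/
noncomputable def colimIso :
    (colim : (J ⥤ A) ⥤ A) ≅ (proj J).lan ⋙ (colim : (Discrete (ConnectedComponents J) ⥤ A) ⥤ A) :=
  (colimConstAdj : (colim : (J ⥤ A) ⥤ A) ⊣ Functor.const J).leftAdjointUniq
    ((((proj J).lanAdjunction A).comp colimConstAdj).ofNatIsoRight
      (NatIso.ofComponents (fun X => NatIso.ofComponents (fun j => Iso.refl _))))

/-- colimits of shape `J` are exact if coproducts indexed by the components and the colimits over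
the components are -/
lemma hasExactColimitsOfShape
    [HasExactColimitsOfShape (Discrete (ConnectedComponents J)) A]
    [∀ c, HasExactColimitsOfShape (CostructuredArrow (proj J) c) A] :
    HasExactColimitsOfShape J A where
  preservesFiniteLimits := by
    have := LanExact.preservesFiniteLimits_lan A (proj J)
    have : PreservesFiniteLimits ((proj J).lan ⋙
        (colim : (Discrete (ConnectedComponents J) ⥤ A) ⥤ A)) := comp_preservesFiniteLimits _ _
    exact preservesFiniteLimits_of_natIso (colimIso J A).symm

end Exact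

end Groth.Agent.Lib.Helper5.Misc.CompFiltered
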