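import Mathlib

set_option autoImplicit false
universe u

namespace Groth.Agent.Helper5.CompPre

open CategoryTheory AlgebraicGeometry CategoryTheory.Limits

/-- If `j : X ⟶ Xb` is a dense open immersion, `v : Y ⟶ Yb` an open immersion, `f : X ⟶ Y` proper,
`fb : Xb ⟶ Yb` separated with `j ≫ fb = f ≫ v`, then `fb⁻¹ (v Y) = j X`. -/
theorem main {X Y Xb Yb : Scheme.{u}} (j : X ⟶ Xb) [IsOpenImmersion j]
    (hj : Dense (Set.range j.base)) (v : Y ⟶ Yb) [IsOpenImmersion v] (f : X ⟶ Y) [IsProper f]
    (fb : Xb ⟶ Yb) [IsSeparated fb] (hsq : j ≫ fb = f ≫ v) :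
    fb ⁻¹ᵁ v.opensRange = j.opensRange := by
  let g : X ⟶ pullback fb v := pullback.lift j f hsq
  have hg1 : g ≫ pullback.fst fb v = j := pullback.lift_fst _ _ _
  have hg2 : g ≫ pullback.snd fb v = f := pullback.lift_snd _ _ _
  have : IsProper (g ≫ pullback.snd fb v) := by rw [hg2]; infer_instance
  have : IsProper g := IsProper.of_comp g (pullback.snd fb v)
  have hclosed : IsClosed (Set.range g.base) := g.isClosedMap.isClosed_range
  have hrange : Set.range (pullback.fst fb v).base = fb.base ⁻¹' Set.range v.base :=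
    IsOpenImmersion.range_pullbackFst v fb
  apply le_antisymm
  · intro x hx
    have hx' : x ∈ Set.range (pullback.fst fb v).base := by rw [hrange]; exact hx
    obtain ⟨p, rfl⟩ := hx'
    by_contra hne
    have hp : p ∉ Set.range g.base := by
      rintro ⟨x', rfl⟩
      apply hne
      refine ⟨x', ?_⟩
      rw [← hg1]; rfl
    have hopen : IsOpen ((pullback.fst fb v).base '' (Set.range g.base)ᶜ) :=
      (pullback.fst fb v).isOpenEmbedding.isOpenMap _ hclosed.isOpen_compl
    obtain ⟨z, hz1, hz2⟩ := hj.inter_open_nonempty _ hopen ⟨_, p, hp, rfl⟩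
    obtain ⟨p', hp', rfl⟩ := hz1
    obtain ⟨x', hx'⟩ := hz2
    apply hp'
    refine ⟨x', ?_⟩
    apply (pullback.fst fb v).isOpenEmbedding.injective
    rw [← hx', ← hg1]; rfl
  · rintro _ ⟨x, rfl⟩
    show fb.base (j.base x) ∈ Set.range v.base
    refine ⟨f.base x, ?_⟩
    have := congrArg (fun h => h.base x) hsq
    simpa using this.symm

end Groth.Agent.Helper5.CompPre
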