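import Mathlib

set_option autoImplicit false
universe w v₁ u₁ v₂ u₂
open CategoryTheory CategoryTheory.Limits Opposite

namespace Groth.Agent.Lib.Helper5.ConjCofan

variable {A : Type u₁} [Category.{v₁} A] {B : Type u₂} [Category.{v₂} B]
  {L : A ⥤ B} {R : B ⥤ A} (adj : L ⊣ R) {ι : Type w}
  {Lf : ι → (A ⥤ B)} {Rf : ι → (B ⥤ A)} (adjf : ∀ f, Lf f ⊣ Rf f)
  (π : ∀ f, R ⟶ Rf f)

/-- The mates of the projections. -/
noncomputable def inj (f : ι) : Lf f ⟶ L := (conjugateEquiv adj (adjf f)).symm (π f)

lemma homEquiv_inj_comp (f : ι) {a : A} {b : B} (g : L.obj a ⟶ b) :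
    (adjf f).homEquiv a b ((inj adj adjf π f).app a ≫ g) =
      adj.homEquiv a b g ≫ (π f).app b := by
  have h : adj.unit.app a ≫ (π f).app (L.obj a) =
      (adjf f).unit.app a ≫ (Rf f).map ((inj adj adjf π f).app a) :=
    unit_conjugateEquiv_symm adj (adjf f) (π f) a
  rw [Adjunction.homEquiv_unit, Adjunction.homEquiv_unit, Functor.map_comp, ← Category.assoc,
    ← h, Category.assoc, Category.assoc, (π f).naturality]

/-- If the projections `π f` exhibit `R b` as a product of the `Rf f b` for every `b`, then their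
mates exhibit `L a` as a coproduct of the `Lf f a`. -/
noncomputable def isColimitCofan
    (hπ : ∀ b, IsLimit (Fan.mk (R.obj b) (fun f => (π f).app b))) (a : A) :
    IsColimit (Cofan.mk (L.obj a) (fun f => (inj adj adjf π f).app a)) :=
  Cofan.IsColimit.mk _
    (fun s => (adj.homEquiv a s.pt).symm
      (Fan.IsLimit.lift (hπ s.pt) (fun f => (adjf f).homEquiv a s.pt (s.inj f))))
    (fun s f => by
      apply ((adjf f).homEquiv a s.pt).injective
      change (adjf f).homEquiv a s.pt ((inj adj adjf π f).app a ≫ _) = _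
      rw [homEquiv_inj_comp, Equiv.apply_symm_apply]
      exact Fan.IsLimit.fac (hπ s.pt) _ f)
    (fun s m hm => by
      apply (adj.homEquiv a s.pt).injective
      rw [Equiv.apply_symm_apply]
      refine Fan.IsLimit.hom_ext (hπ s.pt) _ _ (fun f => ?_)
      rw [Fan.IsLimit.fac]
      change adj.homEquiv a s.pt m ≫ (π f).app s.pt = _
      rw [← homEquiv_inj_comp]
      exact congrArg _ (hm f))

end Groth.Agent.Lib.Helper5.ConjCofan
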