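import Mathlib
universe u
open TensorProduct KaehlerDifferential

namespace Groth.Agent.Helper5.Conormal

variable {A B C : Type u} [CommRing A] [CommRing B] [CommRing C] [Algebra A B] [Algebra B C]
  [Algebra A C] [IsScalarTower A B C]

section
variable (hAC : Function.Surjective (algebraMap A C))
  (h : RingHom.ker (algebraMap A C) ≤ (RingHom.ker (algebraMap B C)).comap (Algebra.ofId A B))

lemma sub_mem_ker {x : B} {a : A} (ha : algebraMap A C a = algebraMap B C x) :
    x - algebraMap A B a ∈ RingHom.ker (algebraMap B C) := by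
  rw [RingHom.mem_ker, map_sub, ← IsScalarTower.algebraMap_apply, ha, sub_self]

/-- `B`-span of the image of `I/I²` -/
def P : Submodule B (RingHom.ker (algebraMap B C)).Cotangent :=
  Submodule.span B (Set.range (Ideal.mapCotangent (RingHom.ker (algebraMap A C))
    (RingHom.ker (algebraMap B C)) (Algebra.ofId A B) h))

include hAC in
lemma mem_P_iff (y : (RingHom.ker (algebraMap B C)).Cotangent) :
    y ∈ P h ↔ y ∈ Set.range (Ideal.mapCotangent (RingHom.ker (algebraMap A C))
      (RingHom.ker (algebraMap B C)) (Algebra.ofId A B) h) := by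
  constructor
  · intro hy
    refine Submodule.span_induction ?_ ?_ ?_ ?_ hy
    · intro z hz; exact hz
    · exact ⟨0, map_zero _⟩
    · rintro _ _ _ _ ⟨u, rfl⟩ ⟨v, rfl⟩
      exact ⟨u + v, map_add _ _ _⟩
    · rintro b _ _ ⟨u, rfl⟩
      obtain ⟨a, ha⟩ := hAC (algebraMap B C b)
      refine ⟨a • u, ?_⟩
      rw [map_smul]
      have h0 := Ideal.Cotangent.smul_eq_zero_of_mem (sub_mem_ker ha)
        (Ideal.mapCotangent (RingHom.ker (algebraMap A C))
          (RingHom.ker (algebraMap B C)) (Algebra.ofId A B) h u)
      rw [sub_smul, sub_eq_zero, algebraMap_smul] at h0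
      exact h0.symm
  · intro hy
    exact Submodule.subset_span hy

/-- the value of the derivation, for a chosen lift -/
noncomputable def dval (x : B) (a : A) (ha : algebraMap A C a = algebraMap B C x) :
    (RingHom.ker (algebraMap B C)).Cotangent ⧸ P h :=
  (P h).mkQ ((RingHom.ker (algebraMap B C)).toCotangent ⟨x - algebraMap A B a, sub_mem_ker ha⟩)

lemma dval_indep (x : B) (a a' : A) (ha : algebraMap A C a = algebraMap B C x)
    (ha' : algebraMap A C a' = algebraMap B C x) : dval h x a ha = dval h x a' ha' := by
  unfold dval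
  rw [← sub_eq_zero, ← map_sub, ← map_sub]
  rw [Submodule.mkQ_apply, Submodule.Quotient.mk_eq_zero]
  have hmem : a' - a ∈ RingHom.ker (algebraMap A C) := by
    rw [RingHom.mem_ker, map_sub, ha, ha', sub_self]
  apply Submodule.subset_span
  refine ⟨(RingHom.ker (algebraMap A C)).toCotangent ⟨a' - a, hmem⟩, ?_⟩
  rw [Ideal.mapCotangent_toCotangent]
  congr 1
  apply Subtype.ext
  simp only [Algebra.ofId_apply, map_sub, AddSubgroupClass.coe_sub]
  ring

lemma dval_add (x y : B) (a a' : A) (ha : algebraMap A C a = algebraMap B C x)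
    (ha' : algebraMap A C a' = algebraMap B C y)
    (hs : algebraMap A C (a + a') = algebraMap B C (x + y)) :
    dval h (x + y) (a + a') hs = dval h x a ha + dval h y a' ha' := by
  simp only [dval]
  rw [← map_add, ← map_add]
  congr 2
  apply Subtype.ext
  simp only [map_add, AddMemClass.mk_add_mk]
  ring

lemma dval_asmul (c : A) (x : B) (a : A) (ha : algebraMap A C a = algebraMap B C x)
    (hs : algebraMap A C (c * a) = algebraMap B C (c • x)) :
    dval h (c • x) (c * a) hs = c • dval h x a ha := by
  rw [← algebraMap_smul B c (dval h x a ha)]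
  simp only [dval]
  rw [← map_smul, ← map_smul]
  congr 2
  apply Subtype.ext
  simp only [map_mul, SetLike.mk_smul_mk, Algebra.smul_def, Algebra.algebraMap_self,
    RingHom.id_apply]
  ring

lemma dval_mul (x y : B) (a a' : A) (ha : algebraMap A C a = algebraMap B C x)
    (ha' : algebraMap A C a' = algebraMap B C y)
    (hs : algebraMap A C (a * a') = algebraMap B C (x * y)) :
    dval h (x * y) (a * a') hs = x • dval h y a' ha' + y • dval h x a ha := by
  simp only [dval]
  rw [← map_smul, ← map_smul, ← map_smul, ← map_smul, ← map_add, ← map_add]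
  congr 1
  rw [Ideal.toCotangent_eq]
  have hx : x - algebraMap A B a ∈ RingHom.ker (algebraMap B C) := sub_mem_ker ha
  have hy : y - algebraMap A B a' ∈ RingHom.ker (algebraMap B C) := sub_mem_ker ha'
  have : ((⟨x * y - algebraMap A B (a * a'), sub_mem_ker hs⟩ : RingHom.ker (algebraMap B C)) : B) -
      ((x • (⟨y - algebraMap A B a', hy⟩ : RingHom.ker (algebraMap B C)) +
        y • (⟨x - algebraMap A B a, hx⟩ : RingHom.ker (algebraMap B C)) :
          RingHom.ker (algebraMap B C)) : B) =
      - ((x - algebraMap A B a) * (y - algebraMap A B a')) := by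
    simp only [map_mul, SetLike.mk_smul_mk, smul_eq_mul, AddMemClass.mk_add_mk]
    ring
  rw [this, pow_two]
  exact neg_mem (Ideal.mul_mem_mul hx hy)

/-- the chosen lift -/
noncomputable def sec (x : B) : A := Function.surjInv hAC (algebraMap B C x)

lemma sec_spec (x : B) : algebraMap A C (sec hAC x) = algebraMap B C x :=
  Function.surjInv_eq hAC _

/-- the derivation `B → (J/J²)/P` -/
noncomputable def der : Derivation A B ((RingHom.ker (algebraMap B C)).Cotangent ⧸ P h) :=
  Derivation.mk'
    { toFun := fun x => dval h x (sec hAC x) (sec_spec hAC x)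
      map_add' := by
        intro x y
        have hs : algebraMap A C (sec hAC x + sec hAC y) = algebraMap B C (x + y) := by
          rw [map_add, map_add, sec_spec, sec_spec]
        rw [dval_indep h (x + y) _ _ (sec_spec hAC _) hs]
        exact dval_add h x y _ _ (sec_spec hAC x) (sec_spec hAC y) hs
      map_smul' := by
        intro c x
        have hs : algebraMap A C (c * sec hAC x) = algebraMap B C (c • x) := by
          rw [map_mul, sec_spec, Algebra.smul_def, map_mul, ← IsScalarTower.algebraMap_apply]
        rw [RingHom.id_apply, dval_indep h (c • x) _ _ (sec_spec hAC _) hs]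
        exact dval_asmul h c x _ (sec_spec hAC x) hs }
    (by
      intro x y
      have hs : algebraMap A C (sec hAC x * sec hAC y) = algebraMap B C (x * y) := by
        rw [map_mul, map_mul, sec_spec, sec_spec]
      change dval h (x * y) (sec hAC (x * y)) (sec_spec hAC (x * y)) =
        x • dval h y (sec hAC y) (sec_spec hAC y) + y • dval h x (sec hAC x) (sec_spec hAC x)
      rw [dval_indep h (x * y) _ _ (sec_spec hAC _) hs]
      exact dval_mul h x y _ _ (sec_spec hAC x) (sec_spec hAC y) hs)

lemma der_apply (x : B) (a : A) (ha : algebraMap A C a = algebraMap B C x) :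
    der hAC h x = dval h x a ha :=
  dval_indep h x (sec hAC x) a (sec_spec hAC x) ha

lemma der_apply_of_mem (x : B) (hx : x ∈ RingHom.ker (algebraMap B C)) :
    der hAC h x = (P h).mkQ ((RingHom.ker (algebraMap B C)).toCotangent ⟨x, hx⟩) := by
  have h0 : algebraMap A C 0 = algebraMap B C x := by rw [map_zero]; exact hx.symm
  rw [der_apply hAC h x 0 h0]
  simp only [dval]
  congr 2
  apply Subtype.ext
  simp

lemma smul_eq_of_map_eq (b b' : B) (hb : algebraMap B C b = algebraMap B C b')
    (n : (RingHom.ker (algebraMap B C)).Cotangent ⧸ P h) : b • n = b' • n := by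
  obtain ⟨m, rfl⟩ := (P h).mkQ_surjective n
  rw [← sub_eq_zero, ← sub_smul, ← map_smul]
  have hmem : b - b' ∈ RingHom.ker (algebraMap B C) := by
    rw [RingHom.mem_ker, map_sub, hb, sub_self]
  rw [Ideal.Cotangent.smul_eq_zero_of_mem hmem m, map_zero]

/-- the bilinear map `C → Ω → N` -/
noncomputable def bil :
    C →ₗ[B] (Ω[B⁄A] →ₗ[B] ((RingHom.ker (algebraMap B C)).Cotangent ⧸ P h)) where
  toFun c := (algebraMap A B (Function.surjInv hAC c)) • (der hAC h).liftKaehlerDifferential
  map_add' c c' := by
    refine LinearMap.ext fun ω => ?_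
    simp only [LinearMap.smul_apply, LinearMap.add_apply]
    rw [← add_smul]
    apply smul_eq_of_map_eq
    rw [map_add, ← IsScalarTower.algebraMap_apply, ← IsScalarTower.algebraMap_apply,
      ← IsScalarTower.algebraMap_apply, Function.surjInv_eq hAC, Function.surjInv_eq hAC,
      Function.surjInv_eq hAC]
  map_smul' b c := by
    refine LinearMap.ext fun ω => ?_
    simp only [LinearMap.smul_apply, RingHom.id_apply]
    rw [smul_smul]
    apply smul_eq_of_map_eq
    rw [map_mul, ← IsScalarTower.algebraMap_apply, ← IsScalarTower.algebraMap_apply,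
      Function.surjInv_eq hAC, Function.surjInv_eq hAC, Algebra.smul_def]

lemma lift_bil_one_tmul (ω : Ω[B⁄A]) :
    TensorProduct.lift (bil hAC h) ((1 : C) ⊗ₜ[B] ω) = (der hAC h).liftKaehlerDifferential ω := by
  rw [TensorProduct.lift.tmul]
  change (algebraMap A B (Function.surjInv hAC 1)) • (der hAC h).liftKaehlerDifferential ω = _
  rw [smul_eq_of_map_eq h _ 1 (by
    rw [← IsScalarTower.algebraMap_apply, Function.surjInv_eq hAC, map_one]), one_smul]

include hAC in
theorem main :
    Function.Exact
      (Ideal.mapCotangent (RingHom.ker (algebraMap A C)) (RingHom.ker (algebraMap B C)) (Algebra.ofId A B) h)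
      (KaehlerDifferential.kerCotangentToTensor A B C) := by
  intro y
  constructor
  · intro hy
    rw [← mem_P_iff hAC h, ← Submodule.Quotient.mk_eq_zero, ← Submodule.mkQ_apply]
    obtain ⟨⟨b, hb⟩, rfl⟩ := Ideal.toCotangent_surjective _ y
    rw [KaehlerDifferential.kerCotangentToTensor_toCotangent] at hy
    have := congrArg (TensorProduct.lift (bil hAC h)) hy
    rw [lift_bil_one_tmul, map_zero, Derivation.liftKaehlerDifferential_comp_D,
      der_apply_of_mem hAC h b hb] at this
    exact this
  · rintro ⟨x, rfl⟩
    obtain ⟨⟨i, hi⟩, rfl⟩ := Ideal.toCotangent_surjective _ x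
    rw [Ideal.mapCotangent_toCotangent, KaehlerDifferential.kerCotangentToTensor_toCotangent]
    simp only [Algebra.ofId_apply]
    rw [Derivation.map_algebraMap, TensorProduct.tmul_zero]

end

end Groth.Agent.Helper5.Conormal
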