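import Mathlib

/-!
# Sections of constant sheaves: surjections admit set-theoretic sections (helper5)
-/
set_option autoImplicit false
universe u
open CategoryTheory Limits Opposite

namespace Groth.Agent.Lib.Helper5.Misc.ConstSect

variable {C : Type u} [SmallCategory C] (J : GrothendieckTopology C)

instance constPreservesFiniteLimits :
    PreservesFiniteLimits (Functor.const Cᵒᵖ : AddCommGrpCat.{u} ⥤ Cᵒᵖ ⥤ AddCommGrpCat.{u}) := by
  constructor
  intro K _ _
  constructor
  intro G
  apply preservesLimit_of_evaluation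
  intro k
  exact inferInstanceAs (PreservesLimit G (𝟭 AddCommGrpCat.{u}))

instance : PreservesFiniteLimits (constantSheaf J AddCommGrpCat.{u}) := by
  dsimp only [constantSheaf]
  exact comp_preservesFiniteLimits _ _

/-- sections over `U` of the constant sheaf -/
noncomputable abbrev Γ (U : C) : AddCommGrpCat.{u} ⥤ AddCommGrpCat.{u} :=
  constantSheaf J AddCommGrpCat.{u} ⋙ (sheafSections J AddCommGrpCat.{u}).obj (op U)

instance (U : C) : PreservesFiniteLimits ((sheafSections J AddCommGrpCat.{u}).obj (op U)) :=
  preservesFiniteLimits_of_natIso (sheafSectionsNatIsoEvaluation (J := J) (A := AddCommGrpCat.{u})).symm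

instance (U : C) : PreservesFiniteLimits (Γ J U) := comp_preservesFiniteLimits _ _


/-- sheafification commutes with the forgetful functor to sets -/
noncomputable abbrev ι :
    (Functor.whiskeringRight Cᵒᵖ AddCommGrpCat.{u} (Type u)).obj (forget AddCommGrpCat.{u}) ⋙
        presheafToSheaf J (Type u) ≅
      presheafToSheaf J AddCommGrpCat.{u} ⋙ sheafCompose J (forget AddCommGrpCat.{u}) :=
  CategoryTheory.sheafComposeNatIso J (forget AddCommGrpCat.{u})
    (sheafificationAdjunction J AddCommGrpCat.{u}) (sheafificationAdjunction J (Type u))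

lemma split_transport {𝒜 ℬ : Type*} [Category 𝒜] [Category ℬ] {T T' : 𝒜 ⥤ ℬ} (ι : T' ≅ T)
    {X Y : 𝒜} (p : X ⟶ Y) (s : T'.obj Y ⟶ T'.obj X) (h : s ≫ T'.map p = 𝟙 _) :
    (ι.inv.app Y ≫ s ≫ ι.hom.app X) ≫ T.map p = 𝟙 _ := by
  rw [Category.assoc, Category.assoc, ← ι.hom.naturality, reassoc_of% h, Iso.inv_hom_id_app]

/-- a surjection of abelian groups induces a split epimorphism of the underlying sheaves of sets
of the constant sheaves -/
theorem exists_section {B C' : AddCommGrpCat.{u}} (π : B ⟶ C') (hπ : Function.Surjective π) :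
    ∃ s : (sheafCompose J (forget AddCommGrpCat.{u})).obj ((constantSheaf J AddCommGrpCat.{u}).obj C') ⟶
        (sheafCompose J (forget AddCommGrpCat.{u})).obj ((constantSheaf J AddCommGrpCat.{u}).obj B),
      s ≫ (sheafCompose J (forget AddCommGrpCat.{u})).map
        ((constantSheaf J AddCommGrpCat.{u}).map π) = 𝟙 _ := by
  let σ : C' → B := Function.surjInv hπ
  have hσ : ∀ c, π (σ c) = c := Function.surjInv_eq hπ
  let s₀ : (Functor.const Cᵒᵖ).obj C' ⋙ forget AddCommGrpCat.{u} ⟶
      (Functor.const Cᵒᵖ).obj B ⋙ forget AddCommGrpCat.{u} :=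
    { app := fun _ => TypeCat.ofHom σ
      naturality := by
        intro X Y f
        ext c
        rfl }
  have hs₀ : s₀ ≫ Functor.whiskerRight ((Functor.const Cᵒᵖ).map π) (forget AddCommGrpCat.{u}) = 𝟙 _ := by
    ext X c
    exact hσ c
  have h1 : (presheafToSheaf J (Type u)).map s₀ ≫
      (presheafToSheaf J (Type u)).map
        (Functor.whiskerRight ((Functor.const Cᵒᵖ).map π) (forget AddCommGrpCat.{u})) = 𝟙 _ := by
    rw [← Functor.map_comp, hs₀, CategoryTheory.Functor.map_id]
  exact ⟨_, split_transport (ι J) ((Functor.const Cᵒᵖ).map π) ((presheafToSheaf J (Type u)).map s₀) h1⟩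


/-- sections of constant sheaves preserve short exact sequences -/
theorem shortExact_sections (S : ShortComplex AddCommGrpCat.{u}) (hS : S.ShortExact) (U : C)
    [(constantSheaf J AddCommGrpCat.{u} ⋙
      (sheafSections J AddCommGrpCat.{u}).obj (op U)).PreservesZeroMorphisms] :
    (S.map (constantSheaf J AddCommGrpCat.{u} ⋙
      (sheafSections J AddCommGrpCat.{u}).obj (op U))).ShortExact := by
  have hm := hS.mono_f
  have he := hS.epi_g
  have h1 : (S.map (Γ J U)).Exact :=
    hS.exact.map_of_mono_of_preservesKernel (Γ J U) hm inferInstance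
  have h2 : Mono ((Γ J U).map S.f) := inferInstance
  have h3 : Epi ((Γ J U).map S.g) := by
    rw [AddCommGrpCat.epi_iff_surjective]
    obtain ⟨s, hs⟩ := exists_section J S.g ((AddCommGrpCat.epi_iff_surjective _).1 he)
    intro c
    refine ⟨s.hom.app (op U) c, ?_⟩
    have h := congrArg (fun t => (t.hom.app (op U) : _ → _) c) hs
    exact h
  exact { exact := h1, mono_f := h2, epi_g := h3 }

end Groth.Agent.Lib.Helper5.Misc.ConstSect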