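import Mathlib

set_option autoImplicit false
universe u

namespace Groth.Agent.Helper5.Cusp

open MvPolynomial

variable (k : Type u) [Field k]

/-- exponent vector (i,j) -/
noncomputable def mon (i j : ℕ) : Fin 2 →₀ ℕ := Finsupp.single 0 i + Finsupp.single 1 j

theorem mon_zero (i j : ℕ) : mon i j 0 = i := by simp [mon]
theorem mon_one (i j : ℕ) : mon i j 1 = j := by simp [mon]

theorem eq_mon (m : Fin 2 →₀ ℕ) : m = mon (m 0) (m 1) := by
  ext t
  fin_cases t
  · simp [mon]
  · simp [mon]

theorem mon_inj {i j i' j' : ℕ} (h : mon i j = mon i' j') : i = i' ∧ j = j' := by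
  constructor
  · have := DFunLike.congr_fun h 0; simpa [mon] using this
  · have := DFunLike.congr_fun h 1; simpa [mon] using this

/-- the coefficient map -/
noncomputable def π (a b : ℕ) : MvPolynomial (Fin 2) k →ₗ[k] (Fin a × Fin b → k) :=
  LinearMap.pi fun ij => (MvPolynomial.lcoeff k (mon ij.1 ij.2))

theorem π_apply (a b : ℕ) (p : MvPolynomial (Fin 2) k) (ij : Fin a × Fin b) :
    π k a b p ij = coeff (mon ij.1 ij.2) p := rfl

theorem π_surjective (a b : ℕ) : Function.Surjective (π k a b) := by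
  intro φ
  refine ⟨∑ ij : Fin a × Fin b, monomial (mon ij.1 ij.2) (φ ij), ?_⟩
  funext ij
  rw [π_apply, coeff_sum, Finset.sum_eq_single ij]
  · simp
  · intro ij' _ hne
    rw [coeff_monomial, if_neg]
    intro h
    apply hne
    obtain ⟨h1, h2⟩ := mon_inj h
    exact Prod.ext (Fin.ext h1) (Fin.ext h2)
  · simp

theorem ker_π (a b : ℕ) :
    LinearMap.ker (π k a b) =
      (Ideal.span ({X 0 ^ a, X 1 ^ b} : Set (MvPolynomial (Fin 2) k))).restrictScalars k := by
  ext p
  simp only [LinearMap.mem_ker, Submodule.restrictScalars_mem]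
  constructor
  · intro hp
    rw [p.as_sum]
    apply Ideal.sum_mem
    intro m hm
    have hcoef : coeff m p ≠ 0 := mem_support_iff.1 hm
    have hor : a ≤ m 0 ∨ b ≤ m 1 := by
      by_contra hcon
      push Not at hcon
      have := congr_fun hp (⟨m 0, hcon.1⟩, ⟨m 1, hcon.2⟩)
      rw [π_apply] at this
      simp only [← eq_mon] at this
      exact hcoef this
    rcases hor with h | h
    · have hm' : Finsupp.single 0 a + (m - Finsupp.single 0 a) = m := by
        ext t
        fin_cases t
        · simp; omega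
        · simp
      have : monomial m (coeff m p) = X 0 ^ a * monomial (m - Finsupp.single 0 a) (coeff m p) := by
        rw [X_pow_eq_monomial, monomial_mul, one_mul, hm']
      rw [this]
      exact Ideal.mul_mem_right _ _ (Ideal.subset_span (by simp))
    · have hm' : Finsupp.single 1 b + (m - Finsupp.single 1 b) = m := by
        ext t
        fin_cases t
        · simp
        · simp; omega
      have : monomial m (coeff m p) = X 1 ^ b * monomial (m - Finsupp.single 1 b) (coeff m p) := by
        rw [X_pow_eq_monomial, monomial_mul, one_mul, hm']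
      rw [this]
      exact Ideal.mul_mem_right _ _ (Ideal.subset_span (by simp))
  · intro hp
    rw [Ideal.mem_span_pair] at hp
    obtain ⟨u, v, rfl⟩ := hp
    funext ij
    rw [π_apply, coeff_add, X_pow_eq_monomial, X_pow_eq_monomial, coeff_mul_monomial',
      coeff_mul_monomial', if_neg, if_neg, add_zero]
    · rfl
    · intro h
      have := h 1
      simp only [Finsupp.single_eq_same, mon_one] at this
      exact absurd ij.2.isLt (not_lt.2 this)
    · intro h
      have := h 0
      simp only [Finsupp.single_eq_same, mon_zero] at this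
      exact absurd ij.1.isLt (not_lt.2 this)

theorem finrank_quot (a b : ℕ) :
    Module.finrank k (MvPolynomial (Fin 2) k ⧸
      Ideal.span ({X 0 ^ a, X 1 ^ b} : Set (MvPolynomial (Fin 2) k))) = a * b := by
  have e1 := Submodule.Quotient.restrictScalarsEquiv k
    (Ideal.span ({X 0 ^ a, X 1 ^ b} : Set (MvPolynomial (Fin 2) k)))
  have e2 := Submodule.quotEquivOfEq _ _ (ker_π k a b)
  have e3 := (π k a b).quotKerEquivOfSurjective (π_surjective k a b)
  rw [← e1.finrank_eq, ← e2.finrank_eq, e3.finrank_eq, Module.finrank_fintype_fun_eq_card,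
    Fintype.card_prod, Fintype.card_fin, Fintype.card_fin]


theorem mem2 {R : Type*} [CommRing R] (a b x u v : R) (h : x = u * a + v * b) :
    x ∈ Ideal.span ({a, b} : Set R) := by
  rw [h]
  exact add_mem (Ideal.mul_mem_left _ _ (Ideal.subset_span (by simp)))
    (Ideal.mul_mem_left _ _ (Ideal.subset_span (by simp)))

theorem mem3 {R : Type*} [CommRing R] (a b c x u v w : R) (h : x = u * a + v * b + w * c) :
    x ∈ Ideal.span ({a, b, c} : Set R) := by
  rw [h]
  exact add_mem (add_mem (Ideal.mul_mem_left _ _ (Ideal.subset_span (by simp)))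
    (Ideal.mul_mem_left _ _ (Ideal.subset_span (by simp))))
    (Ideal.mul_mem_left _ _ (Ideal.subset_span (by simp)))

theorem main (p : ℕ) [CharP k p] :
    Module.finrank k (MvPolynomial (Fin 2) k ⧸ Ideal.span
      ({X 1 ^ 2 - X 0 ^ 3, pderiv 0 (X 1 ^ 2 - X 0 ^ 3), pderiv 1 (X 1 ^ 2 - X 0 ^ 3)} :
        Set (MvPolynomial (Fin 2) k))) = (if p = 2 then 4 else if p = 3 then 3 else 2) := by
  have hd0 : pderiv 0 (X 1 ^ 2 - X 0 ^ 3 : MvPolynomial (Fin 2) k) = - (C 3 * X 0 ^ 2) := by
    simp [map_ofNat]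
  have hd1 : pderiv 1 (X 1 ^ 2 - X 0 ^ 3 : MvPolynomial (Fin 2) k) = C 2 * X 1 := by
    simp [map_ofNat]
  rw [hd0, hd1]
  have h2iff : (2 : k) = 0 ↔ p = 2 := by
    have := CharP.cast_eq_zero_iff k p 2
    rw [Nat.cast_ofNat] at this
    rw [this, Nat.dvd_prime Nat.prime_two]
    constructor
    · rintro (h | h)
      · exact absurd h (CharP.char_ne_one k p)
      · exact h
    · intro h; exact Or.inr h
  have h3iff : (3 : k) = 0 ↔ p = 3 := by
    have := CharP.cast_eq_zero_iff k p 3
    rw [Nat.cast_ofNat] at this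
    rw [this, Nat.dvd_prime Nat.prime_three]
    constructor
    · rintro (h | h)
      · exact absurd h (CharP.char_ne_one k p)
      · exact h
    · intro h; exact Or.inr h
  by_cases hp2 : p = 2
  · rw [if_pos hp2]
    have h2 : (2 : k) = 0 := h2iff.2 hp2
    have h3 : (3 : k) = 1 := by linear_combination h2
    have hI : Ideal.span ({X 1 ^ 2 - X 0 ^ 3, -(C 3 * X 0 ^ 2), C 2 * X 1} :
        Set (MvPolynomial (Fin 2) k)) = Ideal.span {X 0 ^ 2, X 1 ^ 2} := by
      rw [h2, h3, C_0, C_1]
      apply le_antisymm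
      · rw [Ideal.span_le]
        rintro x (rfl | rfl | rfl)
        · exact mem2 _ _ _ (-X 0) 1 (by ring)
        · exact mem2 _ _ _ (-1) 0 (by ring)
        · exact mem2 _ _ _ 0 0 (by ring)
      · rw [Ideal.span_le]
        rintro x (rfl | rfl)
        · exact mem3 _ _ _ _ 0 (-1) 0 (by ring)
        · exact mem3 _ _ _ _ 1 (-X 0) 0 (by ring)
    rw [hI, finrank_quot]
  · rw [if_neg hp2]
    have h2 : (2 : k) ≠ 0 := fun h => hp2 (h2iff.1 h)
    by_cases hp3 : p = 3
    · rw [if_pos hp3]
      have h3 : (3 : k) = 0 := h3iff.2 hp3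
      have hI : Ideal.span ({X 1 ^ 2 - X 0 ^ 3, -(C 3 * X 0 ^ 2), C 2 * X 1} :
          Set (MvPolynomial (Fin 2) k)) = Ideal.span {X 0 ^ 3, X 1 ^ 1} := by
        rw [h3, C_0]
        have hC : (C (2 : k) : MvPolynomial (Fin 2) k) * C (2⁻¹ : k) = 1 := by
          rw [← C_mul, mul_inv_cancel₀ h2, C_1]
        apply le_antisymm
        · rw [Ideal.span_le]
          rintro x (rfl | rfl | rfl)
          · exact mem2 _ _ _ (-1) (X 1) (by ring)
          · exact mem2 _ _ _ 0 0 (by ring)
          · exact mem2 _ _ _ 0 (C 2) (by ring)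
        · rw [Ideal.span_le]
          rintro x (rfl | rfl)
          · exact mem3 _ _ _ _ (-1) 0 (C 2⁻¹ * X 1) (by linear_combination (-(X 1 ^ 2)) * hC)
          · exact mem3 _ _ _ _ 0 0 (C 2⁻¹) (by linear_combination (-(X 1)) * hC)
      rw [hI, finrank_quot]
    · rw [if_neg hp3]
      have h3 : (3 : k) ≠ 0 := fun h => hp3 (h3iff.1 h)
      have hI : Ideal.span ({X 1 ^ 2 - X 0 ^ 3, -(C 3 * X 0 ^ 2), C 2 * X 1} :
          Set (MvPolynomial (Fin 2) k)) = Ideal.span {X 0 ^ 2, X 1 ^ 1} := by
        have hC2 : (C (2 : k) : MvPolynomial (Fin 2) k) * C (2⁻¹ : k) = 1 := by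
          rw [← C_mul, mul_inv_cancel₀ h2, C_1]
        have hC3 : (C (3 : k) : MvPolynomial (Fin 2) k) * C (3⁻¹ : k) = 1 := by
          rw [← C_mul, mul_inv_cancel₀ h3, C_1]
        apply le_antisymm
        · rw [Ideal.span_le]
          rintro x (rfl | rfl | rfl)
          · exact mem2 _ _ _ (-X 0) (X 1) (by ring)
          · exact mem2 _ _ _ (-C 3) 0 (by ring)
          · exact mem2 _ _ _ 0 (C 2) (by ring)
        · rw [Ideal.span_le]
          rintro x (rfl | rfl)
          · exact mem3 _ _ _ _ 0 (-C 3⁻¹) 0 (by linear_combination (-(X 0 ^ 2)) * hC3)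
          · exact mem3 _ _ _ _ 0 0 (C 2⁻¹) (by linear_combination (-(X 1)) * hC2)
      rw [hI, finrank_quot]

end Groth.Agent.Helper5.Cusp
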