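import Mathlib
import Groth.Agent.Lib.Helper5.Misc.DerAdj

/-!
# Derived adjunctions: counit isomorphism and essential image (helper5)
-/
set_option autoImplicit false
open CategoryTheory CategoryTheory.Limits

namespace Groth.Agent.Lib.Helper5.DerAdj

universe v₁ v₂ u₁ u₂ w₁ w₂

variable {A : Type u₁} [Category.{v₁} A] [Abelian A] [HasDerivedCategory.{w₁} A]
  {B : Type u₂} [Category.{v₂} B] [Abelian B] [HasDerivedCategory.{w₂} B]
  {L : A ⥤ B} {R : B ⥤ A} [L.Additive] [R.Additive]
  [PreservesFiniteLimits L] [PreservesFiniteColimits L]
  [PreservesFiniteLimits R] [PreservesFiniteColimits R] (adj : L ⊣ R)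

lemma counit_app_Q (E : CochainComplex B ℤ) :
    (mapDerivedCategoryAdj adj).counit.app (DerivedCategory.Q.obj E) =
      L.mapDerivedCategory.map (R.mapDerivedCategoryFactors.hom.app E) ≫
        L.mapDerivedCategoryFactors.hom.app ((R.mapHomologicalComplex _).obj E) ≫
        DerivedCategory.Q.map ((mapHomologicalComplexAdj adj (ComplexShape.up ℤ)).counit.app E) := by
  letI : CatCommSq (L.mapHomologicalComplex (ComplexShape.up ℤ)) DerivedCategory.Q
      DerivedCategory.Q L.mapDerivedCategory := ⟨L.mapDerivedCategoryFactors.symm⟩
  letI : CatCommSq (R.mapHomologicalComplex (ComplexShape.up ℤ)) DerivedCategory.Q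
      DerivedCategory.Q R.mapDerivedCategory := ⟨R.mapDerivedCategoryFactors.symm⟩
  exact Adjunction.localization_counit_app (mapHomologicalComplexAdj adj (ComplexShape.up ℤ))
    DerivedCategory.Q (HomologicalComplex.quasiIso A (ComplexShape.up ℤ))
    DerivedCategory.Q (HomologicalComplex.quasiIso B (ComplexShape.up ℤ))
    L.mapDerivedCategory R.mapDerivedCategory E

/-- If the counit of `L ⊣ R` is an isomorphism, so is the counit of the derived adjunction. -/
theorem isIso_counit [IsIso adj.counit] : IsIso (mapDerivedCategoryAdj adj).counit := by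
  haveI : ∀ K, IsIso ((mapDerivedCategoryAdj adj).counit.app K) := by
    intro K
    rw [← NatTrans.isIso_app_iff_of_iso _ (DerivedCategory.Q.objObjPreimageIso K)]
    rw [counit_app_Q]
    haveI : IsIso ((mapHomologicalComplexAdj adj (ComplexShape.up ℤ)).counit.app
        (DerivedCategory.Q.objPreimage K)) := by
      haveI : ∀ n, IsIso (((mapHomologicalComplexAdj adj (ComplexShape.up ℤ)).counit.app
          (DerivedCategory.Q.objPreimage K)).f n) := by
        intro n
        change IsIso (adj.counit.app _)
        infer_instance
      exact HomologicalComplex.Hom.isIso_of_components _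
    infer_instance
  exact NatIso.isIso_of_isIso_app _

include adj in
/-- If `R` is fully faithful, so is its derived functor. -/
theorem full_mapDerivedCategory [R.Full] [R.Faithful] : R.mapDerivedCategory.Full := by
  haveI := isIso_counit adj
  exact ((mapDerivedCategoryAdj adj).fullyFaithfulROfIsIsoCounit).full

include adj in
theorem faithful_mapDerivedCategory [R.Full] [R.Faithful] : R.mapDerivedCategory.Faithful := by
  haveI := isIso_counit adj
  exact ((mapDerivedCategoryAdj adj).fullyFaithfulROfIsIsoCounit).faithful

/-- An object of `D(A)` all of whose cohomology objects have invertible unit lies in the essential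
image of the derived right adjoint. -/
theorem mem_essImage_of_isIso_unit (K : DerivedCategory A)
    (h : ∀ n : ℤ, IsIso (adj.unit.app ((DerivedCategory.homologyFunctor A n).obj K))) :
    R.mapDerivedCategory.essImage K := by
  let E := DerivedCategory.Q.objPreimage K
  let e : DerivedCategory.Q.obj E ≅ K := DerivedCategory.Q.objObjPreimageIso K
  let u : E ⟶ (R.mapHomologicalComplex _).obj ((L.mapHomologicalComplex _).obj E) :=
    (mapHomologicalComplexAdj adj (ComplexShape.up ℤ)).unit.app E
  have hu : QuasiIso u := by
    rw [quasiIso_iff]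
    intro n
    rw [quasiIsoAt_iff_isIso_homologyMap]
    have key := NatTrans.app_homology adj.unit (E.sc n)
    have h1 : IsIso (adj.unit.app (E.sc n).homology) := by
      have e1 : (DerivedCategory.homologyFunctor A n).obj K ≅ (E.sc n).homology :=
        (DerivedCategory.homologyFunctor A n).mapIso e.symm ≪≫
          (DerivedCategory.homologyFunctorFactors A n).app E
      rw [← NatTrans.isIso_app_iff_of_iso _ e1]
      exact h n
    rw [key] at h1
    have h2 : IsIso (ShortComplex.homologyMap ((E.sc n).mapNatTrans adj.unit)) := by
      haveI := h1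
      haveI : IsIso (ShortComplex.homologyMap ((E.sc n).mapNatTrans adj.unit) ≫
          ((E.sc n).mapHomologyIso (L ⋙ R)).hom) :=
        IsIso.of_isIso_comp_left ((E.sc n).mapHomologyIso (𝟭 A)).inv _
      exact IsIso.of_isIso_comp_right _ ((E.sc n).mapHomologyIso (L ⋙ R)).hom
    exact h2
  haveI : IsIso (DerivedCategory.Q.map u) := by
    rw [DerivedCategory.isIso_Q_map_iff_quasiIso]
    exact hu
  exact ⟨DerivedCategory.Q.obj ((L.mapHomologicalComplex _).obj E),
    ⟨R.mapDerivedCategoryFactors.app _ ≪≫ (asIso (DerivedCategory.Q.map u)).symm ≪≫ e⟩⟩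

end Groth.Agent.Lib.Helper5.DerAdj
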