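import Mathlib
import Groth.Prelude.Def_RDer
import Groth.Agent.Lib.Helper5.Misc.LerayAcyc

/-!
# The first edge map of a composite is an isomorphism on acyclic objects
-/

set_option autoImplicit false
open CategoryTheory CategoryTheory.Limits

namespace Groth.Agent.Lib.Helper5.Misc.EdgeInIso

universe v₁ v₂ v₃ u₁ u₂ u₃
variable {A : Type u₁} [Category.{v₁} A] [Abelian A] [HasInjectiveResolutions A]
  {B : Type u₂} [Category.{v₂} B] [Abelian B] [HasInjectiveResolutions B]
  {C : Type u₃} [Category.{v₃} C] [Abelian C]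

theorem isIso_edgeIn [EnoughInjectives A] (Φ : A ⥤ B) [Φ.Additive] [Φ.PreservesInjectiveObjects]
    [PreservesFiniteLimits Φ] (Ψ : B ⥤ C) [Ψ.Additive] (q : ℕ) (X : A)
    (hX : ∀ i : ℕ, 0 < i → IsZero ((Φ.rightDerived i).obj X)) :
    IsIso (RDer.edgeIn Φ Ψ q X) := by
  let J := injectiveResolution (Φ.obj X)
  let I' := LerayAcyc.mapInjectiveResolution Φ hX (injectiveResolution X)
  let d : J.cocomplex ⟶ I'.cocomplex :=
    RDer.descToInjectives (𝟙 (Φ.obj X)) J.cocomplex J.ι
      ((Φ.mapHomologicalComplex _).obj (injectiveResolution X).cocomplex)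
      (RDer.mapAug Φ (injectiveResolution X).ι)
  have comm : J.ι ≫ d = (CochainComplex.single₀ B).map (𝟙 (Φ.obj X)) ≫ I'.ι := by
    apply HomologicalComplex.from_single_hom_ext
    rw [HomologicalComplex.comp_f, HomologicalComplex.comp_f]
    exact (RDer.ι_descToInjectives_f_zero (𝟙 (Φ.obj X)) J.cocomplex J.ι _ _).trans (by simp; rfl)
  let e := InjectiveResolution.homotopyEquiv J I'
  have h : Homotopy d e.hom :=
    InjectiveResolution.descHomotopy (𝟙 (Φ.obj X)) d e.hom comm (by simp [e])
  have hm : HomologicalComplex.homologyMap ((Ψ.mapHomologicalComplex _).map d) q =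
      ((Ψ.mapHomotopyEquiv e).toHomologyIso q).hom :=
    (Ψ.mapHomotopy h).homologyMap_eq q
  have : IsIso ((HomologicalComplex.homologyFunctor C _ q).map
      ((Ψ.mapHomologicalComplex _).map d)) := by
    change IsIso (HomologicalComplex.homologyMap ((Ψ.mapHomologicalComplex _).map d) q)
    rw [hm]
    infer_instance
  unfold RDer.edgeIn
  exact @IsIso.comp_isIso _ _ _ _ _ _ _ inferInstance
    (@IsIso.comp_isIso _ _ _ _ _ _ _ this inferInstance)

end Groth.Agent.Lib.Helper5.Misc.EdgeInIso
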