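import Mathlib
import Groth.Prelude.Def_EtBase
import Groth.Agent.Lib.Helper5.Misc.EtSiteBasic
import Groth.Agent.Lib.Helper5.Misc.EtGlue

/-!
# Base change along a closed immersion is "almost full" on étale schemes (helper5)
-/

set_option autoImplicit false
universe u
open CategoryTheory CategoryTheory.Limits AlgebraicGeometry Opposite

namespace Groth.Agent.Lib.Helper5.EtClosedFull

open EtSiteBasic

/-- A section of an unramified morphism locally of finite type is an open immersion. -/
lemma isOpenImmersion_of_section {S C : Scheme.{u}} (s : S ⟶ C) (q : C ⟶ S)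
    [LocallyOfFiniteType q] [FormallyUnramified q] (h : s ≫ q = 𝟙 S) : IsOpenImmersion s := by
  haveI : MorphismProperty.HasOfPostcompProperty @IsOpenImmersion
      (@LocallyOfFiniteType ⊓ @FormallyUnramified) := by
    rw [MorphismProperty.hasOfPostcompProperty_iff_le_diagonal]
    intro X Y f ⟨hft, hfu⟩
    exact inferInstanceAs <| IsOpenImmersion (pullback.diagonal f)
  refine MorphismProperty.of_postcomp (W := @IsOpenImmersion)
    (W' := @LocallyOfFiniteType ⊓ @FormallyUnramified) s q ⟨‹_›, ‹_›⟩ ?_
  rw [h]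
  exact inferInstanceAs <| IsOpenImmersion (𝟙 S)

/-- Opens of a closed subscheme extend to the ambient scheme. -/
lemma exists_opens_preimage_eq {C P : Scheme.{u}} (c : C ⟶ P) [IsClosedImmersion c]
    (O : C.Opens) : ∃ W : P.Opens, c ⁻¹ᵁ W = O := by
  have hcl : IsClosed (c.base '' (O : Set C)ᶜ) :=
    c.isClosedEmbedding.isClosedMap _ O.isOpen.isClosed_compl
  refine ⟨⟨(c.base '' (O : Set C)ᶜ)ᶜ, hcl.isOpen_compl⟩, ?_⟩
  ext y
  change c.base y ∉ c.base '' (O : Set C)ᶜ ↔ y ∈ O
  rw [c.isClosedEmbedding.injective.mem_set_image]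
  exact not_not

/-- In a cartesian square the range of the base change is the preimage of the range. -/
lemma range_of_isPullback {A B C D : Scheme.{u}} {f' : A ⟶ B} {g' : A ⟶ C} {g : B ⟶ D}
    {f : C ⟶ D} (h : IsPullback f' g' g f) :
    Set.range f' = g ⁻¹' Set.range f := by
  ext b
  constructor
  · rintro ⟨a, rfl⟩
    refine ⟨g' a, ?_⟩
    rw [← Scheme.Hom.comp_apply, ← Scheme.Hom.comp_apply, h.w]
  · rintro ⟨c, hc⟩
    obtain ⟨z, hz1, -⟩ := Scheme.Pullback.exists_preimage_pullback (f := g) (g := f) b c hc.symm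
    refine ⟨h.isoPullback.inv z, ?_⟩
    rw [← hz1, ← Scheme.Hom.comp_apply, h.isoPullback_inv_fst]

section Pure

variable {A A' X Z : Scheme.{u}} (u : A ⟶ X) (u' : A' ⟶ X) (i : Z ⟶ X)
  (hl : pullback u i ⟶ pullback u' i) (hhl : hl ≫ pullback.snd u' i = pullback.snd u i)

/-- The graph of `hl`. -/
noncomputable def graph : pullback u i ⟶ pullback (pullback.fst u u' ≫ u) i :=
  pullback.lift
    (pullback.lift (pullback.fst u i) (hl ≫ pullback.fst u' i) (by
      rw [Category.assoc, pullback.condition, pullback.condition, ← Category.assoc, hhl]))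
    (pullback.snd u i) (by
      rw [← Category.assoc, pullback.lift_fst, pullback.condition])

/-- first projection after base change -/
noncomputable def q₁ : pullback (pullback.fst u u' ≫ u) i ⟶ pullback u i :=
  pullback.lift (pullback.fst (pullback.fst u u' ≫ u) i ≫ pullback.fst u u')
    (pullback.snd (pullback.fst u u' ≫ u) i) (by
      have c1 : pullback.fst (pullback.fst u u' ≫ u) i ≫ (pullback.fst u u' ≫ u) =
        pullback.snd (pullback.fst u u' ≫ u) i ≫ i := pullback.condition
      rw [Category.assoc]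
      exact c1)

/-- second projection after base change -/
noncomputable def q₂ : pullback (pullback.fst u u' ≫ u) i ⟶ pullback u' i :=
  pullback.lift (pullback.fst (pullback.fst u u' ≫ u) i ≫ pullback.snd u u')
    (pullback.snd (pullback.fst u u' ≫ u) i) (by
      have c1 : pullback.fst (pullback.fst u u' ≫ u) i ≫ (pullback.fst u u' ≫ u) =
        pullback.snd (pullback.fst u u' ≫ u) i ≫ i := pullback.condition
      have c2 : pullback.fst u u' ≫ u = pullback.snd u u' ≫ u' := pullback.condition
      rw [Category.assoc, ← c2]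
      exact c1)

lemma graph_q₁ : graph u u' i hl hhl ≫ q₁ u u' i = 𝟙 _ := by
  apply pullback.hom_ext
  · unfold graph q₁
    rw [Category.assoc, pullback.lift_fst, ← Category.assoc, pullback.lift_fst,
      pullback.lift_fst, Category.id_comp]
  · unfold graph q₁
    rw [Category.assoc, pullback.lift_snd, pullback.lift_snd, Category.id_comp]

lemma graph_q₂ : graph u u' i hl hhl ≫ q₂ u u' i = hl := by
  apply pullback.hom_ext
  · unfold graph q₂
    rw [Category.assoc, pullback.lift_fst, ← Category.assoc, pullback.lift_fst,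
      pullback.lift_snd]
  · unfold graph q₂
    rw [Category.assoc, pullback.lift_snd, pullback.lift_snd, hhl]

end Pure

section Main

variable {Z X : Scheme.{u}} (i : Z ⟶ X) [IsClosedImmersion i] (U U' : X.Etale)

set_option backward.isDefEq.respectTransparency.types false in
/-- A morphism of étale schemes whose underlying morphism of schemes is an isomorphism is an
isomorphism. -/
lemma isIso_of_isIso_left {S : Scheme.{u}} {A B : S.Etale} (f : A ⟶ B) [hf : IsIso f.left] :
    IsIso f := by
  have hw : inv f.left ≫ A.hom = B.hom := by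
    rw [IsIso.inv_comp_eq]
    exact (Over.w f.hom).symm
  refine ⟨MorphismProperty.Over.homMk (inv f.left) hw trivial, ?_, ?_⟩
  · apply MorphismProperty.Over.Hom.ext
    exact IsIso.hom_inv_id f.left
  · apply MorphismProperty.Over.Hom.ext
    exact IsIso.inv_hom_id f.left

set_option backward.isDefEq.respectTransparency.types false in
/-- Base change along a closed immersion is "almost full". -/
theorem almost_full (h : (EtCoh.bc i).obj U ⟶ (EtCoh.bc i).obj U') :
    ∃ (W : X.Etale) (a : W ⟶ U) (b : W ⟶ U'), IsIso ((EtCoh.bc i).map a) ∧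
      (EtCoh.bc i).map a ≫ h = (EtCoh.bc i).map b := by
  haveI : Etale U.hom := U.prop
  haveI : Etale U'.hom := U'.prop
  have hhl : h.left ≫ pullback.snd U'.hom i = pullback.snd U.hom i := Over.w h.hom
  let P : X.Etale := ofEtale (pullback.fst U.hom U'.hom ≫ U.hom)
  let fP : P ⟶ U := MorphismProperty.Over.homMk (pullback.fst U.hom U'.hom) rfl trivial
  let sP : P ⟶ U' := MorphismProperty.Over.homMk (pullback.snd U.hom U'.hom)
    pullback.condition.symm trivial
  have e1 : ((EtCoh.bc i).map fP).left = q₁ U.hom U'.hom i := EtGlue.bc_map_left i fP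
  have e2 : ((EtCoh.bc i).map sP).left = q₂ U.hom U'.hom i := EtGlue.bc_map_left i sP
  haveI : Etale (q₁ U.hom U'.hom i) := by
    haveI : Etale (q₁ U.hom U'.hom i ≫ pullback.snd U.hom i) := by
      unfold q₁
      rw [pullback.lift_snd]
      infer_instance
    exact Etale.of_comp _ (pullback.snd U.hom i)
  haveI : IsOpenImmersion (graph U.hom U'.hom i h.left hhl) :=
    isOpenImmersion_of_section _ (q₁ U.hom U'.hom i) (graph_q₁ U.hom U'.hom i h.left hhl)
  obtain ⟨W₀, hW₀⟩ := exists_opens_preimage_eq
    (pullback.fst (pullback.fst U.hom U'.hom ≫ U.hom) i)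
    (graph U.hom U'.hom i h.left hhl).opensRange
  let W : X.Etale := ofEtale (W₀.ι ≫ (pullback.fst U.hom U'.hom ≫ U.hom))
  let w : W ⟶ P := MorphismProperty.Over.homMk W₀.ι rfl trivial
  let m : pullback (W₀.ι ≫ (pullback.fst U.hom U'.hom ≫ U.hom)) i ⟶
      pullback (pullback.fst U.hom U'.hom ≫ U.hom) i := ((EtCoh.bc i).map w).left
  have sq : IsPullback m (pullback.fst (W₀.ι ≫ (pullback.fst U.hom U'.hom ≫ U.hom)) i)
      (pullback.fst (pullback.fst U.hom U'.hom ≫ U.hom) i) W₀.ι :=
    EtCoh.isPullback_bc_map i w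
  haveI : IsOpenImmersion m :=
    MorphismProperty.of_isPullback (P := @IsOpenImmersion) sq.flip
      (inferInstanceAs (IsOpenImmersion W₀.ι))
  have hr : Set.range m = Set.range (graph U.hom U'.hom i h.left hhl) := by
    rw [range_of_isPullback sq, Scheme.Opens.range_ι W₀]
    exact congrArg (fun O : TopologicalSpace.Opens
      ↥(pullback (pullback.fst U.hom U'.hom ≫ U.hom) i) => O.carrier) hW₀
  obtain ⟨e, he⟩ : ∃ e : pullback (W₀.ι ≫ (pullback.fst U.hom U'.hom ≫ U.hom)) i ≅
      pullback U.hom i, e.hom ≫ graph U.hom U'.hom i h.left hhl = m :=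
    ⟨IsOpenImmersion.isoOfRangeEq m (graph U.hom U'.hom i h.left hhl) hr,
      IsOpenImmersion.isoOfRangeEq_hom_fac _ _ hr⟩
  have e1' : m ≫ q₁ U.hom U'.hom i = e.hom :=
    (congrArg (fun z => z ≫ q₁ U.hom U'.hom i) he.symm).trans
      ((Category.assoc _ _ _).trans ((congrArg (fun z => e.hom ≫ z)
        (graph_q₁ U.hom U'.hom i h.left hhl)).trans (Category.comp_id _)))
  have e2' : m ≫ q₂ U.hom U'.hom i = e.hom ≫ h.left :=
    (congrArg (fun z => z ≫ q₂ U.hom U'.hom i) he.symm).trans
      ((Category.assoc _ _ _).trans (congrArg (fun z => e.hom ≫ z)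
        (graph_q₂ U.hom U'.hom i h.left hhl)))
  refine ⟨W, w ≫ fP, w ≫ sP, ?_, ?_⟩
  · have hl : ((EtCoh.bc i).map (w ≫ fP)).left = e.hom := by
      rw [Functor.map_comp]
      refine Eq.trans ?_ e1'
      exact congrArg (fun z => ((EtCoh.bc i).map w).left ≫ z) e1
    haveI : IsIso ((EtCoh.bc i).map (w ≫ fP)).left := by
      rw [hl]
      infer_instance
    exact isIso_of_isIso_left _
  · apply MorphismProperty.Over.Hom.ext
    rw [Functor.map_comp, Functor.map_comp]
    have a1 : (((EtCoh.bc i).map w).left ≫ ((EtCoh.bc i).map fP).left) ≫ h.left =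
        (m ≫ q₁ U.hom U'.hom i) ≫ h.left :=
      congrArg (fun z => (((EtCoh.bc i).map w).left ≫ z) ≫ h.left) e1
    have a2 : ((EtCoh.bc i).map w).left ≫ ((EtCoh.bc i).map sP).left =
        m ≫ q₂ U.hom U'.hom i :=
      congrArg (fun z => ((EtCoh.bc i).map w).left ≫ z) e2
    exact a1.trans ((congrArg (fun z => z ≫ h.left) e1').trans (e2'.symm.trans a2.symm))

end Main

end Groth.Agent.Lib.Helper5.EtClosedFull
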