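import Mathlib
import Groth.Prelude.Def_EtBase
import Groth.Agent.Lib.Helper5.Misc.EtClosedLift
import Groth.Agent.Lib.Helper5.Misc.EtSiteBasic
import Groth.Agent.Lib.Helper5.Misc.EtClosedFull

/-!
# Base change along a closed immersion is a dense subsite functor (helper5)
-/

set_option autoImplicit false
universe u
open CategoryTheory CategoryTheory.Limits AlgebraicGeometry Opposite

namespace Groth.Agent.Lib.Helper5.EtClosedDense

open EtSiteBasic

variable {Z X : Scheme.{u}} (i : Z ⟶ X)

set_option backward.isDefEq.respectTransparency.types false in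
/-- Every étale `Z`-scheme is covered by base changes of étale `X`-schemes. -/
instance isCoverDense [IsClosedImmersion i] :
    (EtCoh.bc i).IsCoverDense Z.smallEtaleTopology where
  is_cover W := by
    rw [mem_smallEtale_iff]
    intro p
    haveI : Etale W.hom := W.prop
    obtain ⟨V, v, hv, T, t, ht, a, ⟨z, hz⟩, hpb⟩ := EtClosedLift.exists_lift i W.hom p
    haveI := hv
    have hw : (hpb.isoPullback.inv ≫ t) ≫ W.hom = pullback.snd v i := by
      rw [Category.assoc]
      exact hpb.isoPullback_inv_snd
    refine ⟨(EtCoh.bc i).obj (ofEtale v), MorphismProperty.Over.homMk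
      (hpb.isoPullback.inv ≫ t) hw trivial, hpb.isoPullback.hom z, ?_, ?_⟩
    · exact ⟨⟨ofEtale v, 𝟙 _, _, Category.id_comp _⟩⟩
    · refine Eq.trans ?_ hz
      change (hpb.isoPullback.hom ≫ hpb.isoPullback.inv ≫ t) z = _
      rw [Iso.hom_inv_id_assoc]

/-- A sieve containing an isomorphism is covering. -/
lemma mem_of_isIso {C : Type*} [Category C] (K : GrothendieckTopology C) {U W : C} (S : Sieve U)
    (g : W ⟶ U) [IsIso g] (hg : S g) : S ∈ K U := by
  have h1 : S (inv g ≫ g) := S.downward_closed hg (inv g)
  rw [IsIso.inv_hom_id] at h1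
  rw [(Sieve.id_mem_iff_eq_top).1 h1]
  exact K.top_mem U

/-- Base change is locally faithful (it preserves equalizers). -/
instance isLocallyFaithful : (EtCoh.bc i).IsLocallyFaithful Z.smallEtaleTopology where
  functorPushforward_equalizer_mem {U V} f₁ f₂ h := by
    haveI : IsIso ((EtCoh.bc i).map (equalizer.ι f₁ f₂)) := by
      have hl := isLimitForkMapOfIsLimit (EtCoh.bc i) (equalizer.condition f₁ f₂)
        (equalizerIsEqualizer f₁ f₂)
      exact isIso_limit_cone_parallelPair_of_eq h hl
    exact mem_of_isIso _ _ ((EtCoh.bc i).map (equalizer.ι f₁ f₂))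
      (Sieve.image_mem_functorPushforward _ _ (equalizer.condition f₁ f₂))

/-- Base change along a closed immersion is locally full. -/
instance isLocallyFull [IsClosedImmersion i] :
    (EtCoh.bc i).IsLocallyFull Z.smallEtaleTopology where
  functorPushforward_imageSieve_mem {U V} f := by
    obtain ⟨W, a, b, ha, hab⟩ := EtClosedFull.almost_full i U V f
    haveI := ha
    exact mem_of_isIso _ _ ((EtCoh.bc i).map a)
      (Sieve.image_mem_functorPushforward _ _ ⟨b, hab.symm⟩)

section Equiv

variable [IsClosedImmersion i] (A : Type*) [Category A]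

/-- The induced topology on `X.Etale`. -/
noncomputable abbrev indTop : GrothendieckTopology X.Etale :=
  (EtCoh.bc i).inducedTopology Z.smallEtaleTopology

/-- Restriction along base change, into sheaves for the induced topology: an equivalence. -/
noncomputable abbrev E : Sheaf Z.smallEtaleTopology A ⥤ Sheaf (indTop i) A :=
  (EtCoh.bc i).sheafPushforwardContinuous A (indTop i) Z.smallEtaleTopology

instance [∀ V, HasLimitsOfShape (StructuredArrow V (EtCoh.bc i).op) A] :
    (E i A).IsEquivalence := inferInstance

/-- The direct image with values in `A`. -/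
noncomputable abbrev pushA : Sheaf Z.smallEtaleTopology A ⥤ Sheaf X.smallEtaleTopology A :=
  (EtCoh.bc i).sheafPushforwardContinuous A X.smallEtaleTopology Z.smallEtaleTopology

theorem faithful_pushA : (pushA i A).Faithful where
  map_injective {G G'} ψ₁ ψ₂ h := by
    apply (E i A).map_injective
    ext : 1
    exact congrArg (fun φ => φ.hom) h

theorem full_pushA : (pushA i A).Full where
  map_surjective {G G'} φ := by
    let φ' : (E i A).obj G ⟶ (E i A).obj G' := ⟨φ.hom⟩
    refine ⟨(E i A).preimage φ', ?_⟩
    ext : 1
    exact congrArg (fun φ => φ.hom) ((E i A).map_preimage φ')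

end Equiv

end Groth.Agent.Lib.Helper5.EtClosedDense
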