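import Mathlib
import Groth.Prelude.Def_EtBase
import Groth.Prelude.Def_EtShriek2
import Groth.Prelude.Def_SGA4b
import Groth.Agent.Lib.Helper5.Misc.JContGen
import Groth.Agent.Lib.Helper5.Misc.EtOpenImm

/-!
# Open immersions and sheaves of sets on small étale sites (helper5)
-/

set_option autoImplicit false
universe u
open CategoryTheory CategoryTheory.Limits AlgebraicGeometry Opposite

namespace Groth.Agent.Lib.Helper5.EtOpenImmSh

open Groth.Agent.Lib.Helper5.Misc

variable {U X : Scheme.{u}} (j : U ⟶ X) [hj : Etale j]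

/-- Restriction of sheaves of sets along an étale morphism. -/
noncomputable abbrev restrSh : EtDesc.Sh X ⥤ EtDesc.Sh U :=
  haveI : EtShriek.JCont j := JContGen.jCont j
  (EtShriek.compEtale j).sheafPushforwardContinuous (Type (u + 1)) U.smallEtaleTopology
    X.smallEtaleTopology

/-- Restriction is left adjoint to the direct image. -/
noncomputable def restrPushAdjSh : restrSh j ⊣ EtDesc.pushSh j :=
  haveI : (MorphismProperty.Over.map (P := EtCoh.etaleMP.{u}) ⊤ (f := j) hj).IsContinuous
      U.smallEtaleTopology X.smallEtaleTopology := JContGen.jCont j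
  haveI : (MorphismProperty.Over.pullback EtCoh.etaleMP.{u} ⊤ j).IsContinuous
      X.smallEtaleTopology U.smallEtaleTopology := EtCoh.bcCont j
  (MorphismProperty.Over.mapPullbackAdj EtCoh.etaleMP.{u} ⊤ j hj trivial).sheafPushforwardContinuous
    (E := Type (u + 1)) U.smallEtaleTopology X.smallEtaleTopology

/-- For étale `j`, the inverse image of sheaves of sets is restriction. -/
noncomputable def pullIsoSh : EtDesc.pullSh j ≅ restrSh j :=
  (EtDesc.adjSh j).leftAdjointUniq (restrPushAdjSh j)

/-- `j_* ⋙ j⁻¹ ≅ id` on sheaves of sets, for a monomorphic étale `j`. -/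
noncomputable def pushRestrIsoSh [Mono j] :
    EtDesc.pushSh j ⋙ restrSh j ≅ 𝟭 (EtDesc.Sh U) :=
  haveI : EtShriek.JCont j := JContGen.jCont j
  haveI : (EtShriek.compEtale j ⋙ EtCoh.bc j).IsContinuous U.smallEtaleTopology
      U.smallEtaleTopology :=
    Functor.isContinuous_comp _ _ _ X.smallEtaleTopology _
  Functor.sheafPushforwardContinuousComp (EtShriek.compEtale j) (EtCoh.bc j)
      (Type (u + 1)) U.smallEtaleTopology X.smallEtaleTopology U.smallEtaleTopology ≪≫
    Functor.sheafPushforwardContinuousId' (asIso (EtOpenImm.siteAdj j).unit).symm (Type (u + 1))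
      U.smallEtaleTopology

theorem isIso_counit_restrPushSh [Mono j] : IsIso (restrPushAdjSh j).counit :=
  (restrPushAdjSh j).isIso_counit_of_iso (pushRestrIsoSh j)

theorem isIso_counit_adjSh [Mono j] (F : EtDesc.Sh U) :
    IsIso ((EtDesc.adjSh j).counit.app F) := by
  haveI := isIso_counit_restrPushSh j
  have h := Adjunction.leftAdjointUniq_hom_app_counit (EtDesc.adjSh j) (restrPushAdjSh j) F
  rw [← h]
  infer_instance

theorem full_pushSh [Mono j] : (EtDesc.pushSh j).Full := by
  haveI : IsIso (EtDesc.adjSh j).counit := by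
    haveI : ∀ F, IsIso ((EtDesc.adjSh j).counit.app F) := isIso_counit_adjSh j
    exact NatIso.isIso_of_isIso_app _
  exact (EtDesc.adjSh j).fullyFaithfulROfIsIsoCounit.full

theorem faithful_pushSh [Mono j] : (EtDesc.pushSh j).Faithful := by
  haveI : IsIso (EtDesc.adjSh j).counit := by
    haveI : ∀ F, IsIso ((EtDesc.adjSh j).counit.app F) := isIso_counit_adjSh j
    exact NatIso.isIso_of_isIso_app _
  exact (EtDesc.adjSh j).fullyFaithfulROfIsIsoCounit.faithful

end Groth.Agent.Lib.Helper5.EtOpenImmSh
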