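import Mathlib
import Groth.Prelude.Def_BigSite
import Groth.Prelude.Def_SGA4b
import Groth.Agent.Lib.Helper5.Misc.EtSiteBasic
import Groth.Agent.Lib.Helper5.Misc.EtGlue

/-!
# Condition (A): the counit `f⁻¹ f_* F ⟶ F` is an epimorphism (helper5)
-/

set_option autoImplicit false
universe u
open CategoryTheory CategoryTheory.Limits AlgebraicGeometry Opposite

namespace Groth.Agent.Lib.Helper5.EtPropA

open EtSiteBasic EtGlue

variable {X Y : Scheme.{u}}

/-- The underlying sheaf of sets of an abelian sheaf. -/
noncomputable def und (F : EtCoh.Ab X) : EtDesc.Sh X :=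
  (sheafCompose X.smallEtaleTopology (forget AddCommGrpCat.{u + 1})).obj F

/-- Extension by zero over an open and closed piece. -/
lemma extend_by_zero (F : EtCoh.Ab X) {P W Wc : X.Etale} (w : W ⟶ P) (wc : Wc ⟶ P)
    (hw : Mono w.left) (hwc : Mono wc.left)
    (hdisj : Disjoint (Set.range w.left) (Set.range wc.left))
    (hcov : ∀ x : P.left, x ∈ Set.range w.left ∨ x ∈ Set.range wc.left)
    (s : F.obj.obj (op W)) : ∃ t : F.obj.obj (op P), F.obj.map w.op t = s := by
  let W' : Bool → X.Etale := fun b => match b with
    | true => W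
    | false => Wc
  let w' : ∀ b, W' b ⟶ P := fun b => match b with
    | true => w
    | false => wc
  let x : ∀ b, (und F).obj.obj (op (W' b)) := fun b => match b with
    | true => s
    | false => (0 : F.obj.obj (op Wc))
  obtain ⟨t, ht⟩ := glue_disjoint (und F) W' w'
    (fun b => match b with
      | true => hw
      | false => hwc)
    (fun a b hab => match a, b, hab with
      | true, false, _ => hdisj
      | false, true, _ => hdisj.symm
      | true, true, h => (h rfl).elim
      | false, false, h => (h rfl).elim)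
    (fun p => (hcov p).elim (fun h => ⟨true, h⟩) (fun h => ⟨false, h⟩)) x
  exact ⟨t, ht true⟩

/-- Under condition (A), the counit `f⁻¹ f_* F ⟶ F` is locally surjective, hence an epimorphism. -/
theorem epi_counit (f : X ⟶ Y) (hA : BigSite.PropA f) (F : EtCoh.Ab X) :
    Epi ((EtCoh.pullPushAdj f).counit.app F) := by
  haveI : Sheaf.IsLocallySurjective ((EtCoh.pullPushAdj f).counit.app F) := by
    refine ⟨fun {U} t => ?_⟩
    rw [mem_smallEtale_iff]
    intro u
    obtain ⟨V, v, hv, W, hWc, h, hh, ⟨z, hz⟩⟩ := hA U.left U.hom u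
    haveI := hv
    let V₀ : Y.Etale := ofEtale v
    let Wc : (pullback f v).Opens := ⟨(W : Set ↥(pullback f v))ᶜ, hWc.isOpen_compl⟩
    let W' : X.Etale := ofEtale (W.ι ≫ pullback.fst f v)
    let W'c : X.Etale := ofEtale (Wc.ι ≫ pullback.fst f v)
    let w : W' ⟶ (EtCoh.bc f).obj V₀ :=
      MorphismProperty.Over.homMk (W.ι ≫ (pullbackSymmetry f v).hom) (by
        change (W.ι ≫ (pullbackSymmetry f v).hom) ≫ pullback.snd v f = W.ι ≫ pullback.fst f v
        rw [Category.assoc, pullbackSymmetry_hom_comp_snd]) trivial
    let wc : W'c ⟶ (EtCoh.bc f).obj V₀ :=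
      MorphismProperty.Over.homMk (Wc.ι ≫ (pullbackSymmetry f v).hom) (by
        change (Wc.ι ≫ (pullbackSymmetry f v).hom) ≫ pullback.snd v f = Wc.ι ≫ pullback.fst f v
        rw [Category.assoc, pullbackSymmetry_hom_comp_snd]) trivial
    let k : W' ⟶ U := MorphismProperty.Over.homMk h hh trivial
    refine ⟨W', k, z, ?_, hz⟩
    have hw : Mono w.left := by
      change Mono (W.ι ≫ (pullbackSymmetry f v).hom)
      infer_instance
    have hwc : Mono wc.left := by
      change Mono (Wc.ι ≫ (pullbackSymmetry f v).hom)
      infer_instance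
    have rw1 : Set.range w.left = (pullbackSymmetry f v).hom '' (W : Set ↥(pullback f v)) := by
      change Set.range (W.ι ≫ (pullbackSymmetry f v).hom).base = _
      rw [Scheme.Hom.comp_base, TopCat.coe_comp, Set.range_comp, Scheme.Opens.range_ι]
    have rw2 : Set.range wc.left = (pullbackSymmetry f v).hom '' (W : Set ↥(pullback f v))ᶜ := by
      change Set.range (Wc.ι ≫ (pullbackSymmetry f v).hom).base = _
      rw [Scheme.Hom.comp_base, TopCat.coe_comp, Set.range_comp, Scheme.Opens.range_ι]
      rfl
    have hinj : Function.Injective (pullbackSymmetry f v).hom :=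
      (pullbackSymmetry f v).hom.homeomorph.injective
    have hsurj : Function.Surjective (pullbackSymmetry f v).hom :=
      (pullbackSymmetry f v).hom.homeomorph.surjective
    have hdisj : Disjoint (Set.range w.left) (Set.range wc.left) := by
      rw [rw1, rw2]
      exact (Set.disjoint_image_iff hinj).2 disjoint_compl_right
    have hcov : ∀ x : ((EtCoh.bc f).obj V₀).left,
        x ∈ Set.range w.left ∨ x ∈ Set.range wc.left := by
      intro x
      rw [rw1, rw2]
      obtain ⟨q, rfl⟩ := hsurj x
      by_cases hq : q ∈ (W : Set ↥(pullback f v))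
      · exact Or.inl ⟨q, hq, rfl⟩
      · exact Or.inr ⟨q, hq, rfl⟩
    obtain ⟨t', ht'⟩ := extend_by_zero F w wc hw hwc hdisj hcov (F.obj.map k.op t)
    -- the triangle identity
    have tri := (EtCoh.pullPushAdj f).right_triangle_components F
    have tri' := congrArg (fun φ => φ.hom.app (op V₀)) tri
    have hr := ConcreteCategory.congr_hom tri' t'
    refine ⟨((EtCoh.pull f).obj ((EtCoh.push f).obj F)).obj.map w.op
      ((((EtCoh.pullPushAdj f).unit.app ((EtCoh.push f).obj F)).hom.app (op V₀)) t'), ?_⟩
    have nat := ConcreteCategory.congr_hom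
      (((EtCoh.pullPushAdj f).counit.app F).hom.naturality w.op)
      ((((EtCoh.pullPushAdj f).unit.app ((EtCoh.push f).obj F)).hom.app (op V₀)) t')
    refine nat.trans ?_
    refine Eq.trans ?_ ht'
    exact congrArg (fun q => F.obj.map w.op q) hr
  infer_instance

end Groth.Agent.Lib.Helper5.EtPropA
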