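import Mathlib
import Groth.Prelude.Def_EtBase
import Groth.Prelude.Def_EtShriek2
import Groth.Agent.Lib.Helper5.Misc.EtGlue

/-!
# Extension by zero commutes with inverse image (helper5)
-/

set_option autoImplicit false
universe u
open CategoryTheory CategoryTheory.Limits AlgebraicGeometry Opposite

namespace Groth.Agent.Lib.Helper5.EtShriekBC

variable {V' V Y X : Scheme.{u}} (j : V ⟶ X) [Etale j] (f : Y ⟶ X) (j' : V' ⟶ Y) [Etale j']
  (f' : V' ⟶ V) (h : IsPullback j' f' f j)

include h in
/-- Pasting: `W ×_V V'` is `W ×_X Y`. -/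
lemma isPullback_paste {W : Scheme.{u}} (w : W ⟶ V) :
    IsPullback (pullback.fst w f') (pullback.snd w f' ≫ j') (w ≫ j) f :=
  ((IsPullback.of_hasPullback w f').flip.paste_horiz h).flip

/-- The comparison isomorphism `W ×_V V' ≅ W ×_X Y`. -/
noncomputable def pasteIso {W : Scheme.{u}} (w : W ⟶ V) :
    pullback w f' ≅ pullback (w ≫ j) f :=
  (isPullback_paste j f j' f' h w).isoPullback

@[reassoc]
lemma pasteIso_hom_fst {W : Scheme.{u}} (w : W ⟶ V) :
    (pasteIso j f j' f' h w).hom ≫ pullback.fst (w ≫ j) f = pullback.fst w f' :=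
  (isPullback_paste j f j' f' h w).isoPullback_hom_fst

@[reassoc]
lemma pasteIso_hom_snd {W : Scheme.{u}} (w : W ⟶ V) :
    (pasteIso j f j' f' h w).hom ≫ pullback.snd (w ≫ j) f = pullback.snd w f' ≫ j' :=
  (isPullback_paste j f j' f' h w).isoPullback_hom_snd

/-- Naturality of `pasteIso`, in pure scheme terms. -/
lemma pasteIso_natural {W W' : Scheme.{u}} (w : W ⟶ V) (w' : W' ⟶ V) (k : W ⟶ W')
    (hk : k ≫ w' = w) :
    pullback.lift (pullback.fst w f' ≫ k) (pullback.snd w f')
        (by rw [Category.assoc, hk, pullback.condition]) ≫ (pasteIso j f j' f' h w').hom =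
      (pasteIso j f j' f' h w).hom ≫
        pullback.lift (pullback.fst (w ≫ j) f ≫ k) (pullback.snd (w ≫ j) f)
          (by rw [Category.assoc, ← Category.assoc k, hk, pullback.condition]) := by
  apply pullback.hom_ext
  · simp only [Category.assoc, pasteIso_hom_fst, pullback.lift_fst, pullback.lift_fst_assoc,
      pasteIso_hom_fst_assoc]
  · simp only [Category.assoc, pasteIso_hom_snd, pullback.lift_snd, pullback.lift_snd_assoc]

set_option backward.isDefEq.respectTransparency.types false in
/-- The site-level isomorphism `bc f' ⋙ compEtale j' ≅ compEtale j ⋙ bc f`. -/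
noncomputable def siteIso :
    EtCoh.bc f' ⋙ EtShriek.compEtale j' ≅ EtShriek.compEtale j ⋙ EtCoh.bc f :=
  NatIso.ofComponents
    (fun W => MorphismProperty.Over.isoMk (pasteIso j f j' f' h W.hom)
      (pasteIso_hom_snd j f j' f' h W.hom))
    (by
      intro W W' k
      apply MorphismProperty.Over.Hom.ext
      change ((EtCoh.bc f').map k).left ≫ (pasteIso j f j' f' h W'.hom).hom =
        (pasteIso j f j' f' h W.hom).hom ≫ ((EtCoh.bc f).map ((EtShriek.compEtale j).map k)).left
      have e1 := EtGlue.bc_map_left f' k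
      have e2 := EtGlue.bc_map_left f ((EtShriek.compEtale j).map k)
      refine (congrArg (· ≫ (pasteIso j f j' f' h W'.hom).hom) e1).trans ?_
      refine Eq.trans ?_ (congrArg ((pasteIso j f j' f' h W.hom).hom ≫ ·) e2).symm
      exact pasteIso_natural j f j' f' h W.hom W'.hom k.left (Over.w k.hom))

variable [EtShriek.JCont j] [EtShriek.JCont j']

/-- `j'⁻¹` then `f'_*` is `f_*` then `j⁻¹`. -/
noncomputable def rightIso :
    EtShriek.restrAlong j' ⋙ EtCoh.push f' ≅ EtCoh.push f ⋙ EtShriek.restrAlong j :=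
  haveI : (EtCoh.bc f' ⋙ EtShriek.compEtale j').IsContinuous V.smallEtaleTopology
      Y.smallEtaleTopology := Functor.isContinuous_comp _ _ _ V'.smallEtaleTopology _
  haveI : (EtShriek.compEtale j ⋙ EtCoh.bc f).IsContinuous V.smallEtaleTopology
      Y.smallEtaleTopology := Functor.isContinuous_comp _ _ _ X.smallEtaleTopology _
  Functor.sheafPushforwardContinuousComp (EtCoh.bc f') (EtShriek.compEtale j')
      AddCommGrpCat.{u + 1} V.smallEtaleTopology V'.smallEtaleTopology Y.smallEtaleTopology ≪≫
    Functor.sheafPushforwardContinuousIso (siteIso j f j' f' h) AddCommGrpCat.{u + 1}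
      V.smallEtaleTopology Y.smallEtaleTopology ≪≫
    (Functor.sheafPushforwardContinuousComp (EtShriek.compEtale j) (EtCoh.bc f)
      AddCommGrpCat.{u + 1} V.smallEtaleTopology X.smallEtaleTopology Y.smallEtaleTopology).symm

/-- Extension by zero commutes with inverse image. -/
noncomputable def extZeroPullIso :
    EtCoh.pull f' ⋙ EtShriek.extZero j' ≅ EtShriek.extZero j ⋙ EtCoh.pull f :=
  (conjugateIsoEquiv ((EtShriek.extZeroAdj j).comp (EtCoh.pullPushAdj f))
    ((EtCoh.pullPushAdj f').comp (EtShriek.extZeroAdj j'))).symm (rightIso j f j' f' h).symm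

end Groth.Agent.Lib.Helper5.EtShriekBC
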