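import Mathlib

/-!
# Fibres of a left adjoint of restriction along a continuous functor (helper5)

Let `G : C ⥤ D` be a continuous functor between sites, `L ⊣ G^*` a left adjoint of the restriction
functor on `A`-valued sheaves, `Φ` a point of `D` and `Ψ i` points of `C` such that
`Φ.fiber (G W) = ⨿ i, (Ψ i).fiber W` naturally in `W`.  Then the fibre of `L F` at `Φ` is the
coproduct of the fibres of `F` at the `Ψ i`.
-/

set_option autoImplicit false
universe w v₁ v₂ v' u₁ u₂ u'
open CategoryTheory CategoryTheory.Limits Opposite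

namespace Groth.Agent.Lib.Helper5.StalkShriekGen

section Sky

variable {D : Type u₂} [Category.{v₂} D] {K : GrothendieckTopology D}
  {A : Type u'} [Category.{v'} A] [HasProducts.{w} A]
  (Φ : GrothendieckTopology.Point.{w} K)

lemma sky_map_π (M : A) {V V' : D} (h : V' ⟶ V) (x : Φ.fiber.obj V') :
    (Φ.skyscraperSheaf M).obj.map h.op ≫ Pi.π (fun _ => M) x =
      Pi.π (fun _ => M) (Φ.fiber.map h x) := by
  change Pi.map' _ _ ≫ _ = _
  simp

lemma sky_functor_map_π {M N : A} (f : M ⟶ N) (V : D) (x : Φ.fiber.obj V) :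
    (Φ.skyscraperSheafFunctor.map f).hom.app (op V) ≫ Pi.π (fun _ => N) x =
      Pi.π (fun _ => M) x ≫ f := by
  change Limits.Pi.map (fun _ => f) ≫ _ = _
  simp

end Sky

variable {C : Type u₁} [Category.{v₁} C] {D : Type u₂} [Category.{v₂} D]
  {J : GrothendieckTopology C} {K : GrothendieckTopology D}
  (G : C ⥤ D) [G.IsContinuous J K]
  {A : Type u'} [Category.{v'} A] [HasProducts.{w} A]
  (Φ : GrothendieckTopology.Point.{w} K) {I : Type*} (Ψ : I → GrothendieckTopology.Point.{w} J)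
  (incl : ∀ i, (Ψ i).fiber ⟶ G ⋙ Φ.fiber)

/-- The projection `G^* Sky_Φ M ⟶ Sky_{Ψ i} M`. -/
noncomputable def proj (i : I) (M : A) :
    (G.sheafPushforwardContinuous A J K).obj (Φ.skyscraperSheaf M) ⟶ (Ψ i).skyscraperSheaf M :=
  ⟨{ app := fun W => Pi.lift (fun y => Pi.π (fun _ : Φ.fiber.obj (G.obj W.unop) => M)
        ((incl i).app W.unop y))
     naturality := by
       intro W W' g
       apply Pi.hom_ext
       intro y
       have n := ConcreteCategory.congr_hom ((incl i).naturality g.unop) y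
       have e1 := sky_map_π Φ M (G.map g.unop) ((incl i).app W'.unop y)
       have e2 := sky_map_π (Ψ i) M g.unop y
       refine (Category.assoc _ _ _).trans ?_
       refine Eq.trans ?_ (Category.assoc _ _ _).symm
       refine (congrArg (fun z => ((G.sheafPushforwardContinuous A J K).obj
         (Φ.skyscraperSheaf M)).obj.map g ≫ z) (Pi.lift_π _ _)).trans ?_
       refine e1.trans ?_
       refine Eq.trans ?_ (congrArg (fun z => Pi.lift (fun y => Pi.π (fun _ :
         Φ.fiber.obj (G.obj W.unop) => M) ((incl i).app W.unop y)) ≫ z) e2).symm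
       refine Eq.trans ?_ (Pi.lift_π (fun y => Pi.π (fun _ : Φ.fiber.obj (G.obj W.unop) => M)
         ((incl i).app W.unop y)) ((Ψ i).fiber.map g.unop y)).symm
       exact congrArg (fun z => Pi.π (fun _ : Φ.fiber.obj (G.obj W.unop) => M) z) n.symm }⟩

lemma proj_app_π (i : I) (M : A) (W : C) (y : (Ψ i).fiber.obj W) :
    (proj G Φ Ψ incl i M).hom.app (op W) ≫ Pi.π (fun _ => M) y =
      Pi.π (fun _ : Φ.fiber.obj (G.obj W) => M) ((incl i).app W y) :=
  Pi.lift_π _ _

lemma proj_natural (i : I) {M N : A} (f : M ⟶ N) :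
    (G.sheafPushforwardContinuous A J K).map (Φ.skyscraperSheafFunctor.map f) ≫
      proj G Φ Ψ incl i N = proj G Φ Ψ incl i M ≫ (Ψ i).skyscraperSheafFunctor.map f := by
  ext W : 3
  induction W using Opposite.rec with | _ W => ?_
  apply Pi.hom_ext
  intro y
  change ((Φ.skyscraperSheafFunctor.map f).hom.app (op (G.obj W)) ≫
    (proj G Φ Ψ incl i N).hom.app (op W)) ≫ _ = ((proj G Φ Ψ incl i M).hom.app (op W) ≫
      ((Ψ i).skyscraperSheafFunctor.map f).hom.app (op W)) ≫ _
  refine (Category.assoc _ _ _).trans ?_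
  refine Eq.trans ?_ (Category.assoc _ _ _).symm
  refine (congrArg (fun z => (Φ.skyscraperSheafFunctor.map f).hom.app (op (G.obj W)) ≫ z)
    (proj_app_π G Φ Ψ incl i N W y)).trans ?_
  refine Eq.trans ?_ (congrArg (fun z => (proj G Φ Ψ incl i M).hom.app (op W) ≫ z)
    (sky_functor_map_π (Ψ i) f W y)).symm
  refine Eq.trans ?_ (Category.assoc _ _ _)
  refine Eq.trans ?_ (congrArg (fun z => z ≫ f) (proj_app_π G Φ Ψ incl i M W y)).symm
  exact sky_functor_map_π Φ f (G.obj W) _

section Bij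

variable (hbij : ∀ W : C, Function.Bijective
    (fun p : Σ i, (Ψ i).fiber.obj W => (incl p.1).app W p.2))

/-- The decomposition of a point of the fibre of `G W`. -/
noncomputable def sp (W : C) (x : Φ.fiber.obj (G.obj W)) : Σ i, (Ψ i).fiber.obj W :=
  (Equiv.ofBijective _ (hbij W)).symm x

include hbij in
lemma sp_incl (W : C) (i : I) (y : (Ψ i).fiber.obj W) :
    sp G Φ Ψ incl hbij W ((incl i).app W y) = ⟨i, y⟩ :=
  (Equiv.ofBijective _ (hbij W)).symm_apply_apply ⟨i, y⟩

/-- The glued morphism. -/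
noncomputable def glueApp {F : Sheaf J A} {M : A} (ψ : ∀ i, F ⟶ (Ψ i).skyscraperSheaf M) (W : C) :
    F.obj.obj (op W) ⟶ ∏ᶜ (fun _ : Φ.fiber.obj (G.obj W) => M) :=
  Pi.lift (fun x => (ψ (sp G Φ Ψ incl hbij W x).1).hom.app (op W) ≫
    Pi.π (fun _ => M) (sp G Φ Ψ incl hbij W x).2)

lemma glueApp_π {F : Sheaf J A} {M : A} (ψ : ∀ i, F ⟶ (Ψ i).skyscraperSheaf M) (W : C)
    (i : I) (y : (Ψ i).fiber.obj W) :
    glueApp G Φ Ψ incl hbij ψ W ≫ Pi.π (fun _ => M) ((incl i).app W y) =
      (ψ i).hom.app (op W) ≫ Pi.π (fun _ => M) y := by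
  refine (Pi.lift_π _ _).trans ?_
  exact congrArg (fun p : Σ i, (Ψ i).fiber.obj W => (ψ p.1).hom.app (op W) ≫
    Pi.π (fun _ => M) p.2) (sp_incl G Φ Ψ incl hbij W i y)

/-- The glued morphism of sheaves. -/
noncomputable def glue {F : Sheaf J A} {M : A} (ψ : ∀ i, F ⟶ (Ψ i).skyscraperSheaf M) :
    F ⟶ (G.sheafPushforwardContinuous A J K).obj (Φ.skyscraperSheaf M) :=
  ⟨{ app := fun W => glueApp G Φ Ψ incl hbij ψ W.unop
     naturality := by
       intro W W' g
       induction W using Opposite.rec with | _ W => ?_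
       induction W' using Opposite.rec with | _ W' => ?_
       apply Pi.hom_ext
       intro x
       obtain ⟨⟨i, y⟩, rfl⟩ := (hbij W').2 x
       change (F.obj.map g ≫ glueApp G Φ Ψ incl hbij ψ W') ≫
         Pi.π (fun _ => M) ((incl i).app W' y) =
         (glueApp G Φ Ψ incl hbij ψ W ≫ (Φ.skyscraperSheaf M).obj.map (G.map g.unop).op) ≫
           Pi.π (fun _ => M) ((incl i).app W' y)
       have n := ConcreteCategory.congr_hom ((incl i).naturality g.unop) y
       refine (Category.assoc _ _ _).trans ?_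
       refine Eq.trans ?_ (Category.assoc _ _ _).symm
       refine (congrArg (fun z => F.obj.map g ≫ z) (glueApp_π G Φ Ψ incl hbij ψ W' i y)).trans ?_
       refine Eq.trans ?_ (congrArg (fun z => glueApp G Φ Ψ incl hbij ψ W ≫ z)
         (sky_map_π Φ M (G.map g.unop) ((incl i).app W' y))).symm
       have e3 : glueApp G Φ Ψ incl hbij ψ W ≫ Pi.π (fun _ => M)
           (Φ.fiber.map (G.map g.unop) ((incl i).app W' y)) =
           (ψ i).hom.app (op W) ≫ Pi.π (fun _ => M) ((Ψ i).fiber.map g.unop y) := by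
         refine Eq.trans ?_ (glueApp_π G Φ Ψ incl hbij ψ W i ((Ψ i).fiber.map g.unop y))
         exact congrArg (fun z => glueApp G Φ Ψ incl hbij ψ W ≫ Pi.π (fun _ => M) z) n.symm
       refine Eq.trans ?_ e3.symm
       refine Eq.trans ?_ (congrArg (fun z => (ψ i).hom.app (op W) ≫ z)
         (sky_map_π (Ψ i) M g.unop y))
       refine (Category.assoc _ _ _).symm.trans ?_
       refine Eq.trans ?_ (Category.assoc _ _ _)
       exact congrArg (fun z => z ≫ Pi.π (fun _ => M) y) ((ψ i).hom.naturality g) }⟩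

lemma glue_proj {F : Sheaf J A} {M : A} (ψ : ∀ i, F ⟶ (Ψ i).skyscraperSheaf M) (i : I) :
    glue G Φ Ψ incl hbij ψ ≫ proj G Φ Ψ incl i M = ψ i := by
  ext W : 3
  induction W using Opposite.rec with | _ W => ?_
  apply Pi.hom_ext
  intro y
  change (glueApp G Φ Ψ incl hbij ψ W ≫ (proj G Φ Ψ incl i M).hom.app (op W)) ≫
    Pi.π (fun _ => M) y = _
  refine (Category.assoc _ _ _).trans ?_
  refine (congrArg (fun z => glueApp G Φ Ψ incl hbij ψ W ≫ z)
    (proj_app_π G Φ Ψ incl i M W y)).trans ?_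
  exact glueApp_π G Φ Ψ incl hbij ψ W i y

include hbij in
theorem bijective_comp_proj (F : Sheaf J A) (M : A) :
    Function.Bijective (fun (φ : F ⟶ (G.sheafPushforwardContinuous A J K).obj
      (Φ.skyscraperSheaf M)) (i : I) => φ ≫ proj G Φ Ψ incl i M) := by
  constructor
  · intro φ φ' h
    ext W : 3
    induction W using Opposite.rec with | _ W => ?_
    apply Pi.hom_ext
    intro x
    obtain ⟨⟨i, y⟩, rfl⟩ := (hbij W).2 x
    have h1 := congrArg (fun ψ : F ⟶ (Ψ i).skyscraperSheaf M =>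
      ψ.hom.app (op W) ≫ Pi.π (fun _ => M) y) (congrFun h i)
    change (φ.hom.app (op W) ≫ (proj G Φ Ψ incl i M).hom.app (op W)) ≫ Pi.π (fun _ => M) y =
      (φ'.hom.app (op W) ≫ (proj G Φ Ψ incl i M).hom.app (op W)) ≫ Pi.π (fun _ => M) y at h1
    have a1 := (Category.assoc (φ.hom.app (op W)) ((proj G Φ Ψ incl i M).hom.app (op W))
      (Pi.π (fun _ => M) y)).symm.trans (h1.trans (Category.assoc _ _ _))
    have a2 := proj_app_π G Φ Ψ incl i M W y
    exact (congrArg (fun z => φ.hom.app (op W) ≫ z) a2).symm.trans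
      (a1.trans (congrArg (fun z => φ'.hom.app (op W) ≫ z) a2))
  · intro ψ
    exact ⟨glue G Φ Ψ incl hbij ψ, funext (fun i => glue_proj G Φ Ψ incl hbij ψ i)⟩

end Bij

section Main

variable [HasColimitsOfSize.{w, w} A]
  (hbij : ∀ W : C, Function.Bijective
    (fun p : Σ i, (Ψ i).fiber.obj W => (incl p.1).app W p.2))
  {L : Sheaf J A ⥤ Sheaf K A} (adj : L ⊣ G.sheafPushforwardContinuous A J K)
  (F : Sheaf J A) [HasCoproduct (fun i => (Ψ i).sheafFiber.obj F)]

/-- Morphisms out of a coproduct. -/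
noncomputable def descEquiv {ι : Type*} (f : ι → A) [HasCoproduct f] (Z : A) :
    (∀ i, f i ⟶ Z) ≃ ((∐ f) ⟶ Z) where
  toFun := Sigma.desc
  invFun h i := Sigma.ι f i ≫ h
  left_inv g := funext (fun i => Sigma.ι_desc g i)
  right_inv h := Sigma.hom_ext _ _ (fun i => Sigma.ι_desc _ i)

/-- The bijection on morphisms into a test object. -/
noncomputable def homEquiv (Z : A) :
    (Φ.sheafFiber.obj (L.obj F) ⟶ Z) ≃ ((∐ fun i => (Ψ i).sheafFiber.obj F) ⟶ Z) :=
  (Φ.skyscraperSheafAdjunction.homEquiv (L.obj F) Z).trans <|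
    (adj.homEquiv F (Φ.skyscraperSheaf Z)).trans <|
      (Equiv.ofBijective _ (bijective_comp_proj G Φ Ψ incl hbij F Z)).trans <|
        (Equiv.piCongrRight
          (fun i => ((Ψ i).skyscraperSheafAdjunction.homEquiv F Z).symm)).trans <|
          descEquiv (fun i => (Ψ i).sheafFiber.obj F) Z

lemma homEquiv_apply (Z : A) (f : Φ.sheafFiber.obj (L.obj F) ⟶ Z) :
    homEquiv G Φ Ψ incl hbij adj F Z f =
      Sigma.desc (fun i => ((Ψ i).skyscraperSheafAdjunction.homEquiv F Z).symm
        (adj.homEquiv F (Φ.skyscraperSheaf Z)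
          (Φ.skyscraperSheafAdjunction.homEquiv (L.obj F) Z f) ≫ proj G Φ Ψ incl i Z)) :=
  rfl

lemma homEquiv_natural {Z Z' : A} (f : Φ.sheafFiber.obj (L.obj F) ⟶ Z) (g : Z ⟶ Z') :
    homEquiv G Φ Ψ incl hbij adj F Z' (f ≫ g) = homEquiv G Φ Ψ incl hbij adj F Z f ≫ g := by
  rw [homEquiv_apply, homEquiv_apply]
  apply Sigma.hom_ext
  intro i
  rw [Sigma.ι_desc, ← Category.assoc, Sigma.ι_desc]
  rw [Adjunction.homEquiv_naturality_right, Adjunction.homEquiv_naturality_right,
    Category.assoc, proj_natural, ← Category.assoc,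
    Adjunction.homEquiv_naturality_right_symm]

/-- The fibre of `L F` at `Φ` is the coproduct of the fibres of `F` at the `Ψ i`. -/
noncomputable def fiberIso :
    Φ.sheafFiber.obj (L.obj F) ≅ ∐ fun i => (Ψ i).sheafFiber.obj F :=
  (Coyoneda.ext (∐ fun i => (Ψ i).sheafFiber.obj F) (Φ.sheafFiber.obj (L.obj F))
    (fun {Z} h => (homEquiv G Φ Ψ incl hbij adj F Z).symm h)
    (fun {Z} f => homEquiv G Φ Ψ incl hbij adj F Z f)
    (fun {Z} h => (homEquiv G Φ Ψ incl hbij adj F Z).apply_symm_apply h)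
    (fun {Z} f => (homEquiv G Φ Ψ incl hbij adj F Z).symm_apply_apply f)
    (fun {Z Z'} f g => homEquiv_natural G Φ Ψ incl hbij adj F f g)).symm

end Main

end Groth.Agent.Lib.Helper5.StalkShriekGen
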