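import Mathlib
import Groth.Prelude.Def_EtBase
import Groth.Prelude.Def_EtShriek2
import Groth.Agent.Lib.Helper5.Misc.StalkShriekGen

/-!
# Stalks of the extension by zero along an étale morphism (helper5)
-/

set_option autoImplicit false
universe u
open CategoryTheory CategoryTheory.Limits AlgebraicGeometry Opposite

namespace Groth.Agent.Lib.Helper5.EtStalkShriek

variable {U X : Scheme.{u}} (j : U ⟶ X) [Etale j]
  {Ω : Type u} [Field Ω] [IsSepClosed Ω] (ξ : Spec (CommRingCat.of Ω) ⟶ X)

/-- The lifts of a geometric point along `j`. -/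
abbrev Lifts := {u : Spec (CommRingCat.of Ω) ⟶ U // u ≫ j = ξ}

set_option backward.isDefEq.respectTransparency.types false in
/-- The inclusion of the fibre at a lift into the fibre at `ξ`. -/
noncomputable def inclFun (u : Lifts j ξ) (W : U.Etale)
    (y : (Scheme.pointSmallEtale u.1).fiber.obj W) :
    (Scheme.pointSmallEtale ξ).fiber.obj ((EtShriek.compEtale j).obj W) :=
  Over.homMk y.left (by
    have e : y.left ≫ W.hom = u.1 := Over.w y
    change y.left ≫ W.hom ≫ j = ξ
    rw [← Category.assoc, e]
    exact u.2)

set_option backward.isDefEq.respectTransparency.types false in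
/-- The inclusion as a natural transformation. -/
noncomputable def incl (u : Lifts j ξ) :
    (Scheme.pointSmallEtale u.1).fiber ⟶
      EtShriek.compEtale j ⋙ (Scheme.pointSmallEtale ξ).fiber where
  app W := ↾(inclFun j ξ u W)
  naturality := by
    intro W W' g
    ext y
    apply Over.OverMorphism.ext
    rfl

set_option backward.isDefEq.respectTransparency.types false in
lemma bijective_incl (W : U.Etale) : Function.Bijective
    (fun p : Σ u : Lifts j ξ, (Scheme.pointSmallEtale u.1).fiber.obj W =>
      (incl j ξ p.1).app W p.2) := by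
  constructor
  · rintro ⟨⟨u, hu⟩, y⟩ ⟨⟨u', hu'⟩, y'⟩ h
    have hl : y.left = y'.left := congrArg (fun z => z.left) h
    have e : y.left ≫ W.hom = u := Over.w y
    have e' : y'.left ≫ W.hom = u' := Over.w y'
    have huu : u = u' := by rw [← e, ← e', hl]
    subst huu
    have : y = y' := Over.OverMorphism.ext hl
    subst this
    rfl
  · intro x
    have hx : x.left ≫ W.hom ≫ j = ξ := Over.w x
    refine ⟨⟨⟨x.left ≫ W.hom, by rw [Category.assoc]; exact hx⟩, Over.homMk x.left rfl⟩, ?_⟩
    apply Over.OverMorphism.ext
    rfl

end Groth.Agent.Lib.Helper5.EtStalkShriek
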