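import Mathlib
import Groth.Prelude.Def_CohTop
import Groth.Prelude.Def_CohPull
import Groth.Agent.Lib.Helper5.Misc.ClosedEmbSh
import Groth.Agent.Lib.Helper5.Misc.SectSuppAdj

/-!
# First step of the Godement resolution (helper5)
-/

set_option autoImplicit false
universe u v v'
open CategoryTheory CategoryTheory.Limits TopologicalSpace Opposite

namespace Groth.Agent.Lib.Helper5.GodementStep

section Abstract

variable {A : Type*} [Category A] [Abelian A] {B : Type*} [Category B] [Abelian B]

/-- An additive functor preserving monos and epis and killing no nonzero object is faithful. -/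
lemma faithful_of_reflects_zero (L : A ⥤ B) [L.Additive] [L.PreservesMonomorphisms]
    [L.PreservesEpimorphisms] (h : ∀ X : A, IsZero (L.obj X) → IsZero X) : L.Faithful := by
  have key : ∀ {X Y : A} (φ : X ⟶ Y), L.map φ = 0 → φ = 0 := by
    intro X Y φ hφ
    have fac : Abelian.factorThruImage φ ≫ Abelian.image.ι φ = φ := Abelian.image.fac φ
    have h1 : L.map (Abelian.factorThruImage φ) ≫ L.map (Abelian.image.ι φ) = 0 := by
      rw [← L.map_comp, fac, hφ]
    have h2 : L.map (Abelian.image.ι φ) = 0 := by
      rw [← cancel_epi (L.map (Abelian.factorThruImage φ)), h1, comp_zero]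
    have h3 : IsZero (L.obj (Abelian.image φ)) := IsZero.of_mono_eq_zero _ h2
    have h4 : IsZero (Abelian.image φ) := h _ h3
    rw [← fac, h4.eq_of_tgt (Abelian.factorThruImage φ) 0, zero_comp]
  constructor
  intro X Y f g hfg
  have : f - g = 0 := key (f - g) (by rw [L.map_sub, hfg, sub_self])
  exact sub_eq_zero.1 this

end Abstract

/-- The inverse image along a surjective map is faithful. -/
lemma faithful_pull {X Y : TopCat.{u}} (f : X ⟶ Y) (hf : Function.Surjective f) :
    (CohTop.pull f).Faithful := by
  haveI := CohPull.additive_pull f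
  haveI := CohPull.preservesFiniteLimits_pull f
  haveI := CohPull.preservesFiniteColimits_pull f
  haveI : (CohTop.pull f).PreservesMonomorphisms := inferInstance
  haveI : (CohTop.pull f).PreservesEpimorphisms := inferInstance
  apply faithful_of_reflects_zero
  intro K hK
  apply SectSuppAdj.isZero_of_stalks
  intro y
  obtain ⟨x, rfl⟩ := hf y
  exact (SectSuppAdj.isZero_Sx x hK).of_iso
    ((ClosedEmbSh.pullStalkIso f AddCommGrpCat.{u} x).symm.app K)

/-- Sections of an abelian sheaf over an empty open form a subsingleton. -/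
lemma subsingleton_of_empty {D : TopCat.{u}} (G : CohTop.Ab D) (U : Opens D)
    (hU : (U : Set D) = ∅) : Subsingleton (G.obj.obj (op U)) := by
  have hU' : U = ⊥ := by
    ext x
    simp [hU]
  subst hU'
  have ht : IsTerminal (G.obj.obj (op ⊥)) := TopCat.Sheaf.isTerminalOfEmpty G
  exact AddCommGrpCat.subsingleton_of_isZero ht.isZero

/-- Every abelian sheaf on a discrete space is flasque. -/
lemma isFlasque_of_discrete {D : TopCat.{u}} [DiscreteTopology D] (G : CohTop.Ab D) :
    TopCat.Sheaf.IsFlasque G := by
  classical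
  constructor
  intro U V i
  rw [AddCommGrpCat.epi_iff_surjective]
  intro s
  -- `i : U ⟶ V` in `(Opens D)ᵒᵖ`, i.e. `V.unop ≤ U.unop`
  have hVU : V.unop ≤ U.unop := i.unop.le
  let W : U.unop → Opens D := fun x => ⟨{x.1}, isOpen_discrete _⟩
  have hWU : ∀ x : U.unop, W x ≤ U.unop := fun x y hy => by
    have : y = x.1 := hy
    rw [this]
    exact x.2
  have hWV : ∀ x : U.unop, x.1 ∈ V.unop → W x ≤ V.unop := fun x hx y hy => by
    have : y = x.1 := hy
    rw [this]
    exact hx
  let sf : ∀ x : U.unop, ToType (G.obj.obj (op (W x))) := fun x =>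
    if hx : x.1 ∈ V.unop then G.obj.map (homOfLE (hWV x hx)).op s else 0
  have hcompat : TopCat.Presheaf.IsCompatible G.obj W sf := by
    intro x y
    by_cases hxy : x = y
    · subst hxy
      rfl
    · haveI : Subsingleton (G.obj.obj (op (W x ⊓ W y))) := by
        apply subsingleton_of_empty
        ext z
        simp only [Opens.coe_inf, Set.mem_inter_iff, Set.mem_empty_iff_false, iff_false, not_and]
        intro h1 h2
        have e1 : z = x.1 := h1
        have e2 : z = y.1 := h2
        exact hxy (Subtype.ext (e1.symm.trans e2))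
      exact Subsingleton.elim _ _
  have hcover : U.unop ≤ iSup W := by
    intro x hx
    rw [Opens.mem_iSup]
    exact ⟨⟨x, hx⟩, rfl⟩
  obtain ⟨t, ht, -⟩ := TopCat.Sheaf.existsUnique_gluing' G W U.unop (fun x => homOfLE (hWU x))
    hcover sf hcompat
  refine ⟨t, ?_⟩
  -- compare on the cover of `V` by singletons
  let W' : V.unop → Opens D := fun x => ⟨{x.1}, isOpen_discrete _⟩
  have hW'V : ∀ x : V.unop, W' x ≤ V.unop := fun x y hy => by
    have : y = x.1 := hy
    rw [this]
    exact x.2
  have hcover' : V.unop ≤ iSup W' := by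
    intro x hx
    rw [Opens.mem_iSup]
    exact ⟨⟨x, hx⟩, rfl⟩
  refine TopCat.Sheaf.eq_of_locally_eq' G W' V.unop (fun x => homOfLE (hW'V x)) hcover' _ _ ?_
  intro x
  have hx : x.1 ∈ U.unop := hVU x.2
  have h1 := ht ⟨x.1, hx⟩
  have h2 : sf ⟨x.1, hx⟩ = G.obj.map (homOfLE (hWV ⟨x.1, hx⟩ x.2)).op s := dif_pos x.2
  rw [h2] at h1
  rw [← ConcreteCategory.comp_apply, ← G.obj.map_comp]
  exact h1

end Groth.Agent.Lib.Helper5.GodementStep
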