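import Mathlib
import Groth.Prelude.Def_EtBase
import Groth.Prelude.Def_SGA4b
import Groth.Agent.Lib.Helper5.Misc.EtStalk
import Groth.Agent.Lib.Helper5.Misc.EtStalkPull
import Groth.Agent.Lib.Helper5.Misc.GodementStep
import Groth.Agent.S0623

/-!
# Inverse image along a surjective morphism is faithful and conservative (helper5)
-/

set_option autoImplicit false
universe u
open CategoryTheory CategoryTheory.Limits AlgebraicGeometry Opposite

namespace Groth.Agent.Lib.Helper5.EtSurjPull

open EtStalk

variable {Y' Y : Scheme.{u}} (g : Y' ⟶ Y)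

/-- The geometric points of `Y` coming from `Y'`. -/
noncomputable def fam : GeomPt Y' → GeomPt Y := fun p => ⟨p.Ω, p.ξ ≫ g⟩

lemma fam_cover [Surjective g] (y : Y) :
    ∃ p : GeomPt Y', (fam g p).ξ (default : Spec (CommRingCat.of (fam g p).Ω)) = y := by
  obtain ⟨y', rfl⟩ := g.surjective y
  refine ⟨geomPtAt y', ?_⟩
  change g ((geomPtAt y').ξ default) = g y'
  rw [geomPtAt_default]

/-- Inverse image of abelian sheaves along a surjective morphism is faithful. -/
lemma faithful_pull [Surjective g] : (EtCoh.pull g).Faithful := by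
  haveI : (EtCoh.pull g).Additive := (EtCoh.pullPushAdj g).left_adjoint_additive
  haveI : (EtCoh.pull g).PreservesMonomorphisms := inferInstance
  haveI : (EtCoh.pull g).PreservesEpimorphisms :=
    (EtCoh.pull g).preservesEpimorphisms_of_adjunction (EtCoh.pullPushAdj g)
  apply GodementStep.faithful_of_reflects_zero
  intro K hK
  apply isZero_of_stalks_family (fam g) (fam_cover g)
  intro p
  exact ((EtCoh.stalk p.ξ).map_isZero hK).of_iso ((EtStalkPull.stalkPullIso g p.ξ).symm.app K)

/-- The stalk map at `ξ ≫ g` in terms of the stalk map of the inverse image at `ξ`. -/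
lemma fiber_map_eq (p : GeomPt Y') {F G : EtDesc.Sh Y} (a : F ⟶ G) :
    ((fam g p).point.sheafFiber (A := Type (u + 1))).map a =
      ((EtStalkPull.stalkPullShIso g p.ξ).app F).inv ≫
        ((Scheme.pointSmallEtale p.ξ).sheafFiber (A := Type (u + 1))).map
          ((EtDesc.pullSh g).map a) ≫
        ((EtStalkPull.stalkPullShIso g p.ξ).app G).hom := by
  have n := (EtStalkPull.stalkPullShIso g p.ξ).hom.naturality a
  exact (((EtStalkPull.stalkPullShIso g p.ξ).app F).inv_comp_eq.2 n).symm

/-- Inverse image of sheaves of sets along a surjective morphism is faithful. -/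
lemma faithful_pullSh [Surjective g] : (EtDesc.pullSh g).Faithful := by
  constructor
  intro F G a b hab
  apply eq_of_stalks_family (fam g) (fam_cover g)
  intro p
  refine (fiber_map_eq g p a).trans (Eq.trans ?_ (fiber_map_eq g p b).symm)
  rw [hab]

/-- Inverse image of sheaves of sets along a surjective morphism reflects isomorphisms. -/
lemma reflectsIsomorphisms_pullSh [Surjective g] : (EtDesc.pullSh g).ReflectsIsomorphisms := by
  constructor
  intro F G a ha
  apply isIso_of_stalks_family (fam g) (fam_cover g)
  intro p
  rw [← isIso_iff_bijective]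
  have e := fiber_map_eq g p a
  haveI : IsIso (((Scheme.pointSmallEtale p.ξ).sheafFiber (A := Type (u + 1))).map
      ((EtDesc.pullSh g).map a)) := Functor.map_isIso _ _
  have h2 : IsIso (((EtStalkPull.stalkPullShIso g p.ξ).app F).inv ≫
        ((Scheme.pointSmallEtale p.ξ).sheafFiber (A := Type (u + 1))).map
          ((EtDesc.pullSh g).map a) ≫
        ((EtStalkPull.stalkPullShIso g p.ξ).app G).hom) := inferInstance
  exact e ▸ h2

end Groth.Agent.Lib.Helper5.EtSurjPull
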