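import Groth.Agent.Lib.Helper5.Misc.OpenEmbSh

/-!
# Extension by the empty set for sheaves of sets on an open subspace (helper5)
-/

set_option autoImplicit false
open CategoryTheory CategoryTheory.Limits Opposite TopologicalSpace TopCat

universe u

namespace Groth.Agent.Lib.Helper5.ExtEmpty

variable {X : TopCat.{u}} (U : Opens X)

/-- The inclusion `U ⟶ X`. -/
abbrev j : TopCat.of U ⟶ X := TopCat.ofHom ⟨_, continuous_subtype_val⟩

lemma hj : Topology.IsOpenEmbedding (j U) := U.isOpenEmbedding

/-- Restriction is the sheaf pullback. -/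
noncomputable def restrIso : Sheaf.pullback (Type u) (j U) ≅ U.sheafRestrict (C := Type u) :=
  (hj U).sheafPullbackIso (Type u)

/-- `restriction ⊣ j_*`. -/
noncomputable def adj₂ : U.sheafRestrict (C := Type u) ⊣ Sheaf.pushforward (Type u) (j U) :=
  (Sheaf.pullbackPushforwardAdjunction (Type u) (j U)).ofNatIsoLeft (restrIso U)

/-- The stalk functor on sheaves of sets. -/
noncomputable abbrev Sx (X : TopCat.{u}) (x : X) : Sheaf (Type u) X ⥤ Type u :=
  Sheaf.forget (Type u) X ⋙ Presheaf.stalkFunctor (Type u) x

/-- `(G|_U)_{x'} ≅ G_{x'}` naturally in `G`. -/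
noncomputable def restrStalkIso (x' : U) :
    U.sheafRestrict (C := Type u) ⋙ Sx (TopCat.of U) x' ≅ Sx X (j U x') :=
  letI instU : ∀ V : Opens (TopCat.of U), Decidable (x' ∈ V) := fun _ => Classical.dec _
  letI instX : ∀ W : Opens X, Decidable (j U x' ∈ W) :=
    fun W => Classical.dec (x' ∈ (Opens.map (j U)).obj W)
  let adjL : U.sheafRestrict (C := Type u) ⋙ Sx (TopCat.of U) x' ⊣
      @skyscraperSheafFunctor X (j U x') instX (Type u) _ _ :=
    (adj₂ U).comp (@stalkSkyscraperSheafAdjunction (TopCat.of U) x' instU (Type u) _ _ _)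
  let adjR : Sx X (j U x') ⊣ @skyscraperSheafFunctor X (j U x') instX (Type u) _ _ :=
    @stalkSkyscraperSheafAdjunction X (j U x') instX (Type u) _ _ _
  adjL.leftAdjointUniq adjR

variable {U}
variable {L : (TopCat.of U).Sheaf (Type u) ⥤ X.Sheaf (Type u)}
  (adj : L ⊣ U.sheafRestrict (C := Type u))

/-- `j_!` is fully faithful. -/
noncomputable def fullyFaithfulL : L.FullyFaithful :=
  (Adjunction.Triple.fullyFaithfulEquiv ⟨adj, adj₂ U⟩).symm
    (OpenEmbSh.fullyFaithfulPushforward (j U) (hj U) (Type u))

include adj in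
/-- Stalks of `j_! F` outside `U` are empty. -/
lemma isEmpty_stalk (F : (TopCat.of U).Sheaf (Type u)) (x : X) (hx : x ∉ U) :
    IsEmpty ((Sx X x).obj (L.obj F)) := by
  constructor
  intro t
  letI instX : ∀ W : Opens X, Decidable (x ∈ W) := fun _ => Classical.dec _
  let adjS := stalkSkyscraperSheafAdjunction (C := Type u) x
  let B : Type u := ULift Bool
  let f : (Sx X x).obj (L.obj F) ⟶ B := ↾(fun _ => (⟨true⟩ : ULift Bool))
  let g : (Sx X x).obj (L.obj F) ⟶ B := ↾(fun _ => (⟨false⟩ : ULift Bool))
  have hfg : f = g := by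
    apply (adjS.homEquiv _ _).injective
    apply (adj.homEquiv _ _).injective
    apply CategoryTheory.Sheaf.hom_ext
    apply NatTrans.ext
    funext V
    ext s
    have hV : x ∉ (hj U).isOpenMap.functor.obj V.unop := by
      rintro ⟨y, _, rfl⟩
      exact hx y.2
    have hsub : Subsingleton ((skyscraperPresheaf x B).obj
        (op ((hj U).isOpenMap.functor.obj V.unop))) := by
      dsimp [skyscraperPresheaf]
      rw [if_neg hV]
      exact (Types.isTerminalEquivUnique (⊤_ (Type u)) terminalIsTerminal).instSubsingleton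
    exact hsub.elim _ _
  have := ConcreteCategory.congr_hom hfg t
  have h2 : (⟨true⟩ : ULift.{u} Bool) = ⟨false⟩ := this
  simpa using congrArg ULift.down h2

include adj in
/-- The essential image of `j_!`: sheaves whose stalks outside `U` are empty. -/
theorem essImage_iff (G : X.Sheaf (Type u)) :
    L.essImage G ↔ ∀ x : X, x ∉ U → IsEmpty ((Sx X x).obj G) := by
  constructor
  · rintro ⟨F, ⟨e⟩⟩ x hx
    have := isEmpty_stalk adj F x hx
    exact ⟨fun t => this.false (((Sx X x).mapIso e).inv t)⟩
  · intro h
    haveI := (fullyFaithfulL adj).full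
    haveI := (fullyFaithfulL adj).faithful
    let R := U.sheafRestrict (C := Type u)
    haveI : IsIso (adj.counit.app G) := by
      haveI : ∀ x : X, IsIso ((Presheaf.stalkFunctor (Type u) x).map (adj.counit.app G).hom) := by
        intro x
        by_cases hx : x ∈ U
        · have h1 : IsIso (R.map (adj.counit.app G)) := by
            have e := adj.right_triangle_components G
            haveI : IsIso (adj.unit.app (R.obj G) ≫ R.map (adj.counit.app G)) := by
              rw [e]
              exact IsIso.id _
            exact IsIso.of_isIso_comp_left (adj.unit.app (R.obj G)) _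
          have h2 : IsIso ((R ⋙ Sx (TopCat.of U) ⟨x, hx⟩).map (adj.counit.app G)) :=
            @Functor.map_isIso _ _ _ _ _ _ (Sx (TopCat.of U) ⟨x, hx⟩) _ h1
          exact (NatIso.isIso_map_iff (restrStalkIso U ⟨x, hx⟩) _).1 h2
        · have e1 := isEmpty_stalk adj (R.obj G) x hx
          have e2 := h x hx
          rw [isIso_iff_bijective]
          exact ⟨fun a => (e1.false a).elim, fun b => (e2.false b).elim⟩
      exact Presheaf.isIso_of_stalkFunctor_map_iso (adj.counit.app G)
    exact ⟨R.obj G, ⟨asIso (adj.counit.app G)⟩⟩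

end Groth.Agent.Lib.Helper5.ExtEmpty
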