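import Mathlib

set_option autoImplicit false
universe w v₁ u₁ v₂ u₂
open CategoryTheory CategoryTheory.Limits Opposite

namespace Groth.Agent.Lib.Helper5.LanType

variable {C : Type u₁} [Category.{v₁} C] {D : Type u₂} [Category.{v₂} D] (L : C ⥤ D)
  [∀ P : C ⥤ Type w, L.HasPointwiseLeftKanExtension P]

/-- Every element of a left Kan extension of a set-valued functor comes from a unit element. -/
lemma exists_rep (P : C ⥤ Type w) (Y : D) (ρ : (L.lan.obj P).obj Y) :
    ∃ (X : C) (b : L.obj X ⟶ Y) (r : P.obj X),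
      (L.lan.obj P).map b ((L.lanUnit.app P).app X r) = ρ := by
  have hl := Functor.isPointwiseLeftKanExtensionOfIsLeftKanExtension (F := P) (L.lan.obj P)
    (L.lanUnit.app P) Y
  obtain ⟨g, r, hr⟩ := Types.jointly_surjective_of_isColimit hl ρ
  exact ⟨g.left, g.hom, r, hr⟩

/-- The transpose of `φ` evaluated on a unit element. -/
lemma transpose_unit {P : C ⥤ Type w} {H : D ⥤ Type w} (φ : P ⟶ L ⋙ H) (X : C) (r : P.obj X) :
    (((L.lanAdjunction (Type w)).homEquiv P H).symm φ).app (L.obj X)
      ((L.lanUnit.app P).app X r) = φ.app X r := by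
  have h := (L.lanAdjunction (Type w)).homEquiv_unit (X := P) (Y := H)
    (f := ((L.lanAdjunction (Type w)).homEquiv P H).symm φ)
  rw [Equiv.apply_symm_apply, Functor.lanAdjunction_unit] at h
  have h2 := congrArg (fun t => t.app X) h
  exact (ConcreteCategory.congr_hom h2 r).symm

lemma transpose_map {P Q : C ⥤ Type w} {H : D ⥤ Type w} (u : P ⟶ Q) (φ : Q ⟶ L ⋙ H) :
    L.lan.map u ≫ ((L.lanAdjunction (Type w)).homEquiv Q H).symm φ =
      ((L.lanAdjunction (Type w)).homEquiv P H).symm (u ≫ φ) :=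
  ((L.lanAdjunction (Type w)).homEquiv_naturality_left_symm u φ).symm

end Groth.Agent.Lib.Helper5.LanType
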