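import Mathlib
import Groth.Prelude.Def_FibSite
import Groth.Agent.Lib.Helper5.Misc.FibTot
import Groth.Agent.Lib.Helper5.Misc.LanType

set_option autoImplicit false
universe w v₁ u₁ v₂ u₂ v₃ u₃
open CategoryTheory Opposite Pseudofunctor Pseudofunctor.CoGrothendieck Bicategory

namespace Groth.Agent.Lib.Helper5.FibKan

open Groth.Agent.Lib.Helper5.FibTot

variable {𝒮 : Type u₁} [Category.{v₁} 𝒮]
variable {F : Pseudofunctor (LocallyDiscrete 𝒮ᵒᵖ) Cat.{v₂, u₂}}

set_option backward.isDefEq.respectTransparency false in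
/-- A morphism `ι V ⟶ ι W` over the identity comes from the fibre. -/
lemma exists_eq_ι_map {S : 𝒮} {V W : F.obj ⟨op S⟩} (b : (ι F S).obj V ⟶ (ι F S).obj W)
    (hb : b.base = 𝟙 S) : ∃ β : V ⟶ W, b = (ι F S).map β := by
  rcases b with ⟨k, β⟩
  change k = 𝟙 S at hb
  subst hb
  refine ⟨β ≫ (F.mapId ⟨op S⟩).hom.toNatTrans.app W, ?_⟩
  refine Hom.ext _ _ rfl ?_
  rw [eqToHom_refl, Category.comp_id]
  change β = (β ≫ (F.mapId ⟨op S⟩).hom.toNatTrans.app W) ≫ (F.mapId ⟨op S⟩).inv.toNatTrans.app W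
  have iso : (F.mapId ⟨op S⟩).hom.toNatTrans.app W ≫ (F.mapId ⟨op S⟩).inv.toNatTrans.app W = 𝟙 _ := by
    rw [← Cat.Hom₂.comp_app]
    simp
  rw [Category.assoc, iso]
  exact (Category.comp_id β).symm

set_option backward.isDefEq.respectTransparency false in
instance faithful_ι (S : 𝒮) : (ι F S).Faithful where
  map_injective {V W} β β' h := by
    have hf := ((Hom.ext_iff _ _).1 h).2
    have h' : β ≫ (F.mapId ⟨op S⟩).inv.toNatTrans.app W =
        β' ≫ (F.mapId ⟨op S⟩).inv.toNatTrans.app W := by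
      have h'' := hf
      simp only [eqToHom_refl, Category.comp_id] at h''
      exact h''
    have iso : (F.mapId ⟨op S⟩).inv.toNatTrans.app W ≫ (F.mapId ⟨op S⟩).hom.toNatTrans.app W = 𝟙 _ := by
      rw [← Cat.Hom₂.comp_app]
      simp
    have := congrArg (fun t => t ≫ (F.mapId ⟨op S⟩).hom.toNatTrans.app W) h'
    simp only [Category.assoc] at this
    rw [iso] at this
    exact ((Category.comp_id β).symm.trans this).trans (Category.comp_id β')

lemma base_ι_map {S : 𝒮} {V W : F.obj ⟨op S⟩} (β : V ⟶ W) : ((ι F S).map β).base = 𝟙 S := rfl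

/-- If `b ≫ ι c = ι β` then `b` comes from the fibre. -/
lemma exists_of_comp_eq {S : 𝒮} {V W W' : F.obj ⟨op S⟩} (b : (ι F S).obj V ⟶ (ι F S).obj W')
    (c : W' ⟶ W) (β : V ⟶ W) (h : b ≫ (ι F S).map c = (ι F S).map β) :
    ∃ β' : V ⟶ W', b = (ι F S).map β' ∧ β' ≫ c = β := by
  have hb : b.base = 𝟙 S := by
    have h1 := congrArg (fun t => t.base) h
    change b.base ≫ 𝟙 S = 𝟙 S at h1
    exact (Category.comp_id _).symm.trans h1
  obtain ⟨β', rfl⟩ := exists_eq_ι_map b hb
  refine ⟨β', rfl, ?_⟩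
  apply (ι F S).map_injective
  rw [Functor.map_comp]
  exact h

section HS

variable (i : 𝒮) (R : (F.obj ⟨op i⟩)ᵒᵖ ⥤ Type (max w v₁ u₂ v₂))

/-- A set-valued presheaf on the total category used to separate unit elements. -/
def HS : (∫ᶜ F)ᵒᵖ ⥤ Type (max w v₁ u₂ v₂) where
  obj X := Set (Σ V : F.obj ⟨op i⟩, ((ι F i).obj V ⟶ X.unop) × R.obj (op V))
  map {X X'} g := TypeCat.ofHom (fun A => {p | (⟨p.1, p.2.1 ≫ g.unop, p.2.2⟩ :
    Σ V : F.obj ⟨op i⟩, ((ι F i).obj V ⟶ X.unop) × R.obj (op V)) ∈ A})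
  map_id X := by
    ext A p
    change (⟨p.1, p.2.1 ≫ 𝟙 _, p.2.2⟩ :
      Σ V : F.obj ⟨op i⟩, ((ι F i).obj V ⟶ X.unop) × R.obj (op V)) ∈ A ↔ p ∈ A
    rw [Category.comp_id]
  map_comp {X Y Z} g g' := by
    ext A p
    change (⟨p.1, p.2.1 ≫ (g'.unop ≫ g.unop), p.2.2⟩ :
      Σ V : F.obj ⟨op i⟩, ((ι F i).obj V ⟶ X.unop) × R.obj (op V)) ∈ A ↔
      (⟨p.1, (p.2.1 ≫ g'.unop) ≫ g.unop, p.2.2⟩ :
      Σ V : F.obj ⟨op i⟩, ((ι F i).obj V ⟶ X.unop) × R.obj (op V)) ∈ A
    rw [Category.assoc]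

/-- The set attached to an element. -/
def φSfun (W : F.obj ⟨op i⟩) (r : R.obj (op W)) :
    Set (Σ V : F.obj ⟨op i⟩, ((ι F i).obj V ⟶ (ι F i).obj W) × R.obj (op V)) :=
  {p | ∃ β : p.1 ⟶ W, p.2.1 = (ι F i).map β ∧ p.2.2 = R.map β.op r}

/-- The canonical map into the restriction of `HS`. -/
def φS : R ⟶ (ι F i).op ⋙ HS i R where
  app W := TypeCat.ofHom (fun r => φSfun i R W.unop r)
  naturality {W W'} c := by
    ext r
    refine Set.ext fun p => ?_
    change (∃ β : p.1 ⟶ W'.unop, p.2.1 = (ι F i).map β ∧ p.2.2 = R.map β.op (R.map c r)) ↔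
      (∃ β : p.1 ⟶ W.unop, p.2.1 ≫ (ι F i).map c.unop = (ι F i).map β ∧ p.2.2 = R.map β.op r)
    constructor
    · rintro ⟨β, h1, h2⟩
      refine ⟨β ≫ c.unop, ?_, ?_⟩
      · rw [h1, Functor.map_comp]
      · rw [h2, op_comp, Functor.map_comp_apply]
        rfl
    · rintro ⟨β, h1, h2⟩
      obtain ⟨β', hβ', hc⟩ := exists_of_comp_eq p.2.1 c.unop β h1
      refine ⟨β', hβ', ?_⟩
      rw [h2, ← hc, op_comp, Functor.map_comp_apply]
      rfl

lemma φS_injective (W : (F.obj ⟨op i⟩)ᵒᵖ) : Function.Injective ((φS i R).app W) := by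
  intro r₁ r₂ h
  have h1 : (⟨W.unop, (ι F i).map (𝟙 W.unop), r₁⟩ :
      Σ V : F.obj ⟨op i⟩, ((ι F i).obj V ⟶ (ι F i).obj W.unop) × R.obj (op V)) ∈
      φSfun i R W.unop r₁ := ⟨𝟙 _, rfl, by
        change r₁ = R.map (𝟙 _) r₁
        rw [R.map_id]; rfl⟩
  have h' : φSfun i R W.unop r₁ = φSfun i R W.unop r₂ := h
  rw [h'] at h1
  obtain ⟨β, hβ, hr⟩ := h1
  have : β = 𝟙 _ := ((ι F i).map_injective hβ).symm
  rw [this] at hr
  change r₁ = R.map (𝟙 _) r₂ at hr
  rw [R.map_id] at hr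
  exact hr

end HS

section Small
universe u
variable {𝒮 : Type u} [SmallCategory 𝒮] {F : Pseudofunctor (LocallyDiscrete 𝒮ᵒᵖ) Cat.{u, u}}
  (J : FibSite.Topologies F)

lemma unit_injective (i : 𝒮) (R : (F.obj ⟨op i⟩)ᵒᵖ ⥤ Type u) (W : (F.obj ⟨op i⟩)ᵒᵖ) :
    Function.Injective (((ι F i).op.lanUnit.app R).app W) := by
  intro r₁ r₂ h
  apply φS_injective.{u} i R W
  have h1 := LanType.transpose_unit (ι F i).op (φS.{u} i R) W r₁
  have h2 := LanType.transpose_unit (ι F i).op (φS.{u} i R) W r₂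
  rw [← h1, ← h2, h]

theorem isLocallyInjective_of_lan (hF : FibSite.IsPreFibSite F J) (i : 𝒮)
    {R Q : (F.obj ⟨op i⟩)ᵒᵖ ⥤ Type u} (u : R ⟶ Q)
    (h : Presheaf.IsLocallyInjective (FibSite.totalTopology F J)
      (((ι F i).op.lan (H := Type u)).map u)) :
    Presheaf.IsLocallyInjective (J i) u := by
  haveI := isCocontinuous_ι J hF i
  refine ⟨fun {W} x y hxy => ?_⟩
  let η := (ι F i).op.lanUnit (H := Type u)
  have h1 : (((ι F i).op.lan (H := Type u)).map u).app (op ((ι F i).obj W.unop))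
      ((η.app R).app W x) =
      (((ι F i).op.lan (H := Type u)).map u).app (op ((ι F i).obj W.unop))
      ((η.app R).app W y) := by
    have hn := congrArg (fun t => t.app W) (η.naturality u)
    have hx := ConcreteCategory.congr_hom hn x
    have hy := ConcreteCategory.congr_hom hn y
    change (η.app Q).app W (u.app W x) = _ at hx
    change (η.app Q).app W (u.app W y) = _ at hy
    exact hx.symm.trans ((congrArg _ hxy).trans hy)
  have h2 := Presheaf.equalizerSieve_mem (FibSite.totalTopology F J) _ _ _ h1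
  have h3 := Functor.cover_lift (ι F i) (J i) (FibSite.totalTopology F J) h2
  refine (J i).superset_covering ?_ h3
  intro V c hc
  change R.map c.op x = R.map c.op y
  apply unit_injective i R (op V)
  have e1 := NatTrans.naturality_apply (η.app R) c.op x
  have e2 := NatTrans.naturality_apply (η.app R) c.op y
  exact e1.trans (Eq.trans hc e2.symm)

/-- The comparison from the representable presheaf. -/
def εU (i : 𝒮) (U : F.obj ⟨op i⟩) :
    yoneda.obj U ⟶ (ι F i).op ⋙ yoneda.obj ((ι F i).obj U) where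
  app W := TypeCat.ofHom (fun y => (ι F i).map y)
  naturality {W W'} c := by
    ext y
    exact (ι F i).map_comp c.unop y

theorem isLocallySurjective_of_lan (hF : FibSite.IsPreFibSite F J) (i : 𝒮)
    {R : (F.obj ⟨op i⟩)ᵒᵖ ⥤ Type u} {U : F.obj ⟨op i⟩} (u : R ⟶ yoneda.obj U)
    (h : Presheaf.IsLocallySurjective (FibSite.totalTopology F J)
      (((ι F i).op.lan (H := Type u)).map u)) :
    Presheaf.IsLocallySurjective (J i) u := by
  haveI := isCocontinuous_ι J hF i
  refine ⟨fun {W} y => ?_⟩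
  let η := (ι F i).op.lanUnit (H := Type u)
  have h2 := Presheaf.imageSieve_mem (FibSite.totalTopology F J)
    (((ι F i).op.lan (H := Type u)).map u) ((η.app (yoneda.obj U)).app (op W) y)
  have h3 := Functor.cover_lift (ι F i) (J i) (FibSite.totalTopology F J) h2
  refine (J i).superset_covering ?_ h3
  rintro V c ⟨ρ, hρ⟩
  obtain ⟨V', b, r', rfl⟩ := LanType.exists_rep (ι F i).op R (op ((ι F i).obj V)) ρ
  let adj := (ι F i).op.lanAdjunction (Type u)
  let ε' := (adj.homEquiv (yoneda.obj U) (yoneda.obj ((ι F i).obj U))).symm (εU i U)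
  have key := congrArg (ε'.app (op ((ι F i).obj V))) hρ
  have hL : ε'.app (op ((ι F i).obj V))
      ((((ι F i).op.lan (H := Type u)).map u).app (op ((ι F i).obj V))
        ((((ι F i).op.lan (H := Type u)).obj R).map b ((η.app R).app V' r'))) =
      b.unop ≫ (ι F i).map (u.app V' r') := by
    have e1 := LanType.transpose_map (ι F i).op u (εU i U)
    have e2 := ConcreteCategory.congr_hom (congrArg (fun t => t.app (op ((ι F i).obj V))) e1)
      ((((ι F i).op.lan (H := Type u)).obj R).map b ((η.app R).app V' r'))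
    refine e2.trans ?_
    have e3 := NatTrans.naturality_apply
      ((adj.homEquiv R (yoneda.obj ((ι F i).obj U))).symm (u ≫ εU i U)) b ((η.app R).app V' r')
    refine e3.trans ?_
    have e4 := LanType.transpose_unit (ι F i).op (u ≫ εU i U) V' r'
    exact congrArg (fun t => b.unop ≫ t) e4
  have hR : ε'.app (op ((ι F i).obj V))
      ((((ι F i).op.lan (H := Type u)).obj (yoneda.obj U)).map ((ι F i).map c).op
        ((η.app (yoneda.obj U)).app (op W) y)) =
      (ι F i).map c ≫ (ι F i).map y := by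
    have e3 := NatTrans.naturality_apply ε' ((ι F i).map c).op
      ((η.app (yoneda.obj U)).app (op W) y)
    refine e3.trans ?_
    have e4 := LanType.transpose_unit (ι F i).op (εU i U) (op W) y
    exact congrArg (fun t => (ι F i).map c ≫ t) e4
  have key' : b.unop ≫ (ι F i).map (u.app V' r') = (ι F i).map (c ≫ y) := by
    rw [Functor.map_comp]
    exact hL.symm.trans (key.trans hR)
  obtain ⟨β', hβ', hc⟩ := exists_of_comp_eq b.unop (u.app V' r') (c ≫ y) key'
  refine ⟨R.map β'.op r', ?_⟩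
  have e5 := NatTrans.naturality_apply u β'.op r'
  exact e5.trans hc

end Small

end Groth.Agent.Lib.Helper5.FibKan
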