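import Mathlib
import Groth.Prelude.Def_FibSite
import Groth.Agent.Lib.Helper5.Misc.FibTot

set_option autoImplicit false
universe w v₁ u₁ v₂ u₂ v₃ u₃
open CategoryTheory CategoryTheory.Limits Opposite Pseudofunctor Pseudofunctor.CoGrothendieck Bicategory

namespace Groth.Agent.Lib.Helper5.FibRan

open Groth.Agent.Lib.Helper5.FibTot

variable {𝒮 : Type u₁} [Category.{v₁} 𝒮]
variable {F : Pseudofunctor (LocallyDiscrete 𝒮ᵒᵖ) Cat.{v₂, u₂}}

/-- The component at `f` of the comparison map from the right Kan extension. -/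
noncomputable def piApp {i j : 𝒮}
    [∀ (P : (F.obj ⟨op i⟩)ᵒᵖ ⥤ Type w), (ι F i).op.HasPointwiseRightKanExtension P]
    (P : (F.obj ⟨op i⟩)ᵒᵖ ⥤ Type w) (f : i ⟶ j) (W : F.obj ⟨op j⟩) :
    ((ι F i).op.ran.obj P).obj (op ((ι F j).obj W)) ⟶ P.obj (op ((FibSite.invImage F f).obj W)) :=
  ((ι F i).op.ran.obj P).map (cart f W).op ≫
    ((ι F i).op.ranCounit.app P).app (op ((FibSite.invImage F f).obj W))

lemma piApp_naturality {i j : 𝒮}
    [∀ (P : (F.obj ⟨op i⟩)ᵒᵖ ⥤ Type w), (ι F i).op.HasPointwiseRightKanExtension P]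
    (P : (F.obj ⟨op i⟩)ᵒᵖ ⥤ Type w) (f : i ⟶ j) {W W' : F.obj ⟨op j⟩} (e : W ⟶ W') :
    ((ι F i).op.ran.obj P).map ((ι F j).map e).op ≫ piApp P f W =
      piApp P f W' ≫ P.map ((FibSite.invImage F f).map e).op := by
  unfold piApp
  have h1 : ((ι F i).op.ran.obj P).map ((ι F i).map ((FibSite.invImage F f).map e)).op ≫
      ((ι F i).op.ranCounit.app P).app (op ((FibSite.invImage F f).obj W)) =
      ((ι F i).op.ranCounit.app P).app (op ((FibSite.invImage F f).obj W')) ≫
        P.map ((FibSite.invImage F f).map e).op :=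
    ((ι F i).op.ranCounit.app P).naturality ((FibSite.invImage F f).map e).op
  have h2 : ((ι F j).map e).op ≫ (cart f W).op =
      (cart f W').op ≫ ((ι F i).map ((FibSite.invImage F f).map e)).op := by
    rw [← op_comp, ← op_comp]
    exact congrArg Quiver.Hom.op (ι_map_comp_cart f e).symm
  rw [Category.assoc, ← h1]
  rw [← Category.assoc, ← Functor.map_comp, h2, Functor.map_comp, Category.assoc]

/-- The family attached to `t`. -/
def fam {i j : 𝒮} (P : (F.obj ⟨op i⟩)ᵒᵖ ⥤ Type w) (W : F.obj ⟨op j⟩)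
    (t : ∀ f : i ⟶ j, P.obj (op ((FibSite.invImage F f).obj W)))
    (V : F.obj ⟨op i⟩) (b : (ι F i).obj V ⟶ (ι F j).obj W) : P.obj (op V) :=
  P.map (Quiver.Hom.op (show V ⟶ (FibSite.invImage F b.base).obj W from b.fiber)) (t b.base)

lemma fam_comp {i j : 𝒮} (P : (F.obj ⟨op i⟩)ᵒᵖ ⥤ Type w) (W : F.obj ⟨op j⟩)
    (t : ∀ f : i ⟶ j, P.obj (op ((FibSite.invImage F f).obj W)))
    {V V' : F.obj ⟨op i⟩} (c : V' ⟶ V) (b : (ι F i).obj V ⟶ (ι F j).obj W) :
    fam P W t V' ((ι F i).map c ≫ b) = P.map c.op (fam P W t V b) := by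
  have h : (ι F i).map c ≫ b = homMk V' ((ι F j).obj W) b.base (c ≫ b.fiber) :=
    ι_map_comp (Y := (ι F i).obj V) b c
  rw [h]
  change P.map (c ≫ b.fiber).op (t b.base) = P.map c.op (P.map _ (t b.base))
  rw [op_comp, Functor.map_comp_apply]
  rfl

lemma piApp_bijective {i j : 𝒮}
    [∀ (P : (F.obj ⟨op i⟩)ᵒᵖ ⥤ Type w), (ι F i).op.HasPointwiseRightKanExtension P]
    (P : (F.obj ⟨op i⟩)ᵒᵖ ⥤ Type w) (W : F.obj ⟨op j⟩) :
    Function.Bijective (fun (x : ((ι F i).op.ran.obj P).obj (op ((ι F j).obj W))) (f : i ⟶ j) =>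
      piApp P f W x) := by
  let hl := (ι F i).op.isPointwiseRightKanExtensionRanCounit P (op ((ι F j).obj W))
  let e := Types.isLimitEquivSections hl
  have key : ∀ (g : StructuredArrow (op ((ι F j).obj W)) (ι F i).op)
      (x : ((ι F i).op.ran.obj P).obj (op ((ι F j).obj W))),
      (e x).1 g = P.map (Quiver.Hom.op (show g.right.unop ⟶ (FibSite.invImage F g.hom.unop.base).obj W
        from g.hom.unop.fiber)) (piApp P g.hom.unop.base W x) := by
    intro g x
    let V : F.obj ⟨op i⟩ := g.right.unop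
    let b : (ι F i).obj V ⟶ (ι F j).obj W := g.hom.unop
    let β : V ⟶ (FibSite.invImage F b.base).obj W := b.fiber
    let g₀ : StructuredArrow (op ((ι F j).obj W)) (ι F i).op :=
      StructuredArrow.mk (Y := op ((FibSite.invImage F b.base).obj W)) (cart b.base W).op
    have hb : (ι F i).map β ≫ cart b.base W = b := ι_map_comp_cart' b.base β
    let φ : g₀ ⟶ g := StructuredArrow.homMk β.op (by
      change (cart b.base W).op ≫ ((ι F i).map β).op = g.hom
      exact congrArg Quiver.Hom.op hb)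
    have hw := (Functor.RightExtension.coneAt (Functor.RightExtension.mk _ ((ι F i).op.ranCounit.app P))
      (op ((ι F j).obj W))).w φ
    have := ConcreteCategory.congr_hom hw x
    exact this.symm
  constructor
  · intro x y hxy
    apply e.injective
    refine Subtype.ext (funext fun g => ?_)
    rw [key g x, key g y]
    exact congrArg _ (congrFun hxy g.hom.unop.base)
  · intro t
    have hs : (fun g : StructuredArrow (op ((ι F j).obj W)) (ι F i).op =>
        fam P W t g.right.unop g.hom.unop) ∈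
          (StructuredArrow.proj (op ((ι F j).obj W)) (ι F i).op ⋙ P).sections := by
      intro g g' φ
      have hφ : (ι F i).map φ.right.unop ≫ g.hom.unop = g'.hom.unop := by
        have := StructuredArrow.w φ
        exact congrArg Quiver.Hom.unop this
      change P.map φ.right (fam P W t g.right.unop g.hom.unop) = fam P W t g'.right.unop g'.hom.unop
      rw [← hφ]
      exact (fam_comp P W t φ.right.unop g.hom.unop).symm
    refine ⟨e.symm ⟨_, hs⟩, funext fun f => ?_⟩
    have h1 := key (StructuredArrow.mk (Y := op ((FibSite.invImage F f).obj W)) (cart f W).op)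
      (e.symm ⟨_, hs⟩)
    rw [Equiv.apply_symm_apply] at h1
    change P.map (𝟙 ((FibSite.invImage F f).obj W)).op (t f) =
      P.map (𝟙 ((FibSite.invImage F f).obj W)).op (piApp P f W (e.symm ⟨_, hs⟩)) at h1
    rw [op_id, P.map_id] at h1
    exact h1.symm

end Groth.Agent.Lib.Helper5.FibRan
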