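import Mathlib
import Groth.Prelude.Def_FibSite
import Groth.Agent.Lib.Helper5.Misc.FibTot
import Groth.Agent.Lib.Helper5.Misc.FibRan

set_option autoImplicit false
universe w v₁ u₁ v₂ u₂ v₃ u₃
open CategoryTheory CategoryTheory.Limits Opposite Pseudofunctor Pseudofunctor.CoGrothendieck Bicategory
open scoped CategoryTheory.Pseudofunctor.StrongTrans

namespace Groth.Agent.Lib.Helper5.FibMap

open Groth.Agent.Lib.Helper5.FibTot Groth.Agent.Lib.Helper5.FibRan

section General

variable {𝒮 : Type u₁} [Category.{v₁} 𝒮]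
variable {F G : Pseudofunctor (LocallyDiscrete 𝒮ᵒᵖ) Cat.{v₂, u₂}} (α : G ⟶ F)

set_option backward.isDefEq.respectTransparency false in
lemma map_ι_map (S : 𝒮) {V W : G.obj ⟨op S⟩} (β : V ⟶ W) :
    (map α).map ((ι G S).map β) = (ι F S).map ((α.app ⟨op S⟩).toFunctor.map β) := by
  refine Hom.ext _ _ rfl ?_
  rw [eqToHom_refl, Category.comp_id]
  change (α.app ⟨op S⟩).toFunctor.map (β ≫ (G.mapId ⟨op S⟩).inv.toNatTrans.app W) ≫
      (α.naturality (𝟙 S).op.toLoc).hom.toNatTrans.app W =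
    (α.app ⟨op S⟩).toFunctor.map β ≫ (F.mapId ⟨op S⟩).inv.toNatTrans.app _
  simp [Cat.Hom.comp_toFunctor, StrongTrans.naturality_id_hom_app, Cat.Hom.id_toFunctor,
    ← Functor.map_comp_assoc, ← Cat.Hom₂.comp_app]

/-- The comparison morphism of the strong transformation on objects. -/
abbrev ν {T S : 𝒮} (k : T ⟶ S) (W : G.obj ⟨op S⟩) :
    (α.app ⟨op T⟩).toFunctor.obj ((FibSite.invImage G k).obj W) ⟶
      (FibSite.invImage F k).obj ((α.app ⟨op S⟩).toFunctor.obj W) :=
  (α.naturality k.op.toLoc).hom.toNatTrans.app W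

instance {T S : 𝒮} (k : T ⟶ S) (W : G.obj ⟨op S⟩) : IsIso (ν α k W) := by
  unfold ν
  infer_instance

set_option backward.isDefEq.respectTransparency false in
lemma map_cart {T S : 𝒮} (k : T ⟶ S) (W : G.obj ⟨op S⟩) :
    (map α).map (cart k W) =
      (ι F T).map (ν α k W) ≫ cart k ((α.app ⟨op S⟩).toFunctor.obj W) := by
  refine Eq.trans ?_ (ι_map_comp_cart' k (ν α k W)).symm
  refine Hom.ext _ _ rfl ?_
  rw [eqToHom_refl, Category.comp_id]
  change (α.app ⟨op T⟩).toFunctor.map (𝟙 _) ≫ ν α k W = ν α k W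
  rw [CategoryTheory.Functor.map_id, Category.id_comp]

/-- The fibre inclusions intertwine `map α` and the fibre functors. -/
def eS (S : 𝒮) : (α.app ⟨op S⟩).toFunctor ⋙ ι F S ≅ ι G S ⋙ map α :=
  NatIso.ofComponents (fun V => Iso.refl _) (fun {V W} β => by
    refine (Category.comp_id _).trans (Eq.trans ?_ (Category.id_comp _).symm)
    exact (map_ι_map α S β).symm)

lemma eS_hom_app (S : 𝒮) (V : G.obj ⟨op S⟩) : (eS α S).hom.app V = 𝟙 _ := rfl

theorem isContinuous_map (J : FibSite.Topologies F) (K : FibSite.Topologies G)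
    (hF : FibSite.IsPreFibSite F J) (hG : FibSite.IsPreFibSite G K)
    (hα : ∀ S, (α.app ⟨op S⟩).toFunctor.IsContinuous (K S) (J S)) :
    (map α).IsContinuous (FibSite.totalTopology G K) (FibSite.totalTopology F J) := by
  rw [isContinuous_iff K hG]
  intro S
  haveI := hα S
  haveI := isContinuous_ι J hF S
  haveI : ((α.app ⟨op S⟩).toFunctor ⋙ ι F S).IsContinuous (K S) (FibSite.totalTopology F J) :=
    Functor.isContinuous_comp _ _ (K S) (J S) _
  exact Functor.isContinuous_of_iso (eS α S) (K S) (FibSite.totalTopology F J)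

end General

section Small
universe u
variable {𝒮 : Type u} [SmallCategory 𝒮] {F G : Pseudofunctor (LocallyDiscrete 𝒮ᵒᵖ) Cat.{u, u}}
  (α : G ⟶ F) (k : 𝒮)

/-- The restriction of `m⁻¹ (ran P)` to the fibre maps to `α_k⁻¹ P`. -/
noncomputable def βP (P : (F.obj ⟨op k⟩)ᵒᵖ ⥤ Type u) :
    (ι G k).op ⋙ ((map α).op ⋙ (ι F k).op.ran.obj P) ⟶ (α.app ⟨op k⟩).toFunctor.op ⋙ P where
  app V := ((ι F k).op.ranCounit.app P).app (op ((α.app ⟨op k⟩).toFunctor.obj V.unop))
  naturality {V V'} c := by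
    have h1 := ((ι F k).op.ranCounit.app P).naturality ((α.app ⟨op k⟩).toFunctor.map c.unop).op
    have h2 : ((ι G k).op ⋙ ((map α).op ⋙ (ι F k).op.ran.obj P)).map c =
        ((ι F k).op.ran.obj P).map ((ι F k).map ((α.app ⟨op k⟩).toFunctor.map c.unop)).op := by
      exact congrArg (fun t => ((ι F k).op.ran.obj P).map (Quiver.Hom.op t))
        (map_ι_map α k c.unop)
    rw [h2]
    exact h1

/-- The base change comparison map at the presheaf level. -/
noncomputable def θP (P : (F.obj ⟨op k⟩)ᵒᵖ ⥤ Type u) :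
    (map α).op ⋙ (ι F k).op.ran.obj P ⟶
      (ι G k).op.ran.obj ((α.app ⟨op k⟩).toFunctor.op ⋙ P) :=
  Functor.liftOfIsRightKanExtension _ ((ι G k).op.ranCounit.app _) _ (βP α k P)

lemma θP_fac (P : (F.obj ⟨op k⟩)ᵒᵖ ⥤ Type u) (V : G.obj ⟨op k⟩) :
    (θP α k P).app (op ((ι G k).obj V)) ≫
      ((ι G k).op.ranCounit.app ((α.app ⟨op k⟩).toFunctor.op ⋙ P)).app (op V) =
      ((ι F k).op.ranCounit.app P).app (op ((α.app ⟨op k⟩).toFunctor.obj V)) :=
  Functor.liftOfIsRightKanExtension_fac_app _ ((ι G k).op.ranCounit.app _) _ (βP α k P) (op V)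

lemma θP_piApp (P : (F.obj ⟨op k⟩)ᵒᵖ ⥤ Type u) {l : 𝒮} (f : k ⟶ l) (W : G.obj ⟨op l⟩) :
    (θP α k P).app (op ((ι G l).obj W)) ≫
      piApp ((α.app ⟨op k⟩).toFunctor.op ⋙ P) f W =
    piApp P f ((α.app ⟨op l⟩).toFunctor.obj W) ≫ P.map (ν α f W).op := by
  unfold piApp
  have n1 := (θP α k P).naturality (cart f W).op
  have n2 := θP_fac α k P ((FibSite.invImage G f).obj W)
  have n3 : ((ι F k).op.ran.obj P).map ((ι F k).map (ν α f W)).op ≫
      ((ι F k).op.ranCounit.app P).app (op ((α.app ⟨op k⟩).toFunctor.obj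
        ((FibSite.invImage G f).obj W))) =
      ((ι F k).op.ranCounit.app P).app (op ((FibSite.invImage F f).obj
        ((α.app ⟨op l⟩).toFunctor.obj W))) ≫ P.map (ν α f W).op :=
    ((ι F k).op.ranCounit.app P).naturality (ν α f W).op
  have n4 : ((map α).op ⋙ (ι F k).op.ran.obj P).map (cart f W).op =
      ((ι F k).op.ran.obj P).map (cart f ((α.app ⟨op l⟩).toFunctor.obj W)).op ≫
        ((ι F k).op.ran.obj P).map ((ι F k).map (ν α f W)).op := by
    rw [← Functor.map_comp, ← op_comp]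
    exact congrArg (fun t => ((ι F k).op.ran.obj P).map (Quiver.Hom.op t)) (map_cart α f W)
  rw [← Category.assoc, ← n1, Category.assoc, n2]
  refine (congrArg (fun t => t ≫ ((ι F k).op.ranCounit.app P).app
    (op ((α.app ⟨op k⟩).toFunctor.obj ((FibSite.invImage G f).obj W)))) n4).trans ?_
  refine (Category.assoc _ _ _).trans ?_
  refine (congrArg (fun t => ((ι F k).op.ran.obj P).map
    (cart f ((α.app ⟨op l⟩).toFunctor.obj W)).op ≫ t) n3).trans ?_
  exact (Category.assoc _ _ _).symm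

lemma θP_bijective (P : (F.obj ⟨op k⟩)ᵒᵖ ⥤ Type u) (X : (∫ᶜ G)ᵒᵖ) :
    Function.Bijective ((θP α k P).app X) := by
  rcases X with ⟨⟨l, W⟩⟩
  change Function.Bijective ((θP α k P).app (op ((ι G l).obj W)))
  have hA := piApp_bijective (i := k) (j := l) ((α.app ⟨op k⟩).toFunctor.op ⋙ P) W
  have hB := piApp_bijective (i := k) (j := l) P ((α.app ⟨op l⟩).toFunctor.obj W)
  have hC : Function.Bijective (fun (t : ∀ f : k ⟶ l,
      P.obj (op ((FibSite.invImage F f).obj ((α.app ⟨op l⟩).toFunctor.obj W)))) (f : k ⟶ l) =>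
      P.map (ν α f W).op (t f)) := by
    constructor
    · intro t t' h
      funext f
      have hf := congrFun h f
      have hiso : IsIso (P.map (ν α f W).op) := inferInstance
      exact ((isIso_iff_bijective _).1 hiso).1 hf
    · intro s
      have hiso : ∀ f : k ⟶ l, IsIso (P.map (ν α f W).op) := fun f => inferInstance
      refine ⟨fun f => (inv (P.map (ν α f W).op)) (s f), funext fun f => ?_⟩
      exact ConcreteCategory.congr_hom (IsIso.inv_hom_id (P.map (ν α f W).op)) (s f)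
  have hcomp : (fun (x : ((ι G k).op.ran.obj ((α.app ⟨op k⟩).toFunctor.op ⋙ P)).obj
        (op ((ι G l).obj W))) (f : k ⟶ l) =>
        piApp ((α.app ⟨op k⟩).toFunctor.op ⋙ P) f W x) ∘ ((θP α k P).app (op ((ι G l).obj W))) =
      (fun (t : ∀ f : k ⟶ l,
        P.obj (op ((FibSite.invImage F f).obj ((α.app ⟨op l⟩).toFunctor.obj W)))) (f : k ⟶ l) =>
        P.map (ν α f W).op (t f)) ∘
      (fun (y : ((ι F k).op.ran.obj P).obj (op ((ι F l).obj ((α.app ⟨op l⟩).toFunctor.obj W))))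
        (f : k ⟶ l) => piApp P f ((α.app ⟨op l⟩).toFunctor.obj W) y) := by
    funext x f
    exact ConcreteCategory.congr_hom (θP_piApp α k P f W) x
  have h1 : Function.Bijective ((fun (x : ((ι G k).op.ran.obj
        ((α.app ⟨op k⟩).toFunctor.op ⋙ P)).obj (op ((ι G l).obj W))) (f : k ⟶ l) =>
        piApp ((α.app ⟨op k⟩).toFunctor.op ⋙ P) f W x) ∘
        ((θP α k P).app (op ((ι G l).obj W)))) := by
    rw [hcomp]
    exact hC.comp hB
  exact (Function.Bijective.of_comp_iff' hA _).1 h1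

lemma θP_naturality {P P' : (F.obj ⟨op k⟩)ᵒᵖ ⥤ Type u} (φ : P ⟶ P') :
    Functor.whiskerLeft (map α).op ((ι F k).op.ran.map φ) ≫ θP α k P' =
      θP α k P ≫ (ι G k).op.ran.map (Functor.whiskerLeft (α.app ⟨op k⟩).toFunctor.op φ) := by
  apply Functor.hom_ext_of_isRightKanExtension _ ((ι G k).op.ranCounit.app _)
  ext V : 2
  have c1 := congrArg (fun t => t.app (op ((α.app ⟨op k⟩).toFunctor.obj V.unop)))
    ((ι F k).op.ranCounit.naturality φ)
  have c2 := congrArg (fun t => t.app V)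
    ((ι G k).op.ranCounit.naturality (Functor.whiskerLeft (α.app ⟨op k⟩).toFunctor.op φ))
  have f1 := θP_fac α k P V.unop
  have f2 := θP_fac α k P' V.unop
  change (((ι F k).op.ran.map φ).app (op ((map α).obj ((ι G k).obj V.unop))) ≫
      (θP α k P').app (op ((ι G k).obj V.unop))) ≫
      ((ι G k).op.ranCounit.app ((α.app ⟨op k⟩).toFunctor.op ⋙ P')).app V =
    ((θP α k P).app (op ((ι G k).obj V.unop)) ≫
      ((ι G k).op.ran.map (Functor.whiskerLeft (α.app ⟨op k⟩).toFunctor.op φ)).app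
        (op ((ι G k).obj V.unop))) ≫
      ((ι G k).op.ranCounit.app ((α.app ⟨op k⟩).toFunctor.op ⋙ P')).app V
  change ((ι F k).op.ran.map φ).app (op ((ι F k).obj ((α.app ⟨op k⟩).toFunctor.obj V.unop))) ≫
      ((ι F k).op.ranCounit.app P').app (op ((α.app ⟨op k⟩).toFunctor.obj V.unop)) =
    ((ι F k).op.ranCounit.app P).app (op ((α.app ⟨op k⟩).toFunctor.obj V.unop)) ≫
      φ.app (op ((α.app ⟨op k⟩).toFunctor.obj V.unop)) at c1
  change ((ι G k).op.ran.map (Functor.whiskerLeft (α.app ⟨op k⟩).toFunctor.op φ)).app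
        (op ((ι G k).obj V.unop)) ≫
      ((ι G k).op.ranCounit.app ((α.app ⟨op k⟩).toFunctor.op ⋙ P')).app V =
    ((ι G k).op.ranCounit.app ((α.app ⟨op k⟩).toFunctor.op ⋙ P)).app V ≫
      φ.app (op ((α.app ⟨op k⟩).toFunctor.obj V.unop)) at c2
  rw [Category.assoc, Category.assoc, c2]
  refine (congrArg (fun t => ((ι F k).op.ran.map φ).app
    (op ((map α).obj ((ι G k).obj V.unop))) ≫ t) f2).trans ?_
  refine c1.trans ?_
  refine Eq.trans ?_ (Category.assoc _ _ _)
  exact congrArg (fun t => t ≫ φ.app (op ((α.app ⟨op k⟩).toFunctor.obj V.unop))) f1.symm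

end Small

end Groth.Agent.Lib.Helper5.FibMap
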