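import Mathlib
import Groth.Prelude.Def_FibSite
import Groth.Agent.Lib.Helper5.Misc.FibTot
import Groth.Agent.Lib.Helper5.Misc.FibRan

set_option autoImplicit false
universe u
open CategoryTheory CategoryTheory.Limits Opposite Pseudofunctor Pseudofunctor.CoGrothendieck Bicategory

namespace Groth.Agent.Lib.Helper5.FibRan

open Groth.Agent.Lib.Helper5.FibTot

lemma piApp_naturality_left {𝒮 : Type u} [SmallCategory 𝒮]
    {F : Pseudofunctor (LocallyDiscrete 𝒮ᵒᵖ) Cat.{u, u}} {i j : 𝒮}
    [∀ (P : (F.obj ⟨op i⟩)ᵒᵖ ⥤ Type u), (ι F i).op.HasPointwiseRightKanExtension P]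
    {P P' : (F.obj ⟨op i⟩)ᵒᵖ ⥤ Type u} (φ : P ⟶ P') (f : i ⟶ j) (W : F.obj ⟨op j⟩) :
    piApp P f W ≫ φ.app (op ((FibSite.invImage F f).obj W)) =
      ((ι F i).op.ran.map φ).app (op ((ι F j).obj W)) ≫ piApp P' f W := by
  unfold piApp
  have h1 := congrArg (fun t => t.app (op ((FibSite.invImage F f).obj W)))
    ((ι F i).op.ranCounit.naturality φ)
  have h1' : ((ι F i).op.ran.map φ).app (op ((ι F i).obj ((FibSite.invImage F f).obj W))) ≫
      ((ι F i).op.ranCounit.app P').app (op ((FibSite.invImage F f).obj W)) =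
      ((ι F i).op.ranCounit.app P).app (op ((FibSite.invImage F f).obj W)) ≫
        φ.app (op ((FibSite.invImage F f).obj W)) := h1
  rw [Category.assoc, ← h1', ← Category.assoc, ← Category.assoc]
  congr 1
  exact ((ι F i).op.ran.map φ).naturality (cart f W).op

variable {𝒮 : Type u} [SmallCategory 𝒮]
  (F : Pseudofunctor (LocallyDiscrete 𝒮ᵒᵖ) Cat.{u, u}) (J : FibSite.Topologies F) (i j : 𝒮)
  [∀ S : 𝒮, (ι F S).IsContinuous (J S) (FibSite.totalTopology F J)]
  [(ι F i).IsCocontinuous (J i) (FibSite.totalTopology F J)]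
  [∀ (P : (F.obj ⟨op i⟩)ᵒᵖ ⥤ Type u), (ι F i).op.HasPointwiseRightKanExtension P]
  [∀ (R S : 𝒮) (f : R ⟶ S), (FibSite.invImage F f).IsContinuous (J S) (J R)]

/-- The projection as a natural transformation of functors between sheaf categories. -/
noncomputable def πNat (f : i ⟶ j) :
    FibSite.coextend F J (Type u) i ⋙ FibSite.restr F J (Type u) j ⟶
      (FibSite.invImage F f).sheafPushforwardContinuous (Type u) (J j) (J i) where
  app a := ⟨{ app := fun W => piApp a.obj f W.unop
              naturality := fun W W' e => piApp_naturality a.obj f e.unop }⟩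
  naturality a a' φ := by
    apply Sheaf.hom_ext
    ext W : 2
    exact (piApp_naturality_left φ.hom f W.unop).symm

/-- The fan of projections is a limit fan. -/
noncomputable def isLimitFan (a : Sheaf (J i) (Type u)) :
    IsLimit (Fan.mk ((FibSite.coextend F J (Type u) i ⋙ FibSite.restr F J (Type u) j).obj a)
      (fun f => (πNat F J i j f).app a)) := by
  apply isLimitOfReflects (sheafToPresheaf (J j) (Type u))
  apply evaluationJointlyReflectsLimits
  intro W
  refine Classical.choice ((Types.isLimit_iff_bijective_sectionOfCone _).2 ?_)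
  have hb := piApp_bijective (i := i) (j := j) a.obj W.unop
  constructor
  · intro x y hxy
    apply hb.1
    funext f
    exact congrFun (congrArg Subtype.val hxy) ⟨f⟩
  · intro s
    obtain ⟨x, hx⟩ := hb.2 (fun f => s.1 ⟨f⟩)
    refine ⟨x, Subtype.ext (funext fun f => ?_)⟩
    rcases f with ⟨f⟩
    exact congrFun hx f

end Groth.Agent.Lib.Helper5.FibRan
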