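import Mathlib
import Groth.Prelude.Def_FibSite
import Groth.Agent.Lib.Helper5.Misc.FibTot
import Groth.Agent.Lib.Helper5.Misc.FibRan2
import Groth.Agent.Lib.Helper5.Misc.FibMap

set_option autoImplicit false
universe u
open CategoryTheory CategoryTheory.Limits Opposite Pseudofunctor Pseudofunctor.CoGrothendieck Bicategory
open scoped CategoryTheory.Pseudofunctor.StrongTrans

namespace Groth.Agent.Lib.Helper5.FibMap

open Groth.Agent.Lib.Helper5.FibTot Groth.Agent.Lib.Helper5.FibRan

variable {𝒮 : Type u} [SmallCategory 𝒮] {F G : Pseudofunctor (LocallyDiscrete 𝒮ᵒᵖ) Cat.{u, u}}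
  (α : G ⟶ F) (J : FibSite.Topologies F) (K : FibSite.Topologies G) (k : 𝒮)
  [(map α).IsContinuous (FibSite.totalTopology G K) (FibSite.totalTopology F J)]
  [(α.app ⟨op k⟩).toFunctor.IsContinuous (K k) (J k)]
  [(ι F k).IsCocontinuous (J k) (FibSite.totalTopology F J)]
  [(ι G k).IsCocontinuous (K k) (FibSite.totalTopology G K)]

/-- The base change transformation on sheaf categories. -/
noncomputable def Θ :
    FibSite.coextend F J (Type u) k ⋙
      (map α).sheafPushforwardContinuous (Type u) (FibSite.totalTopology G K)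
        (FibSite.totalTopology F J) ⟶
    (α.app ⟨op k⟩).toFunctor.sheafPushforwardContinuous (Type u) (K k) (J k) ⋙
      FibSite.coextend G K (Type u) k where
  app a := ⟨θP α k a.obj⟩
  naturality a a' φ := by
    apply Sheaf.hom_ext
    exact θP_naturality α k φ.hom

instance : IsIso (Θ α J K k) := by
  haveI : ∀ a, IsIso ((Θ α J K k).app a) := fun a => by
    haveI : IsIso ((sheafToPresheaf _ _).map ((Θ α J K k).app a)) := by
      change IsIso (θP α k a.obj)
      haveI : ∀ X, IsIso ((θP α k a.obj).app X) := fun X =>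
        (isIso_iff_bijective _).2 (θP_bijective α k a.obj X)
      exact NatIso.isIso_of_isIso_app _
    exact isIso_of_reflects_iso _ (sheafToPresheaf _ _)
  exact NatIso.isIso_of_isIso_app _

omit [(map α).IsContinuous (FibSite.totalTopology G K) (FibSite.totalTopology F J)]
  [(α.app ⟨op k⟩).toFunctor.IsContinuous (K k) (J k)]
  [(ι F k).IsCocontinuous (J k) (FibSite.totalTopology F J)]
  [(ι G k).IsCocontinuous (K k) (FibSite.totalTopology G K)] in
theorem preservesFiniteLimits_sheafPullback_map
    (hF : FibSite.IsPreFibSite F J) (hG : FibSite.IsPreFibSite G K)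
    [(map α).IsContinuous (FibSite.totalTopology G K) (FibSite.totalTopology F J)]
    [((map α).sheafPushforwardContinuous (Type u) (FibSite.totalTopology G K)
      (FibSite.totalTopology F J)).IsRightAdjoint]
    (hα : ∀ S : 𝒮, ∃ (_ : (α.app ⟨op S⟩).toFunctor.IsContinuous (K S) (J S))
      (_ : ((α.app ⟨op S⟩).toFunctor.sheafPushforwardContinuous (Type u) (K S) (J S)).IsRightAdjoint),
      PreservesFiniteLimits ((α.app ⟨op S⟩).toFunctor.sheafPullback (Type u) (K S) (J S))) :
    PreservesFiniteLimits ((map α).sheafPullback (Type u) (FibSite.totalTopology G K)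
      (FibSite.totalTopology F J)) := by
  haveI : ∀ S : 𝒮, (ι F S).IsContinuous (J S) (FibSite.totalTopology F J) := fun S =>
    isContinuous_ι J hF S
  haveI : ∀ S : 𝒮, (ι G S).IsContinuous (K S) (FibSite.totalTopology G K) := fun S =>
    isContinuous_ι K hG S
  have key : ∀ k : 𝒮, PreservesFiniteLimits
      ((map α).sheafPullback (Type u) (FibSite.totalTopology G K) (FibSite.totalTopology F J) ⋙
        FibSite.restr F J (Type u) k) := fun k => by
    obtain ⟨h1, h2, h3⟩ := hα k
    haveI := isCocontinuous_ι J hF k
    haveI := isCocontinuous_ι K hG k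
    let adj₁ := (Functor.sheafAdjunctionContinuous (map α) (Type u) (FibSite.totalTopology G K)
      (FibSite.totalTopology F J)).comp
      (Functor.sheafAdjunctionCocontinuous (ι F k) (Type u) (J k) (FibSite.totalTopology F J))
    let adj₂ := (Functor.sheafAdjunctionCocontinuous (ι G k) (Type u) (K k)
      (FibSite.totalTopology G K)).comp
      (Functor.sheafAdjunctionContinuous (α.app ⟨op k⟩).toFunctor (Type u) (K k) (J k))
    let e := (conjugateIsoEquiv adj₁ adj₂).symm (asIso (Θ α J K k))
    haveI : PreservesLimits (FibSite.restr G K (Type u) k) :=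
      (Functor.sheafAdjunctionContinuous (ι G k) (Type u) (K k)
        (FibSite.totalTopology G K)).rightAdjoint_preservesLimits
    haveI : PreservesFiniteLimits (FibSite.restr G K (Type u) k ⋙
        (α.app ⟨op k⟩).toFunctor.sheafPullback (Type u) (K k) (J k)) :=
      comp_preservesFiniteLimits _ _
    exact preservesFiniteLimits_of_natIso e
  refine ⟨fun K' _ _ => ⟨fun {D} => ⟨fun {c} hc => ⟨?_⟩⟩⟩⟩
  apply isLimitOfReflects (sheafToPresheaf (FibSite.totalTopology F J) (Type u))
  apply evaluationJointlyReflectsLimits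
  intro X
  obtain ⟨⟨j, W⟩⟩ := X
  have hp : PreservesLimit D
      ((map α).sheafPullback (Type u) (FibSite.totalTopology G K) (FibSite.totalTopology F J) ⋙
        FibSite.restr F J (Type u) j) :=
    ((key j).preservesFiniteLimits K').preservesLimit
  have h1 := (hp.preserves hc).some
  have h2 := isLimitOfPreserves (sheafToPresheaf (J j) (Type u) ⋙ (evaluation _ _).obj (op W)) h1
  exact h2

end Groth.Agent.Lib.Helper5.FibMap
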