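import Mathlib

namespace Groth.Agent.Lib.Helper5.FiltSplit

open DirectSum

section Proj

variable {R : Type*} [Ring R] {M : Type*} [AddCommGroup M] [Module R M] {Γ : Type*} [DecidableEq Γ]
  (G : Γ → Submodule R M) (hG : DirectSum.IsInternal G)

/-- projection of `M` onto the `γ`-component of an internal direct sum, as an endomorphism. -/
noncomputable def proj (γ : Γ) : M →ₗ[R] M :=
  (G γ).subtype ∘ₗ (DirectSum.component R Γ (fun i => G i) γ) ∘ₗ
    (LinearEquiv.ofBijective (DirectSum.coeLinearMap G) hG).symm.toLinearMap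

lemma proj_mem (γ : Γ) (x : M) : proj G hG γ x ∈ G γ := by
  simp only [proj, LinearMap.coe_comp, Function.comp_apply, Submodule.coe_subtype]
  exact Submodule.coe_mem _

lemma proj_same {γ : Γ} {x : M} (hx : x ∈ G γ) : proj G hG γ x = x := by
  simp only [proj, LinearMap.coe_comp, Function.comp_apply, Submodule.coe_subtype,
    LinearEquiv.coe_coe]
  rw [← DirectSum.apply_eq_component, hG.ofBijective_coeLinearMap_of_mem hx]

lemma proj_ne {γ η : Γ} (h : η ≠ γ) {x : M} (hx : x ∈ G η) : proj G hG γ x = 0 := by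
  simp only [proj, LinearMap.coe_comp, Function.comp_apply, Submodule.coe_subtype,
    LinearEquiv.coe_coe]
  rw [← DirectSum.apply_eq_component, hG.ofBijective_coeLinearMap_of_mem_ne h hx]
  rfl

end Proj

section Abstract

variable {R : Type*} [Ring R] {M : Type*} [AddCommGroup M] [Module R M] {Γ : Type*} [LinearOrder Γ]
  (N H : Γ → Submodule R M)

theorem iSupIndep_of_filtration (hHN : ∀ γ, H γ ≤ N γ)
    (hdisj : ∀ γ, Disjoint (H γ) (⨆ η ∈ Set.Ioi γ, N η)) : iSupIndep H := by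
  classical
  apply iSupIndep_of_dfinsupp_lsum_injective
  rw [← LinearMap.ker_eq_bot, LinearMap.ker_eq_bot']
  intro m hm
  by_contra hne
  have hsupp : m.support.Nonempty := by
    rw [Finset.nonempty_iff_ne_empty, Ne, DFinsupp.support_eq_empty]
    exact hne
  set γ1 := m.support.min' hsupp with hγ1
  have hγ1mem : γ1 ∈ m.support := Finset.min'_mem _ _
  have hmne : m γ1 ≠ 0 := by
    rwa [DFinsupp.mem_support_toFun] at hγ1mem
  rw [DFinsupp.lsum_apply_apply, DFinsupp.sumAddHom_apply, DFinsupp.sum,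
    ← Finset.add_sum_erase _ _ hγ1mem] at hm
  have h1 : ((m γ1 : H γ1) : M) = - ∑ x ∈ m.support.erase γ1, ((m x : H x) : M) := by
    rw [eq_neg_iff_add_eq_zero]
    simpa using hm
  have h2 : ((m γ1 : H γ1) : M) ∈ ⨆ η ∈ Set.Ioi γ1, N η := by
    rw [h1]
    apply Submodule.neg_mem
    apply Submodule.sum_mem
    intro x hx
    have hx1 : x ∈ m.support := Finset.mem_of_mem_erase hx
    have hx2 : x ≠ γ1 := Finset.ne_of_mem_erase hx
    have hx3 : γ1 < x := lt_of_le_of_ne (Finset.min'_le _ _ hx1) (Ne.symm hx2)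
    exact Submodule.mem_iSup_of_mem x (Submodule.mem_iSup_of_mem hx3 (hHN x (m x).2))
  have h3 : ((m γ1 : H γ1) : M) = 0 :=
    Submodule.disjoint_def.1 (hdisj γ1) _ (m γ1).2 h2
  exact hmne (Subtype.ext h3)

theorem le_iSup_of_steps (T : Finset Γ)
    (hstep : ∀ γ, N γ = ⊥ ∨ ∃ t ∈ T, γ ≤ t ∧ N γ = N t)
    (hsum : ∀ γ, N γ ≤ H γ ⊔ ⨆ η ∈ Set.Ioi γ, N η) :
    ∀ γ, N γ ≤ ⨆ η ∈ Set.Ici γ, H η := by
  have key : ∀ n : ℕ, ∀ γ, (T.filter (fun x => γ ≤ x)).card = n →
      N γ ≤ ⨆ η ∈ Set.Ici γ, H η := by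
    intro n
    induction n using Nat.strong_induction_on with
    | _ n ih =>
      intro γ hγ
      rcases hstep γ with h0 | ⟨t, htT, hγt, hNt⟩
      · rw [h0]; exact bot_le
      · rw [hNt]
        refine le_trans (hsum t) (sup_le ?_ ?_)
        · exact le_iSup₂_of_le t hγt le_rfl
        · refine iSup₂_le fun η hη => ?_
          have hη' : t < η := hη
          have hlt : (T.filter (fun x => η ≤ x)).card < n := by
            rw [← hγ]
            apply Finset.card_lt_card
            rw [Finset.ssubset_iff_of_subset]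
            · refine ⟨t, ?_, ?_⟩
              · simp [htT, hγt]
              · simp [htT, not_le.2 hη']
            · intro x hx
              simp only [Finset.mem_filter] at hx ⊢
              exact ⟨hx.1, le_trans hγt (le_trans hη'.le hx.2)⟩
          refine le_trans (ih _ hlt η rfl) ?_
          exact biSup_mono fun θ hθ => le_trans hγt (le_trans hη'.le hθ)
  intro γ
  exact key _ γ rfl

theorem isInternal_of_filtration (hN : Antitone N) (T : Finset Γ)
    (hstep : ∀ γ, N γ = ⊥ ∨ ∃ t ∈ T, γ ≤ t ∧ N γ = N t)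
    (htop : ∃ γ0, N γ0 = ⊤)
    (hHN : ∀ γ, H γ ≤ N γ)
    (hsum : ∀ γ, N γ ≤ H γ ⊔ ⨆ η ∈ Set.Ioi γ, N η)
    (hdisj : ∀ γ, Disjoint (H γ) (⨆ η ∈ Set.Ioi γ, N η)) :
    DirectSum.IsInternal H ∧ ∀ γ, N γ = ⨆ η ∈ Set.Ici γ, H η := by
  classical
  have h1 := iSupIndep_of_filtration N H hHN hdisj
  have h2 := le_iSup_of_steps N H T hstep hsum
  have h3 : ∀ γ, N γ = ⨆ η ∈ Set.Ici γ, H η := fun γ =>
    le_antisymm (h2 γ) (iSup₂_le fun η hη => le_trans (hHN η) (hN hη))
  refine ⟨?_, h3⟩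
  apply DirectSum.isInternal_submodule_of_iSupIndep_of_iSup_eq_top h1
  obtain ⟨γ0, h0⟩ := htop
  rw [eq_top_iff, ← h0, h3 γ0]
  exact iSup₂_le fun η _ => le_iSup H η

end Abstract

section Pi

variable {Γ : Type*} [LinearOrder Γ] [Nonempty Γ]
  {R : Type*} [CommRing R] {A : Type*} [Fintype A] [DecidableEq A]
  (M : A → Type*) [∀ a, AddCommGroup (M a)] [∀ a, Module R (M a)]
  (F : ∀ a, Γ → Submodule R (M a))

omit [LinearOrder Γ] [Nonempty Γ] [Fintype A] in
lemma single_mem_pi_iff (a : A) (γ : Γ) (x : M a) :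
    LinearMap.single R M a x ∈ Submodule.pi Set.univ (fun b => F b γ) ↔ x ∈ F a γ := by
  rw [Submodule.mem_pi]
  constructor
  · intro h
    have := h a (Set.mem_univ _)
    simpa using this
  · intro h b _
    by_cases hb : b = a
    · subst hb
      simpa using h
    · rw [LinearMap.coe_single, Pi.single_eq_of_ne hb]
      exact Submodule.zero_mem _

theorem forward [∀ a, Module.Finite R (M a)] (hF : ∀ a, Antitone (F a))
    (G : Γ → Submodule R (∀ a, M a)) (hG : DirectSum.IsInternal G)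
    (hform : ∀ γ, Submodule.pi Set.univ (fun a => F a γ) = ⨆ η ∈ Set.Ici γ, G η) (a : A) :
    ∃ Ga : Γ → Submodule R (M a), DirectSum.IsInternal Ga ∧
      ∀ γ, F a γ = ⨆ η ∈ Set.Ici γ, Ga η := by
  classical
  -- finite support
  have hcomp : IsCompactElement (⊤ : Submodule R (∀ a, M a)) :=
    (Submodule.fg_iff_compact ⊤).1 Module.Finite.fg_top
  obtain ⟨T, hT⟩ := CompleteLattice.IsCompactElement.exists_finset_of_le_iSup _ hcomp _ (le_of_eq hG.submodule_iSup_eq_top.symm)
  have hT' : (⨆ t ∈ T, G t) = ⊤ := eq_top_iff.2 hT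
  have hGbot : ∀ η, η ∉ T → G η = ⊥ := by
    intro η hη
    have h1 : Disjoint (G η) (⨆ j, ⨆ (_ : j ≠ η), G j) := hG.submodule_iSupIndep η
    have h2 : (⨆ t ∈ T, G t) ≤ ⨆ j, ⨆ (_ : j ≠ η), G j := by
      refine iSup₂_le fun t ht => ?_
      have hne : t ≠ η := fun h => hη (h ▸ ht)
      exact le_iSup₂_of_le t hne le_rfl
    rw [hT', top_le_iff] at h2
    rw [h2] at h1
    exact disjoint_top.1 h1
  set ι := LinearMap.single R M a with hι
  set π : (∀ a, M a) →ₗ[R] M a := LinearMap.proj a with hπ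
  have hπι : ∀ x, π (ι x) = x := by
    intro x; simp [hι, hπ]
  -- F1
  have F1 : ∀ γ x, ι x ∈ Submodule.pi Set.univ (fun b => F b γ) ↔ x ∈ F a γ :=
    fun γ x => single_mem_pi_iff M F a γ x
  have F2 : ∀ γ, Submodule.pi Set.univ (fun b => F b γ) ≤ (F a γ).comap π := by
    intro γ y hy
    exact (Submodule.mem_pi.1 hy) a (Set.mem_univ _)
  have hGle : ∀ γ, G γ ≤ Submodule.pi Set.univ (fun b => F b γ) := by
    intro γ
    rw [hform γ]
    exact le_iSup₂_of_le γ (Set.mem_Ici.2 le_rfl) le_rfl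
  let q : Γ → (M a →ₗ[R] M a) := fun γ => π ∘ₗ proj G hG γ ∘ₗ ι
  have hq : ∀ γ x, q γ x = π (proj G hG γ (ι x)) := fun γ x => rfl
  have F3 : ∀ γ x, x ∈ F a γ → q γ x ∈ F a γ := by
    intro γ x _
    rw [hq]
    exact F2 γ (hGle γ (proj_mem G hG γ _))
  have F4 : ∀ γ x, x ∈ F a γ → x - q γ x ∈ ⨆ η ∈ Set.Ioi γ, F a η := by
    intro γ x hx
    have h1 : ι x ∈ ⨆ η ∈ Set.Ici γ, G η := by
      rw [← hform γ]; exact (F1 γ x).2 hx
    have h2 : (⨆ η ∈ Set.Ici γ, G η) ≤
        (⨆ η ∈ Set.Ioi γ, G η).comap (LinearMap.id - proj G hG γ) := by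
      refine iSup₂_le fun η hη y hy => ?_
      rw [Submodule.mem_comap, LinearMap.sub_apply, LinearMap.id_apply]
      rcases eq_or_lt_of_le (Set.mem_Ici.1 hη) with h | h
      · subst h
        rw [proj_same G hG hy, sub_self]
        exact Submodule.zero_mem _
      · rw [proj_ne G hG (ne_of_gt h) hy, sub_zero]
        exact Submodule.mem_iSup_of_mem η (Submodule.mem_iSup_of_mem h hy)
    have h3 : (⨆ η ∈ Set.Ioi γ, G η) ≤ (⨆ η ∈ Set.Ioi γ, F a η).comap π := by
      refine iSup₂_le fun η hη y hy => ?_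
      rw [Submodule.mem_comap]
      exact Submodule.mem_iSup_of_mem η (Submodule.mem_iSup_of_mem hη (F2 η (hGle η hy)))
    have h4 := h3 (h2 h1)
    rw [Submodule.mem_comap, LinearMap.sub_apply, LinearMap.id_apply, map_sub, hπι] at h4
    exact h4
  have F5 : ∀ γ, (⨆ η ∈ Set.Ioi γ, F a η) ≤ LinearMap.ker (q γ) := by
    intro γ
    refine iSup₂_le fun η hη x hx => ?_
    rw [LinearMap.mem_ker, hq]
    have h1 : ι x ∈ ⨆ θ ∈ Set.Ici η, G θ := by
      rw [← hform η]; exact (F1 η x).2 hx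
    have h2 : (⨆ θ ∈ Set.Ici η, G θ) ≤ LinearMap.ker (proj G hG γ) := by
      refine iSup₂_le fun θ hθ y hy => ?_
      rw [LinearMap.mem_ker]
      have hlt : γ < θ := lt_of_lt_of_le hη hθ
      exact proj_ne G hG (ne_of_gt hlt) hy
    have h3 := h2 h1
    rw [LinearMap.mem_ker] at h3
    rw [h3, map_zero]
  -- step property
  have hpi_eq : ∀ γ t, Submodule.pi Set.univ (fun b => F b γ) =
      Submodule.pi Set.univ (fun b => F b t) → F a γ = F a t := by
    intro γ t h
    ext x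
    rw [← F1 γ x, ← F1 t x, h]
  have hstep : ∀ γ, F a γ = ⊥ ∨ ∃ t ∈ T, γ ≤ t ∧ F a γ = F a t := by
    intro γ
    by_cases hex : ∃ t ∈ T, γ ≤ t
    · right
      have hS : (T.filter (fun x => γ ≤ x)).Nonempty := by
        obtain ⟨t, ht, hγt⟩ := hex
        exact ⟨t, by simp [ht, hγt]⟩
      set t0 := (T.filter (fun x => γ ≤ x)).min' hS with ht0
      have ht0mem : t0 ∈ T.filter (fun x => γ ≤ x) := Finset.min'_mem _ _
      rw [Finset.mem_filter] at ht0mem
      refine ⟨t0, ht0mem.1, ht0mem.2, hpi_eq γ t0 ?_⟩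
      rw [hform γ, hform t0]
      apply le_antisymm
      · refine iSup₂_le fun η hη => ?_
        by_cases hηT : η ∈ T
        · have : η ∈ T.filter (fun x => γ ≤ x) := by simp [hηT, Set.mem_Ici.1 hη]
          exact le_iSup₂_of_le η (Set.mem_Ici.2 (Finset.min'_le _ _ this)) le_rfl
        · rw [hGbot η hηT]; exact bot_le
      · exact biSup_mono fun θ hθ => le_trans ht0mem.2 hθ
    · left
      push Not at hex
      have h1 : Submodule.pi Set.univ (fun b => F b γ) = ⊥ := by
        rw [hform γ, eq_bot_iff]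
        refine iSup₂_le fun η hη => ?_
        have : η ∉ T := fun h => absurd (Set.mem_Ici.1 hη) (not_le.2 (hex η h))
        rw [hGbot η this]
      rw [eq_bot_iff]
      intro x hx
      have h2 := (F1 γ x).2 hx
      rw [h1, Submodule.mem_bot] at h2
      rw [Submodule.mem_bot, ← hπι x, h2, map_zero]
  have htop : ∃ γ0, F a γ0 = ⊤ := by
    obtain ⟨γ0, hγ0⟩ : ∃ γ0, ∀ t ∈ T, γ0 ≤ t := by
      by_cases hTne : T.Nonempty
      · exact ⟨T.min' hTne, fun t ht => Finset.min'_le _ _ ht⟩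
      · obtain ⟨γ0⟩ := ‹Nonempty Γ›
        refine ⟨γ0, fun t ht => absurd ⟨t, ht⟩ hTne⟩
    refine ⟨γ0, ?_⟩
    have h1 : Submodule.pi Set.univ (fun b => F b γ0) = ⊤ := by
      rw [hform γ0, eq_top_iff, ← hT']
      exact iSup₂_le fun t ht => le_iSup₂_of_le t (Set.mem_Ici.2 (hγ0 t ht)) le_rfl
    rw [eq_top_iff]
    intro x _
    rw [← F1 γ0 x, h1]
    exact Submodule.mem_top
  refine ⟨fun γ => (F a γ).map (q γ), ?_⟩
  apply isInternal_of_filtration (F a) _ (hF a) T hstep htop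
  · intro γ y hy
    obtain ⟨x, hx, rfl⟩ := Submodule.mem_map.1 hy
    exact F3 γ x hx
  · intro γ x hx
    have : x = q γ x + (x - q γ x) := by abel
    rw [this]
    exact Submodule.add_mem_sup (Submodule.mem_map_of_mem hx) (F4 γ x hx)
  · intro γ
    rw [Submodule.disjoint_def]
    intro y hy hy'
    obtain ⟨x, hx, rfl⟩ := Submodule.mem_map.1 hy
    have h1 : q γ (q γ x) = 0 := LinearMap.mem_ker.1 (F5 γ hy')
    have h2 : q γ (x - q γ x) = 0 := LinearMap.mem_ker.1 (F5 γ (F4 γ x hx))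
    rw [map_sub, h1, sub_zero] at h2
    exact h2

omit [Nonempty Γ] in
theorem backward
    (Ga : ∀ a, Γ → Submodule R (M a)) (hGa : ∀ a, DirectSum.IsInternal (Ga a))
    (hform : ∀ a γ, F a γ = ⨆ η ∈ Set.Ici γ, Ga a η) :
    ∃ G : Γ → Submodule R (∀ a, M a), DirectSum.IsInternal G ∧
      ∀ γ, Submodule.pi Set.univ (fun a => F a γ) = ⨆ η ∈ Set.Ici γ, G η := by
  classical
  set G : Γ → Submodule R (∀ a, M a) := fun γ => Submodule.pi Set.univ (fun a => Ga a γ) with hGdef
  have hsingle : ∀ a γ, Ga a γ ≤ (G γ).comap (LinearMap.single R M a) := by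
    intro a γ x hx
    rw [Submodule.mem_comap]
    exact (single_mem_pi_iff M Ga a γ x).2 hx
  have hproj : ∀ a γ, G γ ≤ (Ga a γ).comap (LinearMap.proj a) := by
    intro a γ y hy
    exact (Submodule.mem_pi.1 hy) a (Set.mem_univ _)
  refine ⟨G, ?_, ?_⟩
  · apply DirectSum.isInternal_submodule_of_iSupIndep_of_iSup_eq_top
    · intro γ
      rw [Submodule.disjoint_def]
      intro x hx hx'
      funext a
      have h1 : x a ∈ Ga a γ := hproj a γ hx
      have h2 : (⨆ j, ⨆ (_ : j ≠ γ), G j) ≤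
          (⨆ j, ⨆ (_ : j ≠ γ), Ga a j).comap (LinearMap.proj a) := by
        refine iSup₂_le fun η hη y hy => ?_
        rw [Submodule.mem_comap]
        exact Submodule.mem_iSup_of_mem η (Submodule.mem_iSup_of_mem hη (hproj a η hy))
      have h3 : x a ∈ ⨆ j, ⨆ (_ : j ≠ γ), Ga a j := h2 hx'
      exact Submodule.disjoint_def.1 ((hGa a).submodule_iSupIndep γ) _ h1 h3
    · rw [eq_top_iff]
      intro x _
      rw [← Finset.univ_sum_single x]
      apply Submodule.sum_mem
      intro a _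
      have h1 : x a ∈ ⨆ γ, Ga a γ := by
        rw [(hGa a).submodule_iSup_eq_top]; exact Submodule.mem_top
      have h2 : (⨆ γ, Ga a γ) ≤ (⨆ γ, G γ).comap (LinearMap.single R M a) := by
        refine iSup_le fun γ y hy => ?_
        rw [Submodule.mem_comap]
        exact Submodule.mem_iSup_of_mem γ (hsingle a γ hy)
      exact h2 h1
  · intro γ
    apply le_antisymm
    · intro x hx
      rw [← Finset.univ_sum_single x]
      apply Submodule.sum_mem
      intro a _
      have h1 : x a ∈ ⨆ η ∈ Set.Ici γ, Ga a η := by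
        rw [← hform a γ]; exact (Submodule.mem_pi.1 hx) a (Set.mem_univ _)
      have h2 : (⨆ η ∈ Set.Ici γ, Ga a η) ≤
          (⨆ η ∈ Set.Ici γ, G η).comap (LinearMap.single R M a) := by
        refine iSup₂_le fun η hη y hy => ?_
        rw [Submodule.mem_comap]
        exact Submodule.mem_iSup_of_mem η (Submodule.mem_iSup_of_mem hη (hsingle a η hy))
      exact h2 h1
    · refine iSup₂_le fun η hη => ?_
      apply Submodule.pi_mono
      intro a _
      rw [hform a γ]
      exact le_iSup₂_of_le η hη le_rfl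

end Pi

end Groth.Agent.Lib.Helper5.FiltSplit
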