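import Mathlib

open CategoryTheory CategoryTheory.Limits

namespace Groth.Agent.Lib.Helper5.FinGenCat

universe v u

variable {I : Type u} [Category.{v} I] (gen : Finset (Σ x y : I, x ⟶ y))

/-- the generators as a type -/
abbrev Gen : Type (max u v) := {a : Σ x y : I, x ⟶ y // a ∈ gen}

/-- shape: generators on the left, objects on the right -/
def shape : MultispanShape.{max u v, u} where
  L := Gen gen
  R := I
  fst := fun a => a.1.1
  snd := fun a => a.1.2.1

/-- the index -/
def index : MultispanIndex (shape gen) I where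
  left := fun a => a.1.1
  right := fun x => x
  fst := fun a => 𝟙 a.1.1
  snd := fun a => a.1.2.2

/-- the finite category -/
abbrev J := WalkingMultispan (shape gen)

/-- the functor -/
def F : J gen ⥤ I := (index gen).multispan

@[simp] lemma F_obj_right (x : I) : (F gen).obj (WalkingMultispan.right x) = x := rfl
@[simp] lemma F_obj_left (a : Gen gen) : (F gen).obj (WalkingMultispan.left a) = a.1.1 := rfl
@[simp] lemma F_map_fst (a : Gen gen) :
    (F gen).map (WalkingMultispan.Hom.fst a) = 𝟙 a.1.1 := rfl
@[simp] lemma F_map_snd (a : Gen gen) :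
    (F gen).map (WalkingMultispan.Hom.snd a) = a.1.2.2 := rfl

variable (hgen : ∀ P : MorphismProperty I, P.IsMultiplicative → (∀ a ∈ gen, P a.2.2) → P = ⊤)

include hgen in
theorem final : (F gen).Final := by
  constructor
  intro d
  let mkR : ∀ (x : I), (d ⟶ x) → StructuredArrow d (F gen) := fun x u =>
    StructuredArrow.mk (Y := (WalkingMultispan.right (J := shape gen) x : J gen))
      (show d ⟶ (F gen).obj (WalkingMultispan.right (J := shape gen) x) from u)
  let mkL : ∀ (a : Gen gen), (d ⟶ a.1.1) → StructuredArrow d (F gen) := fun a u =>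
    StructuredArrow.mk (Y := (WalkingMultispan.left (J := shape gen) a : J gen))
      (show d ⟶ (F gen).obj (WalkingMultispan.left (J := shape gen) a) from u)
  have : Nonempty (StructuredArrow d (F gen)) := ⟨mkR d (𝟙 d)⟩
  let P : MorphismProperty I := fun x y h => ∀ (u : d ⟶ x), Zigzag (mkR x u) (mkR y (u ≫ h))
  have hPmul : P.IsMultiplicative :=
    { id_mem := fun x u => by rw [Category.comp_id]
      comp_mem := fun f g hf hg u => by
        rw [← Category.assoc]
        exact (hf u).trans (hg (u ≫ f)) }
  have hPgen : ∀ a ∈ gen, P a.2.2 := by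
    intro a ha u
    apply Zigzag.of_inv_hom (j₂ := mkL ⟨a, ha⟩ u)
    · exact StructuredArrow.homMk (WalkingMultispan.Hom.fst (J := shape gen) ⟨a, ha⟩)
        (show u ≫ 𝟙 a.1 = u from Category.comp_id u)
    · exact StructuredArrow.homMk (WalkingMultispan.Hom.snd (J := shape gen) ⟨a, ha⟩)
        (show u ≫ a.2.2 = u ≫ a.2.2 from rfl)
  have hP := hgen P hPmul hPgen
  have hR : ∀ (x : I) (f : d ⟶ x), Zigzag (mkR d (𝟙 d)) (mkR x f) := by
    intro x f
    have h1 : P f := by rw [hP]; trivial
    have h2 := h1 (𝟙 d)
    rwa [Category.id_comp] at h2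
  have key : ∀ X : StructuredArrow d (F gen), Zigzag (mkR d (𝟙 d)) X := by
    intro X
    obtain ⟨j, f, rfl⟩ := StructuredArrow.mk_surjective X
    cases j with
    | right x => exact hR x f
    | left a =>
      refine (hR a.1.1 f).trans (Zigzag.of_inv ?_)
      exact StructuredArrow.homMk (WalkingMultispan.Hom.fst (J := shape gen) a)
        (show f ≫ 𝟙 a.1.1 = f from Category.comp_id f)
  apply zigzag_isConnected
  intro X Y
  exact (key X).symm.trans (key Y)

include hgen in
theorem initial : (F gen).Initial := by
  constructor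
  intro d
  let mkR : ∀ (x : I), (x ⟶ d) → CostructuredArrow (F gen) d := fun x u =>
    CostructuredArrow.mk (Y := (WalkingMultispan.right (J := shape gen) x : J gen))
      (show (F gen).obj (WalkingMultispan.right (J := shape gen) x) ⟶ d from u)
  let mkL : ∀ (a : Gen gen), (a.1.1 ⟶ d) → CostructuredArrow (F gen) d := fun a u =>
    CostructuredArrow.mk (Y := (WalkingMultispan.left (J := shape gen) a : J gen))
      (show (F gen).obj (WalkingMultispan.left (J := shape gen) a) ⟶ d from u)
  have : Nonempty (CostructuredArrow (F gen) d) := ⟨mkR d (𝟙 d)⟩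
  let P : MorphismProperty I := fun x y h => ∀ (u : y ⟶ d), Zigzag (mkR y u) (mkR x (h ≫ u))
  have hPmul : P.IsMultiplicative :=
    { id_mem := fun x u => by rw [Category.id_comp]
      comp_mem := fun f g hf hg u => by
        rw [Category.assoc]
        exact (hg u).trans (hf (g ≫ u)) }
  have hPgen : ∀ a ∈ gen, P a.2.2 := by
    intro a ha u
    apply Zigzag.of_inv_hom (j₂ := mkL ⟨a, ha⟩ (a.2.2 ≫ u))
    · exact CostructuredArrow.homMk (WalkingMultispan.Hom.snd (J := shape gen) ⟨a, ha⟩)
        (show a.2.2 ≫ u = a.2.2 ≫ u from rfl)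
    · exact CostructuredArrow.homMk (WalkingMultispan.Hom.fst (J := shape gen) ⟨a, ha⟩)
        (show 𝟙 a.1 ≫ (a.2.2 ≫ u) = a.2.2 ≫ u from Category.id_comp _)
  have hP := hgen P hPmul hPgen
  have hR : ∀ (x : I) (f : x ⟶ d), Zigzag (mkR d (𝟙 d)) (mkR x f) := by
    intro x f
    have h1 : P f := by rw [hP]; trivial
    have h2 := h1 (𝟙 d)
    rwa [Category.comp_id] at h2
  have key : ∀ X : CostructuredArrow (F gen) d, Zigzag (mkR d (𝟙 d)) X := by
    intro X
    obtain ⟨j, f, rfl⟩ := CostructuredArrow.mk_surjective X
    cases j with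
    | right x => exact hR x f
    | left a =>
      refine (hR a.1.1 f).trans (Zigzag.of_inv ?_)
      exact CostructuredArrow.homMk (WalkingMultispan.Hom.fst (J := shape gen) a)
        (show 𝟙 a.1.1 ≫ f = f from Category.id_comp f)
  apply zigzag_isConnected
  intro X Y
  exact (key X).symm.trans (key Y)

include hgen in
theorem main [Finite I] :
    ∃ (J' : Type) (_ : SmallCategory J') (_ : FinCategory J') (F' : J' ⥤ I),
      F'.Final ∧ F'.Initial ∧ (IsConnected J' ↔ IsConnected I) ∧ (Nonempty J' ↔ Nonempty I) := by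
  classical
  letI : Fintype I := Fintype.ofFinite I
  letI : Fintype (shape gen).L := (inferInstance : Fintype (Gen gen))
  letI : Fintype (shape gen).R := (inferInstance : Fintype I)
  have hfin := final gen hgen
  have hini := initial gen hgen
  let E := FinCategory.equivAsType (J gen)
  have h1 : (E.functor ⋙ F gen).Final := inferInstance
  have h2 : (E.functor ⋙ F gen).Initial := inferInstance
  refine ⟨FinCategory.AsType (J gen), inferInstance, inferInstance, E.functor ⋙ F gen,
    h1, h2, Functor.isConnected_iff_of_final (E.functor ⋙ F gen), ?_⟩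
  constructor
  · rintro ⟨j⟩
    exact ⟨(E.functor ⋙ F gen).obj j⟩
  · rintro ⟨i⟩
    exact ⟨E.inverse.obj (WalkingMultispan.right (J := shape gen) i)⟩

end Groth.Agent.Lib.Helper5.FinGenCat
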