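import Mathlib

/-!
# Corepresenting sections over the formal disc (helper5)

For a `k⟦z⟧`-algebra `R`, the functor `Q ↦ Hom_{k⟦z⟧}(R, Q⟦z⟧)` on `k`-algebras is corepresented
by the `k`-algebra with generators `[r, ν]` (`r ∈ R`, `ν` a multi-index) and the relations making
`r ↦ ∑ [r, ν] z^ν` a `k⟦z⟧`-algebra homomorphism.
-/

open Finset MvPolynomial

universe u

namespace Groth.Agent.Helper5.FormalSec

variable (k : Type u) [Field k] (σ : Type) [DecidableEq σ]
  (R : Type u) [CommRing R] [Algebra (MvPowerSeries σ k) R]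

/-- the free polynomial algebra on the symbols `[r, ν]` -/
abbrev Fr : Type u := MvPolynomial (R × (σ →₀ ℕ)) k

/-- the relations -/
def rel : Set (Fr k σ R) :=
  {p | ∃ (r r' : R) (ν : σ →₀ ℕ), p = X (r + r', ν) - X (r, ν) - X (r', ν)} ∪
  {p | ∃ (r r' : R) (ν : σ →₀ ℕ), p = X (r * r', ν) -
      ∑ x ∈ Finset.HasAntidiagonal.antidiagonal ν, X (r, x.1) * X (r', x.2)} ∪
  {p | ∃ (φ : MvPowerSeries σ k) (ν : σ →₀ ℕ),
      p = X (algebraMap (MvPowerSeries σ k) R φ, ν) - C (MvPowerSeries.coeff ν φ)}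

/-- the corepresenting algebra -/
abbrev P : Type u := Fr k σ R ⧸ Ideal.span (rel k σ R)

/-- the generator `[r, ν]` -/
noncomputable def gen (r : R) (ν : σ →₀ ℕ) : P k σ R :=
  Ideal.Quotient.mk _ (X (r, ν))

theorem gen_add (r r' : R) (ν : σ →₀ ℕ) :
    gen k σ R (r + r') ν = gen k σ R r ν + gen k σ R r' ν := by
  unfold gen
  rw [← map_add, ← sub_eq_zero, ← map_sub, Ideal.Quotient.eq_zero_iff_mem]
  refine Ideal.subset_span (Or.inl (Or.inl ⟨r, r', ν, ?_⟩))
  ring

theorem gen_mul (r r' : R) (ν : σ →₀ ℕ) :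
    gen k σ R (r * r') ν =
      ∑ x ∈ Finset.HasAntidiagonal.antidiagonal ν, gen k σ R r x.1 * gen k σ R r' x.2 := by
  unfold gen
  simp_rw [← map_mul]
  rw [← map_sum, ← sub_eq_zero, ← map_sub, Ideal.Quotient.eq_zero_iff_mem]
  exact Ideal.subset_span (Or.inl (Or.inr ⟨r, r', ν, rfl⟩))

theorem gen_algebraMap (φ : MvPowerSeries σ k) (ν : σ →₀ ℕ) :
    gen k σ R (algebraMap (MvPowerSeries σ k) R φ) ν =
      algebraMap k (P k σ R) (MvPowerSeries.coeff ν φ) := by
  unfold gen
  have : algebraMap k (P k σ R) (MvPowerSeries.coeff ν φ) =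
      Ideal.Quotient.mk (Ideal.span (rel k σ R)) (C (MvPowerSeries.coeff ν φ)) := rfl
  rw [this, ← sub_eq_zero, ← map_sub, Ideal.Quotient.eq_zero_iff_mem]
  exact Ideal.subset_span (Or.inr ⟨φ, ν, rfl⟩)

/-- the universal section, as a function -/
noncomputable def uFun (r : R) : MvPowerSeries σ (P k σ R) := fun ν => gen k σ R r ν

theorem coeff_uFun (r : R) (ν : σ →₀ ℕ) :
    MvPowerSeries.coeff ν (uFun k σ R r) = gen k σ R r ν := rfl

theorem uFun_algebraMap (φ : MvPowerSeries σ k) :
    uFun k σ R (algebraMap (MvPowerSeries σ k) R φ) =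
      algebraMap (MvPowerSeries σ k) (MvPowerSeries σ (P k σ R)) φ := by
  ext ν
  rw [coeff_uFun, gen_algebraMap, MvPowerSeries.algebraMap_apply'', MvPowerSeries.coeff_map]

/-- the universal section -/
noncomputable def u : R →ₐ[MvPowerSeries σ k] MvPowerSeries σ (P k σ R) where
  toFun := uFun k σ R
  map_one' := by
    have := uFun_algebraMap k σ R 1
    rwa [map_one, map_one] at this
  map_mul' r r' := by
    ext ν
    rw [coeff_uFun, gen_mul, MvPowerSeries.coeff_mul]
    rfl
  map_zero' := by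
    have := uFun_algebraMap k σ R 0
    rwa [map_zero, map_zero] at this
  map_add' r r' := by
    ext ν
    rw [map_add, coeff_uFun, gen_add]
    rfl
  commutes' φ := uFun_algebraMap k σ R φ

theorem coeff_u (r : R) (ν : σ →₀ ℕ) :
    MvPowerSeries.coeff ν (u k σ R r) = gen k σ R r ν := rfl

variable {k σ R}

/-- the classifying map of a section -/
noncomputable def classify {Q : Type u} [CommRing Q] [Algebra k Q]
    (f : R →ₐ[MvPowerSeries σ k] MvPowerSeries σ Q) : P k σ R →ₐ[k] Q :=
  Ideal.Quotient.liftₐ (Ideal.span (rel k σ R))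
    (MvPolynomial.aeval (fun x : R × (σ →₀ ℕ) => MvPowerSeries.coeff x.2 (f x.1))) (by
      intro p hp
      induction hp using Submodule.span_induction with
      | mem p hp =>
        rcases hp with (⟨r, r', ν, rfl⟩ | ⟨r, r', ν, rfl⟩) | ⟨φ, ν, rfl⟩
        · simp only [map_sub, aeval_X, map_add]
          ring
        · simp only [map_sub, aeval_X, map_sum, map_mul, MvPowerSeries.coeff_mul]
          ring
        · simp only [map_sub, aeval_X, aeval_C, AlgHom.commutes,
            MvPowerSeries.algebraMap_apply'', MvPowerSeries.coeff_map]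
          ring
      | zero => exact map_zero _
      | add p p' _ _ h1 h2 => rw [map_add, h1, h2, add_zero]
      | smul a p _ h => rw [smul_eq_mul, map_mul, h, mul_zero])

theorem classify_gen {Q : Type u} [CommRing Q] [Algebra k Q]
    (f : R →ₐ[MvPowerSeries σ k] MvPowerSeries σ Q) (r : R) (ν : σ →₀ ℕ) :
    classify f (gen k σ R r ν) = MvPowerSeries.coeff ν (f r) := by
  unfold classify gen
  rw [← Ideal.Quotient.mkₐ_eq_mk k, Ideal.Quotient.liftₐ_apply, Ideal.Quotient.mkₐ_eq_mk,
    Ideal.Quotient.lift_mk]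
  simp

theorem algHom_ext_gen {Q : Type u} [CommRing Q] [Algebra k Q] {g g' : P k σ R →ₐ[k] Q}
    (h : ∀ r ν, g (gen k σ R r ν) = g' (gen k σ R r ν)) : g = g' := by
  apply Ideal.Quotient.algHom_ext
  apply MvPolynomial.algHom_ext
  rintro ⟨r, ν⟩
  exact h r ν

theorem mk_mem_adjoin (T : Subalgebra k (P k σ R)) (h : ∀ r ν, gen k σ R r ν ∈ T)
    (p : Fr k σ R) : Ideal.Quotient.mk (Ideal.span (rel k σ R)) p ∈ T := by
  induction p using MvPolynomial.induction_on with
  | C a => exact T.algebraMap_mem a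
  | add p p' hp hp' => rw [map_add]; exact add_mem hp hp'
  | mul_X p x hp =>
    rw [map_mul]
    exact mul_mem hp (h x.1 x.2)

end Groth.Agent.Helper5.FormalSec
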