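import Mathlib

universe u

namespace Helper5.FrobPow

theorem main (p : ℕ) [Fact p.Prime] (k : Type u) [Field k] [IsAlgClosed k] [CharP k p]
    (A : Type u) [CommRing A] [Algebra k A] [Algebra.FiniteType k A] [Nontrivial A]
    (hconn : ∀ e : A, IsIdempotentElem e → e = 0 ∨ e = 1)
    (x : A) (hx : ∀ n : ℕ, ∃ a : A, a ^ p ^ n = x) :
    x ∈ (algebraMap k A).range := by
  have hp : p.Prime := Fact.out
  have : CharP A p := charP_of_injective_algebraMap (algebraMap k A).injective p
  have : IsNoetherianRing A := Algebra.FiniteType.isNoetherianRing k A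
  -- Step A: a maximal ideal and the value of x there
  obtain ⟨m, hm⟩ := Ideal.exists_maximal A
  let _ : Field (A ⧸ m) := Ideal.Quotient.field m
  have : Algebra.FiniteType k (A ⧸ m) :=
    Algebra.FiniteType.of_surjective (Ideal.Quotient.mkₐ k m) Ideal.Quotient.mk_surjective
  have : Module.Finite k (A ⧸ m) := finite_of_finite_type_of_isJacobsonRing k (A ⧸ m)
  have : Algebra.IsIntegral k (A ⧸ m) := Algebra.IsIntegral.of_finite k (A ⧸ m)
  obtain ⟨c, hc⟩ := (IsAlgClosed.algebraMap_bijective_of_isIntegral (k := k) (K := A ⧸ m)).2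
    (Ideal.Quotient.mk m x)
  have hym : x - algebraMap k A c ∈ m := by
    rw [← Ideal.Quotient.eq]
    rw [← hc]
    rfl
  -- Step B
  set y := x - algebraMap k A c with hy
  have hyp : ∀ n : ℕ, ∃ b : A, b ^ p ^ n = y := by
    intro n
    obtain ⟨a, ha⟩ := hx n
    obtain ⟨d, hd⟩ := IsAlgClosed.exists_pow_nat_eq c (pow_pos hp.pos n)
    refine ⟨a - algebraMap k A d, ?_⟩
    rw [sub_pow_char_pow, ha, ← map_pow, hd]
  -- Step C
  have hloc : ∀ q : Ideal A, q.IsPrime → y ∈ q → ∃ s : A, s ∉ q ∧ s * y = 0 := by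
    intro q hq hyq
    have h0 : algebraMap A (Localization.AtPrime q) y = 0 := by
      have hbot := Ideal.iInf_pow_eq_bot_of_isLocalRing
        (IsLocalRing.maximalIdeal (Localization.AtPrime q)) (Ideal.IsPrime.ne_top inferInstance)
      have hmem : algebraMap A (Localization.AtPrime q) y ∈
          ⨅ i : ℕ, IsLocalRing.maximalIdeal (Localization.AtPrime q) ^ i := by
        rw [Ideal.mem_iInf]
        intro N
        obtain ⟨b, hb⟩ := hyp N
        have hbq : b ∈ q := by
          have : b ^ p ^ N ∈ q := by rw [hb]; exact hyq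
          exact hq.mem_of_pow_mem _ this
        have hbm : algebraMap A (Localization.AtPrime q) b ∈
            IsLocalRing.maximalIdeal (Localization.AtPrime q) :=
          (IsLocalization.AtPrime.to_map_mem_maximal_iff _ q b).2 hbq
        have hle : N ≤ p ^ N := (Nat.lt_pow_self hp.one_lt).le
        rw [← hb, map_pow]
        exact Ideal.pow_le_pow_right hle (Ideal.pow_mem_pow hbm _)
      rw [hbot] at hmem
      exact hmem
    rw [IsLocalization.map_eq_zero_iff q.primeCompl] at h0
    obtain ⟨s, hs⟩ := h0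
    exact ⟨s.1, s.2, hs⟩
  -- Step D
  have htop : (Ideal.span {y} : Ideal A) ⊔ (LinearMap.ker (LinearMap.toSpanSingleton A A y)) = ⊤ := by
    by_contra hne
    obtain ⟨M, hM, hle⟩ := Ideal.exists_le_maximal _ hne
    have hyM : y ∈ M := hle (Ideal.mem_sup_left (Ideal.subset_span rfl))
    obtain ⟨s, hsM, hsy⟩ := hloc M hM.isPrime hyM
    apply hsM
    apply hle
    apply Ideal.mem_sup_right
    rw [LinearMap.mem_ker, LinearMap.toSpanSingleton_apply, smul_eq_mul, hsy]
  have h1 : (1 : A) ∈ (Ideal.span {y} : Ideal A) ⊔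
      (LinearMap.ker (LinearMap.toSpanSingleton A A y)) := by rw [htop]; trivial
  rw [Submodule.mem_sup] at h1
  obtain ⟨u, hu, s, hs, hus⟩ := h1
  rw [Ideal.mem_span_singleton'] at hu
  obtain ⟨r, rfl⟩ := hu
  rw [LinearMap.mem_ker, LinearMap.toSpanSingleton_apply, smul_eq_mul] at hs
  -- Step E
  have hidem : IsIdempotentElem (r * y) := by
    unfold IsIdempotentElem
    have : r * y * (r * y) = r * y * (r * y + s) - r * (s * y) := by ring
    rw [this, hus, hs]
    ring
  have hy0 : y = 0 := by
    rcases hconn _ hidem with h | h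
    · have : y = y * (r * y + s) := by rw [hus, mul_one]
      rw [this, h, zero_add, mul_comm, hs]
    · exfalso
      apply hm.ne_top
      rw [Ideal.eq_top_iff_one, ← h]
      exact m.mul_mem_left r hym
  refine ⟨c, ?_⟩
  have : x = y + algebraMap k A c := by rw [hy]; ring
  rw [this, hy0, zero_add]

end Helper5.FrobPow
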