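import Mathlib

/-! Differentials of a field extension `K/k` in characteristic `p`: the subfield `kK^p`,
the kernel of `d`, separating variables. -/

set_option autoImplicit false
set_option linter.style.haveILetI false
set_option linter.unusedSectionVars false
universe u v

namespace Groth.Agent.Helper5.FunFldDiff

open scoped IntermediateField

variable (k : Type u) (K : Type v) [Field k] [Field K] [Algebra k K]

/-- The kernel of `d : K → Ω[K/k]` as an intermediate field. -/
noncomputable def V : IntermediateField k K where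
  carrier := {y | KaehlerDifferential.D k K y = 0}
  mul_mem' := by
    intro a b ha hb
    simp only [Set.mem_ofPred_eq] at ha hb ⊢
    rw [Derivation.leibniz, ha, hb, smul_zero, smul_zero, add_zero]
  add_mem' := by
    intro a b ha hb
    simp only [Set.mem_ofPred_eq] at ha hb ⊢
    rw [map_add, ha, hb, add_zero]
  one_mem' := by simp
  zero_mem' := by simp
  algebraMap_mem' r := by
    simp only [Set.mem_ofPred_eq]
    exact Derivation.map_algebraMap _ r
  inv_mem' := by
    intro a ha
    simp only [Set.mem_ofPred_eq] at ha ⊢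
    rw [Derivation.leibniz_inv, ha, smul_zero]

variable {k K}

theorem mem_V {y : K} : y ∈ V k K ↔ KaehlerDifferential.D k K y = 0 := Iff.rfl

variable (k K) in
/-- `kK^p ≤ ker d`. -/
theorem adjoin_pow_le_V (p : ℕ) [CharP K p] :
    IntermediateField.adjoin k (Set.range fun y : K => y ^ p) ≤ V k K := by
  rw [IntermediateField.adjoin_le_iff]
  rintro _ ⟨y, rfl⟩
  change KaehlerDifferential.D k K (y ^ p) = 0
  rw [Derivation.leibniz_pow, ← Nat.cast_smul_eq_nsmul K, CharP.cast_eq_zero, zero_smul]

/-- If `ker d = K` then `Ω = 0`. -/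
theorem subsingleton_of_V_eq_top (h : V k K = ⊤) : Subsingleton (Ω[K⁄k]) := by
  have h0 : ∀ y : K, KaehlerDifferential.D k K y = 0 := fun y => by
    have : y ∈ V k K := by rw [h]; trivial
    exact this
  have : (⊤ : Submodule K (Ω[K⁄k])) = ⊥ := by
    rw [← KaehlerDifferential.span_range_derivation, Submodule.span_eq_bot]
    rintro _ ⟨y, rfl⟩
    exact h0 y
  exact (Submodule.subsingleton_iff K).mp (subsingleton_iff_bot_eq_top.mp this.symm)

/-- If `Ω[K/k]` is one-dimensional and `dx ≠ 0` then `K/k(x)` is separable. -/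
theorem isSeparable_of_D_ne_zero [Algebra.EssFiniteType k K]
    (h1 : Module.finrank K (Ω[K⁄k]) = 1) (x : K) (hx : KaehlerDifferential.D k K x ≠ 0) :
    Algebra.IsSeparable k⟮x⟯ K := by
  haveI : Algebra.EssFiniteType k⟮x⟯ K := Algebra.EssFiniteType.of_comp k k⟮x⟯ K
  haveI : Algebra.FormallyUnramified k⟮x⟯ K := by
    constructor
    refine ⟨fun a b => ?_⟩
    suffices h : ∀ w : Ω[K⁄k⟮x⟯], w = 0 by rw [h a, h b]
    intro w
    obtain ⟨w', rfl⟩ := KaehlerDifferential.map_surjective k k⟮x⟯ K w
    obtain ⟨c, rfl⟩ := (finrank_eq_one_iff_of_nonzero' _ hx).mp h1 w'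
    rw [map_smul, KaehlerDifferential.map_D]
    have : (algebraMap K K) x = algebraMap k⟮x⟯ K ⟨x, IntermediateField.mem_adjoin_simple_self k x⟩ := rfl
    rw [this, Derivation.map_algebraMap, smul_zero]
  exact Algebra.FormallyUnramified.isSeparable k⟮x⟯ K

variable (k K) in
/-- The subfield `kK^p`. -/
abbrev F (p : ℕ) : IntermediateField k K := IntermediateField.adjoin k (Set.range fun y : K => y ^ p)

theorem pow_mem_F (p : ℕ) (y : K) : y ^ p ∈ F k K p :=
  IntermediateField.subset_adjoin _ _ ⟨y, rfl⟩

/-- `K` is purely inseparable over any field containing `kK^p`. -/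
theorem isPurelyInseparable_of_F_le (p : ℕ) [Fact p.Prime] [CharP K p] (E : IntermediateField k K)
    (hE : F k K p ≤ E) : IsPurelyInseparable E K := by
  rw [isPurelyInseparable_iff_pow_mem E p]
  intro y
  exact ⟨1, ⟨⟨y ^ p, hE (pow_mem_F p y)⟩, by simp⟩⟩

/-- If `K/k(x)` is separable then `K = kK^p(x)`. -/
theorem adjoin_eq_top_of_isSeparable (p : ℕ) [Fact p.Prime] [CharP K p] (x : K)
    [Algebra.IsSeparable k⟮x⟯ K] :
    IntermediateField.adjoin k ((Set.range fun y : K => y ^ p) ∪ {x}) = ⊤ := by
  set E : IntermediateField k K := IntermediateField.adjoin k ((Set.range fun y : K => y ^ p) ∪ {x})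
    with hE
  have h1 : k⟮x⟯ ≤ E := IntermediateField.adjoin.mono _ _ _ Set.subset_union_right
  have h2 : F k K p ≤ E := IntermediateField.adjoin.mono _ _ _ Set.subset_union_left
  haveI := isPurelyInseparable_of_F_le p E h2
  letI : Algebra k⟮x⟯ E := (IntermediateField.inclusion h1).toRingHom.toAlgebra
  haveI : IsScalarTower k⟮x⟯ E K := IsScalarTower.of_algebraMap_eq (fun _ => rfl)
  haveI : Algebra.IsSeparable E K := Algebra.isSeparable_tower_top_of_isSeparable k⟮x⟯ E K
  rw [eq_top_iff]
  intro y _
  obtain ⟨z, hz⟩ := IsPurelyInseparable.surjective_algebraMap_of_isSeparable E K y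
  rw [← hz]
  exact z.2

/-- If `x ^ p` lies in a subfield but `x` does not, the minimal polynomial of `x` has degree `p`. -/
theorem natDegree_minpoly_of_pow_mem (p : ℕ) [hp : Fact p.Prime] [CharP K p]
    (F' : Type*) [Field F'] [Algebra F' K] (x : K)
    (hxp : x ^ p ∈ (algebraMap F' K).range) (hx : x ∉ (algebraMap F' K).range) :
    IsIntegral F' x ∧ (minpoly F' x).natDegree = p := by
  obtain ⟨a, ha⟩ := hxp
  have hirr : Irreducible (Polynomial.X ^ p - Polynomial.C a : Polynomial F') := by
    apply X_pow_sub_C_irreducible_of_prime hp.out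
    intro b hb
    apply hx
    refine ⟨b, ?_⟩
    have h : (algebraMap F' K b - x) ^ p = 0 := by
      rw [sub_pow_char, ← map_pow, hb, ha, sub_self]
    exact sub_eq_zero.mp ((pow_eq_zero_iff hp.out.ne_zero).mp h)
  have hmonic : (Polynomial.X ^ p - Polynomial.C a : Polynomial F').Monic :=
    Polynomial.monic_X_pow_sub_C a hp.out.ne_zero
  have haeval : Polynomial.aeval x (Polynomial.X ^ p - Polynomial.C a : Polynomial F') = 0 := by
    simp [ha]
  have hint : IsIntegral F' x := ⟨_, hmonic, haeval⟩
  refine ⟨hint, ?_⟩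
  rw [← minpoly.eq_of_irreducible_of_monic hirr haeval hmonic, Polynomial.natDegree_X_pow_sub_C]

section Main

variable [Algebra.EssFiniteType k K] (h1 : Module.finrank K (Ω[K⁄k]) = 1)
  (p : ℕ) [hp : Fact p.Prime] [CharP K p]

include h1

theorem V_ne_top : V k K ≠ ⊤ := by
  intro h
  haveI := subsingleton_of_V_eq_top h
  rw [Module.finrank_zero_of_subsingleton] at h1
  exact zero_ne_one h1

theorem exists_D_ne_zero : ∃ t : K, KaehlerDifferential.D k K t ≠ 0 := by
  by_contra h
  push Not at h
  apply V_ne_top h1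
  rw [eq_top_iff]
  intro y _
  exact h y

theorem F_ne_top : F k K p ≠ ⊤ := by
  intro h
  apply V_ne_top h1
  rw [eq_top_iff, ← h]
  exact adjoin_pow_le_V k K p

/-- If `x ∉ kK^p` then `kK^p(x) = K`... first for separating `x`. -/
theorem adjoin_simple_eq_top_of_D_ne_zero (t : K) (ht : KaehlerDifferential.D k K t ≠ 0) :
    (F k K p)⟮t⟯ = ⊤ := by
  haveI := isSeparable_of_D_ne_zero h1 t ht
  rw [← IntermediateField.restrictScalars_eq_top_iff (K := k), IntermediateField.adjoin_adjoin_left]
  exact adjoin_eq_top_of_isSeparable p t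

theorem finrank_F : Module.finrank (F k K p) K = p := by
  obtain ⟨t, ht⟩ := exists_D_ne_zero h1
  have htF : t ∉ F k K p := fun h => ht (adjoin_pow_le_V k K p h)
  have htop := adjoin_simple_eq_top_of_D_ne_zero h1 p t ht
  obtain ⟨hint, hdeg⟩ := natDegree_minpoly_of_pow_mem p (F k K p) t
    ⟨⟨t ^ p, pow_mem_F p t⟩, rfl⟩ (by rintro ⟨⟨z, hz⟩, rfl⟩; exact htF hz)
  rw [← IntermediateField.finrank_top', ← htop, IntermediateField.adjoin.finrank hint, hdeg]

theorem finiteDimensional_F : FiniteDimensional (F k K p) K :=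
  Module.finite_of_finrank_pos (by rw [finrank_F h1 p]; exact hp.out.pos)

theorem adjoin_simple_eq_top_of_not_mem (x : K) (hx : x ∉ F k K p) : (F k K p)⟮x⟯ = ⊤ := by
  haveI := finiteDimensional_F h1 p
  obtain ⟨hint, hdeg⟩ := natDegree_minpoly_of_pow_mem p (F k K p) x
    ⟨⟨x ^ p, pow_mem_F p x⟩, rfl⟩ (by rintro ⟨⟨z, hz⟩, rfl⟩; exact hx hz)
  apply IntermediateField.eq_of_le_of_finrank_eq le_top
  rw [IntermediateField.finrank_top', finrank_F h1 p, IntermediateField.adjoin.finrank hint, hdeg]

theorem mem_F_iff_D_eq_zero (x : K) : x ∈ F k K p ↔ KaehlerDifferential.D k K x = 0 := by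
  refine ⟨fun h => adjoin_pow_le_V k K p h, fun h => ?_⟩
  by_contra hx
  have htop := adjoin_simple_eq_top_of_not_mem h1 p x hx
  rw [← IntermediateField.restrictScalars_eq_top_iff (K := k),
    IntermediateField.adjoin_adjoin_left] at htop
  apply V_ne_top h1
  rw [eq_top_iff, ← htop, IntermediateField.adjoin_le_iff]
  rintro y (⟨z, rfl⟩ | rfl)
  · exact adjoin_pow_le_V k K p (pow_mem_F p z)
  · exact h

theorem mem_F_iff_not_isSeparable (x : K) :
    x ∈ F k K p ↔ ¬ Algebra.IsSeparable k⟮x⟯ K := by
  constructor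
  · intro hx hsep
    have := adjoin_eq_top_of_isSeparable (k := k) p x
    apply F_ne_top h1 p
    rw [eq_top_iff, ← this, IntermediateField.adjoin_le_iff]
    rintro y (⟨z, rfl⟩ | rfl)
    · exact pow_mem_F p z
    · exact hx
  · intro hns
    by_contra hx
    apply hns
    apply isSeparable_of_D_ne_zero h1
    rwa [Ne, ← mem_F_iff_D_eq_zero h1 p]

theorem purelyInseparable_degree_iff (K₀ : IntermediateField k K) :
    (IsPurelyInseparable K₀ K ∧ Module.finrank K₀ K = p) ↔ K₀ = F k K p := by
  constructor
  · rintro ⟨hpi, hdeg⟩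
    haveI : FiniteDimensional K₀ K :=
      Module.finite_of_finrank_pos (by rw [hdeg]; exact hp.out.pos)
    haveI := finiteDimensional_F h1 p
    have hle : F k K p ≤ K₀ := by
      rw [IntermediateField.adjoin_le_iff]
      rintro _ ⟨y, rfl⟩
      obtain ⟨n, c, hc⟩ := IsPurelyInseparable.minpoly_eq_X_pow_sub_C K₀ p y
      have hdvd : (minpoly K₀ y).natDegree ≤ p := by
        rw [← hdeg]; exact minpoly.natDegree_le y
      have haeval := minpoly.aeval K₀ y
      rw [hc] at haeval hdvd
      rw [Polynomial.natDegree_X_pow_sub_C] at hdvd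
      have hn : n = 0 ∨ n = 1 := by
        rcases n with _ | _ | n
        · left; rfl
        · right; rfl
        · exfalso
          have : p ^ 2 ≤ p ^ (n + 1 + 1) := Nat.pow_le_pow_right hp.out.pos (by omega)
          have h2 : p < p ^ 2 := by
            have := hp.out.two_le
            nlinarith
          omega
      simp only [map_sub, map_pow, Polynomial.aeval_X, Polynomial.aeval_C] at haeval
      rcases hn with rfl | rfl
      · rw [pow_zero, pow_one, sub_eq_zero] at haeval
        show y ^ p ∈ K₀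
        rw [haeval]
        exact pow_mem c.2 p
      · rw [pow_one, sub_eq_zero] at haeval
        show y ^ p ∈ K₀
        rw [haeval]
        exact c.2
    exact (IntermediateField.eq_of_le_of_finrank_eq' hle (by rw [finrank_F h1 p, hdeg])).symm
  · rintro rfl
    exact ⟨isPurelyInseparable_of_F_le p _ le_rfl, finrank_F h1 p⟩

end Main

end Groth.Agent.Helper5.FunFldDiff
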