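import Mathlib

namespace Groth.Agent.Helper5.GL2Fix

open Matrix

/-- a finite-order integer 2×2 matrix with det 1 and a nonzero fixed vector is the identity -/
lemma eq_one_of_det_one (M : Matrix (Fin 2) (Fin 2) ℤ) (hdet : M.det = 1)
    (n : ℕ) (hn : 0 < n) (hMn : M ^ n = 1)
    (v : Fin 2 → ℤ) (hv : v ≠ 0) (hfix : M *ᵥ v = v) : M = 1 := by
  have h0 : (M - 1).det = 0 := by
    rw [← Matrix.exists_mulVec_eq_zero_iff]
    refine ⟨v, hv, ?_⟩
    rw [Matrix.sub_mulVec, hfix, Matrix.one_mulVec, sub_self]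
  rw [Matrix.det_fin_two] at h0 hdet
  simp only [Matrix.sub_apply, Matrix.one_apply_eq, Matrix.one_apply_ne, ne_eq, Fin.isValue,
    Fin.zero_eq_one_iff, OfNat.ofNat_ne_one, not_false_eq_true, Fin.one_eq_zero_iff, sub_zero] at h0
  have htr : M 0 0 + M 1 1 = 2 := by linarith
  set N := M - 1 with hN
  have hN2 : N * N = 0 := by
    ext i j
    fin_cases i <;> fin_cases j <;>
      simp [Matrix.mul_apply, Fin.sum_univ_two, hN, Matrix.sub_apply, Matrix.one_apply]
    · linear_combination (M 0 0) * htr - hdet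
    · linear_combination (M 0 1) * htr
    · linear_combination (M 1 0) * htr
    · linear_combination (M 1 1) * htr - hdet
  have hM : M = 1 + N := by rw [hN]; abel
  have hpow : ∀ k : ℕ, (1 + N) ^ k = 1 + k • N := by
    intro k
    induction k with
    | zero => simp
    | succ k ih =>
      rw [pow_succ, ih, add_mul, mul_add, mul_add, one_mul, mul_one, smul_mul_assoc, hN2, smul_zero,
        add_zero, succ_nsmul, one_mul]
      abel
  rw [hM, hpow] at hMn
  have hnN : n • N = 0 := by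
    have := congrArg (fun X => X - 1) hMn
    simpa using this
  have hN0 : N = 0 := by
    ext i j
    have := congrFun (congrFun hnN i) j
    simp only [Matrix.smul_apply, Matrix.zero_apply, nsmul_eq_mul] at this
    rcases mul_eq_zero.mp this with h | h
    · exfalso; exact_mod_cast (Nat.pos_iff_ne_zero.mp hn) (by exact_mod_cast h)
    · exact h
  rw [hM, hN0, add_zero]

theorem main
    (Γ : Subgroup (Matrix.GeneralLinearGroup (Fin 2) ℤ)) [Finite Γ]
    (h : ∀ γ ∈ Γ, ∃ v : Fin 2 → ℤ, v ≠ 0 ∧ (γ : Matrix (Fin 2) (Fin 2) ℤ) *ᵥ v = v) :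
    ∃ v : Fin 2 → ℤ, v ≠ 0 ∧ ∀ γ ∈ Γ, (γ : Matrix (Fin 2) (Fin 2) ℤ) *ᵥ v = v := by
  -- elements of det 1 are trivial
  have h1 : ∀ γ ∈ Γ, (γ : Matrix (Fin 2) (Fin 2) ℤ).det = 1 → γ = 1 := by
    intro γ hγ hdet
    obtain ⟨v, hv, hfix⟩ := h γ hγ
    have hfin : IsOfFinOrder (⟨γ, hγ⟩ : Γ) := isOfFinOrder_of_finite _
    obtain ⟨n, hn, hn'⟩ := hfin.exists_pow_eq_one
    have hγn : γ ^ n = 1 := by
      have := congrArg (Subtype.val) hn'
      simpa using this
    have hMn : (γ : Matrix (Fin 2) (Fin 2) ℤ) ^ n = 1 := by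
      rw [← Units.val_pow_eq_pow_val, hγn, Units.val_one]
    have := eq_one_of_det_one _ hdet n hn hMn v hv hfix
    exact Units.ext this
  have hdet : ∀ γ : Matrix.GeneralLinearGroup (Fin 2) ℤ,
      (γ : Matrix (Fin 2) (Fin 2) ℤ).det = 1 ∨ (γ : Matrix (Fin 2) (Fin 2) ℤ).det = -1 := by
    intro γ
    have hu : IsUnit (γ : Matrix (Fin 2) (Fin 2) ℤ).det := by
      rw [← Matrix.isUnit_iff_isUnit_det]
      exact γ.isUnit
    exact Int.isUnit_iff.mp hu
  by_cases hall : ∀ γ ∈ Γ, (γ : Matrix (Fin 2) (Fin 2) ℤ).det = 1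
  · refine ⟨![1, 0], by simp, ?_⟩
    intro γ hγ
    rw [h1 γ hγ (hall γ hγ)]
    simp
  · push Not at hall
    obtain ⟨γ₀, hγ₀, hd₀⟩ := hall
    have hd₀' : (γ₀ : Matrix (Fin 2) (Fin 2) ℤ).det = -1 := (hdet γ₀).resolve_left hd₀
    obtain ⟨v, hv, hfix⟩ := h γ₀ hγ₀
    refine ⟨v, hv, ?_⟩
    intro γ hγ
    rcases hdet γ with hd | hd
    · rw [h1 γ hγ hd]
      simp
    · have hmem : γ₀⁻¹ * γ ∈ Γ := Γ.mul_mem (Γ.inv_mem hγ₀) hγ
      have hdd : ((γ₀⁻¹ * γ : Matrix.GeneralLinearGroup (Fin 2) ℤ) : Matrix (Fin 2) (Fin 2) ℤ).det = 1 := by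
        have e1 : ((γ₀⁻¹ : Matrix.GeneralLinearGroup (Fin 2) ℤ) : Matrix (Fin 2) (Fin 2) ℤ).det *
            (γ₀ : Matrix (Fin 2) (Fin 2) ℤ).det = 1 := by
          rw [← Matrix.det_mul, ← Units.val_mul, inv_mul_cancel, Units.val_one, Matrix.det_one]
        rw [Units.val_mul, Matrix.det_mul, hd]
        rw [hd₀'] at e1
        linarith
      have := h1 _ hmem hdd
      have hγeq : γ = γ₀ := by
        have := congrArg (fun x => γ₀ * x) this
        simpa using this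
      rw [hγeq]
      exact hfix

end Groth.Agent.Helper5.GL2Fix
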