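import Mathlib
import Groth.Agent.Lib.Helper5.Misc.GL2Fix

namespace Groth.Agent.Helper5.GL2Fix

open Matrix

lemma cayley_hamilton_two (M : Matrix (Fin 2) (Fin 2) ℤ) :
    M * M = M.trace • M - M.det • (1 : Matrix (Fin 2) (Fin 2) ℤ) := by
  rw [Matrix.smul_one_eq_diagonal]
  ext i j
  fin_cases i <;> fin_cases j <;>
    simp [Matrix.mul_apply, Fin.sum_univ_two, Matrix.det_fin_two, Matrix.trace_fin_two,
      -zsmul_eq_mul] <;> ring

lemma trace_rec (M : Matrix (Fin 2) (Fin 2) ℤ) (k : ℕ) :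
    (M ^ (k + 2)).trace = M.trace * (M ^ (k + 1)).trace - M.det * (M ^ k).trace := by
  rw [pow_add, pow_two, cayley_hamilton_two, mul_sub, Matrix.mul_smul, Matrix.mul_smul, mul_one,
    Matrix.trace_sub, Matrix.trace_smul, Matrix.trace_smul, ← pow_succ]
  simp

/-- a finite-order integer 2×2 matrix has `|tr| ≤ 2` -/
lemma abs_trace_le_two (M : Matrix (Fin 2) (Fin 2) ℤ) (n : ℕ) (hn : 0 < n) (hMn : M ^ n = 1) :
    |M.trace| ≤ 2 := by
  by_contra hcon
  push Not at hcon
  have h3 : 3 ≤ |M.trace| := by omega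
  have hdet : |M.det| = 1 := by
    have hu : IsUnit M.det := by
      rw [← Matrix.isUnit_iff_isUnit_det]
      exact IsUnit.of_pow_eq_one hMn (Nat.pos_iff_ne_zero.mp hn)
    rcases Int.isUnit_iff.mp hu with h | h <;> simp [h]
  -- strictly increasing |s_k|
  have hinc : ∀ k : ℕ, |(M ^ k).trace| < |(M ^ (k + 1)).trace| := by
    intro k
    induction k with
    | zero =>
      simp only [pow_zero, zero_add, pow_one, Matrix.trace_one, Fintype.card_fin]
      have : |((2 : ℕ) : ℤ)| = 2 := by norm_num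
      rw [this]; omega
    | succ k ih =>
      rw [trace_rec]
      have hpos : 0 < |(M ^ (k + 1)).trace| := lt_of_le_of_lt (abs_nonneg _) ih
      have h1 : |M.trace * (M ^ (k + 1)).trace| - |M.det * (M ^ k).trace| ≤
          |M.trace * (M ^ (k + 1)).trace - M.det * (M ^ k).trace| := abs_sub_abs_le_abs_sub _ _
      rw [abs_mul, abs_mul, hdet, one_mul] at h1
      have h2 : 3 * |(M ^ (k + 1)).trace| ≤ |M.trace| * |(M ^ (k + 1)).trace| :=
        mul_le_mul_of_nonneg_right h3 (abs_nonneg _)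
      linarith
  have hmono : ∀ k : ℕ, |(M ^ 0).trace| + k ≤ |(M ^ k).trace| := by
    intro k
    induction k with
    | zero => simp
    | succ k ih =>
      have := hinc k
      push_cast
      omega
  have := hmono n
  rw [hMn, pow_zero] at this
  have hn' : (0 : ℤ) < n := by exact_mod_cast hn
  linarith


theorem main2
    (Γ : Subgroup (Matrix.GeneralLinearGroup (Fin 2) ℤ)) [Finite Γ] (d : ℕ) (hd : 6 < d)
    (w : Fin 2 → ZMod d) (hw : ∀ m : ℕ, 0 < m → m < d → m • w ≠ 0)
    (hfix : ∀ γ ∈ Γ, ((γ : Matrix (Fin 2) (Fin 2) ℤ).map (Int.castRingHom (ZMod d))) *ᵥ w = w) :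
    ∃ v : Fin 2 → ℤ, v ≠ 0 ∧ ∀ γ ∈ Γ, (γ : Matrix (Fin 2) (Fin 2) ℤ) *ᵥ v = v := by
  apply main Γ
  intro γ hγ
  set M := (γ : Matrix (Fin 2) (Fin 2) ℤ) with hM
  -- finite order
  have hfin : IsOfFinOrder (⟨γ, hγ⟩ : Γ) := isOfFinOrder_of_finite _
  obtain ⟨n, hn, hn'⟩ := hfin.exists_pow_eq_one
  have hγn : γ ^ n = 1 := by
    have := congrArg (Subtype.val) hn'
    simpa using this
  have hMn : M ^ n = 1 := by
    rw [hM, ← Units.val_pow_eq_pow_val, hγn, Units.val_one]
  have htr := abs_trace_le_two M n hn hMn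
  have hdet : |M.det| = 1 := by
    have hu : IsUnit M.det := by
      rw [← Matrix.isUnit_iff_isUnit_det]
      exact γ.isUnit
    rcases Int.isUnit_iff.mp hu with h | h <;> simp [h]
  -- D = det (M - 1)
  have hD : (M - 1).det = 1 - M.trace + M.det := by
    rw [Matrix.det_fin_two, Matrix.det_fin_two, Matrix.trace_fin_two]
    simp only [Matrix.sub_apply, Matrix.one_apply_eq, Matrix.one_apply_ne, ne_eq, Fin.isValue,
      Fin.zero_eq_one_iff, OfNat.ofNat_ne_one, not_false_eq_true, Fin.one_eq_zero_iff, sub_zero]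
    ring
  have hDabs : |(M - 1).det| ≤ 4 := by
    rw [hD]
    have h1 : |1 - M.trace + M.det| ≤ |1 - M.trace| + |M.det| := abs_add_le _ _
    have h2 : |1 - M.trace| ≤ |(1 : ℤ)| + |M.trace| := abs_sub _ _
    rw [abs_one] at h2
    linarith
  -- D • w = 0
  set Mb := M.map (Int.castRingHom (ZMod d)) with hMb
  have hkill : (Mb - 1) *ᵥ w = 0 := by
    rw [Matrix.sub_mulVec, hfix γ hγ, Matrix.one_mulVec, sub_self]
  have hDw : ((M - 1).det : ZMod d) • w = 0 := by
    have h1 : (Mb - 1).det • w = 0 := by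
      have := congrArg (fun x => (Mb - 1).adjugate *ᵥ x) hkill
      simp only [Matrix.mulVec_mulVec, Matrix.adjugate_mul, Matrix.mulVec_zero] at this
      rw [Matrix.smul_mulVec, Matrix.one_mulVec] at this
      exact this
    have h2 : (Mb - 1).det = ((M - 1).det : ZMod d) := by
      have : Mb - 1 = (M - 1).map (Int.castRingHom (ZMod d)) := by
        rw [hMb, Matrix.map_sub (Int.castRingHom (ZMod d)) (map_sub _), Matrix.map_one _ (map_zero _) (map_one _)]
      rw [this, ← RingHom.mapMatrix_apply, ← RingHom.map_det]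
      rfl
    rw [h2] at h1
    exact h1
  -- hence d ∣ D
  have hdvd : (d : ℤ) ∣ (M - 1).det := by
    have hdpos : 0 < d := by omega
    have : NeZero d := ⟨by omega⟩
    set D := (M - 1).det with hDdef
    set r := (D % (d : ℤ)).toNat with hr
    have hr0 : 0 ≤ D % (d : ℤ) := Int.emod_nonneg _ (by exact_mod_cast hdpos.ne')
    have hrlt : D % (d : ℤ) < d := Int.emod_lt_of_pos _ (by exact_mod_cast hdpos)
    have hrcast : ((r : ℕ) : ℤ) = D % (d : ℤ) := Int.toNat_of_nonneg hr0
    have hrd : r < d := by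
      have : ((r : ℕ) : ℤ) < d := by rw [hrcast]; exact hrlt
      exact_mod_cast this
    have hcast : ((r : ℕ) : ZMod d) = (D : ZMod d) := by
      have : (((r : ℕ) : ℤ) : ZMod d) = (D : ZMod d) := by
        rw [hrcast]
        rw [ZMod.intCast_eq_intCast_iff_dvd_sub]
        exact ⟨D / (d : ℤ), by have := Int.emod_add_mul_ediv D (d : ℤ); linarith⟩
      exact_mod_cast this
    by_contra hnd
    have hrpos : 0 < r := by
      rcases Nat.eq_zero_or_pos r with h0 | h0
      · exfalso
        apply hnd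
        have : D % (d : ℤ) = 0 := by rw [← hrcast, h0]; simp
        exact Int.dvd_of_emod_eq_zero this
      · exact h0
    apply hw r hrpos hrd
    rw [← hDw, ← hcast, Nat.cast_smul_eq_nsmul]
  have hD0 : (M - 1).det = 0 := by
    obtain ⟨c, hc⟩ := hdvd
    by_contra hne
    have hc0 : c ≠ 0 := by
      rintro rfl
      apply hne
      rw [hc, mul_zero]
    have : (d : ℤ) ≤ |(M - 1).det| := by
      rw [hc, abs_mul]
      have h1 : (1 : ℤ) ≤ |c| := Int.one_le_abs hc0
      have h2 : |(d : ℤ)| = d := abs_of_nonneg (by positivity)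
      rw [h2]
      nlinarith
    have hd' : (6 : ℤ) < d := by exact_mod_cast hd
    linarith
  obtain ⟨v, hv, hv'⟩ := Matrix.exists_mulVec_eq_zero_iff.mpr hD0
  refine ⟨v, hv, ?_⟩
  rw [Matrix.sub_mulVec, Matrix.one_mulVec, sub_eq_zero] at hv'
  exact hv'

end Groth.Agent.Helper5.GL2Fix
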