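import Mathlib

set_option autoImplicit false

namespace Groth.Agent.Helper5.RegExt
open Polynomial TensorProduct

section irr
variable {K₀ F₀ : Type*} [Field K₀] [Field F₀] [Algebra K₀ F₀]

/-- If `K₀` is algebraically closed in `F₀`, irreducible polynomials over `K₀` stay irreducible
over `F₀`. -/
theorem irreducible_map (h : algebraicClosure K₀ F₀ = ⊥) {f : K₀[X]} (hf : f.Monic)
    (hirr : Irreducible f) : Irreducible (f.map (algebraMap K₀ F₀)) := by
  have hnu : ¬ IsUnit (f.map (algebraMap K₀ F₀)) := by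
    refine Polynomial.not_isUnit_of_natDegree_pos _ ?_
    rw [natDegree_map]
    exact hirr.natDegree_pos
  obtain ⟨g, hgm, hgi, hgd⟩ := Polynomial.exists_monic_irreducible_factor _ hnu
  have hl := integralClosure.mem_lifts_of_monic_of_dvd_map F₀ hf hgm hgd
  have hbot : integralClosure K₀ F₀ = ⊥ := by
    rw [← algebraicClosure_toSubalgebra, h, IntermediateField.bot_toSubalgebra]
  have hl' : g ∈ lifts (algebraMap K₀ F₀) := by
    rw [lifts_iff_coeff_lifts] at hl ⊢
    intro n
    obtain ⟨⟨y, hy⟩, hyn⟩ := hl n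
    rw [hbot, Algebra.mem_bot] at hy
    obtain ⟨z, rfl⟩ := hy
    exact ⟨z, hyn⟩
  obtain ⟨g₀, hg₀, -, hg₀m⟩ := lifts_and_natDegree_eq_and_monic hl' hgm
  rw [← hg₀, Polynomial.map_dvd_map'] at hgd
  have hg₀nu : ¬ IsUnit g₀ := by
    intro hu
    apply hgi.not_isUnit
    rw [← hg₀]
    exact hu.map (Polynomial.mapRingHom (algebraMap K₀ F₀))
  have hassoc : Associated g₀ f := ((hirr.dvd_iff.mp hgd).resolve_left hg₀nu).symm
  have : g₀ = f := eq_of_monic_of_associated hg₀m hf hassoc
  rw [← this, hg₀]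
  exact hgi

/-- base change of `AdjoinRoot p` stays a domain -/
theorem isDomain_tensor_adjoinRoot (h : algebraicClosure K₀ F₀ = ⊥) {p : K₀[X]} (hp : p.Monic)
    (hirr : Irreducible p) : IsDomain (F₀ ⊗[K₀] AdjoinRoot p) := by
  let q : (F₀ ⊗[K₀] K₀)[X] := p.map (Algebra.TensorProduct.includeRight : K₀ →ₐ[K₀] F₀ ⊗[K₀] K₀).toRingHom
  let ρ : (F₀ ⊗[K₀] K₀) ≃+* F₀ := (Algebra.TensorProduct.rid K₀ F₀ F₀).toRingEquiv
  have hqρ : Polynomial.mapEquiv ρ q = p.map (algebraMap K₀ F₀) := by
    simp only [q, Polynomial.mapEquiv_apply, Polynomial.map_map]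
    congr 1
    ext x
    simp [ρ, Algebra.algebraMap_eq_smul_one]
  have hq : Prime q := by
    have key := MulEquiv.prime_iff (p := q) (Polynomial.mapEquiv ρ)
    rw [← key, hqρ]
    exact (irreducible_map h hp hirr).prime
  haveI : IsDomain (AdjoinRoot q) := AdjoinRoot.isDomain_of_prime hq
  exact MulEquiv.isDomain (AdjoinRoot q) (AdjoinRoot.tensorAlgEquiv p q rfl).toMulEquiv

end irr

section dom
variable {K₀ F₀ : Type*} [Field K₀] [Field F₀] [Algebra K₀ F₀]

/-- finite separable case -/
theorem isDomain_tensor_of_finite_separable (h : algebraicClosure K₀ F₀ = ⊥) (K₁ : Type*)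
    [Field K₁] [Algebra K₀ K₁] [FiniteDimensional K₀ K₁] [Algebra.IsSeparable K₀ K₁] :
    IsDomain (F₀ ⊗[K₀] K₁) := by
  obtain ⟨α, hα⟩ := Field.exists_primitive_element K₀ K₁
  have hint : IsIntegral K₀ α := Algebra.IsIntegral.isIntegral α
  let e : AdjoinRoot (minpoly K₀ α) ≃ₐ[K₀] K₁ :=
    (IntermediateField.adjoinRootEquivAdjoin K₀ hint).trans
      ((IntermediateField.equivOfEq hα).trans IntermediateField.topEquiv)
  haveI := isDomain_tensor_adjoinRoot h (minpoly.monic hint) (minpoly.irreducible hint)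
  exact MulEquiv.isDomain (F₀ ⊗[K₀] AdjoinRoot (minpoly K₀ α))
    (Algebra.TensorProduct.congr (AlgEquiv.refl : F₀ ≃ₐ[K₀] F₀) e.symm).toMulEquiv

/-- general algebraic case over a perfect field -/
theorem isDomain_tensor_of_isAlgebraic [PerfectField K₀] (h : algebraicClosure K₀ F₀ = ⊥)
    (K : Type*) [Field K] [Algebra K₀ K] [Algebra.IsAlgebraic K₀ K] :
    IsDomain (F₀ ⊗[K₀] K) := by
  classical
  haveI : Nontrivial (F₀ ⊗[K₀] K) := inferInstance
  haveI : NoZeroDivisors (F₀ ⊗[K₀] K) := by
    constructor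
    intro x y hxy
    obtain ⟨N', hfin, hs⟩ := TensorProduct.exists_finite_submodule_right_of_setFinite
      (M := F₀) ({x, y} : Set (F₀ ⊗[K₀] K)) (Set.toFinite _)
    obtain ⟨s, hs'⟩ : N'.FG := Module.Finite.iff_fg.mp hfin
    let K₁ := IntermediateField.adjoin K₀ (s : Set K)
    haveI : FiniteDimensional K₀ K₁ :=
      IntermediateField.finiteDimensional_adjoin (fun x _ => Algebra.IsIntegral.isIntegral x)
    haveI := isDomain_tensor_of_finite_separable h K₁
    have hN'K₁ : ∀ n ∈ N', n ∈ K₁ := by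
      intro n hn
      rw [← hs'] at hn
      refine Submodule.span_le (p := K₁.toSubalgebra.toSubmodule).2 ?_ hn
      exact IntermediateField.subset_adjoin K₀ _
    let j := Algebra.TensorProduct.map (AlgHom.id K₀ F₀) K₁.val
    have hjl : ∀ z, j z = LinearMap.lTensor F₀ K₁.val.toLinearMap z := by
      intro z
      induction z using TensorProduct.induction_on with
      | zero => simp
      | tmul a b => simp [j]
      | add a b ha hb => rw [map_add, map_add, ha, hb]
    have hj : Function.Injective j := by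
      have := Module.Flat.lTensor_preserves_injective_linearMap (M := F₀) K₁.val.toLinearMap
        (by exact Subtype.val_injective)
      intro a b hab
      apply this
      rw [← hjl, ← hjl, hab]
    have hrange : ∀ z : F₀ ⊗[K₀] N', ∃ w, j w = LinearMap.lTensor F₀ N'.subtype z := by
      intro z
      induction z using TensorProduct.induction_on with
      | zero => exact ⟨0, by simp⟩
      | tmul a n => exact ⟨a ⊗ₜ ⟨n.1, hN'K₁ n.1 n.2⟩, by simp [j]⟩
      | add a b ha hb =>
        obtain ⟨wa, hwa⟩ := ha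
        obtain ⟨wb, hwb⟩ := hb
        exact ⟨wa + wb, by rw [map_add, map_add, hwa, hwb]⟩
    obtain ⟨zx, hzx⟩ := hs (Set.mem_insert x _)
    obtain ⟨zy, hzy⟩ := hs (Set.mem_insert_of_mem _ (Set.mem_singleton y))
    obtain ⟨x', hx'⟩ := hrange zx
    obtain ⟨y', hy'⟩ := hrange zy
    rw [hzx] at hx'
    rw [hzy] at hy'
    have hxy' : x' * y' = 0 := hj (by rw [map_mul, hx', hy', hxy, map_zero])
    rcases mul_eq_zero.1 hxy' with h0 | h0
    · left; rw [← hx', h0, map_zero]
    · right; rw [← hy', h0, map_zero]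
  exact NoZeroDivisors.to_isDomain _

/-- the tensor product is a field -/
theorem isField_tensor_of_isAlgebraic [PerfectField K₀] (h : algebraicClosure K₀ F₀ = ⊥)
    (K : Type*) [Field K] [Algebra K₀ K] [Algebra.IsAlgebraic K₀ K] :
    IsField (F₀ ⊗[K₀] K) := by
  haveI := isDomain_tensor_of_isAlgebraic h K
  exact Algebra.TensorProduct.isField_of_isAlgebraic K₀ F₀ K (Or.inr inferInstance)

end dom

end Groth.Agent.Helper5.RegExt
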