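import Mathlib
import Groth.Agent.Lib.Helper5.Misc.RegExt

set_option autoImplicit false
set_option linter.style.haveILetI false

namespace Groth.Agent.Helper5.GeomExt
open TensorProduct

section reduced

variable (K K' K₂ T : Type*) [Field K] [Field K'] [CommRing K₂] [CommRing T]
    [Algebra K K'] [Algebra K K₂] [Algebra K T] [Algebra K' T] [Algebra K₂ T]
    [IsScalarTower K K' T] [IsScalarTower K K₂ T] [FiniteDimensional K K'] [Algebra.IsSeparable K K']

include K in
/-- If `K'/K` is finite separable, `K₂` is a field over `K` and `T` is a `K₂`-algebra and a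
`K'`-algebra (compatibly over `K`) spanned over `K₂` by the image of `K'`, then `T` is reduced. -/
theorem isReduced_of_span (hK₂ : IsField K₂)
    (hspan : Submodule.span K₂ (Set.range (algebraMap K' T)) = ⊤) : IsReduced T := by
  classical
  letI : Field K₂ := hK₂.toField
  haveI : SMulCommClass K₂ K' T := ⟨fun a b t => by
    rw [Algebra.smul_def, Algebra.smul_def, Algebra.smul_def, Algebra.smul_def]; ring⟩
  haveI : Algebra.FormallyUnramified K K' := Algebra.FormallyUnramified.of_isSeparable K K'
  have hD : ∀ b : K', KaehlerDifferential.D K₂ T (algebraMap K' T b) = 0 := by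
    intro b
    rw [← KaehlerDifferential.map_D K K₂ K' T b, Subsingleton.elim (KaehlerDifferential.D K K' b) 0,
      map_zero]
  have hDt : ∀ t : T, KaehlerDifferential.D K₂ T t = 0 := by
    intro t
    have ht : t ∈ Submodule.span K₂ (Set.range (algebraMap K' T)) := hspan ▸ Submodule.mem_top
    induction ht using Submodule.span_induction with
    | mem x hx => obtain ⟨b, rfl⟩ := hx; exact hD b
    | zero => exact map_zero _
    | add x y _ _ hx hy => rw [map_add, hx, hy, add_zero]
    | smul c x _ hx => rw [Derivation.map_smul, hx, smul_zero]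
  haveI : Subsingleton (Ω[T⁄K₂]) := by
    have h0 : ∀ ω : Ω[T⁄K₂], ω = 0 := by
      intro ω
      have hω : ω ∈ Submodule.span T (Set.range (KaehlerDifferential.D K₂ T)) := by
        rw [KaehlerDifferential.span_range_derivation]; trivial
      induction hω using Submodule.span_induction with
      | mem x hx => obtain ⟨t, rfl⟩ := hx; exact hDt t
      | zero => rfl
      | add x y _ _ hx hy => rw [hx, hy, add_zero]
      | smul c x _ hx => rw [hx, smul_zero]
    exact ⟨fun a b => by rw [h0 a, h0 b]⟩
  haveI : Algebra.FormallyUnramified K₂ T := ⟨inferInstance⟩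
  haveI : Module.Finite K₂ T := by
    let b := Module.finBasis K K'
    refine ⟨⟨Finset.univ.image (fun i => algebraMap K' T (b i)), ?_⟩⟩
    rw [eq_top_iff, ← hspan, Submodule.span_le]
    rintro _ ⟨x, rfl⟩
    have hx : x = ∑ i, b.repr x i • b i := (b.sum_repr x).symm
    rw [hx, map_sum]
    refine Submodule.sum_mem _ fun i _ => ?_
    have h1 : algebraMap K' T (b.repr x i • b i) =
        (algebraMap K K₂ (b.repr x i)) • algebraMap K' T (b i) := by
      rw [algebraMap_smul, Algebra.smul_def (b.repr x i) (b i), map_mul,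
        ← IsScalarTower.algebraMap_apply K K' T, ← Algebra.smul_def]
    rw [h1]
    refine Submodule.smul_mem _ _ (Submodule.subset_span ?_)
    simp
  exact Algebra.FormallyUnramified.isReduced_of_field K₂ T

end reduced

section insep

variable (k' ks k'' K' : Type*) [Field k'] [Field ks] [Field k''] [Field K'] [Algebra k' k'']
  [Algebra k' K'] [Algebra k' ks] [Algebra ks k''] [IsScalarTower k' ks k'']
  [IsPurelyInseparable ks k'']

/-- If `k_s ⊗ K'` is a field and `k''/k_s` is purely inseparable, every element of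
`k'' ⊗ K'` is nilpotent or a unit. -/
theorem isNilpotent_or_isUnit
    (hL : IsField (ks ⊗[k'] K')) (w : k'' ⊗[k'] K') :
    IsNilpotent w ∨ IsUnit w := by
  classical
  obtain ⟨q, hq⟩ := ExpChar.exists k'
  haveI : ExpChar k'' q := expChar_of_injective_algebraMap (algebraMap k' k'').injective q
  haveI : ExpChar ks q := expChar_of_injective_algebraMap (algebraMap k' ks).injective q
  haveI : Nontrivial (k'' ⊗[k'] K') := inferInstance
  haveI : ExpChar (k'' ⊗[k'] K') q :=
    expChar_of_injective_algebraMap (algebraMap k'' (k'' ⊗[k'] K')).injective q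
  let φ : (ks ⊗[k'] K') →ₐ[k'] (k'' ⊗[k'] K') :=
    Algebra.TensorProduct.map (IsScalarTower.toAlgHom k' ks k'') (AlgHom.id k' K')
  have key : ∀ w : k'' ⊗[k'] K', ∃ n : ℕ, w ^ q ^ n ∈ φ.range := by
    intro w
    induction w using TensorProduct.induction_on with
    | zero => exact ⟨0, (AlgHom.mem_range φ).2 ⟨0, by simp⟩⟩
    | tmul a b =>
      obtain ⟨n, ⟨c, hc⟩⟩ := IsPurelyInseparable.pow_mem ks q a
      refine ⟨n, (AlgHom.mem_range φ).2 ⟨c ⊗ₜ (b ^ q ^ n), ?_⟩⟩
      show Algebra.TensorProduct.map (IsScalarTower.toAlgHom k' ks k'') (AlgHom.id k' K')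
        (c ⊗ₜ (b ^ q ^ n)) = _
      rw [Algebra.TensorProduct.map_tmul, Algebra.TensorProduct.tmul_pow, ← hc]
      rfl
    | add x y hx hy =>
      obtain ⟨n, hn⟩ := hx
      obtain ⟨m, hm⟩ := hy
      refine ⟨n + m, ?_⟩
      rw [add_pow_expChar_pow]
      refine add_mem ?_ ?_
      · rw [pow_add, pow_mul]; exact pow_mem hn _
      · rw [add_comm n m, pow_add, pow_mul]; exact pow_mem hm _
  obtain ⟨n, hn⟩ := key w
  obtain ⟨c, hc⟩ := (AlgHom.mem_range φ).1 hn
  by_cases hc0 : c = 0
  · left
    exact ⟨q ^ n, by rw [← hc, hc0, map_zero]⟩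
  · right
    obtain ⟨d, hd⟩ := hL.mul_inv_cancel hc0
    have hu : IsUnit (w ^ q ^ n) := by
      rw [← hc]
      exact IsUnit.of_mul_eq_one (φ d) (by rw [← map_mul, hd, map_one])
    exact (isUnit_pow_iff (pow_ne_zero n (expChar_pos k' q).ne')).1 hu

end insep

section alg
universe u v
variable {k : Type u} {K : Type v} [Field k] [Field K] [Algebra k K]

/-- zero divisors pulled back along the injective map from `E ⊗ K` (a field). -/
theorem eq_zero_or_of_range (E k₁ : Type*) [Field E] [Field k₁] [Algebra k E] [Algebra k k₁]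
    (ι : E →ₐ[k] k₁) (hE : IsField (E ⊗[k] K)) (x y : k₁ ⊗[k] K)
    (hx : x ∈ LinearMap.range (LinearMap.rTensor K ι.toLinearMap))
    (hy : y ∈ LinearMap.range (LinearMap.rTensor K ι.toLinearMap)) (hxy : x * y = 0) :
    x = 0 ∨ y = 0 := by
  let j : E ⊗[k] K →ₐ[k] k₁ ⊗[k] K := Algebra.TensorProduct.map ι (AlgHom.id k K)
  have hjl : ∀ z, j z = LinearMap.rTensor K ι.toLinearMap z := by
    intro z
    induction z using TensorProduct.induction_on with
    | zero => simp
    | tmul a b => simp [j]
    | add a b ha hb => rw [map_add, map_add, ha, hb]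
  have hj : Function.Injective j := by
    have := Module.Flat.rTensor_preserves_injective_linearMap (M := K) ι.toLinearMap
      ι.toRingHom.injective
    intro a b hab
    apply this
    rw [← hjl, ← hjl, hab]
  obtain ⟨x', hx'⟩ := hx
  obtain ⟨y', hy'⟩ := hy
  rw [← hjl] at hx' hy'
  have hxy' : x' * y' = 0 := hj (by rw [map_mul, hx', hy', hxy, map_zero])
  by_cases hx0 : x' = 0
  · left; rw [← hx', hx0, map_zero]
  · right
    obtain ⟨d, hd⟩ := hE.mul_inv_cancel hx0
    have : y' = 0 := by
      calc y' = (x' * d) * y' := by rw [hd, one_mul]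
        _ = d * (x' * y') := by ring
        _ = 0 := by rw [hxy', mul_zero]
    rw [← hy', this, map_zero]

/-- If `E ⊗ K` is a field for every finite extension `E/k`, the same holds for every algebraic
extension. -/
theorem isField_tensor_of_isAlgebraic
    (hg : ∀ (E : Type u) [Field E] [Algebra k E], FiniteDimensional k E → IsField (E ⊗[k] K))
    (k₁ : Type u) [Field k₁] [Algebra k k₁] [Algebra.IsAlgebraic k k₁] : IsField (k₁ ⊗[k] K) := by
  classical
  haveI : Nontrivial (k₁ ⊗[k] K) := inferInstance
  haveI : NoZeroDivisors (k₁ ⊗[k] K) := by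
    constructor
    intro x y hxy
    obtain ⟨M', hfin, hs⟩ := TensorProduct.exists_finite_submodule_left_of_setFinite
      ({x, y} : Set (k₁ ⊗[k] K)) (Set.toFinite _)
    obtain ⟨s, hs'⟩ : M'.FG := Module.Finite.iff_fg.mp hfin
    let E := IntermediateField.adjoin k (s : Set k₁)
    haveI : FiniteDimensional k E :=
      IntermediateField.finiteDimensional_adjoin (fun x _ => Algebra.IsIntegral.isIntegral x)
    have hfield : IsField (E ⊗[k] K) := hg E inferInstance
    have hM'E : ∀ n ∈ M', n ∈ E := by
      intro n hn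
      rw [← hs'] at hn
      refine Submodule.span_le (p := E.toSubalgebra.toSubmodule).2 ?_ hn
      exact IntermediateField.subset_adjoin k _
    have hrange : ∀ z : M' ⊗[k] K, LinearMap.rTensor K M'.subtype z ∈
        LinearMap.range (LinearMap.rTensor K E.val.toLinearMap) := by
      intro z
      induction z using TensorProduct.induction_on with
      | zero => exact ⟨0, by simp⟩
      | tmul n b => exact ⟨(⟨n.1, hM'E n.1 n.2⟩ : E) ⊗ₜ b, by simp⟩
      | add a b ha hb =>
        rw [map_add]
        exact add_mem ha hb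
    obtain ⟨zx, hzx⟩ := hs (Set.mem_insert x _)
    obtain ⟨zy, hzy⟩ := hs (Set.mem_insert_of_mem _ (Set.mem_singleton y))
    refine eq_zero_or_of_range E k₁ E.val hfield x y ?_ ?_ hxy
    · rw [← hzx]; exact hrange zx
    · rw [← hzy]; exact hrange zy
  haveI : IsDomain (k₁ ⊗[k] K) := NoZeroDivisors.to_isDomain _
  exact Algebra.TensorProduct.isField_of_isAlgebraic k k₁ K (Or.inl inferInstance)

end alg

section trdeg
universe u v

theorem isAlgebraic_constants (k k' : Type u) (K K' : Type v) [Field k] [Field k'] [Field K]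
    [Field K'] [Algebra k k'] [Algebra k K] [Algebra K K'] [Algebra k' K'] [Algebra k K']
    [IsScalarTower k k' K'] [IsScalarTower k K K'] [Algebra.IsAlgebraic K K']
    (h1 : Algebra.trdeg k K = 1) (h1' : Algebra.trdeg k' K' = 1) : Algebra.IsAlgebraic k k' := by
  have e1 := lift_trdeg_add_eq k K K'
  have e2 := lift_trdeg_add_eq k k' K'
  rw [h1, trdeg_eq_zero (R := K) (A := K')] at e1
  rw [h1'] at e2
  simp only [Cardinal.lift_one, add_zero, Cardinal.lift_id] at e1 e2
  rw [← e1, Cardinal.lift_one] at e2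
  rw [← trdeg_eq_zero_iff]
  have : Cardinal.lift.{v} (Algebra.trdeg k k') + 1 = 0 + 1 := by rw [e2, zero_add]
  exact Cardinal.lift_eq_zero.1 (Cardinal.add_one_inj.1 this)

end trdeg

section red2
variable (k k' k'' K K' : Type*) [Field k] [Field k'] [Field k''] [Field K] [Field K']
    [Algebra k k'] [Algebra k' k''] [Algebra k k''] [IsScalarTower k k' k'']
    [Algebra k K] [Algebra K K'] [Algebra k' K'] [Algebra k K']
    [IsScalarTower k k' K'] [IsScalarTower k K K'] [FiniteDimensional K K'] [Algebra.IsSeparable K K']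

theorem isReduced_tensor (hK₂ : IsField (k'' ⊗[k] K)) : IsReduced (k'' ⊗[k'] K') := by
  let f : k'' →ₐ[k] k'' ⊗[k'] K' := Algebra.TensorProduct.includeLeft
  let gR : K' →ₐ[k] k'' ⊗[k'] K' :=
    (Algebra.TensorProduct.includeRight : K' →ₐ[k'] k'' ⊗[k'] K').restrictScalars k
  let g : K →ₐ[k] k'' ⊗[k'] K' := gR.comp (IsScalarTower.toAlgHom k K K')
  let ψ : k'' ⊗[k] K →ₐ[k] k'' ⊗[k'] K' := Algebra.TensorProduct.productMap f g
  letI : Algebra (k'' ⊗[k] K) (k'' ⊗[k'] K') := ψ.toRingHom.toAlgebra
  letI : Algebra K' (k'' ⊗[k'] K') := gR.toRingHom.toAlgebra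
  letI : Algebra K (k'' ⊗[k] K) :=
    (Algebra.TensorProduct.includeRight : K →ₐ[k] k'' ⊗[k] K).toRingHom.toAlgebra
  letI : Algebra K (k'' ⊗[k'] K') := g.toRingHom.toAlgebra
  haveI : IsScalarTower K K' (k'' ⊗[k'] K') := IsScalarTower.of_algebraMap_eq (fun _ => rfl)
  haveI : IsScalarTower K (k'' ⊗[k] K) (k'' ⊗[k'] K') := IsScalarTower.of_algebraMap_eq (fun x => by
    show g x = ψ (1 ⊗ₜ x)
    simp [ψ, Algebra.TensorProduct.productMap_apply_tmul])
  refine isReduced_of_span K K' (k'' ⊗[k] K) (k'' ⊗[k'] K') hK₂ ?_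
  rw [eq_top_iff]
  rintro t -
  induction t using TensorProduct.induction_on with
  | zero => exact zero_mem _
  | tmul a b =>
    have : a ⊗ₜ[k'] b = (a ⊗ₜ[k] (1 : K) : k'' ⊗[k] K) • (algebraMap K' (k'' ⊗[k'] K') b) := by
      rw [Algebra.smul_def]
      show _ = ψ (a ⊗ₜ 1) * ((1 : k'') ⊗ₜ b)
      simp [ψ, f, g, gR, Algebra.TensorProduct.productMap_apply_tmul]
    rw [this]
    exact Submodule.smul_mem _ _ (Submodule.subset_span ⟨b, rfl⟩)
  | add x y hx hy => exact add_mem hx hy

end red2

section sepfield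

theorem isField_tensor_of_finite_separable (k' ks K' : Type*) [Field k'] [Field ks] [Field K']
    [Algebra k' ks] [Algebra k' K'] [FiniteDimensional k' ks] [Algebra.IsSeparable k' ks]
    (h : algebraicClosure k' K' = ⊥) : IsField (ks ⊗[k'] K') := by
  haveI := RegExt.isDomain_tensor_of_finite_separable h ks
  haveI : IsDomain (ks ⊗[k'] K') :=
    MulEquiv.isDomain (K' ⊗[k'] ks) (Algebra.TensorProduct.comm k' ks K').toMulEquiv
  exact Algebra.TensorProduct.isField_of_isAlgebraic k' ks K' (Or.inl inferInstance)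

end sepfield

end Groth.Agent.Helper5.GeomExt
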