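import Mathlib
import Groth.Agent.Lib.Helper5.Misc.ShriekTopConst

/-!
# Derived-category cohomology over an open equals that of the restriction (helper5)
-/
set_option autoImplicit false
universe u
open CategoryTheory CategoryTheory.Limits Opposite TopologicalSpace

namespace Groth.Agent.Lib.Helper5.Misc.ShriekTop

open Groth.Agent.Lib.Helper5.Misc.ShriekAb Groth.Agent.Lib.Helper5.Misc.ExtAdj

section Site

variable {C : Type u} [SmallCategory C] (J : GrothendieckTopology C) (T : C) (hT : IsTerminal T)

/-- the constant sheaf `ℤ` corepresents sections over a terminal object -/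
noncomputable def corep₀ : (secU T J).CorepresentableBy
    ((constantSheaf J AddCommGrpCat.{u}).obj (AddCommGrpCat.of (ULift.{u} ℤ))) :=
  ((constantSheafAdj J AddCommGrpCat.{u} hT).corepresentableBy
    (AddCommGrpCat.of (ULift.{u} ℤ))).ofIso
    (Functor.isoWhiskerLeft _ AddCommGrpCat.coyonedaObjIsoForget)

/-- `ℤ ≅ ℤ[h_T]` for a terminal object `T` -/
noncomputable def constFreeIso :
    (constantSheaf J AddCommGrpCat.{u}).obj (AddCommGrpCat.of (ULift.{u} ℤ)) ≅
      CohCx.freeSheaf J T :=
  (corep₀ J T hT).uniqueUpToIso (corep₂ T J)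

end Site

variable {X : TopCat.{u}} (U : Opens X)
  [HasDerivedCategory.{u} (CohTop.Ab X)] [HasDerivedCategory.{u} (CohTop.Ab (TopCat.of U))]

theorem nonempty_HDU_addEquiv (K : DerivedCategory (CohTop.Ab X)) (p : ℤ) :
    Nonempty (CohCx.HDU K p U ≃+
      CohCx.HDU ((CohTop.restrFunctor U).mapDerivedCategory.obj K) p (⊤ : Opens (TopCat.of U))) := by
  let Z := (constantSheaf (Opens.grothendieckTopology (TopCat.of U)) AddCommGrpCat.{u}).obj
    (AddCommGrpCat.of (ULift.{u} ℤ))
  let e₀ : Z ≅ CohCx.freeSheaf (Opens.grothendieckTopology (TopCat.of U)) ⊤ :=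
    constFreeIso _ ⊤ isTerminalTop
  let e₁ := shriekTopConstIso U
  let dadj := DerAdj.mapDerivedCategoryAdj (adjTop U)
  exact ⟨(preAddEquiv ((DerivedCategory.singleFunctor (CohTop.Ab X) 0).mapIso e₁) _).trans <|
    (preAddEquiv (((shriekTop U).mapDerivedCategorySingleFunctor 0).app Z) _).trans <|
    (dadj.homAddEquiv _ _).trans <|
    (postAddEquiv (((CohTop.restrFunctor U).mapDerivedCategory.commShiftIso p).app K) _).trans <|
    (preAddEquiv ((DerivedCategory.singleFunctor (CohTop.Ab (TopCat.of U)) 0).mapIso e₀.symm) _)⟩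

end Groth.Agent.Lib.Helper5.Misc.ShriekTop
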