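import Mathlib

open CategoryTheory CategoryTheory.Limits Opposite ZeroObject

namespace Groth.Agent.Lib.Helper5.Misc.InjSys

universe v u
variable {A : Type u} [Category.{v} A] [Abelian A]

/-- partial products `I 0 × … × I n` -/
noncomputable def Jobj (I : ℕ → A) : ℕ → A
  | 0 => I 0
  | n + 1 => Jobj I n ⊞ I (n + 1)

noncomputable def Jmap (I : ℕ → A) (n : ℕ) : Jobj I (n + 1) ⟶ Jobj I n :=
  show Jobj I n ⊞ I (n + 1) ⟶ Jobj I n from biprod.fst

noncomputable def last (I : ℕ → A) : ∀ n, Jobj I n ⟶ I n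
  | 0 => 𝟙 _
  | n + 1 => show Jobj I n ⊞ I (n + 1) ⟶ I (n + 1) from biprod.snd

noncomputable def J (I : ℕ → A) : ℕᵒᵖ ⥤ A := Functor.ofOpSequence (Jmap I)

noncomputable def mkApp (I : ℕ → A) (Y : ℕᵒᵖ ⥤ A) (φ : ∀ n, Y.obj (op n) ⟶ I n) :
    ∀ n, Y.obj (op n) ⟶ Jobj I n
  | 0 => φ 0
  | n + 1 => show Y.obj (op (n + 1)) ⟶ Jobj I n ⊞ I (n + 1) from
      biprod.lift (Y.map (homOfLE (n.le_add_right 1)).op ≫ mkApp I Y φ n) (φ (n + 1))

lemma mkApp_succ_fst (I : ℕ → A) (Y : ℕᵒᵖ ⥤ A) (φ : ∀ n, Y.obj (op n) ⟶ I n) (n : ℕ) :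
    mkApp I Y φ (n + 1) ≫ Jmap I n = Y.map (homOfLE (n.le_add_right 1)).op ≫ mkApp I Y φ n := by
  simp only [mkApp, Jmap]
  exact biprod.lift_fst _ _

lemma mkApp_succ_snd (I : ℕ → A) (Y : ℕᵒᵖ ⥤ A) (φ : ∀ n, Y.obj (op n) ⟶ I n) (n : ℕ) :
    mkApp I Y φ (n + 1) ≫ last I (n + 1) = φ (n + 1) := by
  simp only [mkApp, last]
  exact biprod.lift_snd _ _

lemma mkApp_zero (I : ℕ → A) (Y : ℕᵒᵖ ⥤ A) (φ : ∀ n, Y.obj (op n) ⟶ I n) :
    mkApp I Y φ 0 = φ 0 := rfl

lemma hom_ext_succ (I : ℕ → A) (n : ℕ) {T : A} (a b : T ⟶ Jobj I (n + 1))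
    (h1 : a ≫ Jmap I n = b ≫ Jmap I n) (h2 : a ≫ last I (n + 1) = b ≫ last I (n + 1)) : a = b := by
  have : ∀ (a b : T ⟶ Jobj I n ⊞ I (n + 1)), a ≫ biprod.fst = b ≫ biprod.fst →
      a ≫ biprod.snd = b ≫ biprod.snd → a = b := fun a b h1 h2 => biprod.hom_ext _ _ h1 h2
  exact this a b h1 h2

noncomputable def mkHom (I : ℕ → A) (Y : ℕᵒᵖ ⥤ A) (φ : ∀ n, Y.obj (op n) ⟶ I n) : Y ⟶ J I :=
  NatTrans.ofOpSequence (mkApp I Y φ) (by
    intro n
    have e : (J I).map (homOfLE (n.le_add_right 1)).op = Jmap I n :=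
      Functor.ofOpSequence_map_homOfLE_succ (Jmap I) n
    rw [e]
    exact (mkApp_succ_fst I Y φ n).symm)

@[simp] lemma mkHom_app (I : ℕ → A) (Y : ℕᵒᵖ ⥤ A) (φ : ∀ n, Y.obj (op n) ⟶ I n) (n : ℕ) :
    (mkHom I Y φ).app (op n) = mkApp I Y φ n := rfl

lemma J_map_succ (I : ℕ → A) (n : ℕ) :
    (J I).map (homOfLE (n.le_add_right 1)).op = Jmap I n :=
  Functor.ofOpSequence_map_homOfLE_succ (Jmap I) n

/-- A natural transformation into `J I` is determined by its components `app n ≫ last`. -/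
lemma app_eq_of_last {I : ℕ → A} {X : ℕᵒᵖ ⥤ A} (g g' : X ⟶ J I)
    (h : ∀ n, g.app (op n) ≫ last I n = g'.app (op n) ≫ last I n) :
    ∀ n, g.app (op n) = g'.app (op n) := by
  intro n
  induction n with
  | zero =>
    exact (Category.comp_id _).symm.trans ((h 0).trans (Category.comp_id _))
  | succ n ih =>
    refine hom_ext_succ I n _ _ ?_ (h (n + 1))
    have e := J_map_succ I n
    have h1 := g.naturality (homOfLE (n.le_add_right 1)).op
    have h2 := g'.naturality (homOfLE (n.le_add_right 1)).op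
    rw [e] at h1 h2
    exact h1.symm.trans ((congrArg (X.map (homOfLE (n.le_add_right 1)).op ≫ ·) ih).trans h2)

lemma mkHom_last (I : ℕ → A) (Y : ℕᵒᵖ ⥤ A) (φ : ∀ n, Y.obj (op n) ⟶ I n) (n : ℕ) :
    (mkHom I Y φ).app (op n) ≫ last I n = φ n := by
  cases n with
  | zero => exact Category.comp_id _
  | succ n => exact mkApp_succ_snd I Y φ n

instance J_injective (I : ℕ → A) [∀ n, Injective (I n)] : Injective (J I) where
  factors {X Y} g f _ := by
    have hm : ∀ n, Mono (f.app (op n)) := fun n => ((NatTrans.mono_iff_mono_app f).1 inferInstance) _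
    let φ : ∀ n, Y.obj (op n) ⟶ I n := fun n =>
      Injective.factorThru (g.app (op n) ≫ last I n) (f.app (op n))
    refine ⟨mkHom I Y φ, ?_⟩
    ext ⟨n⟩
    refine app_eq_of_last (f ≫ mkHom I Y φ) g ?_ n
    intro k
    rw [NatTrans.comp_app, Category.assoc, mkHom_last]
    exact Injective.comp_factorThru _ _

lemma mono_mkApp (I : ℕ → A) (Y : ℕᵒᵖ ⥤ A) (φ : ∀ n, Y.obj (op n) ⟶ I n) [∀ n, Mono (φ n)]
    (n : ℕ) : Mono (mkApp I Y φ n) := by
  have h : mkApp I Y φ n ≫ last I n = φ n := by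
    cases n with
    | zero => exact Category.comp_id _
    | succ n => exact mkApp_succ_snd I Y φ n
  have : Mono (mkApp I Y φ n ≫ last I n) := by rw [h]; infer_instance
  exact mono_of_mono (mkApp I Y φ n) (last I n)

theorem enoughInjectives_functor [EnoughInjectives A] : EnoughInjectives (ℕᵒᵖ ⥤ A) where
  presentation F := by
    let I : ℕ → A := fun n => Injective.under (F.obj (op n))
    let φ : ∀ n, F.obj (op n) ⟶ I n := fun n => Injective.ι _
    have : ∀ n, Injective (I n) := fun n => by dsimp [I]; infer_instance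
    have : ∀ n, Mono (φ n) := fun n => by dsimp [φ]; infer_instance
    refine ⟨{ J := J I, injective := inferInstance, f := mkHom I F φ, mono := ?_ }⟩
    rw [NatTrans.mono_iff_mono_app]
    rintro ⟨n⟩
    exact mono_mkApp I F φ n

/-! ### The converse -/

noncomputable def skyObj (U : A) : ℕ → A
  | 0 => U
  | _ + 1 => 0

noncomputable def sky (U : A) : ℕᵒᵖ ⥤ A :=
  Functor.ofOpSequence (X := skyObj U) (fun _ => 0)

noncomputable def skyApp {U V : A} (i : U ⟶ V) : ∀ n, skyObj U n ⟶ skyObj V n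
  | 0 => i
  | _ + 1 => 0

noncomputable def skyHom {U V : A} (i : U ⟶ V) : sky U ⟶ sky V :=
  NatTrans.ofOpSequence (skyApp i) (by
    intro n
    have e : ∀ W : A, (sky W).map (homOfLE (n.le_add_right 1)).op = 0 := fun W =>
      Functor.ofOpSequence_map_homOfLE_succ (X := skyObj W) (fun _ => 0) n
    rw [e U, e V]
    exact zero_comp.trans comp_zero.symm)

noncomputable def skyToApp (U : A) (Q : ℕᵒᵖ ⥤ A) (g : U ⟶ Q.obj (op 0)) :
    ∀ n, skyObj U n ⟶ Q.obj (op n)
  | 0 => g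
  | _ + 1 => 0

noncomputable def skyTo (U : A) (Q : ℕᵒᵖ ⥤ A) (g : U ⟶ Q.obj (op 0)) : sky U ⟶ Q :=
  NatTrans.ofOpSequence (skyToApp U Q g) (by
    intro n
    have e : (sky U).map (homOfLE (n.le_add_right 1)).op = 0 :=
      Functor.ofOpSequence_map_homOfLE_succ (X := skyObj U) (fun _ => 0) n
    rw [e]
    exact zero_comp.trans (zero_comp (f := Q.map (homOfLE (n.le_add_right 1)).op)).symm)

theorem enoughInjectives_of_functor [EnoughInjectives (ℕᵒᵖ ⥤ A)] : EnoughInjectives A where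
  presentation X := by
    let F : ℕᵒᵖ ⥤ A := (Functor.const ℕᵒᵖ).obj X
    let Q := Injective.under F
    let ι : F ⟶ Q := Injective.ι F
    have hmono : Mono (ι.app (op 0)) := ((NatTrans.mono_iff_mono_app ι).1 inferInstance) _
    refine ⟨{ J := Q.obj (op 0), injective := ⟨?_⟩, f := ι.app (op 0), mono := hmono }⟩
    intro U V g i _
    have : Mono (skyHom i) := by
      rw [NatTrans.mono_iff_mono_app]
      rintro ⟨n⟩
      cases n with
      | zero => exact (inferInstance : Mono i)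
      | succ n =>
        show Mono (skyApp i (n + 1))
        exact (isZero_zero A).mono (skyApp i (n + 1))
    refine ⟨(Injective.factorThru (skyTo U Q g) (skyHom i)).app (op 0), ?_⟩
    have := congrArg (fun t => t.app (op 0)) (Injective.comp_factorThru (skyTo U Q g) (skyHom i))
    exact this

end Groth.Agent.Lib.Helper5.Misc.InjSys
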