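import Mathlib

open Pointwise

namespace Groth.Agent.Helper5.InvGD

universe u v

theorem main
    (A : Type u) (R : Type v) [CommRing A] [CommRing R] [Algebra A R]
    (G : Type u) [Group G] [Finite G] [MulSemiringAction G R] [SMulCommClass G A R]
    [Algebra.IsInvariant A R G] [FaithfulSMul A R] :
    Algebra.HasGoingDown A R := by
  have hint : Algebra.IsIntegral A R := Algebra.IsInvariant.isIntegral A R G
  constructor
  intro p _ Q _ hpQ
  have hbot : (⊥ : Ideal R).comap (algebraMap A R) ≤ p := by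
    intro x hx
    rw [Ideal.mem_comap, Ideal.mem_bot] at hx
    have : x = 0 := FaithfulSMul.algebraMap_injective A R (by rw [hx, map_zero])
    rw [this]; exact p.zero_mem
  obtain ⟨P', -, hP'prime, hP'⟩ := Ideal.exists_ideal_over_prime_of_isIntegral p (⊥ : Ideal R) hbot
  have hq : (Q.under A).IsPrime := inferInstance
  obtain ⟨Q', hQ'ge, hQ'prime, hQ'⟩ :=
    Ideal.exists_ideal_over_prime_of_isIntegral_of_isPrime (Q.under A) P'
      (by rw [hP']; exact hpQ.le)
  obtain ⟨g, hg⟩ := Algebra.IsInvariant.exists_smul_of_under_eq A R G Q' Q (by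
    rw [Ideal.under_def, hQ'])
  refine ⟨g • P', ?_, hP'prime.smul g, ⟨?_⟩⟩
  · rw [hg]
    exact Ideal.pointwise_smul_le_pointwise_smul_iff.mpr hQ'ge
  · rw [Ideal.under_smul, Ideal.under_def, hP']

end Groth.Agent.Helper5.InvGD
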