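import Mathlib
universe u
open TensorProduct

namespace Groth.Agent.Helper5.IrrFin

variable (A B : Type u) [CommRing A] [CommRing B] [Algebra A B]

lemma irr_finite_iff (R : Type u) [CommRing R] :
    (irreducibleComponents (PrimeSpectrum R)).Finite ↔ (minimalPrimes R).Finite := by
  constructor
  · intro h
    rw [← PrimeSpectrum.vanishingIdeal_irreducibleComponents]
    exact h.image _
  · intro h
    rw [← PrimeSpectrum.zeroLocus_minimalPrimes]
    exact h.image _

/-- minimal primes lie over minimal primes (going down) -/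
lemma under_mem_minimalPrimes [Algebra.HasGoingDown A B] (q : Ideal B) (hq : q ∈ minimalPrimes B) :
    q.under A ∈ minimalPrimes A := by
  rw [minimalPrimes_eq_minimals] at hq ⊢
  have hqp : q.IsPrime := hq.1
  refine ⟨inferInstance, ?_⟩
  intro p' hp' hle
  have : p'.IsPrime := hp'
  have : q.LiesOver (q.under A) := ⟨rfl⟩
  obtain ⟨P, hPq, hPp, hPl⟩ := Ideal.exists_ideal_le_liesOver_of_le (p := p') (q := q.under A) q hle
  have : P = q := le_antisymm hPq (hq.2 hPp hPq)
  rw [← this, ← hPl.over]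

/-- finitely many minimal primes of `B` over a given prime of `A`, when the fibre is noetherian -/
lemma finite_over (p : Ideal A) [p.IsPrime] [IsNoetherianRing (p.Fiber B)] :
    {q : Ideal B | q ∈ minimalPrimes B ∧ q.under A = p}.Finite := by
  classical
  let e := PrimeSpectrum.primesOverOrderIsoFiber A B p
  have hfin : {Q : PrimeSpectrum (p.Fiber B) | Q.asIdeal ∈ minimalPrimes (p.Fiber B)}.Finite := by
    have := (minimalPrimes.finite_of_isNoetherianRing (p.Fiber B))
    exact this.preimage (fun _ _ _ _ h => PrimeSpectrum.ext h)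
  refine (hfin.image (fun Q => ((e.symm Q : p.primesOver B) : Ideal B))).subset ?_
  rintro q ⟨hq, hqp⟩
  rw [minimalPrimes_eq_minimals] at hq
  have hqprime : q.IsPrime := hq.1
  have hmem : q ∈ p.primesOver B := ⟨hqprime, ⟨hqp.symm⟩⟩
  refine ⟨e ⟨q, hmem⟩, ?_, by simp⟩
  change (e ⟨q, hmem⟩).asIdeal ∈ minimalPrimes (p.Fiber B)
  rw [minimalPrimes_eq_minimals]
  refine ⟨(e ⟨q, hmem⟩).isPrime, ?_⟩
  intro Q' hQ' hle
  let Q'' : PrimeSpectrum (p.Fiber B) := ⟨Q', hQ'⟩
  have h1 : Q'' ≤ e ⟨q, hmem⟩ := hle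
  have h2 : e.symm Q'' ≤ ⟨q, hmem⟩ := by
    rw [← e.symm_apply_apply ⟨q, hmem⟩]
    exact e.symm.monotone h1
  have h3 : ((e.symm Q'' : p.primesOver B) : Ideal B) = q :=
    le_antisymm h2 (hq.2 (e.symm Q'').2.1 h2)
  have h4 : e.symm Q'' = ⟨q, hmem⟩ := Subtype.ext h3
  have h5 : Q'' = e ⟨q, hmem⟩ := by rw [← h4, e.apply_symm_apply]
  rw [← h5]

theorem main [Module.Flat A B] [Algebra.FiniteType A B]
    (h : (irreducibleComponents (PrimeSpectrum A)).Finite) :
    (irreducibleComponents (PrimeSpectrum B)).Finite := by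
  rw [irr_finite_iff] at h ⊢
  have hsub : minimalPrimes B ⊆ ⋃ p ∈ minimalPrimes A,
      {q : Ideal B | q ∈ minimalPrimes B ∧ q.under A = p} := by
    intro q hq
    simp only [Set.mem_iUnion, Set.mem_ofPred_eq, exists_prop]
    exact ⟨q.under A, under_mem_minimalPrimes A B q hq, hq, rfl⟩
  refine (Set.Finite.biUnion h ?_).subset hsub
  intro p hp
  have : p.IsPrime := hp.1.1
  have : IsNoetherianRing (p.Fiber B) :=
    Algebra.FiniteType.isNoetherianRing p.ResidueField (p.Fiber B)
  exact finite_over A B p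

end Groth.Agent.Helper5.IrrFin
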