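import Mathlib
universe u
open Polynomial Finset

namespace Groth.Agent.Helper5.KAS

section Domain
variable {O : Type u} [CommRing O] [IsDomain O] {p : ℕ} (hp : p.Prime) {ζ : O}
  (hζ : IsPrimitiveRoot ζ p)

/-- the unit-like factor u with p = (1-ζ)^(p-1) * u -/
noncomputable def uu (p : ℕ) (ζ : O) : O := ∏ k ∈ range (p - 1), ∑ j ∈ range (k + 1), ζ ^ j

include hp hζ in
lemma p_eq : (p : O) = (1 - ζ) ^ (p - 1) * uu p ζ := by
  have h1 : p - 1 + 1 = p := Nat.sub_add_cancel hp.one_le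
  have hζ' : IsPrimitiveRoot ζ (p - 1 + 1) := by rw [h1]; exact hζ
  have := IsPrimitiveRoot.prod_one_sub_pow_eq_order hζ'
  have h2 : ((p - 1 : ℕ) : O) + 1 = p := by exact_mod_cast congrArg (Nat.cast : ℕ → O) h1
  rw [h2] at this
  rw [← this, uu]
  simp_rw [← mul_neg_geom_sum]
  rw [prod_mul_distrib, prod_const, card_range]

include hp hζ in
lemma uu_add_one_mem : uu p ζ + 1 ∈ Ideal.span {1 - ζ} := by
  rw [← Ideal.Quotient.eq_zero_iff_mem]
  set π := Ideal.Quotient.mk (Ideal.span {1 - ζ}) with hπ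
  have hπζ : π ζ = 1 := by
    have : π (1 - ζ) = 0 := Ideal.Quotient.eq_zero_iff_mem.2 (Ideal.mem_span_singleton_self _)
    rw [map_sub, map_one, sub_eq_zero] at this
    exact this.symm
  have hπp : π (p : O) = 0 := by
    rw [p_eq hp hζ]
    have h1 : p - 1 = (p - 2) + 1 := by have := hp.two_le; omega
    rw [h1, pow_succ, mul_assoc, mul_comm, map_mul, map_mul]
    have : π (1 - ζ) = 0 := Ideal.Quotient.eq_zero_iff_mem.2 (Ideal.mem_span_singleton_self _)
    rw [this]; ring
  have hπu : π (uu p ζ) = ((p - 1).factorial : O ⧸ Ideal.span {1 - ζ}) := by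
    rw [uu, map_prod]
    simp_rw [map_sum, map_pow, hπζ, one_pow, sum_const, card_range, nsmul_eq_mul, mul_one]
    rw [← Finset.prod_range_add_one_eq_factorial]
    push_cast
    rfl
  rw [map_add, map_one, hπu]
  -- (p-1)! + 1 ≡ 0 mod p
  haveI := Fact.mk hp
  have hw : (((p - 1).factorial + 1 : ℕ) : ZMod p) = 0 := by
    push_cast
    rw [ZMod.wilsons_lemma]; ring
  rw [ZMod.natCast_eq_zero_iff] at hw
  obtain ⟨c, hc⟩ := hw
  have : (((p - 1).factorial + 1 : ℕ) : O ⧸ Ideal.span {1 - ζ}) = 0 := by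
    rw [hc]
    push_cast
    have : ((p : ℕ) : O ⧸ Ideal.span {1 - ζ}) = π (p : O) := by simp [hπ]
    rw [this, hπp, zero_mul]
  exact_mod_cast this

end Domain


section Poly
variable {O : Type u} [CommRing O]

/-- the Kummer–Artin–Schreier polynomial attached to `w, u` with `p = w^(p-1) u` -/
noncomputable def PP (p : ℕ) (w u : O) : O[X] :=
  X ^ p + ∑ i ∈ Ioo 0 p, C (u * ((p.choose i / p : ℕ) : O) * w ^ (i - 1)) * X ^ i

lemma coeff_PP (p : ℕ) (w u : O) (n : ℕ) :
    (PP p w u).coeff n = (if n = p then 1 else 0) +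
      (if n ∈ Ioo 0 p then u * ((p.choose n / p : ℕ) : O) * w ^ (n - 1) else 0) := by
  rw [PP, coeff_add, coeff_X_pow, finsetSum_coeff]
  congr 1
  simp_rw [coeff_C_mul_X_pow]
  rw [Finset.sum_ite_eq]

lemma PP_spec {p : ℕ} (hp : p.Prime) (w u : O) (hpu : (p : O) = w ^ (p - 1) * u) :
    C (w ^ p) * PP p w u = (1 + C w * X) ^ p - 1 := by
  ext n
  have hcomp : (1 + C w * X : O[X]) ^ p = ((1 + X) ^ p).comp (C w * X) := by
    simp
  rw [coeff_C_mul, coeff_PP, coeff_sub, hcomp, comp_C_mul_X_coeff, coeff_one_add_X_pow, coeff_one]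
  rcases Nat.lt_trichotomy n p with hlt | heq | hgt
  · rcases Nat.eq_zero_or_pos n with h0 | hpos
    · subst h0
      have : ¬ (0 = p) := fun h => hp.ne_zero h.symm
      simp [this]
    · have hne : n ≠ p := hlt.ne
      have hmem : n ∈ Ioo 0 p := mem_Ioo.2 ⟨hpos, hlt⟩
      have hn0 : n ≠ 0 := hpos.ne'
      rw [if_neg hne, if_pos hmem, if_neg hn0, zero_add, sub_zero]
      obtain ⟨c, hc⟩ := hp.dvd_choose_self hn0 hlt
      have hdiv : p.choose n / p = c := by rw [hc, Nat.mul_div_cancel_left _ hp.pos]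
      rw [hdiv, hc]
      push_cast
      rw [hpu]
      have h1 : w ^ p = w ^ (p - 1) * w := by
        rw [← pow_succ, Nat.sub_add_cancel hp.one_le]
      have h2 : w ^ n = w ^ (n - 1) * w := by
        rw [← pow_succ, Nat.sub_add_cancel hpos]
      rw [h1, h2]
      ring
  · subst heq
    have : n ∉ Ioo 0 n := fun h => (mem_Ioo.1 h).2.ne rfl
    simp [this, hp.ne_zero]
  · have hne : n ≠ p := hgt.ne'
    have hmem : n ∉ Ioo 0 p := fun h => absurd (mem_Ioo.1 h).2 (not_lt.2 hgt.le)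
    have hn0 : n ≠ 0 := by omega
    rw [if_neg hne, if_neg hmem, if_neg hn0, Nat.choose_eq_zero_of_lt hgt]
    simp

lemma PP_form {p : ℕ} (hp : p.Prime) (w u r : O) (hr : u + 1 = r * w) :
    ∃ b : ℕ → O, PP p w u = X ^ p - X + ∑ i ∈ Ioo 0 p, C (b i * w) * X ^ i := by
  refine ⟨fun i => if i = 1 then r else u * ((p.choose i / p : ℕ) : O) * w ^ (i - 2), ?_⟩
  have h1mem : 1 ∈ Ioo 0 p := mem_Ioo.2 ⟨Nat.one_pos, hp.one_lt⟩
  have key : ∀ i ∈ Ioo 0 p,
      C ((if i = 1 then r else u * ((p.choose i / p : ℕ) : O) * w ^ (i - 2)) * w) * X ^ i =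
      C (u * ((p.choose i / p : ℕ) : O) * w ^ (i - 1)) * X ^ i + (if i = 1 then (X : O[X]) else 0) := by
    intro i hi
    by_cases h1 : i = 1
    · subst h1
      have hc : p.choose 1 / p = 1 := by rw [Nat.choose_one_right, Nat.div_self hp.pos]
      rw [if_pos rfl, if_pos rfl, ← hr, hc]
      simp only [Nat.cast_one, mul_one, Nat.sub_self, pow_zero, pow_one, map_add, map_one]
      ring
    · have hi2 : 2 ≤ i := by have := (mem_Ioo.1 hi).1; omega
      rw [if_neg h1, if_neg h1, add_zero]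
      have : w ^ (i - 1) = w ^ (i - 2) * w := by
        rw [← pow_succ]; congr 1; omega
      rw [this]
      congr 2
      ring
  rw [Finset.sum_congr rfl key, Finset.sum_add_distrib, Finset.sum_ite_eq' (Ioo 0 p) 1, if_pos h1mem, PP]
  ring

lemma PP_aeval {p : ℕ} (w : O) (P : O[X]) (hP : C (w ^ p) * P = (1 + C w * X) ^ p - 1)
    {T : Type*} [CommRing T] [Algebra O T] (z : T) :
    algebraMap O T w ^ p * aeval z P = (1 + algebraMap O T w * z) ^ p - 1 := by
  have := congrArg (aeval z) hP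
  simpa using this

lemma PP_funeq {p : ℕ} (w : O) (P : O[X]) (hP : C (w ^ p) * P = (1 + C w * X) ^ p - 1)
    {T : Type*} [CommRing T] [Algebra O T] (hw : IsLeftRegular (algebraMap O T w ^ p)) (x y : T) :
    aeval (x + y + algebraMap O T w * x * y) P =
      aeval x P + aeval y P + algebraMap O T (w ^ p) * aeval x P * aeval y P := by
  apply hw
  have h3 := PP_aeval w P hP (x + y + algebraMap O T w * x * y)
  have hx := PP_aeval w P hP x
  have hy := PP_aeval w P hP y
  have hx' : (1 + algebraMap O T w * x) ^ p = algebraMap O T w ^ p * aeval x P + 1 := by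
    rw [hx]; ring
  have hy' : (1 + algebraMap O T w * y) ^ p = algebraMap O T w ^ p * aeval y P + 1 := by
    rw [hy]; ring
  change algebraMap O T w ^ p * _ = algebraMap O T w ^ p * _
  rw [h3]
  have : 1 + algebraMap O T w * (x + y + algebraMap O T w * x * y) =
      (1 + algebraMap O T w * x) * (1 + algebraMap O T w * y) := by ring
  rw [this, mul_pow, hx', hy', map_pow]
  ring

end Poly


section Main

theorem main (p : ℕ) (hp : p.Prime) (A : Type u) [CommRing A] (ζ : A)
    (hζ : aeval ζ (cyclotomic p ℤ) = 0) :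
    ∃ P : A[X], C ((1 - ζ) ^ p) * P = (1 + C (1 - ζ) * X) ^ p - 1 ∧
      (∃ a : ℕ → A, (∀ i, a i ∈ Ideal.span {1 - ζ}) ∧
        P = X ^ p - X + (Finset.Ioo 0 p).sum (fun i => C (a i) * X ^ i)) ∧
      ∀ (S : Type u) [CommRing S] [Algebra A S] (z₁ z₂ : S),
        aeval (z₁ + z₂ + algebraMap A S (1 - ζ) * z₁ * z₂) P =
          aeval z₁ P + aeval z₂ P + algebraMap A S ((1 - ζ) ^ p) * aeval z₁ P * aeval z₂ P := by
  classical
  -- the universal ring
  let O := AdjoinRoot (cyclotomic p ℤ)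
  haveI hdom : IsDomain O := AdjoinRoot.isDomain_of_prime (cyclotomic.irreducible hp.pos).prime
  let ζ₀ : O := AdjoinRoot.root (cyclotomic p ℤ)
  have hdeg : (cyclotomic p ℤ).degree ≠ 0 := by
    rw [degree_cyclotomic, Nat.totient_prime hp]
    have := hp.two_le
    intro h
    have h' : ((p - 1 : ℕ) : WithBot ℕ) = ((0 : ℕ) : WithBot ℕ) := h
    rw [Nat.cast_inj] at h'
    omega
  have hinj : Function.Injective (algebraMap ℤ O) := AdjoinRoot.of.injective_of_degree_ne_zero hdeg
  haveI : CharZero O := charZero_of_injective_algebraMap hinj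
  have hroot : IsRoot (cyclotomic p O) ζ₀ := by
    rw [← map_cyclotomic_int p O, IsRoot.def, eval_map]
    exact AdjoinRoot.eval₂_root _
  have hprim : IsPrimitiveRoot ζ₀ p := (isRoot_cyclotomic_iff_charZero hp.pos).1 hroot
  set w₀ : O := 1 - ζ₀ with hw₀
  set u₀ : O := uu p ζ₀ with hu₀
  have hpu : (p : O) = w₀ ^ (p - 1) * u₀ := p_eq hp hprim
  have hw₀ne : w₀ ≠ 0 := by
    rw [hw₀, sub_ne_zero]
    exact (hprim.ne_one hp.one_lt).symm
  obtain ⟨r, hr⟩ := Ideal.mem_span_singleton'.1 (uu_add_one_mem hp hprim)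
  -- the map to A
  let φ : O →+* A := AdjoinRoot.lift (Int.castRingHom A) ζ (by
    have := hζ
    rwa [aeval_def, algebraMap_int_eq] at this)
  have hφζ : φ ζ₀ = ζ := AdjoinRoot.lift_root _
  have hφw : φ w₀ = 1 - ζ := by rw [hw₀, map_sub, map_one, hφζ]
  have hspec := PP_spec hp w₀ u₀ hpu
  refine ⟨(PP p w₀ u₀).map φ, ?_, ?_, ?_⟩
  · have := congrArg (Polynomial.map φ) hspec
    simpa [Polynomial.map_mul, Polynomial.map_pow, Polynomial.map_add, Polynomial.map_sub, hφw]
      using this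
  · obtain ⟨b, hb⟩ := PP_form hp w₀ u₀ r hr.symm
    refine ⟨fun i => φ (b i) * (1 - ζ), fun i => Ideal.mem_span_singleton'.2 ⟨_, rfl⟩, ?_⟩
    rw [hb]
    simp [Polynomial.map_sum, Polynomial.map_mul, Polynomial.map_pow, Polynomial.map_add,
      Polynomial.map_sub, hφw]
  · intro S _ _ z₁ z₂
    letI : Algebra O A := φ.toAlgebra
    letI : Algebra O S := ((algebraMap A S).comp φ).toAlgebra
    haveI : IsScalarTower O A S := IsScalarTower.of_algebraMap_eq (fun _ => rfl)
    have hmapP : ∀ z : S, aeval z ((PP p w₀ u₀).map φ) = aeval z (PP p w₀ u₀) := fun z =>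
      aeval_map_algebraMap (A := A) z (PP p w₀ u₀)
    rw [hmapP, hmapP, hmapP]
    -- universal identity in T = MvPolynomial (Fin 2) O
    let T := MvPolynomial (Fin 2) O
    have hreg : IsLeftRegular (algebraMap O T w₀ ^ p) := by
      apply IsRegular.left
      apply IsRegular.of_ne_zero
      apply pow_ne_zero
      rw [MvPolynomial.algebraMap_eq, Ne, map_eq_zero_iff _ (MvPolynomial.C_injective (Fin 2) O)]
      exact hw₀ne
    have huniv := PP_funeq w₀ (PP p w₀ u₀) hspec hreg (MvPolynomial.X 0 : T) (MvPolynomial.X 1 : T)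
    let Ψ : T →ₐ[O] S := MvPolynomial.aeval ![z₁, z₂]
    have := congrArg Ψ huniv
    rw [← Polynomial.aeval_algHom_apply] at this
    simp only [map_add, map_mul, ← Polynomial.aeval_algHom_apply, AlgHom.commutes] at this
    have h0 : Ψ (MvPolynomial.X 0) = z₁ := by
      change MvPolynomial.aeval ![z₁, z₂] (MvPolynomial.X 0) = z₁
      rw [MvPolynomial.aeval_X]; rfl
    have h1 : Ψ (MvPolynomial.X 1) = z₂ := by
      change MvPolynomial.aeval ![z₁, z₂] (MvPolynomial.X 1) = z₂
      rw [MvPolynomial.aeval_X]; rfl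
    rw [h0, h1] at this
    have e1 : algebraMap A S (1 - ζ) = algebraMap O S w₀ := by
      rw [← hφw]; rfl
    have e2 : algebraMap A S ((1 - ζ) ^ p) = algebraMap O S (w₀ ^ p) := by
      rw [← hφw, ← map_pow]; rfl
    rw [e1, e2]
    exact this

end Main

end Groth.Agent.Helper5.KAS
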