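import Mathlib

/-!
# Kernel of `R[a,b,c] → R[u,v]`, `a ↦ u²`, `b ↦ v²`, `c ↦ g` (helper5)

If `g² + q₀(u², v²) = 0` and `1, g` are linearly independent over `R[u², v²]`, then the kernel is
generated by `c² + q₀(a, b)`.  Plus parity lemmas for `expand 2`.
-/

set_option autoImplicit false

namespace Groth.Agent.Helper5.KumFam

open MvPolynomial

variable {R : Type*} [CommRing R]

/-- the evaluation map -/
noncomputable abbrev phi (g : MvPolynomial (Fin 2) R) :
    MvPolynomial (Fin 3) R →ₐ[R] MvPolynomial (Fin 2) R :=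
  aeval ![X 0 ^ 2, X 1 ^ 2, g]

/-- polynomials in `c` over `R[a,b]` -/
noncomputable def psi : Polynomial (MvPolynomial (Fin 2) R) →+* MvPolynomial (Fin 3) R :=
  Polynomial.eval₂RingHom (rename Fin.castSucc : MvPolynomial (Fin 2) R →ₐ[R] _).toRingHom (X 2)

theorem psi_C (s : MvPolynomial (Fin 2) R) : psi (Polynomial.C s) = rename Fin.castSucc s := by
  simp [psi]

theorem psi_X : psi (Polynomial.X : Polynomial (MvPolynomial (Fin 2) R)) = X 2 := by
  simp [psi]

theorem psi_surjective : Function.Surjective (psi (R := R)) := by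
  intro P
  induction P using MvPolynomial.induction_on with
  | C r => exact ⟨Polynomial.C (C r), by rw [psi_C, rename_C]⟩
  | add p q hp hq =>
    obtain ⟨p', rfl⟩ := hp
    obtain ⟨q', rfl⟩ := hq
    exact ⟨p' + q', map_add _ _ _⟩
  | mul_X p i hp =>
    obtain ⟨p', rfl⟩ := hp
    fin_cases i
    · refine ⟨p' * Polynomial.C (X 0), ?_⟩
      rw [map_mul, psi_C, rename_X]
      rfl
    · refine ⟨p' * Polynomial.C (X 1), ?_⟩
      rw [map_mul, psi_C, rename_X]
      rfl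
    · refine ⟨p' * Polynomial.X, ?_⟩
      rw [map_mul, psi_X]
      rfl

theorem phi_rename (g : MvPolynomial (Fin 2) R) (s : MvPolynomial (Fin 2) R) :
    phi g (rename Fin.castSucc s) = expand 2 s := by
  rw [phi, aeval_rename]
  have : (![X 0 ^ 2, X 1 ^ 2, g] : Fin 3 → MvPolynomial (Fin 2) R) ∘ Fin.castSucc =
      fun i => X i ^ 2 := by
    funext i
    fin_cases i <;> rfl
  rw [this]
  rfl

theorem phi_X2 (g : MvPolynomial (Fin 2) R) : phi g (X 2) = g := by
  rw [phi, aeval_X]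
  rfl

theorem ker_eq_span (g q₀ : MvPolynomial (Fin 2) R) (hrel : g ^ 2 + expand 2 q₀ = 0)
    (hind : ∀ r₀ r₁ : MvPolynomial (Fin 2) R, expand 2 r₀ + expand 2 r₁ * g = 0 →
      r₀ = 0 ∧ r₁ = 0) :
    RingHom.ker (phi g) = Ideal.span {X 2 ^ 2 + rename Fin.castSucc q₀} := by
  rcases subsingleton_or_nontrivial R with hR | hR
  · ext x
    have : x = 0 := Subsingleton.elim _ _
    rw [this]
    simp
  set Q : MvPolynomial (Fin 3) R := X 2 ^ 2 + rename Fin.castSucc q₀ with hQ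
  have hQ0 : phi g Q = 0 := by
    rw [hQ, map_add, map_pow, phi_X2, phi_rename]
    exact hrel
  apply le_antisymm
  · intro P hP
    rw [RingHom.mem_ker] at hP
    obtain ⟨P', rfl⟩ := psi_surjective P
    set Q' : Polynomial (MvPolynomial (Fin 2) R) := Polynomial.X ^ 2 + Polynomial.C q₀ with hQ'
    have hmonic : Q'.Monic := Polynomial.monic_X_pow_add_C q₀ two_ne_zero
    have hpsiQ : psi Q' = Q := by
      rw [hQ', map_add, map_pow, psi_X, psi_C]
    have hdiv := Polynomial.modByMonic_add_div P' Q'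
    set r := P' %ₘ Q' with hr
    have hdeg : r.natDegree ≤ 1 := by
      have h2 : Q'.natDegree = 2 := by
        rw [hQ']
        exact Polynomial.natDegree_X_pow_add_C
      have hne : Q' ≠ 1 := by
        intro h1
        rw [h1, Polynomial.natDegree_one] at h2
        exact two_ne_zero h2.symm
      have h3 : r.natDegree < Q'.natDegree := Polynomial.natDegree_modByMonic_lt P' hmonic hne
      rw [h2] at h3
      omega
    have hr2 := Polynomial.eq_X_add_C_of_natDegree_le_one hdeg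
    have hpsir : psi r = rename Fin.castSucc (r.coeff 1) * X 2 + rename Fin.castSucc (r.coeff 0) := by
      conv_lhs => rw [hr2]
      rw [map_add, map_mul, psi_C, psi_C, psi_X]
    have hP' : psi P' = psi r + Q * psi (P' /ₘ Q') := by
      conv_lhs => rw [← hdiv]
      rw [map_add, map_mul, hpsiQ]
    rw [hP', map_add, map_mul, hQ0, zero_mul, add_zero, hpsir, map_add, map_mul, phi_rename,
      phi_rename, phi_X2, add_comm] at hP
    obtain ⟨h0, h1⟩ := hind _ _ hP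
    have hr0 : r = 0 := by
      rw [hr2, h0, h1]
      simp
    rw [hP', hr0, map_zero, zero_add]
    exact Ideal.mul_mem_right _ _ (Ideal.subset_span rfl)
  · rw [Ideal.span_le]
    intro P hP
    rw [Set.mem_singleton_iff] at hP
    rw [hP, SetLike.mem_coe, RingHom.mem_ker]
    exact hQ0


/-! ### parity classes of exponents -/

/-- all monomials of `G` have exponents of parity `(a, b)` -/
def HasPar (a b : ZMod 2) (G : MvPolynomial (Fin 2) R) : Prop :=
  ∀ ν ∈ G.support, ((ν 0 : ℕ) : ZMod 2) = a ∧ ((ν 1 : ℕ) : ZMod 2) = b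

theorem HasPar.congr {a b a' b' : ZMod 2} {G : MvPolynomial (Fin 2) R} (h : HasPar a b G)
    (ha : a = a') (hb : b = b') : HasPar a' b' G := by
  subst ha; subst hb; exact h

theorem HasPar.add {a b : ZMod 2} {G G' : MvPolynomial (Fin 2) R} (h : HasPar a b G)
    (h' : HasPar a b G') : HasPar a b (G + G') := by
  classical
  intro ν hν
  rcases Finset.mem_union.1 (support_add hν) with h1 | h1
  · exact h ν h1
  · exact h' ν h1

theorem HasPar.mul {a b a' b' : ZMod 2} {G G' : MvPolynomial (Fin 2) R} (h : HasPar a b G)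
    (h' : HasPar a' b' G') : HasPar (a + a') (b + b') (G * G') := by
  classical
  intro ν hν
  obtain ⟨ν₁, h1, ν₂, h2, rfl⟩ := Finset.mem_add.1 (support_mul G G' hν)
  obtain ⟨e1, e2⟩ := h ν₁ h1
  obtain ⟨e1', e2'⟩ := h' ν₂ h2
  simp only [Finsupp.add_apply, Nat.cast_add]
  rw [e1, e2, e1', e2']
  exact ⟨rfl, rfl⟩

theorem HasPar.monomial (ν : Fin 2 →₀ ℕ) (c : R) :
    HasPar ((ν 0 : ℕ) : ZMod 2) ((ν 1 : ℕ) : ZMod 2) (monomial ν c) := by
  classical
  intro ν' hν'
  have := support_monomial_subset hν'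
  rw [Finset.mem_singleton] at this
  rw [this]
  exact ⟨rfl, rfl⟩

theorem HasPar.C (c : R) : HasPar 0 0 (C c : MvPolynomial (Fin 2) R) := by
  have := HasPar.monomial (R := R) 0 c
  simpa using this

theorem HasPar.X0 : HasPar 1 0 (X 0 : MvPolynomial (Fin 2) R) := by
  have := HasPar.monomial (R := R) (Finsupp.single 0 1) 1
  simpa [X] using this

theorem HasPar.X1 : HasPar 0 1 (X 1 : MvPolynomial (Fin 2) R) := by
  have := HasPar.monomial (R := R) (Finsupp.single 1 1) 1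
  simpa [X] using this

theorem HasPar.one : HasPar 0 0 (1 : MvPolynomial (Fin 2) R) := by
  have := HasPar.C (R := R) 1
  simpa using this

theorem HasPar.pow {a b : ZMod 2} {G : MvPolynomial (Fin 2) R} (h : HasPar a b G) (n : ℕ) :
    HasPar (n • a) (n • b) (G ^ n) := by
  induction n with
  | zero => simpa using HasPar.one (R := R)
  | succ n ih =>
    rw [pow_succ, succ_nsmul, succ_nsmul]
    exact ih.mul h

theorem HasPar.expand (r : MvPolynomial (Fin 2) R) : HasPar 0 0 (expand 2 r) := by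
  classical
  intro ν hν
  obtain ⟨κ, _, rfl⟩ := Finset.mem_image.1 (support_expand_subset r hν)
  simp only [Finsupp.smul_apply, smul_eq_mul, Nat.cast_mul, Nat.cast_ofNat]
  have : (2 : ZMod 2) = 0 := rfl
  rw [this, zero_mul, zero_mul]
  exact ⟨rfl, rfl⟩

theorem HasPar.coeff_eq_zero {a b : ZMod 2} {G : MvPolynomial (Fin 2) R} (h : HasPar a b G)
    (μ : Fin 2 →₀ ℕ) (hμ : ¬ (((μ 0 : ℕ) : ZMod 2) = a ∧ ((μ 1 : ℕ) : ZMod 2) = b)) :
    coeff μ G = 0 := by
  by_contra hne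
  exact hμ (h μ (mem_support_iff.2 hne))

theorem indep (g₁₀ g₀₁ : MvPolynomial (Fin 2) R) (h₁₀ : HasPar 1 0 g₁₀) (h₀₁ : HasPar 0 1 g₀₁)
    (ν : Fin 2 →₀ ℕ) (hν0 : ((ν 0 : ℕ) : ZMod 2) = 1) (hν1 : ((ν 1 : ℕ) : ZMod 2) = 1)
    (τ : R) (hτ : IsUnit τ) (r₀ r₁ : MvPolynomial (Fin 2) R)
    (h : expand 2 r₀ + expand 2 r₁ * (g₁₀ + g₀₁ + monomial ν τ) = 0) : r₀ = 0 ∧ r₁ = 0 := by
  have hr₁ : r₁ = 0 := by
    ext κ
    rw [coeff_zero]
    have hμ0 : (((ν + 2 • κ) 0 : ℕ) : ZMod 2) = 1 := by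
      simp only [Finsupp.add_apply, Finsupp.smul_apply, smul_eq_mul, Nat.cast_add, Nat.cast_mul,
        Nat.cast_ofNat, hν0]
      have : (2 : ZMod 2) = 0 := rfl
      rw [this, zero_mul, add_zero]
    have hμ1 : (((ν + 2 • κ) 1 : ℕ) : ZMod 2) = 1 := by
      simp only [Finsupp.add_apply, Finsupp.smul_apply, smul_eq_mul, Nat.cast_add, Nat.cast_mul,
        Nat.cast_ofNat, hν1]
      have : (2 : ZMod 2) = 0 := rfl
      rw [this, zero_mul, add_zero]
    have hc := congrArg (coeff (ν + 2 • κ)) h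
    rw [coeff_add, mul_add, mul_add, coeff_add, coeff_add, coeff_zero] at hc
    have e1 : coeff (ν + 2 • κ) (expand 2 r₀) = 0 :=
      (HasPar.expand r₀).coeff_eq_zero _ (by rw [hμ0]; exact fun h => one_ne_zero h.1)
    have e2 : coeff (ν + 2 • κ) (expand 2 r₁ * g₁₀) = 0 := by
      have := (HasPar.expand r₁).mul h₁₀
      refine this.coeff_eq_zero _ ?_
      rw [hμ1]
      exact fun h => one_ne_zero (h.2.trans (by simp))
    have e3 : coeff (ν + 2 • κ) (expand 2 r₁ * g₀₁) = 0 := by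
      have := (HasPar.expand r₁).mul h₀₁
      refine this.coeff_eq_zero _ ?_
      rw [hμ0]
      exact fun h => one_ne_zero (h.1.trans (by simp))
    have e4 : coeff (ν + 2 • κ) (expand 2 r₁ * monomial ν τ) = coeff κ r₁ * τ := by
      rw [coeff_mul_monomial', if_pos le_self_add, add_tsub_cancel_left,
        coeff_expand_smul 2 two_ne_zero]
    rw [e1, e2, e3, e4, zero_add, zero_add, zero_add] at hc
    exact hτ.mul_left_eq_zero.1 hc
  refine ⟨?_, hr₁⟩
  rw [hr₁, map_zero, zero_mul, add_zero] at h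
  exact (expand_eq_zero (by norm_num)).1 h


/-! ### the subalgebra `R[u², v²]` and the decomposition of `R[u, v]` over it -/

/-- `R[u², v²]` as the range of `expand 2` -/
noncomputable def S2 (R : Type*) [CommRing R] : Subalgebra R (MvPolynomial (Fin 2) R) :=
  (expand 2 : MvPolynomial (Fin 2) R →ₐ[R] MvPolynomial (Fin 2) R).range

theorem mem_S2_iff {z : MvPolynomial (Fin 2) R} : z ∈ S2 R ↔ ∃ r, expand 2 r = z := Iff.rfl

theorem expand_mem_S2 (r : MvPolynomial (Fin 2) R) : expand 2 r ∈ S2 R := ⟨r, rfl⟩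

theorem X_sq_mem_S2 (i : Fin 2) : (X i ^ 2 : MvPolynomial (Fin 2) R) ∈ S2 R :=
  ⟨X i, by show expand 2 (X i) = _; rw [expand_X]⟩

theorem C_mem_S2 (c : R) : (C c : MvPolynomial (Fin 2) R) ∈ S2 R := (S2 R).algebraMap_mem c

theorem HasPar.of_mem_S2 {z : MvPolynomial (Fin 2) R} (hz : z ∈ S2 R) : HasPar 0 0 z := by
  obtain ⟨r, rfl⟩ := hz
  exact HasPar.expand r

theorem decomp (p : MvPolynomial (Fin 2) R) :
    ∃ A ∈ S2 R, ∃ B ∈ S2 R, ∃ C' ∈ S2 R, ∃ E ∈ S2 R,
      p = A + B * X 0 + C' * X 1 + E * (X 0 * X 1) := by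
  induction p using MvPolynomial.induction_on with
  | C c => exact ⟨C c, C_mem_S2 c, 0, zero_mem _, 0, zero_mem _, 0, zero_mem _, by ring⟩
  | add p q hp hq =>
    obtain ⟨A, hA, B, hB, C', hC, E, hE, rfl⟩ := hp
    obtain ⟨A', hA', B', hB', C'', hC', E', hE', rfl⟩ := hq
    exact ⟨A + A', add_mem hA hA', B + B', add_mem hB hB', C' + C'', add_mem hC hC',
      E + E', add_mem hE hE', by ring⟩
  | mul_X p i hp =>
    obtain ⟨A, hA, B, hB, C', hC, E, hE, rfl⟩ := hp
    fin_cases i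
    · exact ⟨B * X 0 ^ 2, mul_mem hB (X_sq_mem_S2 0), A, hA, E * X 0 ^ 2,
        mul_mem hE (X_sq_mem_S2 0), C', hC, by simp only [Fin.zero_eta]; ring⟩
    · exact ⟨C' * X 1 ^ 2, mul_mem hC (X_sq_mem_S2 1), E * X 1 ^ 2, mul_mem hE (X_sq_mem_S2 1),
        A, hA, B, hB, by simp only [Fin.mk_one]; ring⟩

theorem zmod2_cases (x : ZMod 2) : x = 0 ∨ x = 1 := by
  revert x; decide

theorem indep4 {G00 G10 G01 G11 : MvPolynomial (Fin 2) R} (h00 : HasPar 0 0 G00)
    (h10 : HasPar 1 0 G10) (h01 : HasPar 0 1 G01) (h11 : HasPar 1 1 G11)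
    (hsum : G00 + G10 + G01 + G11 = 0) : G00 = 0 ∧ G10 = 0 ∧ G01 = 0 ∧ G11 = 0 := by
  have key : ∀ μ : Fin 2 →₀ ℕ, coeff μ G00 = 0 ∧ coeff μ G10 = 0 ∧ coeff μ G01 = 0 ∧
      coeff μ G11 = 0 := by
    intro μ
    have hc := congrArg (coeff μ) hsum
    simp only [coeff_add, coeff_zero] at hc
    have h1 : (1 : ZMod 2) ≠ 0 := by decide
    rcases zmod2_cases ((μ 0 : ℕ) : ZMod 2) with ha | ha <;>
      rcases zmod2_cases ((μ 1 : ℕ) : ZMod 2) with hb | hb
    · have e10 := h10.coeff_eq_zero μ (fun h => h1 (h.1.symm.trans ha))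
      have e01 := h01.coeff_eq_zero μ (fun h => h1 (h.2.symm.trans hb))
      have e11 := h11.coeff_eq_zero μ (fun h => h1 (h.1.symm.trans ha))
      rw [e10, e01, e11, add_zero, add_zero, add_zero] at hc
      exact ⟨hc, e10, e01, e11⟩
    · have e00 := h00.coeff_eq_zero μ (fun h => h1 (hb.symm.trans h.2))
      have e10 := h10.coeff_eq_zero μ (fun h => h1 (hb.symm.trans h.2))
      have e11 := h11.coeff_eq_zero μ (fun h => h1 (h.1.symm.trans ha))
      rw [e00, e10, e11, zero_add, zero_add, add_zero] at hc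
      exact ⟨e00, e10, hc, e11⟩
    · have e00 := h00.coeff_eq_zero μ (fun h => h1 (ha.symm.trans h.1))
      have e01 := h01.coeff_eq_zero μ (fun h => h1 (ha.symm.trans h.1))
      have e11 := h11.coeff_eq_zero μ (fun h => h1 (h.2.symm.trans hb))
      rw [e00, e01, e11, zero_add, add_zero, add_zero] at hc
      exact ⟨e00, hc, e01, e11⟩
    · have e00 := h00.coeff_eq_zero μ (fun h => h1 (ha.symm.trans h.1))
      have e10 := h10.coeff_eq_zero μ (fun h => h1 (hb.symm.trans h.2))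
      have e01 := h01.coeff_eq_zero μ (fun h => h1 (ha.symm.trans h.1))
      rw [e00, e10, e01, zero_add, zero_add, zero_add] at hc
      exact ⟨e00, e10, e01, hc⟩
  refine ⟨?_, ?_, ?_, ?_⟩ <;> ext μ <;> rw [coeff_zero]
  · exact (key μ).1
  · exact (key μ).2.1
  · exact (key μ).2.2.1
  · exact (key μ).2.2.2

theorem mul_monomial_one_cancel {B : MvPolynomial (Fin 2) R} (ν : Fin 2 →₀ ℕ)
    (h : B * monomial ν 1 = 0) : B = 0 := by
  ext κ
  have := congrArg (coeff (κ + ν)) h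
  rw [coeff_mul_monomial, mul_one, coeff_zero] at this
  rw [coeff_zero]; exact this

/-- over `R[u², v²]`, the elements `1, u, v, uv` are linearly independent -/
theorem indep4' {A B C' E : MvPolynomial (Fin 2) R} (hA : A ∈ S2 R) (hB : B ∈ S2 R)
    (hC : C' ∈ S2 R) (hE : E ∈ S2 R) (hsum : A + B * X 0 + C' * X 1 + E * (X 0 * X 1) = 0) :
    A = 0 ∧ B = 0 ∧ C' = 0 ∧ E = 0 := by
  have h00 := HasPar.of_mem_S2 hA
  have h10 : HasPar 1 0 (B * X 0) :=
    HasPar.congr ((HasPar.of_mem_S2 hB).mul HasPar.X0) (by decide) (by decide)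
  have h01 : HasPar 0 1 (C' * X 1) :=
    HasPar.congr ((HasPar.of_mem_S2 hC).mul HasPar.X1) (by decide) (by decide)
  have h11 : HasPar 1 1 (E * (X 0 * X 1)) :=
    HasPar.congr ((HasPar.of_mem_S2 hE).mul (HasPar.X0.mul HasPar.X1)) (by decide) (by decide)
  obtain ⟨e0, e1, e2, e3⟩ := indep4 h00 h10 h01 h11 hsum
  refine ⟨e0, ?_, ?_, ?_⟩
  · exact mul_monomial_one_cancel (Finsupp.single 0 1) e1
  · exact mul_monomial_one_cancel (Finsupp.single 1 1) e2
  · refine mul_monomial_one_cancel (Finsupp.single 0 1 + Finsupp.single 1 1) ?_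
    rw [← e3]
    congr 1
    rw [← mul_one (1 : R), ← monomial_mul]
    rfl

/-! ### derivations in characteristic two -/

section Deriv

variable [CharP R 2] (D : Derivation R (MvPolynomial (Fin 2) R) (MvPolynomial (Fin 2) R))

theorem D_expand (r : MvPolynomial (Fin 2) R) : D (expand 2 r) = 0 := by
  induction r using MvPolynomial.induction_on with
  | C c => rw [expand_C]; exact derivation_C D c
  | add p q hp hq => rw [map_add, map_add, hp, hq, add_zero]
  | mul_X p i hp =>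
    rw [map_mul, expand_X, Derivation.leibniz, hp, smul_zero, add_zero, Derivation.leibniz_pow,
      CharTwo.two_nsmul, smul_zero]

theorem D_S2 {z : MvPolynomial (Fin 2) R} (hz : z ∈ S2 R) : D z = 0 := by
  obtain ⟨r, rfl⟩ := hz
  exact D_expand D r

theorem D_comb {A B C' E : MvPolynomial (Fin 2) R} (hA : A ∈ S2 R) (hB : B ∈ S2 R)
    (hC : C' ∈ S2 R) (hE : E ∈ S2 R) (ξ η : MvPolynomial (Fin 2) R) :
    D (A + B * ξ + C' * η + E * (ξ * η)) =
      B * D ξ + C' * D η + E * (ξ * D η + η * D ξ) := by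
  simp only [map_add, Derivation.leibniz, D_S2 D hA, D_S2 D hB, D_S2 D hC, D_S2 D hE,
    smul_eq_mul, mul_zero, add_zero, zero_add]

omit [CharP R 2] in
theorem D_adjoin (s : Set (MvPolynomial (Fin 2) R)) (hs : ∀ z ∈ s, D z = 0) :
    ∀ a ∈ Algebra.adjoin R s, D a = 0 := by
  intro a ha
  induction ha using Algebra.adjoin_induction with
  | mem z hz => exact hs z hz
  | algebraMap r => exact D.map_algebraMap r
  | add x y _ _ hx hy => rw [map_add, hx, hy, add_zero]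
  | mul x y _ _ hx hy => rw [Derivation.leibniz, hx, hy, smul_zero, smul_zero, add_zero]

omit [CharP R 2] in
theorem S2_le_adjoin (s : Set (MvPolynomial (Fin 2) R)) (h0 : X 0 ^ 2 ∈ s) (h1 : X 1 ^ 2 ∈ s) :
    S2 R ≤ Algebra.adjoin R s := by
  rintro z ⟨r, rfl⟩
  show expand 2 r ∈ Algebra.adjoin R s
  induction r using MvPolynomial.induction_on with
  | C c => rw [expand_C]; exact (Algebra.adjoin R s).algebraMap_mem c
  | add p q hp hq => rw [map_add]; exact add_mem hp hq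
  | mul_X p i hp =>
    rw [map_mul, expand_X]
    refine mul_mem hp ?_
    fin_cases i
    · exact Algebra.subset_adjoin h0
    · exact Algebra.subset_adjoin h1

variable {D} {ξ η α β w P Q : MvPolynomial (Fin 2) R} {t : Rˣ}

/-- the generator `Q ξ + P η + τ ξ η` is killed by the vector field -/
theorem D_gen (hP : P ∈ S2 R) (hQ : Q ∈ S2 R)
    (hDξ : D ξ = w * (P + C (t : R) * ξ)) (hDη : D η = w * (Q + C (t : R) * η)) :
    D (Q * ξ + P * η + C (t : R) * (ξ * η)) = 0 := by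
  have h2 : (2 : MvPolynomial (Fin 2) R) = 0 := CharTwo.two_eq_zero
  have := D_comb D (zero_mem (S2 R)) hQ hP (C_mem_S2 (t : R)) ξ η
  rw [zero_add] at this
  rw [this, hDξ, hDη]
  have : Q * (w * (P + C (t : R) * ξ)) + P * (w * (Q + C (t : R) * η)) +
      C (t : R) * (ξ * (w * (Q + C (t : R) * η)) + η * (w * (P + C (t : R) * ξ))) =
      2 * (w * (P * Q + C (t : R) * Q * ξ + C (t : R) * P * η + C (t : R) ^ 2 * ξ * η)) := by
    ring
  rw [this, h2, zero_mul]

/-- the kernel computation: an element `A + B ξ + C η + E ξ η` killed by the vector field is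
`A + τ⁻¹ E (Q ξ + P η + τ ξ η)` -/
theorem ker_deriv (hα : α ∈ S2 R) (hβ : β ∈ S2 R) (hP : P ∈ S2 R) (hQ : Q ∈ S2 R)
    (hαr : ∀ z, z * α = 0 → z = 0) (hβr : ∀ z, z * β = 0 → z = 0)
    (hwr : ∀ z, w * z = 0 → z = 0) (hξ : ξ = α * X 0) (hη : η = β * X 1)
    (hDξ : D ξ = w * (P + C (t : R) * ξ)) (hDη : D η = w * (Q + C (t : R) * η))
    {A B C' E : MvPolynomial (Fin 2) R} (hA : A ∈ S2 R) (hB : B ∈ S2 R)
    (hC : C' ∈ S2 R) (hE : E ∈ S2 R)
    (hD : D (A + B * ξ + C' * η + E * (ξ * η)) = 0) :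
    A + B * ξ + C' * η + E * (ξ * η) =
      A + C ((t⁻¹ : Rˣ) : R) * E * (Q * ξ + P * η + C (t : R) * (ξ * η)) := by
  have h2 : (2 : MvPolynomial (Fin 2) R) = 0 := CharTwo.two_eq_zero
  rw [D_comb D hA hB hC hE, hDξ, hDη] at hD
  have e1 : B * (w * (P + C (t : R) * ξ)) + C' * (w * (Q + C (t : R) * η)) +
      E * (ξ * (w * (Q + C (t : R) * η)) + η * (w * (P + C (t : R) * ξ))) =
      w * ((B * P + C' * Q) + ((C (t : R) * B + E * Q) * α) * X 0 +
        ((C (t : R) * C' + E * P) * β) * X 1) +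
        2 * (w * C (t : R) * E * ξ * η) := by
    rw [hξ, hη]; ring
  rw [e1, h2, zero_mul, add_zero] at hD
  have e2 : (B * P + C' * Q) + ((C (t : R) * B + E * Q) * α) * X 0 +
        ((C (t : R) * C' + E * P) * β) * X 1 + 0 * (X 0 * X 1) = 0 := by
    rw [zero_mul, add_zero]
    exact hwr _ hD
  have ht := C_mem_S2 (R := R) (t : R)
  obtain ⟨-, e3, e4, -⟩ := indep4' (add_mem (mul_mem hB hP) (mul_mem hC hQ))
    (mul_mem (add_mem (mul_mem ht hB) (mul_mem hE hQ)) hα)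
    (mul_mem (add_mem (mul_mem ht hC) (mul_mem hE hP)) hβ) (zero_mem _) e2
  have e5 := CharTwo.add_eq_zero.1 (hαr _ e3)
  have e6 := CharTwo.add_eq_zero.1 (hβr _ e4)
  have hinv : C ((t⁻¹ : Rˣ) : R) * C (t : R) = (1 : MvPolynomial (Fin 2) R) := by
    rw [← C_mul, Units.inv_mul, C_1]
  have hB' : B = C ((t⁻¹ : Rˣ) : R) * (E * Q) := by
    rw [← e5, ← mul_assoc, hinv, one_mul]
  have hC' : C' = C ((t⁻¹ : Rˣ) : R) * (E * P) := by
    rw [← e6, ← mul_assoc, hinv, one_mul]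
  have : A + C ((t⁻¹ : Rˣ) : R) * E * (Q * ξ + P * η + C (t : R) * (ξ * η)) =
      A + (C ((t⁻¹ : Rˣ) : R) * (E * Q)) * ξ + (C ((t⁻¹ : Rˣ) : R) * (E * P)) * η +
        (C ((t⁻¹ : Rˣ) : R) * C (t : R)) * E * (ξ * η) := by ring
  rw [this, hinv, one_mul, ← hB', ← hC']

/-- membership version of `ker_deriv` -/
theorem ker_deriv_mem (hα : α ∈ S2 R) (hβ : β ∈ S2 R) (hP : P ∈ S2 R) (hQ : Q ∈ S2 R)
    (hαr : ∀ z, z * α = 0 → z = 0) (hβr : ∀ z, z * β = 0 → z = 0)
    (hwr : ∀ z, w * z = 0 → z = 0) (hξ : ξ = α * X 0) (hη : η = β * X 1)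
    (hDξ : D ξ = w * (P + C (t : R) * ξ)) (hDη : D η = w * (Q + C (t : R) * η))
    {A B C' E : MvPolynomial (Fin 2) R} (hA : A ∈ S2 R) (hB : B ∈ S2 R)
    (hC : C' ∈ S2 R) (hE : E ∈ S2 R)
    (hD : D (A + B * ξ + C' * η + E * (ξ * η)) = 0)
    (s : Set (MvPolynomial (Fin 2) R)) (h0 : X 0 ^ 2 ∈ s) (h1 : X 1 ^ 2 ∈ s)
    (hg : Q * ξ + P * η + C (t : R) * (ξ * η) ∈ s) :
    A + B * ξ + C' * η + E * (ξ * η) ∈ Algebra.adjoin R s := by
  rw [ker_deriv hα hβ hP hQ hαr hβr hwr hξ hη hDξ hDη hA hB hC hE hD]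
  have hle := S2_le_adjoin s h0 h1
  exact add_mem (hle hA) (mul_mem (mul_mem (hle (C_mem_S2 _)) (hle hE)) (Algebra.subset_adjoin hg))

end Deriv

/-! ### the module `S2 + S2 ξ + S2 η + S2 ξ η` -/

/-- `a` is an `R[u², v²]`-combination of `1, ξ, η, ξ η` -/
def InT (ξ η a : MvPolynomial (Fin 2) R) : Prop :=
  ∃ A ∈ S2 R, ∃ B ∈ S2 R, ∃ C' ∈ S2 R, ∃ E ∈ S2 R, a = A + B * ξ + C' * η + E * (ξ * η)

theorem InT.of_S2 {ξ η a : MvPolynomial (Fin 2) R} (ha : a ∈ S2 R) : InT ξ η a :=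
  ⟨a, ha, 0, zero_mem _, 0, zero_mem _, 0, zero_mem _, by ring⟩

theorem InT.add {ξ η a a' : MvPolynomial (Fin 2) R} (ha : InT ξ η a) (ha' : InT ξ η a') :
    InT ξ η (a + a') := by
  obtain ⟨A, hA, B, hB, C', hC, E, hE, rfl⟩ := ha
  obtain ⟨A', hA', B', hB', C'', hC', E', hE', rfl⟩ := ha'
  exact ⟨A + A', add_mem hA hA', B + B', add_mem hB hB', C' + C'', add_mem hC hC',
    E + E', add_mem hE hE', by ring⟩

theorem InT.mul {ξ η a a' : MvPolynomial (Fin 2) R} (hξ : ξ ^ 2 ∈ S2 R) (hη : η ^ 2 ∈ S2 R)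
    (ha : InT ξ η a) (ha' : InT ξ η a') : InT ξ η (a * a') := by
  obtain ⟨A, hA, B, hB, C', hC, E, hE, rfl⟩ := ha
  obtain ⟨A', hA', B', hB', C'', hC', E', hE', rfl⟩ := ha'
  refine ⟨A * A' + B * B' * ξ ^ 2 + C' * C'' * η ^ 2 + E * E' * (ξ ^ 2 * η ^ 2), ?_,
    A * B' + B * A' + (C' * E' + E * C'') * η ^ 2, ?_,
    A * C'' + C' * A' + (B * E' + E * B') * ξ ^ 2, ?_,
    A * E' + E * A' + B * C'' + C' * B', ?_, by ring⟩
  · exact add_mem (add_mem (add_mem (mul_mem hA hA') (mul_mem (mul_mem hB hB') hξ))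
      (mul_mem (mul_mem hC hC') hη)) (mul_mem (mul_mem hE hE') (mul_mem hξ hη))
  · exact add_mem (add_mem (mul_mem hA hB') (mul_mem hB hA'))
      (mul_mem (add_mem (mul_mem hC hE') (mul_mem hE hC')) hη)
  · exact add_mem (add_mem (mul_mem hA hC') (mul_mem hC hA'))
      (mul_mem (add_mem (mul_mem hB hE') (mul_mem hE hB')) hξ)
  · exact add_mem (add_mem (add_mem (mul_mem hA hE') (mul_mem hE hA')) (mul_mem hB hC'))
      (mul_mem hC hB')

theorem InT.adjoin {ξ η : MvPolynomial (Fin 2) R} (hξ : ξ ^ 2 ∈ S2 R) (hη : η ^ 2 ∈ S2 R)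
    (s : Set (MvPolynomial (Fin 2) R)) (hs : ∀ z ∈ s, InT ξ η z) :
    ∀ a ∈ Algebra.adjoin R s, InT ξ η a := by
  intro a ha
  induction ha using Algebra.adjoin_induction with
  | mem z hz => exact hs z hz
  | algebraMap r => exact InT.of_S2 (C_mem_S2 r)
  | add x y _ _ hx hy => exact hx.add hy
  | mul x y _ _ hx hy => exact InT.mul hξ hη hx hy

theorem mul_X_pow_cancel {B : MvPolynomial (Fin 2) R} (i : Fin 2) (n : ℕ)
    (h : B * X i ^ n = 0) : B = 0 := by
  rw [X_pow_eq_monomial] at h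
  exact mul_monomial_one_cancel _ h

end Groth.Agent.Helper5.KumFam
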