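import Mathlib

namespace Helper5.S11049

variable {k : Type*} [Ring k] {M M' : Type*} [AddCommGroup M] [Module k M]
  [AddCommGroup M'] [Module k M']

/-- `0 → M/p → M'/q → M'/r → 0` is exact when `p = f⁻¹ q` and `r = range f ⊔ q`. -/
lemma length_quot_eq_add (f : M →ₗ[k] M') (p : Submodule k M) (q r : Submodule k M')
    (hp : p = q.comap f) (hr : r = LinearMap.range f ⊔ q) :
    Module.length k (M' ⧸ q) = Module.length k (M ⧸ p) + Module.length k (M' ⧸ r) := by
  have hqr : q ≤ r := hr ▸ le_sup_right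
  have h1 : p ≤ q.comap f := hp.le
  have h2 : q ≤ r.comap (LinearMap.id : M' →ₗ[k] M') := by simpa using hqr
  refine Module.length_eq_add_of_exact (p.mapQ q f h1) (q.mapQ r LinearMap.id h2) ?_ ?_ ?_
  · rw [← LinearMap.ker_eq_bot, Submodule.ker_mapQ, ← hp, Submodule.mkQ_map_self]
  · intro y
    obtain ⟨y, rfl⟩ := Submodule.Quotient.mk_surjective _ y
    exact ⟨Submodule.Quotient.mk y, rfl⟩
  · rw [LinearMap.exact_iff, Submodule.ker_mapQ, Submodule.range_mapQ]
    simp only [Submodule.comap_id]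
    rw [hr, Submodule.map_sup, Submodule.mkQ_map_self, sup_bot_eq]

end Helper5.S11049

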