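import Mathlib
universe u
open TensorProduct

namespace Groth.Agent.Helper5.NilPow

/-- In a commutative algebra of dimension `d` over a field, the `d`-th power of the nilradical vanishes. -/
lemma nilradical_pow_finrank (k : Type*) [Field k] (R : Type*) [CommRing R] [Algebra k R]
    [FiniteDimensional k R] (d : ℕ) (hd : Module.finrank k R = d) :
    (nilradical R) ^ d = ⊥ := by
  have hart : IsArtinianRing R := IsArtinianRing.of_finite k R
  have hnoeth : IsNoetherianRing R := inferInstance
  set n := nilradical R with hn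
  have hjac : n ≤ Ideal.jacobson ⊥ := Ideal.radical_le_jacobson
  have key : ∀ j : ℕ, n ^ j = ⊥ ∨ Module.finrank k ((n ^ j).restrictScalars k) + j ≤ d := by
    intro j
    induction j with
    | zero =>
      right
      rw [pow_zero, Ideal.one_eq_top, add_zero, ← hd]
      exact Submodule.finrank_le _
    | succ j ih =>
      rcases ih with h0 | hle
      · left; rw [pow_succ, h0, Ideal.bot_mul]
      · by_cases h0 : n ^ j = ⊥
        · left; rw [pow_succ, h0, Ideal.bot_mul]
        · right
          have hlt : n ^ (j + 1) < n ^ j := by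
            refine lt_of_le_of_ne (Ideal.pow_le_pow_right (Nat.le_succ j)) ?_
            intro heq
            apply h0
            refine Submodule.eq_bot_of_le_smul_of_le_jacobson_bot n (n ^ j)
              (IsNoetherian.noetherian _) ?_ hjac
            rw [smul_eq_mul, ← pow_succ', heq]
          have hlt' : (n ^ (j + 1)).restrictScalars k < (n ^ j).restrictScalars k := hlt
          have := Submodule.finrank_lt_finrank_of_lt hlt'
          omega
  rcases key d with h | h
  · exact h
  · have h0 : Module.finrank k ((n ^ d).restrictScalars k) = 0 := by omega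
    have := Submodule.finrank_eq_zero.1 h0
    exact (Submodule.restrictScalars_eq_bot_iff k R R).1 this


/-- an element of a finite projective module over a reduced ring vanishing in all fibres is zero -/
lemma eq_zero_of_fibres (A : Type u) [CommRing A] [IsReduced A] (M : Type u) [AddCommGroup M]
    [Module A M] [Module.Finite A M] [Module.Projective A M] (z : M)
    (hz : ∀ p : PrimeSpectrum A, (1 : p.asIdeal.ResidueField) ⊗ₜ[A] z = 0) : z = 0 := by
  obtain ⟨n, f, g, -, -, hfg⟩ := Module.Finite.exists_comp_eq_id_of_projective A M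
  have hg : g z = 0 := by
    ext i
    have hmem : g z i ∈ nilradical A := by
      rw [nilradical_eq_sInf, Ideal.mem_sInf]
      intro p hp
      obtain ⟨P, rfl⟩ : ∃ P : PrimeSpectrum A, P.asIdeal = p := ⟨⟨p, hp⟩, rfl⟩
      have h1 := congrArg (LinearMap.lTensor P.asIdeal.ResidueField
        ((LinearMap.proj i : (Fin n → A) →ₗ[A] A) ∘ₗ g)) (hz P)
      rw [LinearMap.lTensor_tmul, map_zero] at h1
      have h2 := congrArg (TensorProduct.rid A P.asIdeal.ResidueField) h1
      rw [TensorProduct.rid_tmul, map_zero, LinearMap.comp_apply, LinearMap.proj_apply,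
        Algebra.smul_def, mul_one, Ideal.algebraMap_residueField_eq_zero] at h2
      exact h2
    rw [nilradical_eq_zero, Ideal.zero_eq_bot, Ideal.mem_bot] at hmem
    exact hmem
  have := congrArg f hg
  rw [map_zero, ← LinearMap.comp_apply, hfg, LinearMap.id_apply] at this
  exact this

/-- in a finite projective algebra of constant rank `d` over a reduced ring, `nilradical ^ d = 0` -/
theorem nilradical_pow_rank (A : Type u) [CommRing A] [IsReduced A] (M : Type u) [CommRing M]
    [Algebra A M] [Module.Finite A M] [Module.Projective A M] (d : ℕ)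
    (hrank : ∀ p : PrimeSpectrum A, Module.rankAtStalk (R := A) M p = d) :
    (nilradical M) ^ d = ⊥ := by
  rw [eq_bot_iff]
  intro z hz
  rw [Ideal.mem_bot]
  apply eq_zero_of_fibres A M z
  intro p
  let κ := p.asIdeal.ResidueField
  let ι : M →ₐ[A] κ ⊗[A] M := Algebra.TensorProduct.includeRight
  have hfin : Module.finrank κ (κ ⊗[A] M) = d := by
    let q : PrimeSpectrum κ := ⟨⊥, Ideal.isPrime_bot⟩
    have h1 := Module.rankAtStalk_baseChange (R := A) (M := M) (S := κ) q
    rw [Module.rankAtStalk_eq_finrank_of_free] at h1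
    have hq : q.comap (algebraMap A κ) = p := by
      apply PrimeSpectrum.ext
      ext a
      change algebraMap A κ a ∈ (⊥ : Ideal κ) ↔ a ∈ p.asIdeal
      rw [Ideal.mem_bot, Ideal.algebraMap_residueField_eq_zero]
    rw [hq, hrank p] at h1
    exact h1
  have hnil := nilradical_pow_finrank κ (κ ⊗[A] M) d hfin
  have hmap : Ideal.map ι (nilradical M) ≤ nilradical (κ ⊗[A] M) := by
    rw [Ideal.map_le_iff_le_comap]
    intro y hy
    exact (mem_nilradical.1 hy).map ι
  have h2 : ι z ∈ (nilradical (κ ⊗[A] M)) ^ d := by
    have h3 : ι z ∈ Ideal.map ι ((nilradical M) ^ d) := Ideal.mem_map_of_mem _ hz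
    rw [Ideal.map_pow] at h3
    exact Ideal.pow_right_mono hmap d h3
  rw [hnil, Ideal.mem_bot] at h2
  exact h2

theorem main (A : Type u) [CommRing A] [IsReduced A]
    (S : Type u) [CommRing S] [Algebra A S] (m : Ideal S) (I : Ideal S) (d : ℕ)
    [Module.Finite A (S ⧸ I)] [Module.Projective A (S ⧸ I)]
    (hrank : ∀ p : PrimeSpectrum A, Module.rankAtStalk (R := A) (S ⧸ I) p = d)
    (hsupp : m ≤ I.radical) :
    m ^ d ≤ I := by
  intro x hx
  rw [← Ideal.Quotient.eq_zero_iff_mem]
  have hnil := nilradical_pow_rank A (S ⧸ I) d hrank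
  have hmap : Ideal.map (Ideal.Quotient.mk I) m ≤ nilradical (S ⧸ I) := by
    rw [Ideal.map_le_iff_le_comap]
    intro y hy
    obtain ⟨k, hk⟩ := hsupp hy
    refine mem_nilradical.2 ⟨k, ?_⟩
    rw [← map_pow]
    exact Ideal.Quotient.eq_zero_iff_mem.2 hk
  have h2 : Ideal.Quotient.mk I x ∈ (nilradical (S ⧸ I)) ^ d := by
    have h3 : Ideal.Quotient.mk I x ∈ Ideal.map (Ideal.Quotient.mk I) (m ^ d) :=
      Ideal.mem_map_of_mem _ hx
    rw [Ideal.map_pow] at h3
    exact Ideal.pow_right_mono hmap d h3
  rw [hnil, Ideal.mem_bot] at h2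
  exact h2

end Groth.Agent.Helper5.NilPow
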