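import Mathlib

namespace Groth.Agent.Helper5.NormLocal

universe u

theorem main
    (k A : Type u) [Field k] [IsAlgClosed k] [CommRing A] [Algebra k A] [IsLocalRing A]
    [Module.Finite k A] (u : A) :
    algebraMap k (IsLocalRing.ResidueField A) (Algebra.norm k u) =
      IsLocalRing.residue A u ^ Module.finrank k A := by
  have hfin : Module.Finite k (IsLocalRing.ResidueField A) :=
    Module.Finite.of_surjective (IsScalarTower.toAlgHom k A (IsLocalRing.ResidueField A)).toLinearMap
      (IsLocalRing.residue_surjective)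
  have hbij : Function.Bijective (algebraMap k (IsLocalRing.ResidueField A)) :=
    IsAlgClosed.algebraMap_bijective_of_isIntegral
  obtain ⟨c, hc⟩ := hbij.2 (IsLocalRing.residue A u)
  set ν : A := u - algebraMap k A c with hν
  have hνm : ν ∈ IsLocalRing.maximalIdeal A := by
    rw [← IsLocalRing.residue_eq_zero_iff, hν, map_sub, ← hc]
    rw [IsScalarTower.algebraMap_apply k A (IsLocalRing.ResidueField A)]
    exact sub_self _
  have hart : IsArtinianRing A := IsArtinianRing.of_finite k A
  have hnil : IsNilpotent ν := by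
    have h1 : IsNilpotent (Ideal.jacobson (⊥ : Ideal A)) := IsArtinianRing.isNilpotent_jacobson_bot
    rw [IsLocalRing.jacobson_eq_maximalIdeal ⊥ bot_ne_top] at h1
    obtain ⟨n, hn⟩ := h1
    refine ⟨n, ?_⟩
    have : ν ^ n ∈ IsLocalRing.maximalIdeal A ^ n := Ideal.pow_mem_pow hνm n
    rw [hn] at this
    exact this
  set φ : Module.End k A := Algebra.lmul k A (-ν) with hφ
  have hφnil : IsNilpotent φ := by
    obtain ⟨n, hn⟩ := hnil
    refine ⟨n, ?_⟩
    rw [hφ, ← map_pow, neg_pow, hn, mul_zero, map_zero]
  have hchar : φ.charpoly = Polynomial.X ^ Module.finrank k A :=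
    IsNilpotent.charpoly_eq_X_pow_finrank hφnil
  have hdet : Algebra.norm k u = c ^ Module.finrank k A := by
    rw [Algebra.norm_apply]
    have h1 := LinearMap.eval_charpoly φ c
    rw [hchar, Polynomial.eval_pow, Polynomial.eval_X] at h1
    rw [h1]
    congr 1
    ext a
    simp only [LinearMap.sub_apply, Module.algebraMap_end_apply, hφ,
      Algebra.coe_lmul_eq_mul, LinearMap.mul_apply', hν]
    rw [Algebra.smul_def]
    ring
  rw [hdet, map_pow, hc]

end Groth.Agent.Helper5.NormLocal
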