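import Mathlib

set_option autoImplicit false

namespace Groth.Agent.Helper5.OmegaSep
open TensorProduct

variable {k K ι : Type*} [Field k] [Field K] [Algebra k K] {x : ι → K}

open scoped IntermediateField.algebraAdjoinAdjoin in
/-- `k[X_i] → K, X_i ↦ x_i` is formally étale when `x` is a separating transcendence family. -/
theorem formallyEtale_aeval (hb : AlgebraicIndependent k x)
    [Algebra.IsSeparable (IntermediateField.adjoin k (Set.range x)) K] :
    letI := (MvPolynomial.aeval x : MvPolynomial ι k →ₐ[k] K).toRingHom.toAlgebra
    Algebra.FormallyEtale (MvPolynomial ι k) K := by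
  letI := (MvPolynomial.aeval x : MvPolynomial ι k →ₐ[k] K).toRingHom.toAlgebra
  letI : Algebra (MvPolynomial ι k) (Algebra.adjoin k (Set.range x)) :=
    hb.aevalEquiv.toAlgHom.toRingHom.toAlgebra
  letI : Algebra (MvPolynomial ι k) (IntermediateField.adjoin k (Set.range x)) :=
    ((algebraMap (Algebra.adjoin k (Set.range x)) (IntermediateField.adjoin k (Set.range x))).comp
      (algebraMap (MvPolynomial ι k) (Algebra.adjoin k (Set.range x)))).toAlgebra
  haveI : IsScalarTower (MvPolynomial ι k) (Algebra.adjoin k (Set.range x))
      (IntermediateField.adjoin k (Set.range x)) := IsScalarTower.of_algebraMap_eq' rfl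
  haveI : IsScalarTower (MvPolynomial ι k) (IntermediateField.adjoin k (Set.range x)) K := by
    refine IsScalarTower.of_algebraMap_eq' ?_
    refine MvPolynomial.ringHom_ext (fun r => ?_) (fun i => ?_)
    · show MvPolynomial.aeval x (MvPolynomial.C r) = _
      rw [MvPolynomial.aeval_C]
      show _ = ((hb.aevalEquiv (MvPolynomial.C r) : Algebra.adjoin k (Set.range x)) : K)
      rw [hb.aevalEquiv_apply_coe, MvPolynomial.aeval_C]
    · show MvPolynomial.aeval x (MvPolynomial.X i) = _
      rw [MvPolynomial.aeval_X]
      show _ = ((hb.aevalEquiv (MvPolynomial.X i) : Algebra.adjoin k (Set.range x)) : K)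
      rw [hb.aevalEquiv_apply_coe, MvPolynomial.aeval_X]
  haveI : Algebra.FormallyEtale (MvPolynomial ι k) (Algebra.adjoin k (Set.range x)) :=
    Algebra.FormallyEtale.of_equiv
      ({ hb.aevalEquiv.toRingEquiv with commutes' := fun r => rfl } :
        MvPolynomial ι k ≃ₐ[MvPolynomial ι k] Algebra.adjoin k (Set.range x))
  haveI : Algebra.FormallyEtale (Algebra.adjoin k (Set.range x))
      (IntermediateField.adjoin k (Set.range x)) :=
    Algebra.FormallyEtale.of_isLocalization (nonZeroDivisors _)
  haveI : Algebra.FormallyEtale (MvPolynomial ι k) (IntermediateField.adjoin k (Set.range x)) :=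
    Algebra.FormallyEtale.comp _ (Algebra.adjoin k (Set.range x)) _
  haveI : Algebra.FormallyEtale (IntermediateField.adjoin k (Set.range x)) K :=
    Algebra.FormallyEtale.of_isSeparable _ K
  exact Algebra.FormallyEtale.comp _ (IntermediateField.adjoin k (Set.range x)) _

/-- The differentials `d x_i` of a separating transcendence family form a basis of `Ω[K/k]`. -/
noncomputable def basis (hb : AlgebraicIndependent k x)
    [Algebra.IsSeparable (IntermediateField.adjoin k (Set.range x)) K] :
    Module.Basis ι K (Ω[K⁄k]) :=
  letI := (MvPolynomial.aeval x : MvPolynomial ι k →ₐ[k] K).toRingHom.toAlgebra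
  haveI : IsScalarTower k (MvPolynomial ι k) K := IsScalarTower.of_algebraMap_eq' (by
    ext r
    show _ = MvPolynomial.aeval x (MvPolynomial.C r)
    rw [MvPolynomial.aeval_C])
  haveI := formallyEtale_aeval hb
  ((KaehlerDifferential.mvPolynomialBasis k ι).baseChange K).map
    (KaehlerDifferential.tensorKaehlerEquivOfFormallyEtale k (MvPolynomial ι k) K)

theorem basis_apply (hb : AlgebraicIndependent k x)
    [Algebra.IsSeparable (IntermediateField.adjoin k (Set.range x)) K] (i : ι) :
    basis hb i = KaehlerDifferential.D k K (x i) := by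
  letI := (MvPolynomial.aeval x : MvPolynomial ι k →ₐ[k] K).toRingHom.toAlgebra
  haveI : IsScalarTower k (MvPolynomial ι k) K := IsScalarTower.of_algebraMap_eq' (by
    ext r
    show _ = MvPolynomial.aeval x (MvPolynomial.C r)
    rw [MvPolynomial.aeval_C])
  haveI := formallyEtale_aeval hb
  simp only [basis, Module.Basis.map_apply, Module.Basis.baseChange_apply,
    KaehlerDifferential.mvPolynomialBasis_apply,
    KaehlerDifferential.tensorKaehlerEquivOfFormallyEtale_apply,
    KaehlerDifferential.mapBaseChange_tmul, one_smul, KaehlerDifferential.map_D]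
  congr 1
  show MvPolynomial.aeval x (MvPolynomial.X i) = x i
  rw [MvPolynomial.aeval_X]

/-- For a finitely generated field extension of a perfect field, the rank of the Kähler
differentials is the transcendence degree. -/
theorem rank_eq_trdeg (k : Type*) {F : Type*} [Field k] [Field F] [Algebra k F] [PerfectField k]
    [Algebra.EssFiniteType k F] : Module.rank F (Ω[F⁄k]) = Algebra.trdeg k F := by
  obtain ⟨s, hs, H⟩ := exists_isTranscendenceBasis_and_isSeparable_of_perfectField k F
  haveI : Algebra.IsSeparable (↥(IntermediateField.adjoin k (Set.range ((↑) : s → F)))) F := by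
    convert! H <;> simp
  rw [← (basis (x := ((↑) : s → F)) hs.1).mk_eq_rank'', hs.cardinalMk_eq_trdeg]

end Groth.Agent.Helper5.OmegaSep
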