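import Mathlib

/-!
# Sheaves on an open subspace (helper5)

For an open embedding `j : U ⟶ X`: `j_*` on (pre)sheaves is fully faithful, hence the counit
`j⁻¹ j_* ⟶ 𝟭` is an isomorphism.
-/

set_option autoImplicit false
open CategoryTheory CategoryTheory.Limits Opposite TopologicalSpace TopCat

universe u

namespace Groth.Agent.Lib.Helper5.OpenEmbSh

variable {U X : TopCat.{u}} (j : U ⟶ X) (hj : Topology.IsOpenEmbedding j)

instance isIso_unit : IsIso hj.isOpenMap.adjunction.unit := by
  haveI : ∀ V, IsIso (hj.isOpenMap.adjunction.unit.app V) := fun V =>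
    ⟨⟨homOfLE (by
        rintro x ⟨y, hy, e⟩
        exact hj.injective e ▸ hy), Subsingleton.elim _ _, Subsingleton.elim _ _⟩⟩
  exact NatIso.isIso_of_isIso_app _

instance isIso_op_counit : IsIso hj.isOpenMap.adjunction.op.counit := by
  rw [Adjunction.op_counit]
  haveI := isIso_unit j hj
  infer_instance

variable (A : Type (u + 1)) [Category.{u} A]

/-- `(j_!)^p ⊣ j_*` on presheaves. -/
def presheafAdj :
    (Functor.whiskeringLeft _ _ A).obj hj.functor.op ⊣ Presheaf.pushforward A j :=
  Adjunction.whiskerLeft A hj.isOpenMap.adjunction.op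

instance isIso_presheafAdj_counit : IsIso (presheafAdj j hj A).counit := by
  haveI : ∀ P, IsIso ((presheafAdj j hj A).counit.app P) := fun P => by
    dsimp [presheafAdj, Adjunction.whiskerLeft]
    haveI := isIso_op_counit j hj
    haveI : IsIso (Functor.whiskerRight hj.isOpenMap.adjunction.op.counit P) :=
      Functor.isIso_whiskerRight _ _
    infer_instance
  exact NatIso.isIso_of_isIso_app _

/-- `j_*` on presheaves is fully faithful. -/
noncomputable def fullyFaithfulPresheafPushforward : (Presheaf.pushforward A j).FullyFaithful :=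
  (presheafAdj j hj A).fullyFaithfulROfIsIsoCounit

/-- `j_*` on sheaves is fully faithful. -/
noncomputable def fullyFaithfulPushforward : (Sheaf.pushforward A j).FullyFaithful :=
  Functor.FullyFaithful.ofCompFaithful (G := Sheaf.forget A X)
    (((fullyFaithfulSheafToPresheaf _ _).comp (fullyFaithfulPresheafPushforward j hj A)))

section Concrete

variable {FA : A → A → Type*} {CA : A → Type u} [∀ X Y, FunLike (FA X Y) (CA X) (CA Y)]
  [ConcreteCategory.{u} A FA] [HasColimits A] [HasLimits A] [PreservesLimits (forget A)]
  [PreservesFilteredColimits (forget A)] [(forget A).ReflectsIsomorphisms]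

include hj in
/-- The counit `j⁻¹ j_* ⟶ 𝟭` is an isomorphism. -/
lemma isIso_counit : IsIso (Sheaf.pullbackPushforwardAdjunction A j).counit := by
  haveI := (fullyFaithfulPushforward j hj A).full
  haveI := (fullyFaithfulPushforward j hj A).faithful
  infer_instance

end Concrete

end Groth.Agent.Lib.Helper5.OpenEmbSh
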