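import Mathlib
universe u
open PowerSeries Finset

namespace Groth.Agent.Helper5.PSqrt

variable {k : Type u} [Field k]

/-- coefficients of a square root of a power series with constant coefficient 1 -/
noncomputable def sc (u : ℕ → k) : ℕ → k
  | 0 => 1
  | n + 1 => (u (n + 1) - ∑ i : Fin n, sc u (i.1 + 1) * sc u (n - i.1)) / 2
decreasing_by
  all_goals simp_wf

lemma sc_zero (u : ℕ → k) : sc u 0 = 1 := by
  rw [sc]

lemma sc_succ (u : ℕ → k) (n : ℕ) :
    sc u (n + 1) = (u (n + 1) - ∑ i ∈ range n, sc u (i + 1) * sc u (n - i)) / 2 := by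
  rw [sc, Finset.sum_range]

theorem exists_sqrt (h2 : (2 : k) ≠ 0) (U : PowerSeries k) (hU : constantCoeff U = 1) :
    ∃ V : PowerSeries k, V * V = U := by
  refine ⟨PowerSeries.mk (sc fun n => coeff n U), ?_⟩
  ext n
  rw [coeff_mul]
  simp only [coeff_mk]
  rw [Finset.Nat.sum_antidiagonal_eq_sum_range_succ_mk]
  cases n with
  | zero =>
    simp only [range_one, sum_singleton, Nat.sub_zero]
    rw [sc_zero, mul_one, coeff_zero_eq_constantCoeff_apply, hU]
  | succ n =>
    rw [Finset.sum_range_succ, Finset.sum_range_succ']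
    simp only [Nat.sub_self, Nat.sub_zero]
    rw [sc_zero, one_mul, mul_one, sc_succ]
    have : ∑ x ∈ range n, sc (fun n => coeff n U) (x + 1) * sc (fun n => coeff n U) (n + 1 - (x + 1)) =
        ∑ i ∈ range n, sc (fun n => coeff n U) (i + 1) * sc (fun n => coeff n U) (n - i) := by
      refine Finset.sum_congr rfl fun i _ => ?_
      congr 2
      omega
    rw [this]
    field_simp
    ring


open HahnSeries in
theorem main (k : Type u) [Field k] [IsAlgClosed k] (h2 : (2 : k) ≠ 0)
    (f : LaurentSeries k) (hf : f ≠ 0) : IsSquare f ↔ Even f.order := by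
  constructor
  · rintro ⟨g, rfl⟩
    have hg : g ≠ 0 := by
      rintro rfl
      exact hf (mul_zero _)
    rw [HahnSeries.order_mul hg hg]
    exact ⟨g.order, rfl⟩
  · rintro ⟨m, hm⟩
    -- leading coefficient
    set P := f.powerSeriesPart with hP
    have hc : constantCoeff P ≠ 0 := by
      rw [← coeff_zero_eq_constantCoeff_apply, hP, LaurentSeries.powerSeriesPart_coeff]
      simpa using (HahnSeries.coeff_order_eq_zero.not.2 hf)
    obtain ⟨e, he⟩ := IsAlgClosed.exists_pow_nat_eq (constantCoeff P) (n := 2) (by norm_num)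
    have he0 : e ≠ 0 := by
      rintro rfl
      apply hc
      rw [← he]; ring
    let U : PowerSeries k := PowerSeries.C (constantCoeff P)⁻¹ * P
    have hU : constantCoeff U = 1 := by
      simp only [U, map_mul, constantCoeff_C]
      exact inv_mul_cancel₀ hc
    obtain ⟨V, hV⟩ := exists_sqrt h2 U hU
    have hPU : P = PowerSeries.C (e ^ 2) * U := by
      simp only [U]
      rw [← mul_assoc, ← map_mul, he, mul_inv_cancel₀ hc, map_one, one_mul]
    refine ⟨HahnSeries.single m (1 : k) * HahnSeries.ofPowerSeries ℤ k (PowerSeries.C e * V), ?_⟩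
    have h1 : f = HahnSeries.single f.order (1 : k) * HahnSeries.ofPowerSeries ℤ k P :=
      (LaurentSeries.single_order_mul_powerSeriesPart f).symm
    have h3 : HahnSeries.single m (1 : k) * HahnSeries.single m (1 : k) =
        HahnSeries.single f.order (1 : k) := by
      rw [HahnSeries.single_mul_single, mul_one, hm]
    have h4 : (PowerSeries.C e * V) * (PowerSeries.C e * V) = P := by
      rw [hPU, ← hV, map_pow]
      ring
    calc f = HahnSeries.single f.order (1 : k) * HahnSeries.ofPowerSeries ℤ k P := h1
      _ = (HahnSeries.single m (1 : k) * HahnSeries.single m (1 : k)) *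
            (HahnSeries.ofPowerSeries ℤ k (PowerSeries.C e * V) *
              HahnSeries.ofPowerSeries ℤ k (PowerSeries.C e * V)) := by
          rw [h3, ← map_mul, h4]
      _ = _ := by ring

end Groth.Agent.Helper5.PSqrt
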