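import Mathlib

/-!
# Functors preserving pullbacks preserve Čech nerves (helper5)
-/
set_option autoImplicit false
universe v₁ v₂ u₁ u₂
open CategoryTheory Limits Opposite

namespace Groth.Agent.Lib.Helper5.Misc.PresCech

section

variable {𝒳 : Type u₁} [Category.{v₁} 𝒳]

/-- `P` with the projections `π j : P ⟶ X` is the `(n+1)`-fold fibre power of `f : X ⟶ B` -/
def IsWP {B X : 𝒳} (f : X ⟶ B) (n : ℕ) (P : 𝒳) (π : Fin (n + 1) → (P ⟶ X)) : Prop :=
  (∀ i j, π i ≫ f = π j ≫ f) ∧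
    ∀ (T : 𝒳) (t : Fin (n + 1) → (T ⟶ X)), (∀ i j, t i ≫ f = t j ≫ f) →
      ∃! l : T ⟶ P, ∀ j, l ≫ π j = t j

variable {B X : 𝒳} {f : X ⟶ B} {n : ℕ}

lemma IsWP.hom_ext {P : 𝒳} {π : Fin (n + 1) → (P ⟶ X)} (h : IsWP f n P π) {T : 𝒳} {l l' : T ⟶ P}
    (hl : ∀ j, l ≫ π j = l' ≫ π j) : l = l' := by
  obtain ⟨m, -, hm⟩ := h.2 T (fun j => l ≫ π j) (fun i j => by
    rw [Category.assoc, Category.assoc, h.1 i j])
  exact (hm l (fun _ => rfl)).trans (hm l' (fun j => (hl j).symm)).symm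

/-- two models of the fibre power are isomorphic compatibly with the projections -/
lemma IsWP.exists_iso {P P' : 𝒳} {π : Fin (n + 1) → (P ⟶ X)} {π' : Fin (n + 1) → (P' ⟶ X)}
    (h : IsWP f n P π) (h' : IsWP f n P' π') : ∃ θ : P ≅ P', ∀ j, θ.hom ≫ π' j = π j := by
  obtain ⟨a, ha, -⟩ := h'.2 P π h.1
  obtain ⟨b, hb, -⟩ := h.2 P' π' h'.1
  refine ⟨⟨a, b, ?_, ?_⟩, ha⟩
  · apply h.hom_ext
    intro j
    rw [Category.assoc, hb, ha, Category.id_comp]
  · apply h'.hom_ext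
    intro j
    rw [Category.assoc, ha, hb, Category.id_comp]

/-- transport along an isomorphism -/
lemma IsWP.of_iso {P P' : 𝒳} {π : Fin (n + 1) → (P ⟶ X)} {π' : Fin (n + 1) → (P' ⟶ X)}
    (h' : IsWP f n P' π') (θ : P ≅ P') (hθ : ∀ j, θ.hom ≫ π' j = π j) : IsWP f n P π := by
  refine ⟨fun i j => ?_, fun T t ht => ?_⟩
  · rw [← hθ i, ← hθ j, Category.assoc, Category.assoc, h'.1 i j]
  · obtain ⟨l, hl, hu⟩ := h'.2 T t ht
    refine ⟨l ≫ θ.inv, fun j => ?_, fun m hm => ?_⟩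
    · rw [← hθ j, Category.assoc, Iso.inv_hom_id_assoc, hl]
    · rw [← hu (m ≫ θ.hom) (fun j => by rw [Category.assoc, hθ, hm]), Category.assoc,
        Iso.hom_inv_id, Category.comp_id]

/-- Mathlib's wide pullback is a model -/
lemma isWP_widePullback [HasWidePullback B (fun _ : Fin (n + 1) => X) (fun _ => f)] :
    IsWP f n (widePullback B (fun _ : Fin (n + 1) => X) (fun _ => f))
      (fun j => WidePullback.π (fun _ : Fin (n + 1) => f) j) := by
  refine ⟨fun i j => ?_, fun T t ht => ?_⟩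
  · rw [WidePullback.π_arrow, WidePullback.π_arrow]
  · refine ⟨WidePullback.lift (t 0 ≫ f) t (fun j => ht j 0), fun j => WidePullback.lift_π _ _ _ _ _,
      fun m hm => ?_⟩
    apply WidePullback.hom_ext
    · intro j
      rw [hm, WidePullback.lift_π]
    · rw [WidePullback.lift_base, ← WidePullback.π_arrow (fun _ : Fin (n + 1) => f) 0,
        ← Category.assoc, hm]

/-- the case `n = 0` -/
lemma isWP_zero_iff_isIso {P : 𝒳} (π : Fin (0 + 1) → (P ⟶ X)) : IsWP f 0 P π ↔ IsIso (π 0) := by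
  have : Subsingleton (Fin (0 + 1)) := inferInstanceAs (Subsingleton (Fin 1))
  constructor
  · intro h
    obtain ⟨l, hl, -⟩ := h.2 X (fun _ => 𝟙 X) (fun _ _ => rfl)
    refine ⟨l, ?_, hl 0⟩
    apply h.hom_ext
    intro j
    obtain rfl : j = 0 := Subsingleton.elim _ _
    rw [Category.assoc, hl, Category.comp_id, Category.id_comp]
  · intro h
    refine ⟨fun i j => ?_, fun T t _ => ?_⟩
    · rw [Subsingleton.elim i j]
    · refine ⟨t 0 ≫ inv (π 0), fun j => ?_, fun m hm => ?_⟩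
      · obtain rfl : j = 0 := Subsingleton.elim _ _
        rw [Category.assoc, IsIso.inv_hom_id, Category.comp_id]
      · rw [← hm 0, Category.assoc, IsIso.hom_inv_id, Category.comp_id]

/-- adding one factor by a pullback -/
lemma IsWP.succ {P : 𝒳} {π : Fin (n + 1) → (P ⟶ X)} (h : IsWP f n P π) {Q : 𝒳} {q₁ : Q ⟶ P}
    {q₂ : Q ⟶ X} (sq : IsPullback q₁ q₂ (π 0 ≫ f) f) :
    IsWP f (n + 1) Q (Fin.cases q₂ (fun j => q₁ ≫ π j)) := by
  have hb : ∀ j : Fin (n + 2), (Fin.cases q₂ (fun j => q₁ ≫ π j) : Fin (n + 2) → (Q ⟶ X)) j ≫ f =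
      q₂ ≫ f := by
    intro j
    refine Fin.cases rfl (fun j => ?_) j
    simp only [Fin.cases_succ, Category.assoc]
    rw [h.1 j 0, sq.w]
  refine ⟨fun i j => (hb i).trans (hb j).symm, fun T t ht => ?_⟩
  obtain ⟨l₁, hl₁, hu₁⟩ := h.2 T (fun j => t j.succ) (fun i j => ht _ _)
  have hw : l₁ ≫ π 0 ≫ f = t 0 ≫ f := by
    rw [← Category.assoc, hl₁]
    exact ht _ _
  refine ⟨sq.lift l₁ (t 0) hw, fun j => ?_, fun m hm => ?_⟩
  · refine Fin.cases ?_ (fun j => ?_) j
    · simp only [Fin.cases_zero]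
      exact sq.lift_snd _ _ _
    · simp only [Fin.cases_succ]
      rw [← Category.assoc, sq.lift_fst, hl₁]
  · apply sq.hom_ext
    · rw [sq.lift_fst]
      apply hu₁
      intro j
      have := hm j.succ
      simp only [Fin.cases_succ] at this
      rw [Category.assoc]
      exact this
    · rw [sq.lift_snd]
      have := hm 0
      simp only [Fin.cases_zero] at this
      exact this

end

section preserve

variable {𝒳 : Type u₁} [Category.{v₁} 𝒳] {𝒴 : Type u₂} [Category.{v₂} 𝒴] (G : 𝒳 ⥤ 𝒴)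
  [PreservesLimitsOfShape WalkingCospan G] [HasPullbacks 𝒳] {B X : 𝒳} (f : X ⟶ B)
  [∀ n : ℕ, HasWidePullback B (fun _ : Fin (n + 1) => X) (fun _ => f)]

/-- **A functor preserving pullbacks preserves fibre powers.** -/
theorem IsWP.map (n : ℕ) : ∀ {P : 𝒳} {π : Fin (n + 1) → (P ⟶ X)} (_ : IsWP f n P π),
    IsWP (G.map f) n (G.obj P) (fun j => G.map (π j)) := by
  induction n with
  | zero =>
    intro P π h
    have : IsIso (π 0) := (isWP_zero_iff_isIso π).1 h
    exact (isWP_zero_iff_isIso (f := G.map f) (fun j => G.map (π j))).2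
      (inferInstanceAs (IsIso (G.map (π 0))))
  | succ n ih =>
    intro P π h
    have h' := isWP_widePullback (f := f) (n := n)
    have sq := IsPullback.of_hasPullback
      (WidePullback.π (fun _ : Fin (n + 1) => f) 0 ≫ f) f
    have hQ := h'.succ sq
    obtain ⟨θ, hθ⟩ := h.exists_iso hQ
    have sqG : IsPullback (G.map (pullback.fst (WidePullback.π (fun _ : Fin (n + 1) => f) 0 ≫ f) f))
        (G.map (pullback.snd (WidePullback.π (fun _ : Fin (n + 1) => f) 0 ≫ f) f))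
        (G.map (WidePullback.π (fun _ : Fin (n + 1) => f) 0) ≫ G.map f) (G.map f) := by
      rw [← G.map_comp]
      exact sq.map G
    have hGQ := (ih h').succ sqG
    refine hGQ.of_iso (G.mapIso θ) (fun j => ?_)
    refine Fin.cases ?_ (fun j => ?_) j
    · simp only [Fin.cases_zero, Functor.mapIso_hom]
      rw [← G.map_comp]
      exact congrArg G.map (hθ 0)
    · simp only [Fin.cases_succ, Functor.mapIso_hom]
      rw [← G.map_comp, ← G.map_comp]
      exact congrArg G.map (hθ j.succ)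

end preserve

section cech

open Simplicial

section

variable {𝒳 : Type u₁} [Category.{v₁} 𝒳] [HasFiniteWidePullbacks 𝒳] {K' K : 𝒳} (f : K' ⟶ K)

/-- the `n`-th term of the Čech nerve -/
noncomputable abbrev N (n : ℕ) : 𝒳 := widePullback K (fun _ : Fin (n + 1) => K') (fun _ => f)

/-- the projections of the `n`-th term of the Čech nerve -/
noncomputable abbrev pr (n : ℕ) (j : Fin (n + 1)) : N f n ⟶ K' :=
  WidePullback.π (fun _ : Fin (n + 1) => f) j

lemma cech_map_pr {m n : ℕ} (θ : ⦋m⦌ ⟶ ⦋n⦌) (k : Fin (m + 1)) :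
    ((Arrow.mk f).cechNerve.map θ.op : N f n ⟶ N f m) ≫ pr f m k = pr f n (θ.toOrderHom k) :=
  WidePullback.lift_π _ _ _ _ _

end

variable {𝒳 : Type u₁} [Category.{v₁} 𝒳] {𝒴 : Type u₂} [Category.{v₂} 𝒴] (G : 𝒳 ⥤ 𝒴)
  [PreservesLimitsOfShape WalkingCospan G] [HasPullbacks 𝒳] [HasFiniteWidePullbacks 𝒳]
  [HasFiniteWidePullbacks 𝒴] {K' K : 𝒳} (f : K' ⟶ K)

lemma exists_cechIso (n : ℕ) :
    ∃ θ : G.obj (N f n) ≅ N (G.map f) n, ∀ j, θ.hom ≫ pr (G.map f) n j = G.map (pr f n j) :=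
  (IsWP.map G f n (isWP_widePullback (f := f) (n := n))).exists_iso
    (isWP_widePullback (f := G.map f) (n := n))

/-- the comparison isomorphism `G(K'^{n+1}_K) ≅ (GK')^{n+1}_{GK}` -/
noncomputable def cechIso (n : ℕ) : G.obj (N f n) ≅ N (G.map f) n := (exists_cechIso G f n).choose

@[reassoc]
lemma cechIso_hom_pr (n : ℕ) (j : Fin (n + 1)) :
    (cechIso G f n).hom ≫ pr (G.map f) n j = G.map (pr f n j) :=
  (exists_cechIso G f n).choose_spec j

lemma cechIso_naturality {m n : ℕ} (θ : ⦋m⦌ ⟶ ⦋n⦌) :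
    G.map ((Arrow.mk f).cechNerve.map θ.op : N f n ⟶ N f m) ≫ (cechIso G f m).hom =
      (cechIso G f n).hom ≫ ((Arrow.mk (G.map f)).cechNerve.map θ.op : N (G.map f) n ⟶ N (G.map f) m) := by
  apply (isWP_widePullback (f := G.map f) (n := m)).hom_ext
  intro k
  change (_ ≫ _) ≫ pr (G.map f) m k = (_ ≫ _) ≫ pr (G.map f) m k
  rw [Category.assoc, Category.assoc, cechIso_hom_pr, cech_map_pr, cechIso_hom_pr, ← G.map_comp,
    cech_map_pr]

end cech

end Groth.Agent.Lib.Helper5.Misc.PresCech
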