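import Mathlib
import Groth.Prelude.Def_CohCx
import Groth.Agent.Lib.Helper3.TCech
import Groth.Agent.Lib.Helper5.Misc.InjTotAcyc
import Groth.Agent.Lib.Helper5.Misc.PresCech

/-!
# Inverse images of totally acyclic sheaves along `g` with `g_!` preserving fibre products
(helper5)
-/
set_option autoImplicit false
universe u
open CategoryTheory Limits Opposite Simplicial AlgebraicTopology

namespace Groth.Agent.Lib.Helper5.Misc.PullTotAcyc

open Groth.Agent.Helper3 Groth.Agent.Lib.Helper5.Misc.InjTotAcyc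

variable {C : Type u} [SmallCategory C] (J : GrothendieckTopology C)
  {D : Type u} [SmallCategory D] (K : GrothendieckTopology D)
  (u : C ⥤ D) [u.IsContinuous J K]

/-- `g_!` on sheaves of sets -/
noncomputable abbrev G : Sheaf J (Type u) ⥤ Sheaf K (Type u) := u.sheafPullback (Type u) J K

/-- `g⁻¹` on abelian sheaves -/
noncomputable abbrev gi : Sheaf K AddCommGrpCat.{u} ⥤ Sheaf J AddCommGrpCat.{u} :=
  u.sheafPushforwardContinuous AddCommGrpCat.{u} J K

/-- the adjunction on sheaves of sets -/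
noncomputable abbrev setAdj : G J K u ⊣ u.sheafPushforwardContinuous (Type u) J K :=
  u.sheafAdjunctionContinuous (Type u) J K

variable (A : Sheaf K AddCommGrpCat.{u})

/-- sections of `g⁻¹A` as a sheaf of sets -/
def castEquiv (X : Sheaf J (Type u)) :
    (X ⟶ (u.sheafPushforwardContinuous (Type u) J K).obj
      ((sheafCompose K (forget AddCommGrpCat.{u})).obj A)) ≃
    (X ⟶ (sheafCompose J (forget AddCommGrpCat.{u})).obj ((gi J K u).obj A)) where
  toFun a := ⟨a.hom⟩
  invFun b := ⟨b.hom⟩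
  left_inv _ := rfl
  right_inv _ := rfl

/-- maps `ℤ[g_! X] ⟶ A` correspond to maps `ℤ[X] ⟶ g⁻¹A` -/
noncomputable def Ψ (X : Sheaf J (Type u)) :
    (TCech.L.obj ((G J K u).obj X) ⟶ A) ≃ (TCech.L.obj X ⟶ (gi J K u).obj A) :=
  ((TCech.adjF.homEquiv ((G J K u).obj X) A).trans
    (((setAdj J K u).homEquiv X _).trans (castEquiv J K u A X))).trans
    (TCech.adjF.homEquiv X ((gi J K u).obj A)).symm

lemma Ψ_naturality {X₁ X₂ : Sheaf J (Type u)} (a : X₁ ⟶ X₂)
    (x : TCech.L.obj ((G J K u).obj X₂) ⟶ A) :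
    Ψ J K u A X₁ (TCech.L.map ((G J K u).map a) ≫ x) = TCech.L.map a ≫ Ψ J K u A X₂ x := by
  dsimp only [Ψ, Equiv.trans_apply]
  rw [← Adjunction.homEquiv_naturality_left_symm]
  congr 1
  rw [Adjunction.homEquiv_naturality_left, Adjunction.homEquiv_naturality_left]
  rfl


lemma Ψ_add (X : Sheaf J (Type u)) (x x' : TCech.L.obj ((G J K u).obj X) ⟶ A) :
    Ψ J K u A X (x + x') = Ψ J K u A X x + Ψ J K u A X x' := by
  apply (TCech.adjF.homEquiv X ((gi J K u).obj A)).injective
  apply Sheaf.hom_ext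
  apply NatTrans.ext
  funext W
  refine ConcreteCategory.hom_ext _ _ (fun k => ?_)
  refine Eq.trans ?_ (e₂_add X _ (Ψ J K u A X x) (Ψ J K u A X x') W k).symm
  dsimp only [Ψ, Equiv.trans_apply]
  rw [Equiv.apply_symm_apply, Equiv.apply_symm_apply, Equiv.apply_symm_apply]
  simp only [Adjunction.homEquiv_unit (adj := setAdj J K u)]
  exact e₂_add ((G J K u).obj X) A x x' (op (u.obj W.unop)) (((setAdj J K u).unit.app X).hom.app W k)

/-- `Ψ` as an additive equivalence -/
noncomputable def ΨAdd (X : Sheaf J (Type u)) :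
    (TCech.L.obj ((G J K u).obj X) ⟶ A) ≃+ (TCech.L.obj X ⟶ (gi J K u).obj A) :=
  AddEquiv.mk' (Ψ J K u A X) (Ψ_add J K u A X)


/-- precomposition with an isomorphism, additively -/
def precompAdd {𝒜 : Type*} [Category 𝒜] [Preadditive 𝒜] {X Y : 𝒜} (e : X ≅ Y) (Z : 𝒜) :
    (X ⟶ Z) ≃+ (Y ⟶ Z) where
  toFun g := e.inv ≫ g
  invFun h := e.hom ≫ h
  left_inv g := by simp
  right_inv h := by simp
  map_add' g g' := Preadditive.comp_add _ _ _ _ _ _

section cech

variable [hfib : PreservesLimitsOfShape WalkingCospan (G J K u)]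
  {K' K₀ : Sheaf J (Type u)} (f : K' ⟶ K₀)

/-- the comparison `g_!(K_n) ≅ (g_! K)_n` -/
noncomputable abbrev ci (n : ℕ) :
    (G J K u).obj (PresCech.N f n) ≅ PresCech.N ((G J K u).map f) n :=
  PresCech.cechIso (G J K u) f n

/-- maps `ℤ[(g_!K)_n] ⟶ A` correspond to maps `ℤ[K_n] ⟶ g⁻¹A` -/
noncomputable def Ψ' (n : ℕ) :
    ((TCech.PP ((G J K u).map f)).X n ⟶ A) ≃+ ((TCech.PP f).X n ⟶ (gi J K u).obj A) :=
  (precompAdd ((TCech.L (J := K)).mapIso (ci J K u f n)).symm A).trans
    (ΨAdd J K u A (PresCech.N f n))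

lemma Ψ'_apply (n : ℕ) (x : (TCech.PP ((G J K u).map f)).X n ⟶ A) :
    Ψ' J K u A f n x = Ψ J K u A (PresCech.N f n) (TCech.L.map (ci J K u f n).hom ≫ x) := rfl

lemma Ψ'_δ (n : ℕ) (j : Fin (n + 2)) (x : (TCech.PP ((G J K u).map f)).X n ⟶ A) :
    Ψ' J K u A f (n + 1) ((NerveRes.Xs K ((G J K u).map f)).left.δ j ≫ x) =
      (NerveRes.Xs J f).left.δ j ≫ Ψ' J K u A f n x := by
  have h1 := PresCech.cechIso_naturality (G J K u) f (SimplexCategory.δ j)
  have h2 : TCech.L.map (ci J K u f (n + 1)).hom ≫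
      ((NerveRes.Xs K ((G J K u).map f)).left.δ j ≫ x) =
      TCech.L.map ((G J K u).map ((Arrow.mk f).cechNerve.δ j)) ≫
        (TCech.L.map (ci J K u f n).hom ≫ x) := by
    have h3 := congrArg (fun t => (TCech.L (J := K)).map t) h1
    simp only [Functor.map_comp] at h3
    exact (Category.assoc _ _ _).symm.trans
      ((congrArg (fun t => t ≫ x) h3.symm).trans (Category.assoc _ _ _))
  rw [Ψ'_apply, Ψ'_apply]
  refine (congrArg (Ψ J K u A (PresCech.N f (n + 1))) h2).trans ?_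
  exact Ψ_naturality J K u A ((Arrow.mk f).cechNerve.δ j) _

lemma Ψ'_d (n : ℕ) (x : (TCech.PP ((G J K u).map f)).X n ⟶ A) :
    Ψ' J K u A f (n + 1) ((TCech.PP ((G J K u).map f)).d (n + 1) n ≫ x) =
      (TCech.PP f).d (n + 1) n ≫ Ψ' J K u A f n x :=
  afmc_transport (NerveRes.Xs K ((G J K u).map f)).left (NerveRes.Xs J f).left A
    ((gi J K u).obj A) n (Ψ' J K u A f (n + 1)).toAddMonoidHom (Ψ' J K u A f n).toAddMonoidHom
    (fun j x => Ψ'_δ J K u A f n j x) x

end cech

/-- the inverse image of a totally acyclic sheaf is Čech-acyclic when `g_!` preserves fibre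
products -/
theorem pc_pull [PreservesLimitsOfShape WalkingCospan (G J K u)]
    (hA : CohCx.IsTotallyAcyclic A) : TCech.Pc ((gi J K u).obj A) := by
  intro K' K₀ f hf m x hx
  have : (G J K u).IsLeftAdjoint := (setAdj J K u).isLeftAdjoint
  have he : Epi ((G J K u).map f) := inferInstance
  have hex := (TCech.cexact_iff A ((G J K u).map f) m).1
    (Groth.Agent.S6151.result A hA ((G J K u).map f) m)
  let x' : (TCech.PP ((G J K u).map f)).X (m + 1) ⟶ A := (Ψ' J K u A f (m + 1)).symm x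
  have hx' : (TCech.PP ((G J K u).map f)).d (m + 2) (m + 1) ≫ x' = 0 := by
    apply (Ψ' J K u A f (m + 2)).injective
    refine (Ψ'_d J K u A f (m + 1) x').trans ?_
    rw [AddEquiv.apply_symm_apply]
    exact hx.trans (map_zero (Ψ' J K u A f (m + 2))).symm
  obtain ⟨y', hy'⟩ := hex x' hx'
  refine ⟨Ψ' J K u A f m y', ?_⟩
  refine (Ψ'_d J K u A f m y').symm.trans ?_
  exact (congrArg (Ψ' J K u A f (m + 1)) hy').trans (AddEquiv.apply_symm_apply _ x)

/-- **`g⁻¹` of a totally acyclic sheaf is totally acyclic when `g_!` preserves fibre products.** -/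
theorem isTotallyAcyclic_pull [PreservesLimitsOfShape WalkingCospan (G J K u)]
    (hA : CohCx.IsTotallyAcyclic A) : CohCx.IsTotallyAcyclic ((gi J K u).obj A) :=
  TCech.totallyAcyclic_of_pc _ (pc_pull J K u A hA)

end Groth.Agent.Lib.Helper5.Misc.PullTotAcyc
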