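import Mathlib

open Topology Set

namespace Groth.Agent.Helper5.QcCov

universe u

theorem baseChange
    {B : Type u} [TopologicalSpace B] [T2Space B]
    {ι : Type u} {X : ι → Type u} [∀ i, TopologicalSpace (X i)]
    (f : ∀ i, X i → B) (hf : ∀ i, Continuous (f i))
    (hcov : ∀ x : B, ∃ (t : Finset ι) (E : ∀ i, Set (X i)),
      (∀ i ∈ t, IsCompact (E i)) ∧ (⋃ i ∈ t, f i '' E i) ∈ 𝓝 x)
    {B' : Type u} [TopologicalSpace B'] [LocallyCompactSpace B'] (g : B' → B) (hg : Continuous g) :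
    ∀ x' : B', ∃ (t : Finset ι) (E : ∀ i, Set {p : B' × X i // g p.1 = f i p.2}),
      (∀ i ∈ t, IsCompact (E i)) ∧ (⋃ i ∈ t, (fun p : {p : B' × X i // g p.1 = f i p.2} => p.1.1) '' E i) ∈ 𝓝 x' := by
  intro x'
  obtain ⟨t, E, hE, hN⟩ := hcov (g x')
  have hpre : g ⁻¹' (⋃ i ∈ t, f i '' E i) ∈ 𝓝 x' := hg.continuousAt hN
  obtain ⟨K, hK, hKsub, hKc⟩ := local_compact_nhds hpre
  refine ⟨t, fun i => Subtype.val ⁻¹' (K ×ˢ E i), ?_, ?_⟩
  · intro i hi
    have hclosed : IsClosed {p : B' × X i | g p.1 = f i p.2} :=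
      isClosed_eq (hg.comp continuous_fst) ((hf i).comp continuous_snd)
    exact hclosed.isClosedEmbedding_subtypeVal.isCompact_preimage (hKc.prod (hE i hi))
  · refine Filter.mem_of_superset hK ?_
    intro b hb
    have hb' := hKsub hb
    simp only [mem_preimage, mem_iUnion, mem_image, exists_prop] at hb'
    obtain ⟨i, hi, e, he, hfe⟩ := hb'
    simp only [mem_iUnion, mem_image, exists_prop]
    exact ⟨i, hi, ⟨⟨(b, e), hfe.symm⟩, ⟨hb, he⟩, rfl⟩⟩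

end Groth.Agent.Helper5.QcCov

namespace Groth.Agent.Helper5.QcCov

universe u

theorem trans
    {B : Type u} [TopologicalSpace B]
    {ι : Type u} {X : ι → Type u} [∀ i, TopologicalSpace (X i)]
    (f : ∀ i, X i → B)
    (hcov : ∀ x : B, ∃ (t : Finset ι) (E : ∀ i, Set (X i)),
      (∀ i ∈ t, IsCompact (E i)) ∧ (⋃ i ∈ t, f i '' E i) ∈ 𝓝 x)
    {κ : ι → Type u} {Y : ∀ i, κ i → Type u} [∀ i j, TopologicalSpace (Y i j)]
    (g : ∀ i j, Y i j → X i)
    (hcov' : ∀ (i : ι) (x : X i), ∃ (t : Finset (κ i)) (E : ∀ j, Set (Y i j)),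
      (∀ j ∈ t, IsCompact (E j)) ∧ (⋃ j ∈ t, g i j '' E j) ∈ 𝓝 x) :
    ∀ x : B, ∃ (t : Finset (Σ i, κ i)) (E : ∀ p : (Σ i, κ i), Set (Y p.1 p.2)),
      (∀ p ∈ t, IsCompact (E p)) ∧ (⋃ p ∈ t, f p.1 '' (g p.1 p.2 '' E p)) ∈ 𝓝 x := by
  classical
  intro x
  obtain ⟨t, E, hE, hN⟩ := hcov x
  choose T F hF hFN using hcov'
  have hsub : ∀ i ∈ t, ∃ S : Finset (X i), E i ⊆ ⋃ y ∈ S, ⋃ j ∈ T i y, g i j '' F i y j := by
    intro i hi
    obtain ⟨S, -, hcover⟩ := (hE i hi).elim_nhds_subcover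
      (fun y => ⋃ j ∈ T i y, g i j '' F i y j) (fun y _ => hFN i y)
    exact ⟨S, hcover⟩
  choose! S hS using hsub
  refine ⟨t.sigma (fun i => (S i).biUnion (T i)),
    fun p => ⋃ y ∈ S p.1, if p.2 ∈ T p.1 y then F p.1 y p.2 else ∅, ?_, ?_⟩
  · intro p _
    apply (S p.1).isCompact_biUnion
    intro y _
    split_ifs with h
    · exact hF p.1 y p.2 h
    · exact isCompact_empty
  · refine Filter.mem_of_superset hN ?_
    intro b hb
    simp only [mem_iUnion, mem_image, exists_prop] at hb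
    obtain ⟨i, hi, e, he, rfl⟩ := hb
    have h1 := hS i hi he
    simp only [mem_iUnion, mem_image, exists_prop] at h1
    obtain ⟨y, hy, j, hj, z, hz, rfl⟩ := h1
    simp only [mem_iUnion, mem_image, exists_prop]
    refine ⟨⟨i, j⟩, ?_, g i j z, ⟨z, ?_, rfl⟩, rfl⟩
    · rw [Finset.mem_sigma]
      exact ⟨hi, Finset.mem_biUnion.mpr ⟨y, hy, hj⟩⟩
    · exact ⟨y, hy, by rw [if_pos hj]; exact hz⟩

end Groth.Agent.Helper5.QcCov
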