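import Mathlib

/-!
# Derived functors of the kernel of a natural transformation `𝟭 ⟶ T` (helper5)

If `τ : 𝟭 ⟶ T` is epi on injectives and `K = ker τ`, then `coker (τ_F) ≅ R¹K F` and
`Rᵖ T F ≅ Rᵖ⁺¹ K F` for `p ≥ 1`.
-/
set_option autoImplicit false
open CategoryTheory CategoryTheory.Limits

namespace Groth.Agent.Lib.Helper5.RDKer

universe v u

variable {A : Type u} [Category.{v} A] [Abelian A]
  (T K : A ⥤ A) [T.Additive] [K.Additive] (τ : 𝟭 A ⟶ T) (κ : K ⟶ 𝟭 A)
  (hκτ : ∀ X, κ.app X ≫ τ.app X = 0)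

/-- The short complex of cochain complexes `K(I) ⟶ I ⟶ T(I)`. -/
noncomputable def sc {F : A} (I : InjectiveResolution F) : ShortComplex (CochainComplex A ℕ) :=
  ShortComplex.mk ((NatTrans.mapHomologicalComplex κ (ComplexShape.up ℕ)).app I.cocomplex)
    ((NatTrans.mapHomologicalComplex τ (ComplexShape.up ℕ)).app I.cocomplex) (by
      ext n
      exact hκτ _)

variable (hexact : ∀ X, (ShortComplex.mk (κ.app X) (τ.app X) (hκτ X)).Exact)
  (hmono : ∀ X, Mono (κ.app X)) (hepi : ∀ X, Injective X → Epi (τ.app X))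

include hexact hmono hepi in
lemma shortExact {F : A} (I : InjectiveResolution F) : (sc T K τ κ hκτ I).ShortExact := by
  apply HomologicalComplex.shortExact_of_degreewise_shortExact
  intro n
  exact
    { exact := hexact (I.cocomplex.X n)
      mono_f := hmono (I.cocomplex.X n)
      epi_g := hepi (I.cocomplex.X n) (I.injective n) }

lemma isZero_homology_succ {F : A} (I : InjectiveResolution F) (n : ℕ) :
    IsZero ((sc T K τ κ hκτ I).X₂.homology (n + 1)) := by
  have h := I.cocomplex_exactAt_succ n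
  rw [HomologicalComplex.exactAt_iff_isZero_homology] at h
  exact h

variable [HasInjectiveResolutions A]

include hexact hmono hepi in
/-- `Rᵖ⁺¹ T F ≅ Rᵖ⁺² K F`. -/
theorem succIso (F : A) (q : ℕ) :
    Nonempty ((T.rightDerived (q + 1)).obj F ≅ (K.rightDerived (q + 2)).obj F) := by
  let I := injectiveResolution F
  have hS := shortExact T K τ κ hκτ hexact hmono hepi I
  exact ⟨I.isoRightDerivedObj T (q + 1) ≪≫
    hS.δIso (q + 1) (q + 2) rfl (isZero_homology_succ T K τ κ hκτ I q)
      (isZero_homology_succ T K τ κ hκτ I (q + 1)) ≪≫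
    (I.isoRightDerivedObj K (q + 2)).symm⟩

/-- `G F ≅ H⁰(G(I))` for a left exact functor `G`. -/
noncomputable def h0Iso (G : A ⥤ A) [G.Additive] [PreservesFiniteLimits G] {F : A}
    (I : InjectiveResolution F) :
    G.obj F ≅ ((G.mapHomologicalComplex (ComplexShape.up ℕ)).obj I.cocomplex).homology 0 :=
  asIso (I.toRightDerivedZero' G) ≪≫ CochainComplex.isoHomologyπ₀ _

lemma h0Iso_naturality [PreservesFiniteLimits T] {F : A} (I : InjectiveResolution F) :
    τ.app F ≫ (h0Iso T I).hom = (h0Iso (𝟭 A) I).hom ≫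
      HomologicalComplex.homologyMap
        ((NatTrans.mapHomologicalComplex τ (ComplexShape.up ℕ)).app I.cocomplex) 0 := by
  have h1 : τ.app F ≫ I.toRightDerivedZero' T = I.toRightDerivedZero' (𝟭 A) ≫
      HomologicalComplex.cyclesMap
        ((NatTrans.mapHomologicalComplex τ (ComplexShape.up ℕ)).app I.cocomplex) 0 := by
    rw [← cancel_mono (HomologicalComplex.iCycles _ _)]
    simp only [Category.assoc, InjectiveResolution.toRightDerivedZero'_comp_iCycles,
      HomologicalComplex.cyclesMap_i, NatTrans.mapHomologicalComplex_app_f,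
      InjectiveResolution.toRightDerivedZero'_comp_iCycles_assoc]
    exact (τ.naturality (I.ι.f 0)).symm
  simp only [h0Iso, Iso.trans_hom, asIso_hom, Category.assoc]
  rw [reassoc_of% h1]
  congr 1
  exact (HomologicalComplex.homologyπ_naturality _ 0).symm

include hexact hmono hepi in
/-- `coker (F ⟶ T F) ≅ R¹ K F`. -/
theorem cokerIso [PreservesFiniteLimits T] (F : A) :
    Nonempty (cokernel (τ.app F) ≅ (K.rightDerived 1).obj F) := by
  let I := injectiveResolution F
  have hS := shortExact T K τ κ hκτ hexact hmono hepi I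
  have hex := hS.homology_exact₃ 0 1 rfl
  haveI : Epi (hS.δ 0 1 rfl) := hS.epi_δ 0 1 rfl (isZero_homology_succ T K τ κ hκτ I 0)
  have hcok := hex.gIsCokernel
  let e1 : cokernel (HomologicalComplex.homologyMap (sc T K τ κ hκτ I).g 0) ≅
      (sc T K τ κ hκτ I).X₁.homology 1 :=
    IsColimit.coconePointUniqueUpToIso (colimit.isColimit _) hcok
  let e0 : cokernel (τ.app F) ≅
      cokernel (HomologicalComplex.homologyMap (sc T K τ κ hκτ I).g 0) :=
    cokernel.mapIso _ _ (h0Iso (𝟭 A) I) (h0Iso T I) (h0Iso_naturality T τ I)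
  exact ⟨e0 ≪≫ e1 ≪≫ (I.isoRightDerivedObj K 1).symm⟩

end Groth.Agent.Lib.Helper5.RDKer
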