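import Mathlib
import Groth.Prelude.Def_SixF1

/-!
# `R⁺H ⟶ R⁺F ⋙ R⁺G` is an isomorphism when `F` preserves injectives and `H ≅ F ⋙ G`
-/

set_option autoImplicit false
open CategoryTheory CategoryTheory.Limits

namespace Groth.Agent.Lib.Helper5.Misc.RPlusIso

universe v₁ v₂ v₃ u₁ u₂ u₃
variable {A : Type u₁} [Category.{v₁} A] [Abelian A] {B : Type u₂} [Category.{v₂} B] [Abelian B]
  {C : Type u₃} [Category.{v₃} C] [Abelian C]

theorem isIso_mapHomotopyCategory {F G : A ⥤ B} [F.Additive] [G.Additive] (α : F ⟶ G) [IsIso α] :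
    IsIso (NatTrans.mapHomotopyCategory α (ComplexShape.up ℤ)) := by
  refine ⟨NatTrans.mapHomotopyCategory (inv α) (ComplexShape.up ℤ), ?_, ?_⟩
  · rw [← NatTrans.mapHomotopyCategory_comp, IsIso.hom_inv_id, NatTrans.mapHomotopyCategory_id]
  · rw [← NatTrans.mapHomotopyCategory_comp, IsIso.inv_hom_id, NatTrans.mapHomotopyCategory_id]

instance isIso_plusNatTrans {F G : A ⥤ B} [F.Additive] [G.Additive] (α : F ⟶ G) [IsIso α] :
    IsIso (EtSix.plusNatTrans α) := by
  have := isIso_mapHomotopyCategory α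
  let ff := (HomotopyCategory.plus B).fullyFaithfulι.whiskeringRight (HomotopyCategory.Plus A)
  have h : IsIso (((Functor.whiskeringRight _ _ _).obj (HomotopyCategory.plus B).ι).map
      (EtSix.plusNatTrans α)) := by
    unfold EtSix.plusNatTrans
    rw [Functor.FullyFaithful.map_preimage]
    exact inferInstanceAs (IsIso (((Functor.whiskeringLeft _ _ _).obj (HomotopyCategory.Plus.ι A)).map
      (NatTrans.mapHomotopyCategory α (ComplexShape.up ℤ))))
  exact ff.isIso_of_isIso_map _


variable [HasDerivedCategory A] [HasDerivedCategory B] [HasDerivedCategory C]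

theorem isIso_rPlusDesc₂ {F : A ⥤ B} {G : B ⥤ C} {H : A ⥤ C} [F.Additive] [G.Additive] [H.Additive]
    [EnoughInjectives A] [EnoughInjectives B] [F.PreservesInjectiveObjects]
    (θ : H ⟶ F ⋙ G) [IsIso θ] : IsIso (EtSix.rPlusDesc₂ θ) := by
  unfold EtSix.rPlusDesc₂
  rw [← Functor.isRightDerivedFunctor_iff_isIso_rightDerivedDesc]
  apply (HomotopyCategory.Plus.localizerMorphism_derives _).isRightDerivedFunctor_of_isIso
  intro X₁
  have hK : ∀ n : ℤ, Injective (((InjectiveObject.ι A).mapHomotopyCategoryPlus.obj X₁).obj.as.X n) :=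
    fun n => inferInstance
  have hFK : ∀ n : ℤ, Injective ((F.mapHomotopyCategoryPlus.obj
      ((InjectiveObject.ι A).mapHomotopyCategoryPlus.obj X₁)).obj.as.X n) := by
    intro n
    exact F.injective_obj_of_injective (hK n)
  unfold EtSix.rPlusUnit₂
  simp only [NatTrans.comp_app, Functor.whiskerRight_app, Functor.whiskerLeft_app,
    Functor.associator_hom_app, Functor.associator_inv_app, Category.id_comp, Category.comp_id]
  infer_instance

end Groth.Agent.Lib.Helper5.Misc.RPlusIso
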