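import Mathlib

/-!
# Abstract recollement: gluing an abelian category from a closed and an open part (helper5)
-/
set_option autoImplicit false
open CategoryTheory CategoryTheory.Limits

namespace Groth.Agent.Lib.Helper5.Recoll

universe v₁ v₂ v₃ u₁ u₂ u₃

/-- If the counit of `L ⊣ R` is invertible then `L` inverts the unit. -/
lemma isIso_map_unit {C : Type*} [Category C] {D : Type*} [Category D] {L : C ⥤ D} {R : D ⥤ C}
    (adj : L ⊣ R) [IsIso adj.counit] (M : C) : IsIso (L.map (adj.unit.app M)) := by
  have tri := adj.left_triangle_components M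
  haveI : IsIso (L.map (adj.unit.app M) ≫ adj.counit.app (L.obj M)) := by
    rw [tri]
    exact IsIso.id _
  exact IsIso.of_isIso_comp_right _ (adj.counit.app (L.obj M))

variable {𝒜 : Type u₁} [Category.{v₁} 𝒜] [Abelian 𝒜] {ℬ : Type u₂} [Category.{v₂} ℬ] [Abelian ℬ]
  {𝒞 : Type u₃} [Category.{v₃} 𝒞] [Abelian 𝒞]
  {is : 𝒜 ⥤ ℬ} {iS : ℬ ⥤ 𝒜} (adjI : is ⊣ iS) {js : 𝒜 ⥤ 𝒞} {jS : 𝒞 ⥤ 𝒜} (adjJ : js ⊣ jS)

/-- The recollement functor `F ↦ (i^* F, j^* F, i^*(F → j_* j^* F))`. -/
def functor (is : 𝒜 ⥤ ℬ) {js : 𝒜 ⥤ 𝒞} {jS : 𝒞 ⥤ 𝒜} (adjJ : js ⊣ jS) :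
    𝒜 ⥤ Comma (𝟭 ℬ) (jS ⋙ is) where
  obj F :=
    { left := is.obj F
      right := js.obj F
      hom := is.map (adjJ.unit.app F) }
  map {F G} φ :=
    { left := is.map φ
      right := js.map φ
      w := by
        dsimp
        rw [← Functor.map_comp, ← Functor.map_comp]
        congr 1
        exact (adjJ.unit.naturality φ) }
  map_id F := by ext <;> simp
  map_comp φ ψ := by ext <;> simp

variable [IsIso adjI.counit] [IsIso adjJ.counit] [PreservesFiniteLimits is]
  [PreservesFiniteLimits js] (hz : ∀ G : ℬ, IsZero (js.obj (iS.obj G)))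
  (hcons : ∀ {F F' : 𝒜} (φ : F ⟶ F'), IsIso (is.map φ) → IsIso (js.map φ) → IsIso φ)

include adjI adjJ hcons in
/-- Joint faithfulness of `(i^*, j^*)`. -/
lemma eq_zero_of_map_eq_zero {F F' : 𝒜} (α : F ⟶ F') (h1 : is.map α = 0) (h2 : js.map α = 0) :
    α = 0 := by
  haveI : is.IsLeftAdjoint := adjI.isLeftAdjoint
  haveI : js.IsLeftAdjoint := adjJ.isLeftAdjoint
  haveI : is.PreservesEpimorphisms := is.preservesEpimorphisms_of_adjunction adjI
  haveI : js.PreservesEpimorphisms := js.preservesEpimorphisms_of_adjunction adjJ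
  have hI : IsZero (is.obj (Abelian.image α)) := by
    have e : is.map (Abelian.factorThruImage α) ≫ is.map (Abelian.image.ι α) = 0 := by
      rw [← Functor.map_comp, Abelian.image.fac, h1]
    have e2 : is.map (Abelian.image.ι α) = 0 := by
      rw [← cancel_epi (is.map (Abelian.factorThruImage α)), e, comp_zero]
    exact IsZero.of_mono_eq_zero _ e2
  have hJ : IsZero (js.obj (Abelian.image α)) := by
    have e : js.map (Abelian.factorThruImage α) ≫ js.map (Abelian.image.ι α) = 0 := by
      rw [← Functor.map_comp, Abelian.image.fac, h2]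
    have e2 : js.map (Abelian.image.ι α) = 0 := by
      rw [← cancel_epi (js.map (Abelian.factorThruImage α)), e, comp_zero]
    exact IsZero.of_mono_eq_zero _ e2
  haveI : IsIso (0 : Abelian.image α ⟶ Abelian.image α) := by
    apply hcons
    · exact isIso_of_source_target_iso_zero _ hI.isoZero hI.isoZero
    · exact isIso_of_source_target_iso_zero _ hJ.isoZero hJ.isoZero
  have hz' : IsZero (Abelian.image α) := by
    rw [IsZero.iff_id_eq_zero]
    have := IsIso.hom_inv_id (0 : Abelian.image α ⟶ Abelian.image α)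
    rw [zero_comp] at this
    exact this.symm
  rw [← Abelian.image.fac α]
  rw [hz'.eq_of_tgt (Abelian.factorThruImage α) 0, zero_comp]

include adjI hcons in
lemma faithful : (functor is adjJ).Faithful := by
  haveI : is.IsLeftAdjoint := adjI.isLeftAdjoint
  haveI : js.IsLeftAdjoint := adjJ.isLeftAdjoint
  haveI : PreservesBinaryBiproducts is := preservesBinaryBiproducts_of_preservesBinaryProducts is
  haveI : PreservesBinaryBiproducts js := preservesBinaryBiproducts_of_preservesBinaryProducts js
  haveI : is.Additive := Functor.additive_of_preservesBinaryBiproducts is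
  haveI : js.Additive := Functor.additive_of_preservesBinaryBiproducts js
  refine ⟨fun {F F'} φ ψ h => ?_⟩
  have h1 : is.map φ = is.map ψ := congrArg CommaMorphism.left h
  have h2 : js.map φ = js.map ψ := congrArg CommaMorphism.right h
  rw [← sub_eq_zero]
  apply eq_zero_of_map_eq_zero adjI adjJ hcons
  · rw [Functor.map_sub, h1, sub_self]
  · rw [Functor.map_sub, h2, sub_self]

/-- The canonical comparison map `F ⟶ i_* i^* F ×_{i_* i^* j_* j^* F} j_* j^* F`. -/
noncomputable def toPullback (F : 𝒜) :
    F ⟶ pullback (iS.map (is.map (adjJ.unit.app F))) (adjI.unit.app (jS.obj (js.obj F))) :=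
  pullback.lift (adjI.unit.app F) (adjJ.unit.app F) (adjI.unit.naturality (adjJ.unit.app F)).symm

include hz hcons in
lemma isIso_toPullback (F : 𝒜) : IsIso (toPullback adjI adjJ F) := by
  have hP := IsPullback.of_hasPullback (iS.map (is.map (adjJ.unit.app F)))
    (adjI.unit.app (jS.obj (js.obj F)))
  apply hcons
  · have hP' := hP.map is
    haveI := isIso_map_unit adjI (jS.obj (js.obj F))
    haveI : IsIso (is.map (pullback.fst (iS.map (is.map (adjJ.unit.app F)))
        (adjI.unit.app (jS.obj (js.obj F))))) := hP'.isIso_fst_of_isIso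
    haveI := isIso_map_unit adjI F
    haveI : IsIso (is.map (toPullback adjI adjJ F) ≫ is.map (pullback.fst
        (iS.map (is.map (adjJ.unit.app F))) (adjI.unit.app (jS.obj (js.obj F))))) := by
      rw [← Functor.map_comp, toPullback, pullback.lift_fst]
      infer_instance
    exact IsIso.of_isIso_comp_right _ (is.map (pullback.fst
        (iS.map (is.map (adjJ.unit.app F))) (adjI.unit.app (jS.obj (js.obj F)))))
  · have hP' := hP.map js
    haveI : IsIso (js.map (iS.map (is.map (adjJ.unit.app F)))) :=
      isIso_of_source_target_iso_zero _ (hz _).isoZero (hz _).isoZero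
    haveI : IsIso (js.map (pullback.snd (iS.map (is.map (adjJ.unit.app F)))
        (adjI.unit.app (jS.obj (js.obj F))))) := hP'.isIso_snd_of_isIso
    haveI := isIso_map_unit adjJ F
    haveI : IsIso (js.map (toPullback adjI adjJ F) ≫ js.map (pullback.snd
        (iS.map (is.map (adjJ.unit.app F))) (adjI.unit.app (jS.obj (js.obj F))))) := by
      rw [← Functor.map_comp, toPullback, pullback.lift_snd]
      infer_instance
    exact IsIso.of_isIso_comp_right _ (js.map (pullback.snd
        (iS.map (is.map (adjJ.unit.app F))) (adjI.unit.app (jS.obj (js.obj F)))))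

include adjI hz hcons in
lemma full : (functor is adjJ).Full := by
  refine ⟨fun {F F'} m => ?_⟩
  haveI := isIso_toPullback adjI adjJ hz hcons F'
  let a : is.obj F ⟶ is.obj F' := m.left
  let b : js.obj F ⟶ js.obj F' := m.right
  have hw : a ≫ is.map (adjJ.unit.app F') =
      is.map (adjJ.unit.app F) ≫ is.map (jS.map b) := m.w
  have compat : (adjI.unit.app F ≫ iS.map a) ≫ iS.map (is.map (adjJ.unit.app F')) =
      (adjJ.unit.app F ≫ jS.map b) ≫ adjI.unit.app (jS.obj (js.obj F')) := by
    rw [Category.assoc, ← Functor.map_comp, hw, ← Functor.map_comp]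
    exact (adjI.unit.naturality (adjJ.unit.app F ≫ jS.map b)).symm
  let φ : F ⟶ F' := pullback.lift _ _ compat ≫ inv (toPullback adjI adjJ F')
  have h1 : φ ≫ adjI.unit.app F' = adjI.unit.app F ≫ iS.map a := by
    have e : inv (toPullback adjI adjJ F') ≫ adjI.unit.app F' = pullback.fst _ _ := by
      rw [IsIso.inv_comp_eq, toPullback, pullback.lift_fst]
    rw [Category.assoc, e, pullback.lift_fst]
  have h2 : φ ≫ adjJ.unit.app F' = adjJ.unit.app F ≫ jS.map b := by
    have e : inv (toPullback adjI adjJ F') ≫ adjJ.unit.app F' = pullback.snd _ _ := by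
      rw [IsIso.inv_comp_eq, toPullback, pullback.lift_snd]
    rw [Category.assoc, e, pullback.lift_snd]
  refine ⟨φ, ?_⟩
  apply CommaMorphism.ext
  · change is.map φ = a
    apply (adjI.homEquiv F (is.obj F')).injective
    rw [Adjunction.homEquiv_unit, Adjunction.homEquiv_unit, ← h1]
    exact (adjI.unit.naturality φ).symm
  · change js.map φ = b
    apply (adjJ.homEquiv F (js.obj F')).injective
    rw [Adjunction.homEquiv_unit, Adjunction.homEquiv_unit, ← h2]
    exact (adjJ.unit.naturality φ).symm

include adjI hz in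
lemma essSurj : (functor is adjJ).EssSurj := by
  refine ⟨fun Y => ?_⟩
  let h : Y.left ⟶ is.obj (jS.obj Y.right) := Y.hom
  let F : 𝒜 := pullback (iS.map h) (adjI.unit.app (jS.obj Y.right))
  have hP := IsPullback.of_hasPullback (iS.map h) (adjI.unit.app (jS.obj Y.right))
  haveI : IsIso (is.map (pullback.fst (iS.map h) (adjI.unit.app (jS.obj Y.right)))) := by
    haveI := isIso_map_unit adjI (jS.obj Y.right)
    exact (hP.map is).isIso_fst_of_isIso
  haveI : IsIso (js.map (pullback.snd (iS.map h) (adjI.unit.app (jS.obj Y.right)))) := by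
    haveI : IsIso (js.map (iS.map h)) :=
      isIso_of_source_target_iso_zero _ (hz _).isoZero (hz _).isoZero
    exact (hP.map js).isIso_snd_of_isIso
  let e₁ : is.obj F ≅ Y.left :=
    asIso (is.map (pullback.fst (iS.map h) (adjI.unit.app (jS.obj Y.right)))) ≪≫
      asIso (adjI.counit.app Y.left)
  let e₂ : js.obj F ≅ Y.right :=
    asIso (js.map (pullback.snd (iS.map h) (adjI.unit.app (jS.obj Y.right)))) ≪≫
      asIso (adjJ.counit.app Y.right)
  refine ⟨F, ⟨Comma.isoMk e₁ e₂ ?_⟩⟩
  change (is.map (pullback.fst (iS.map h) (adjI.unit.app (jS.obj Y.right))) ≫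
      adjI.counit.app Y.left) ≫ h =
    is.map (adjJ.unit.app F) ≫ is.map (jS.map
      (js.map (pullback.snd (iS.map h) (adjI.unit.app (jS.obj Y.right))) ≫
        adjJ.counit.app Y.right))
  have r1 : adjJ.unit.app F ≫ jS.map
      (js.map (pullback.snd (iS.map h) (adjI.unit.app (jS.obj Y.right))) ≫
        adjJ.counit.app Y.right) = pullback.snd (iS.map h) (adjI.unit.app (jS.obj Y.right)) := by
    rw [Functor.map_comp, ← Category.assoc]
    have n := adjJ.unit.naturality (pullback.snd (iS.map h) (adjI.unit.app (jS.obj Y.right)))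
    simp only [Functor.id_obj, Functor.id_map, Functor.comp_obj, Functor.comp_map] at n
    rw [← n, Category.assoc, adjJ.right_triangle_components, Category.comp_id]
  rw [← Functor.map_comp, r1]
  have n2 := adjI.counit.naturality h
  simp only [Functor.id_obj, Functor.id_map, Functor.comp_obj, Functor.comp_map] at n2
  rw [Category.assoc, ← n2, ← Category.assoc, ← Functor.map_comp, pullback.condition,
    Functor.map_comp, Category.assoc]
  exact (congrArg (fun t => is.map (pullback.snd (iS.map h) (adjI.unit.app (jS.obj Y.right))) ≫ t)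
    (adjI.left_triangle_components (jS.obj Y.right))).trans (Category.comp_id _)

include adjI hz hcons in
/-- The recollement functor is an equivalence. -/
theorem isEquivalence : (functor is adjJ).IsEquivalence :=
  { faithful := faithful adjI adjJ hcons
    full := full adjI adjJ hz hcons
    essSurj := essSurj adjI adjJ hz }

end Groth.Agent.Lib.Helper5.Recoll
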