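import Mathlib

open Polynomial Finset

namespace Helper5.S11043

variable {R : Type*} [CommRing R] [IsDomain R]

lemma prod_nthRootsFinset_eq {M : Type*} [CommMonoid M] {m : ℕ} (hm : 0 < m) {η : R}
    (hη : IsPrimitiveRoot η m) (F : R → M) :
    ∏ θ ∈ nthRootsFinset m (1 : R), F θ = ∏ j ∈ range m, F (η ^ j) := by
  classical
  haveI : NeZero m := ⟨hm.ne'⟩
  have : nthRootsFinset m (1 : R) = (range m).image (η ^ ·) := by
    ext θ
    rw [mem_nthRootsFinset hm, mem_image]
    constructor
    · intro h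
      obtain ⟨i, hi, rfl⟩ := hη.eq_pow_of_pow_eq_one h
      exact ⟨i, mem_range.mpr hi, rfl⟩
    · rintro ⟨i, -, rfl⟩
      rw [← pow_mul, mul_comm, pow_mul, hη.pow_eq_one, one_pow]
  rw [this, prod_image]
  intro i hi j hj hij
  exact hη.pow_inj (mem_range.mp hi) (mem_range.mp hj) hij

lemma prod_range_one_sub {m : ℕ} (hm : 0 < m) {η : R} (hη : IsPrimitiveRoot η m) (w : R) :
    ∏ j ∈ range m, (1 - η ^ j * w) = 1 - w ^ m := by
  rw [← prod_nthRootsFinset_eq hm hη (fun θ => 1 - θ * w),
    ← hη.pow_sub_pow_eq_prod_sub_mul 1 w hm, one_pow]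

lemma prod_range_mul_periodic {M : Type*} [CommMonoid M] (G : ℕ → M) (m e : ℕ)
    (hG : ∀ j, G (j + m) = G j) :
    ∏ j ∈ range (e * m), G j = (∏ j ∈ range m, G j) ^ e := by
  have hG' : ∀ e j, G (e * m + j) = G j := by
    intro e
    induction e with
    | zero => intro j; simp
    | succ e ih => intro j; rw [add_mul, one_mul, add_right_comm, hG, ih]
  induction e with
  | zero => simp
  | succ e ih =>
    rw [add_mul, one_mul, prod_range_add, ih, pow_succ]
    congr 1
    exact prod_congr rfl (fun j _ => hG' e j)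

end Helper5.S11043

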