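import Mathlib
universe u

namespace Groth.Agent.Helper5.SOP

variable {R : Type u} [CommRing R] [IsNoetherianRing R]

lemma step (J I : Ideal R) (r : ℕ) (hJ : (r : ℕ∞) ≤ J.height)
    (hI : ((r + 1 : ℕ) : ℕ∞) ≤ I.height) :
    ∃ x ∈ I, ((r + 1 : ℕ) : ℕ∞) ≤ (J ⊔ Ideal.span {x}).height := by
  classical
  let S := { K | K ∈ J.minimalPrimes ∧ Ideal.height K = r }
  have hS : Set.Finite S := Set.Finite.subset J.finite_minimalPrimes_of_isNoetherianRing
    (fun _ h => h.1)
  have : ¬(I : Set R) ⊆ ⋃ K ∈ hS.toFinset, (K : Set R) := by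
    refine (Ideal.subset_union_prime ⊥ ⊥ ?_).not.mpr ?_
    · rintro K hK - -
      rw [Set.Finite.mem_toFinset] at hK
      exact hK.1.isPrime
    · push Not
      intro K hK e
      have := hI.trans (Ideal.height_mono e)
      rw [Set.Finite.mem_toFinset] at hK
      rw [hK.2, ← not_lt] at this
      norm_cast at this
      exact this r.lt_succ_self
  simp_rw [Set.not_subset, Set.mem_iUnion, not_exists, Set.Finite.mem_toFinset] at this
  obtain ⟨x, hx₁, hx₂⟩ := this
  refine ⟨x, hx₁, ?_⟩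
  rw [Ideal.height_eq_inf_minimalPrimes]
  refine le_iInf₂ (fun p hp ↦ ?_)
  have := hp.isPrime
  by_cases h : p.height = ⊤
  · exact le_of_le_of_eq le_top h.symm
  have : p.FiniteHeight := ⟨Or.inr h⟩
  have := Ideal.height_mono (le_sup_left.trans hp.1.2)
  suffices h : (r : ℕ∞) ≠ p.height by
    have := Order.add_one_le_of_lt (lt_of_le_of_ne (hJ.trans this) h)
    exact_mod_cast this
  intro e
  apply hx₂ p
  · refine ⟨Ideal.mem_minimalPrimes_of_height_le (le_sup_left.trans hp.1.2) (e.symm.trans_le hJ),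
      e.symm⟩
  · apply hp.1.2 <| Ideal.mem_sup_right <| Ideal.mem_span_singleton_self x


variable [IsLocalRing R]

lemma height_pow_max (d : ℕ) (hd : ringKrullDim R = d) (k : ℕ) :
    (d : ℕ∞) ≤ (IsLocalRing.maximalIdeal R ^ (k + 1)).height := by
  rw [Ideal.height_eq_inf_minimalPrimes]
  refine le_iInf₂ (fun p hp ↦ ?_)
  have hpp := hp.isPrime
  have hle : IsLocalRing.maximalIdeal R ≤ p :=
    (Ideal.IsPrime.pow_le_iff (Nat.succ_ne_zero k)).1 hp.1.2
  have hpm : p = IsLocalRing.maximalIdeal R :=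
    le_antisymm (IsLocalRing.le_maximalIdeal hpp.ne_top) hle
  have h1 : ((IsLocalRing.maximalIdeal R).height : WithBot ℕ∞) = d := by
    rw [IsLocalRing.maximalIdeal_height_eq_ringKrullDim, hd]
  rw [hpm]
  have : (IsLocalRing.maximalIdeal R).height = d := by exact_mod_cast h1
  rw [this]

theorem main (d : ℕ) (hd : ringKrullDim R = d) (f : R)
    (hmin : ∀ p ∈ minimalPrimes R, f ∉ p) (k : ℕ) :
    ∀ i : ℕ, i + 1 ≤ d → ∃ g : Fin i → R, (∀ j, g j ∈ IsLocalRing.maximalIdeal R ^ (k + 1)) ∧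
      ((i + 1 : ℕ) : ℕ∞) ≤ (Ideal.span (insert f (Set.range g))).height := by
  intro i
  induction i with
  | zero =>
    intro _
    refine ⟨Fin.elim0, fun j => j.elim0, ?_⟩
    rw [Ideal.height_eq_inf_minimalPrimes]
    refine le_iInf₂ (fun p hp ↦ ?_)
    have hpp := hp.isPrime
    have hfp : f ∈ p := hp.1.2 (Ideal.subset_span (Set.mem_insert _ _))
    have h0 : p.height ≠ 0 := by
      intro h0
      exact hmin p (Ideal.height_eq_zero_iff.1 h0) hfp
    simpa using Order.one_le_iff_pos.2 (pos_iff_ne_zero.2 h0)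
  | succ i ih =>
    intro hi
    obtain ⟨g, hg, hgh⟩ := ih (by omega)
    have hI : ((i + 1 + 1 : ℕ) : ℕ∞) ≤ (IsLocalRing.maximalIdeal R ^ (k + 1)).height :=
      le_trans (by exact_mod_cast hi) (height_pow_max d hd k)
    obtain ⟨x, hx, hxh⟩ := step _ _ (i + 1) hgh hI
    refine ⟨Fin.snoc g x, ?_, ?_⟩
    · intro j
      refine Fin.lastCases ?_ (fun j' => ?_) j
      · simpa using hx
      · simpa using hg j'
    · have : Ideal.span (insert f (Set.range (Fin.snoc g x : Fin (i + 1) → R))) =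
          Ideal.span (insert f (Set.range g)) ⊔ Ideal.span {x} := by
        rw [Fin.range_snoc, Set.insert_comm, Ideal.span_insert x, sup_comm]
      rw [this]
      exact hxh

end Groth.Agent.Helper5.SOP
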