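import Mathlib

set_option autoImplicit false
universe u

namespace Groth.Agent.Helper5.Satur

open Polynomial in
/-- saturation lemma in `Q[X]`. -/
theorem poly_sat {Q : Type*} [CommRing Q] (G : Q[X])
    (hreg : ∀ w : Q, w * G.coeff 0 = 0 → w = 0) :
    ∀ (n : ℕ) (s q : Q[X]), X ^ n * s = q * G → G ∣ s := by
  intro n
  induction n with
  | zero => intro s q h; rw [pow_zero, one_mul] at h; exact ⟨q, by rw [h, mul_comm]⟩
  | succ n ih =>
    intro s q h
    have h0 : q.coeff 0 = 0 := by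
      apply hreg
      have := congrArg (fun p => Polynomial.coeff p 0) h
      simp only [Polynomial.mul_coeff_zero, pow_succ, Polynomial.coeff_X_pow] at this
      rw [← this]
      simp
    obtain ⟨q', rfl⟩ := Polynomial.X_dvd_iff.2 h0
    apply ih s q'
    apply (Polynomial.isRegular_X (R := Q)).left
    show X * (X ^ n * s) = X * (q' * G)
    rw [← mul_assoc, ← pow_succ', h]; ring


open MvPolynomial in
theorem mv_sat (R : Type u) [CommRing R] (g : MvPolynomial (Fin 2) R)
    (hreg : ∀ w : MvPolynomial (Fin 1) R, w * (finSuccEquiv R 1 g).coeff 0 = 0 → w = 0)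
    (s : MvPolynomial (Fin 2) R) :
    (∃ n : ℕ, X 0 ^ n * s ∈ Ideal.span ({X 0 ^ 2 * g} : Set (MvPolynomial (Fin 2) R))) ↔
      s ∈ Ideal.span ({g} : Set (MvPolynomial (Fin 2) R)) := by
  constructor
  · rintro ⟨n, hn⟩
    rw [Ideal.mem_span_singleton] at hn ⊢
    obtain ⟨q, hq⟩ := hn
    have := congrArg (finSuccEquiv R 1) hq
    simp only [map_mul, map_pow, finSuccEquiv_X_zero] at this
    have hd := poly_sat _ hreg n (finSuccEquiv R 1 s) (Polynomial.X ^ 2 * finSuccEquiv R 1 q)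
      (by rw [this]; ring)
    obtain ⟨t, ht⟩ := hd
    refine ⟨(finSuccEquiv R 1).symm t, ?_⟩
    apply (finSuccEquiv R 1).injective
    rw [map_mul, AlgEquiv.apply_symm_apply, ht]
  · intro h
    rw [Ideal.mem_span_singleton] at h
    obtain ⟨q, rfl⟩ := h
    exact ⟨2, Ideal.mem_span_singleton.2 ⟨q, by ring⟩⟩

/-- regularity transfers along the iso `MvPolynomial (Fin 1) R ≃ R[X]` -/
theorem reg_of_poly (R : Type u) [CommRing R] (c : MvPolynomial (Fin 1) R)
    (h : ∀ w : Polynomial R, w * (MvPolynomial.uniqueAlgEquiv R (Fin 1) c) = 0 → w = 0) :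
    ∀ w : MvPolynomial (Fin 1) R, w * c = 0 → w = 0 := by
  intro w hw
  have := congrArg (MvPolynomial.uniqueAlgEquiv R (Fin 1)) hw
  rw [map_mul, map_zero] at this
  have h0 := h _ this
  exact (map_eq_zero_iff _ (MvPolynomial.uniqueAlgEquiv R (Fin 1)).injective).1 h0

theorem reg_of_constCoeff_one (R : Type u) [CommRing R] (c : Polynomial R) (hc : c.coeff 0 = 1) :
    ∀ w : Polynomial R, w * c = 0 → w = 0 := by
  intro w hw
  have hu : IsUnit (c : PowerSeries R) := by
    rw [PowerSeries.isUnit_iff_constantCoeff, ← PowerSeries.coeff_zero_eq_constantCoeff_apply,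
      Polynomial.coeff_coe, hc]
    exact isUnit_one
  have h1 : (w : PowerSeries R) * (c : PowerSeries R) = 0 := by
    rw [← Polynomial.coe_mul, hw, Polynomial.coe_zero]
  have h2 : (w : PowerSeries R) = 0 := by
    obtain ⟨c', hc'⟩ := hu.exists_right_inv
    calc (w : PowerSeries R) = w * (c * c') := by rw [hc', mul_one]
      _ = (w * c) * c' := by ring
      _ = 0 := by rw [h1, zero_mul]
  exact_mod_cast h2

open MvPolynomial in
theorem main (R : Type u) [CommRing R] (a₁ a₂ : R) :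
    (∀ s : MvPolynomial (Fin 2) R,
      (∃ n : ℕ, X 0 ^ n * s ∈ Ideal.span ({X 0 ^ 2 * (1 + C a₁ * X 1 - X 0 * X 1 ^ 3 - C a₂ * X 1 ^ 2)} :
        Set (MvPolynomial (Fin 2) R))) ↔
      s ∈ Ideal.span ({1 + C a₁ * X 1 - X 0 * X 1 ^ 3 - C a₂ * X 1 ^ 2} : Set (MvPolynomial (Fin 2) R))) ∧
    (∀ s : MvPolynomial (Fin 2) R,
      (∃ n : ℕ, X 0 ^ n * s ∈ Ideal.span ({X 0 ^ 2 * (X 1 ^ 2 + C a₁ * X 1 - X 0 - C a₂)} :
        Set (MvPolynomial (Fin 2) R))) ↔
      s ∈ Ideal.span ({X 1 ^ 2 + C a₁ * X 1 - X 0 - C a₂} : Set (MvPolynomial (Fin 2) R))) := by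
  have heC : ∀ a : R, finSuccEquiv R 1 (C a) = Polynomial.C (C a) := by
    intro a
    rw [← MvPolynomial.algebraMap_eq, AlgEquiv.commutes]; rfl
  have heX1 : finSuccEquiv R 1 (X (Fin.succ 0)) = Polynomial.C (X 0) := finSuccEquiv_X_succ
  have h1 : (1 : Fin 2) = Fin.succ 0 := rfl
  have hφC : ∀ a : R, MvPolynomial.uniqueAlgEquiv R (Fin 1) (C a) = Polynomial.C a := by
    intro a
    rw [← MvPolynomial.algebraMap_eq, AlgEquiv.commutes]; rfl
  have hφX : MvPolynomial.uniqueAlgEquiv R (Fin 1) (X 0) = Polynomial.X := by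
    simp [MvPolynomial.uniqueAlgEquiv]
  constructor
  · intro s
    apply mv_sat
    have hc : (finSuccEquiv R 1 (1 + C a₁ * X 1 - X 0 * X 1 ^ 3 - C a₂ * X 1 ^ 2)).coeff 0 =
        1 + C a₁ * X 0 - C a₂ * X 0 ^ 2 := by
      simp only [map_sub, map_add, map_mul, map_pow, map_one, h1, heX1, heC, finSuccEquiv_X_zero]
      rw [Polynomial.coeff_zero_eq_eval_zero]
      simp
    rw [hc]
    apply reg_of_poly
    apply reg_of_constCoeff_one
    simp only [map_sub, map_add, map_mul, map_pow, map_one, hφC, hφX]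
    simp
  · intro s
    apply mv_sat
    have hc : (finSuccEquiv R 1 (X 1 ^ 2 + C a₁ * X 1 - X 0 - C a₂)).coeff 0 =
        X 0 ^ 2 + C a₁ * X 0 - C a₂ := by
      simp only [map_sub, map_add, map_mul, map_pow, map_one, h1, heX1, heC, finSuccEquiv_X_zero]
      rw [Polynomial.coeff_zero_eq_eval_zero]
      simp
    rw [hc]
    apply reg_of_poly
    have hm : (MvPolynomial.uniqueAlgEquiv R (Fin 1) (X 0 ^ 2 + C a₁ * X 0 - C a₂)).Monic := by
      simp only [map_sub, map_add, map_mul, map_pow, hφC, hφX]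
      monicity!
    intro w hw
    apply hm.isRegular.right
    show w * _ = 0 * _
    rw [hw, zero_mul]

end Groth.Agent.Helper5.Satur
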