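import Mathlib

/-!
# Symmetrization of sums over tuples (helper5)

For a symmetric function `G` of `m`-tuples in a finite linear order vanishing on non-injective
tuples, `∑ v, G v = m! * ∑ v strictly monotone, G v`.
-/

open Finset

namespace Groth.Agent.Helper5.SymmSum

variable {m : ℕ} {α : Type*} [LinearOrder α] [Fintype α] {M : Type*} [CommRing M]

theorem sum_eq_factorial_mul_sum_strictMono
    (G : (Fin m → α) → M) (hsymm : ∀ v (σ : Equiv.Perm (Fin m)), G (v ∘ σ) = G v)
    (hzero : ∀ v, ¬ Function.Injective v → G v = 0) :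
    ∑ v, G v = (m.factorial : M) *
      ∑ v ∈ (Finset.univ : Finset (Fin m → α)).filter (fun v => StrictMono v), G v := by
  classical
  have h1 : ∑ v, G v =
      ∑ v ∈ (Finset.univ : Finset (Fin m → α)).filter (fun v => Function.Injective v), G v := by
    symm
    refine Finset.sum_subset (Finset.filter_subset _ _) ?_
    intro v _ hv
    rw [Finset.mem_filter] at hv
    exact hzero v (fun h => hv ⟨Finset.mem_univ _, h⟩)
  have h2 : ∑ v ∈ (Finset.univ : Finset (Fin m → α)).filter (fun v => Function.Injective v), G v =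
      ∑ x ∈ (Finset.univ : Finset (Equiv.Perm (Fin m))) ×ˢ
        (Finset.univ : Finset (Fin m → α)).filter (fun v => StrictMono v), G (x.2 ∘ x.1) := by
    symm
    refine Finset.sum_bij (fun x _ => x.2 ∘ x.1) ?_ ?_ ?_ ?_
    · rintro ⟨σ, w⟩ hx
      simp only [Finset.mem_product, Finset.mem_univ, Finset.mem_filter, true_and] at hx
      simp only [Finset.mem_filter, Finset.mem_univ, true_and]
      exact hx.injective.comp σ.injective
    · rintro ⟨σ₁, w₁⟩ h1 ⟨σ₂, w₂⟩ h2 heq
      simp only [Finset.mem_product, Finset.mem_univ, Finset.mem_filter, true_and] at h1 h2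
      simp only at heq
      have hw : w₁ = w₂ := by
        have e1 : w₁ = (w₁ ∘ σ₁) ∘ (σ₁⁻¹ : Equiv.Perm (Fin m)) := by
          funext i; simp
        have e2 : w₂ = (w₁ ∘ σ₁) ∘ (σ₂⁻¹ : Equiv.Perm (Fin m)) := by
          rw [heq]; funext i; simp
        have m1 : Monotone ((w₁ ∘ σ₁) ∘ (σ₁⁻¹ : Equiv.Perm (Fin m))) := by
          rw [← e1]; exact h1.monotone
        have m2 : Monotone ((w₁ ∘ σ₁) ∘ (σ₂⁻¹ : Equiv.Perm (Fin m))) := by
          rw [← e2]; exact h2.monotone
        rw [e1, e2]
        exact Tuple.unique_monotone m1 m2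
      subst hw
      have hσ : σ₁ = σ₂ := by
        ext i
        have := congrFun heq i
        exact congrArg Fin.val (h1.injective this)
      rw [hσ]
    · intro v hv
      simp only [Finset.mem_filter, Finset.mem_univ, true_and] at hv
      refine ⟨((Tuple.sort v)⁻¹, v ∘ Tuple.sort v), ?_, ?_⟩
      · simp only [Finset.mem_product, Finset.mem_univ, Finset.mem_filter, true_and]
        exact (Tuple.monotone_sort v).strictMono_of_injective (hv.comp (Tuple.sort v).injective)
      · funext i
        simp
    · intro x _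
      rfl
  rw [h1, h2, Finset.sum_product]
  simp_rw [hsymm]
  rw [Finset.sum_const, Finset.card_univ, Fintype.card_perm, Fintype.card_fin, nsmul_eq_mul]

end Groth.Agent.Helper5.SymmSum

namespace Groth.Agent.Helper5.SymmSum

open Function

theorem strictMono_cons_zero_iff {n r' : ℕ} [NeZero n] (v' : Fin r' → Fin n) :
    StrictMono (Fin.cons 0 v' : Fin (r' + 1) → Fin n) ↔ StrictMono v' ∧ ∀ i, v' i ≠ 0 := by
  constructor
  · intro h
    refine ⟨fun i j hij => ?_, fun i hi => ?_⟩
    · have := h (Fin.succ_lt_succ_iff.2 hij)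
      simpa using this
    · have := h (Fin.succ_pos i)
      rw [Fin.cons_zero, Fin.cons_succ, hi] at this
      exact lt_irrefl _ this
  · rintro ⟨h1, h2⟩ a b hab
    induction a using Fin.cases with
    | zero =>
      induction b using Fin.cases with
      | zero => exact absurd hab (lt_irrefl _)
      | succ j =>
        rw [Fin.cons_zero, Fin.cons_succ]
        exact Fin.pos_iff_ne_zero.2 (h2 j)
    | succ i =>
      induction b using Fin.cases with
      | zero => exact absurd hab (Fin.not_lt_zero _)
      | succ j =>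
        rw [Fin.cons_succ, Fin.cons_succ]
        exact h1 (Fin.succ_lt_succ_iff.1 hab)

/-- from a translation-invariant symmetric function on tuples in `ℤ/n`, vanishing on non-injective
tuples: the sum over strictly decreasing tuples ending in `0` -/
theorem sum_strictAnti_last_zero {n r' : ℕ} [NeZero n] (F : (Fin (r' + 1) → Fin n) → ℝ)
    (hsymm : ∀ v (σ : Equiv.Perm (Fin (r' + 1))), F (v ∘ σ) = F v)
    (hzero : ∀ v, ¬ Injective v → F v = 0)
    (htrans : ∀ v (c : Fin n), F (fun i => v i + c) = F v)
    (htot : ∑ v, F v = ((r' + 1).factorial : ℝ) * (n : ℝ) ^ (r' + 1)) :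
    ∑ v ∈ (Finset.univ : Finset (Fin (r' + 1) → Fin n)).filter
        (fun v => StrictAnti v ∧ v (Fin.last r') = 0), F v = ((r' + 1 : ℕ) : ℝ) * (n : ℝ) ^ r' := by
  classical
  -- Step A
  have hA : ∑ v, F v = (n : ℝ) *
      ∑ v ∈ (Finset.univ : Finset (Fin (r' + 1) → Fin n)).filter (fun v => v 0 = 0), F v := by
    rw [← Finset.sum_fiberwise (Finset.univ : Finset (Fin (r' + 1) → Fin n)) (fun v => v 0) F]
    have : ∀ c : Fin n, ∑ v ∈ (Finset.univ : Finset (Fin (r' + 1) → Fin n)).filter
        (fun v => v 0 = c), F v =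
        ∑ v ∈ (Finset.univ : Finset (Fin (r' + 1) → Fin n)).filter (fun v => v 0 = 0), F v := by
      intro c
      refine Finset.sum_bij' (fun v _ => fun i => v i - c) (fun v _ => fun i => v i + c)
        ?_ ?_ ?_ ?_ ?_
      · intro v hv
        simp only [Finset.mem_filter, Finset.mem_univ, true_and] at hv ⊢
        rw [hv, sub_self]
      · intro v hv
        simp only [Finset.mem_filter, Finset.mem_univ, true_and] at hv ⊢
        rw [hv, zero_add]
      · intro v _
        funext i
        exact sub_add_cancel _ _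
      · intro v _
        funext i
        exact add_sub_cancel_right _ _
      · intro v _
        have := htrans (fun i => v i - c) c
        simp only [sub_add_cancel] at this
        exact this
    simp_rw [this]
    rw [Finset.sum_const, Finset.card_univ, Fintype.card_fin, nsmul_eq_mul]
  -- Step B
  have hB : ∑ v ∈ (Finset.univ : Finset (Fin (r' + 1) → Fin n)).filter (fun v => v 0 = 0), F v =
      ∑ v' : Fin r' → Fin n, F (Fin.cons 0 v') := by
    symm
    refine Finset.sum_bij' (fun v' _ => (Fin.cons 0 v' : Fin (r' + 1) → Fin n))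
      (fun v _ => Fin.tail v) ?_ ?_ ?_ ?_ ?_
    · intro v' _
      simp
    · intro v _
      exact Finset.mem_univ _
    · intro v' _
      exact Fin.tail_cons _ _
    · intro v hv
      simp only [Finset.mem_filter, Finset.mem_univ, true_and] at hv
      rw [← hv]
      exact Fin.cons_self_tail v
    · intro v' _
      rfl
  -- Step C
  have hGsymm : ∀ (v' : Fin r' → Fin n) (σ : Equiv.Perm (Fin r')),
      F (Fin.cons 0 (v' ∘ σ)) = F (Fin.cons 0 v') := by
    intro v' σ
    rw [← hsymm (Fin.cons 0 v') (Equiv.Perm.decomposeFin.symm (0, σ))]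
    congr 1
    funext i
    induction i using Fin.cases with
    | zero => simp
    | succ j => simp
  have hGzero : ∀ v' : Fin r' → Fin n, ¬ Injective v' → F (Fin.cons 0 v') = 0 := by
    intro v' hv'
    apply hzero
    intro hinj
    apply hv'
    intro i j hij
    have : (Fin.cons 0 v' : Fin (r' + 1) → Fin n) i.succ =
        (Fin.cons 0 v' : Fin (r' + 1) → Fin n) j.succ := by
      rw [Fin.cons_succ, Fin.cons_succ, hij]
    exact Fin.succ_injective _ (hinj this)
  have hC := sum_eq_factorial_mul_sum_strictMono (fun v' : Fin r' → Fin n => F (Fin.cons 0 v'))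
    hGsymm hGzero
  -- Step D
  have hD : ∑ v' ∈ (Finset.univ : Finset (Fin r' → Fin n)).filter (fun v' => StrictMono v'),
      F (Fin.cons 0 v') =
      ∑ w ∈ (Finset.univ : Finset (Fin (r' + 1) → Fin n)).filter
        (fun w => StrictMono w ∧ w 0 = 0), F w := by
    have h1 : ∑ v' ∈ (Finset.univ : Finset (Fin r' → Fin n)).filter (fun v' => StrictMono v'),
        F (Fin.cons 0 v') =
        ∑ v' ∈ (Finset.univ : Finset (Fin r' → Fin n)).filter
          (fun v' => StrictMono v' ∧ ∀ i, v' i ≠ 0), F (Fin.cons 0 v') := by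
      symm
      refine Finset.sum_subset ?_ ?_
      · intro v' hv'
        simp only [Finset.mem_filter, Finset.mem_univ, true_and] at hv' ⊢
        exact hv'.1
      · intro v' hv' hnv'
        simp only [Finset.mem_filter, Finset.mem_univ, true_and] at hv' hnv'
        apply hzero
        intro hinj
        apply hnv'
        refine ⟨hv', fun i hi => ?_⟩
        have : (Fin.cons 0 v' : Fin (r' + 1) → Fin n) i.succ =
            (Fin.cons 0 v' : Fin (r' + 1) → Fin n) 0 := by
          rw [Fin.cons_succ, Fin.cons_zero, hi]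
        exact Fin.succ_ne_zero i (hinj this)
    rw [h1]
    refine Finset.sum_bij' (fun v' _ => (Fin.cons 0 v' : Fin (r' + 1) → Fin n))
      (fun v _ => Fin.tail v) ?_ ?_ ?_ ?_ ?_
    · intro v' hv'
      simp only [Finset.mem_filter, Finset.mem_univ, true_and] at hv' ⊢
      exact ⟨(strictMono_cons_zero_iff v').2 hv', Fin.cons_zero _ _⟩
    · intro w hw
      simp only [Finset.mem_filter, Finset.mem_univ, true_and] at hw ⊢
      have : w = Fin.cons 0 (Fin.tail w) := by
        rw [← hw.2]; exact (Fin.cons_self_tail w).symm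
      rw [this] at hw
      exact (strictMono_cons_zero_iff _).1 hw.1
    · intro v' _
      exact Fin.tail_cons _ _
    · intro w hw
      simp only [Finset.mem_filter, Finset.mem_univ, true_and] at hw
      rw [← hw.2]
      exact Fin.cons_self_tail w
    · intro v' _
      rfl
  -- Step E
  have hE : ∑ w ∈ (Finset.univ : Finset (Fin (r' + 1) → Fin n)).filter
        (fun w => StrictMono w ∧ w 0 = 0), F w =
      ∑ v ∈ (Finset.univ : Finset (Fin (r' + 1) → Fin n)).filter
        (fun v => StrictAnti v ∧ v (Fin.last r') = 0), F v := by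
    refine Finset.sum_bij' (fun w _ => w ∘ Fin.rev) (fun v _ => v ∘ Fin.rev) ?_ ?_ ?_ ?_ ?_
    · intro w hw
      simp only [Finset.mem_filter, Finset.mem_univ, true_and] at hw ⊢
      refine ⟨hw.1.comp_strictAnti Fin.rev_strictAnti, ?_⟩
      rw [Function.comp_apply, Fin.rev_last]
      exact hw.2
    · intro v hv
      simp only [Finset.mem_filter, Finset.mem_univ, true_and] at hv ⊢
      refine ⟨hv.1.comp Fin.rev_strictAnti, ?_⟩
      rw [Function.comp_apply, Fin.rev_zero]
      exact hv.2
    · intro w _
      funext i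
      simp
    · intro v _
      funext i
      simp
    · intro w _
      exact (hsymm w Fin.revPerm).symm
  rw [← hE, ← hD]
  have hn : (n : ℝ) ≠ 0 := Nat.cast_ne_zero.2 (NeZero.ne n)
  have hf : ((r'.factorial : ℕ) : ℝ) ≠ 0 := Nat.cast_ne_zero.2 (Nat.factorial_ne_zero r')
  have key : (n : ℝ) * ((r'.factorial : ℝ) *
      ∑ v' ∈ (Finset.univ : Finset (Fin r' → Fin n)).filter (fun v' => StrictMono v'),
        F (Fin.cons 0 v')) = ((r' + 1).factorial : ℝ) * (n : ℝ) ^ (r' + 1) := by
    rw [← hC, ← hB, ← hA, htot]
  have : ((n : ℝ) * (r'.factorial : ℝ)) *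
      ∑ v' ∈ (Finset.univ : Finset (Fin r' → Fin n)).filter (fun v' => StrictMono v'),
        F (Fin.cons 0 v') = ((n : ℝ) * (r'.factorial : ℝ)) * (((r' + 1 : ℕ) : ℝ) * (n : ℝ) ^ r') := by
    rw [mul_assoc, key, Nat.factorial_succ]
    push_cast
    ring
  exact mul_left_cancel₀ (mul_ne_zero hn hf) this

end Groth.Agent.Helper5.SymmSum
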