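import Mathlib
import Groth.Agent.Lib.Helper5.Misc.SymmSum

/-!
# Vandermonde determinants at roots of unity (helper5)
-/

open Finset Matrix

namespace Groth.Agent.Helper5.Verlinde

variable {n : ℕ} {r : ℕ}

/-- Vandermonde determinant at the roots of unity `ζ ^ (v i)` -/
noncomputable def Vd (ζ : ℂ) (v : Fin r → Fin n) : ℂ := (vandermonde fun i => ζ ^ (v i : ℕ)).det

/-- its squared absolute value -/
noncomputable def F (ζ : ℂ) (v : Fin r → Fin n) : ℝ := Complex.normSq (Vd ζ v)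

theorem F_eq_prod (ζ : ℂ) (v : Fin r → Fin n) :
    F ζ v = ∏ i, ∏ j ∈ Finset.Ioi i, Complex.normSq (ζ ^ (v j : ℕ) - ζ ^ (v i : ℕ)) := by
  rw [F, Vd, det_vandermonde, map_prod]
  refine Finset.prod_congr rfl fun i _ => ?_
  rw [map_prod]

theorem Vd_comp_perm (ζ : ℂ) (v : Fin r → Fin n) (σ : Equiv.Perm (Fin r)) :
    Vd ζ (v ∘ σ) = ((Equiv.Perm.sign σ : ℤˣ) : ℤ) * Vd ζ v := by
  rw [Vd, Vd, ← det_permute]
  congr 1

theorem F_comp_perm (ζ : ℂ) (v : Fin r → Fin n) (σ : Equiv.Perm (Fin r)) :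
    F ζ (v ∘ σ) = F ζ v := by
  rw [F, F, Vd_comp_perm, map_mul]
  rcases Int.units_eq_one_or (Equiv.Perm.sign σ) with h | h <;> simp [h]

theorem F_eq_zero_of_not_injective (ζ : ℂ) (v : Fin r → Fin n) (hv : ¬ Function.Injective v) :
    F ζ v = 0 := by
  rw [F, map_eq_zero, Vd, det_vandermonde_eq_zero_iff]
  simp only [Function.Injective, not_forall] at hv
  obtain ⟨i, j, hij, hne⟩ := hv
  exact ⟨i, j, by rw [hij], hne⟩

theorem F_add_const [NeZero n] {ζ : ℂ} (hζn : ζ ^ n = 1) (hζ1 : ‖ζ‖ = 1) (v : Fin r → Fin n)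
    (c : Fin n) : F ζ (fun i => v i + c) = F ζ v := by
  rw [F_eq_prod, F_eq_prod]
  refine Finset.prod_congr rfl fun i _ => Finset.prod_congr rfl fun j _ => ?_
  have h : ∀ a : Fin n, ζ ^ ((a + c : Fin n) : ℕ) = ζ ^ (a : ℕ) * ζ ^ (c : ℕ) := by
    intro a
    rw [Fin.val_add, ← pow_eq_pow_mod _ hζn, pow_add]
  rw [h, h, ← sub_mul, map_mul]
  have : Complex.normSq (ζ ^ (c : ℕ)) = 1 := by
    rw [Complex.normSq_eq_norm_sq, norm_pow, hζ1, one_pow, one_pow]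
  rw [this, mul_one]

/-- geometric sum of an `n`-th root of unity -/
theorem sum_pow_root {x : ℂ} (hx : x ^ n = 1) :
    ∑ b : Fin n, x ^ (b : ℕ) = if x = 1 then (n : ℂ) else 0 := by
  rw [Fin.sum_univ_eq_sum_range (fun b => x ^ b) n]
  split_ifs with h
  · simp [h]
  · rw [geom_sum_eq h, hx, sub_self, zero_div]

theorem sum_Vd_mul_conj {ζ : ℂ} (hζ : IsPrimitiveRoot ζ n) (hn : n ≠ 0) (hrn : r ≤ n) :
    ∑ v : Fin r → Fin n, Vd ζ v * (starRingEnd ℂ) (Vd ζ v) = (r.factorial : ℂ) * (n : ℂ) ^ r := by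
  classical
  have hζ1 : ‖ζ‖ = 1 := hζ.norm'_eq_one hn
  have hconj : (starRingEnd ℂ) ζ = ζ⁻¹ := (Complex.inv_eq_conj hζ1).symm
  have hζ0 : ζ ≠ 0 := hζ.ne_zero hn
  -- expansion of the determinant as a combination of characters
  have hVd : ∀ v : Fin r → Fin n, Vd ζ v = ∑ σ : Equiv.Perm (Fin r),
      (((Equiv.Perm.sign σ : ℤˣ) : ℤ) : ℂ) * ∏ a, (ζ ^ ((σ.symm a : Fin r) : ℕ)) ^ (v a : ℕ) := by
    intro v
    rw [Vd, det_apply']
    refine Finset.sum_congr rfl fun σ _ => ?_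
    congr 1
    rw [← Equiv.prod_comp σ (fun a => (ζ ^ ((σ.symm a : Fin r) : ℕ)) ^ (v a : ℕ))]
    refine Finset.prod_congr rfl fun i _ => ?_
    rw [vandermonde_apply, Equiv.symm_apply_apply, ← pow_mul, ← pow_mul, mul_comm]
  have hVdc : ∀ v : Fin r → Fin n, (starRingEnd ℂ) (Vd ζ v) = ∑ τ : Equiv.Perm (Fin r),
      (((Equiv.Perm.sign τ : ℤˣ) : ℤ) : ℂ) * ∏ a, (ζ⁻¹ ^ ((τ.symm a : Fin r) : ℕ)) ^ (v a : ℕ) := by
    intro v
    rw [hVd, map_sum]
    refine Finset.sum_congr rfl fun τ _ => ?_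
    rw [map_mul, map_prod]
    congr 1
    · rcases Int.units_eq_one_or (Equiv.Perm.sign τ) with h | h <;> simp [h]
    · refine Finset.prod_congr rfl fun a _ => ?_
      rw [map_pow, map_pow, hconj]
  have hmain : ∀ σ τ : Equiv.Perm (Fin r),
      ∑ v : Fin r → Fin n, (∏ a, (ζ ^ ((σ.symm a : Fin r) : ℕ)) ^ (v a : ℕ)) *
        (∏ a, (ζ⁻¹ ^ ((τ.symm a : Fin r) : ℕ)) ^ (v a : ℕ)) =
      if σ = τ then (n : ℂ) ^ r else 0 := by
    intro σ τ
    have h1 : ∀ v : Fin r → Fin n, (∏ a, (ζ ^ ((σ.symm a : Fin r) : ℕ)) ^ (v a : ℕ)) *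
        (∏ a, (ζ⁻¹ ^ ((τ.symm a : Fin r) : ℕ)) ^ (v a : ℕ)) =
        ∏ a, (ζ ^ ((σ.symm a : Fin r) : ℕ) * ζ⁻¹ ^ ((τ.symm a : Fin r) : ℕ)) ^ (v a : ℕ) := by
      intro v
      rw [← Finset.prod_mul_distrib]
      refine Finset.prod_congr rfl fun a _ => ?_
      rw [mul_pow]
    simp_rw [h1]
    rw [← Fintype.prod_sum (fun a (b : Fin n) =>
      (ζ ^ ((σ.symm a : Fin r) : ℕ) * ζ⁻¹ ^ ((τ.symm a : Fin r) : ℕ)) ^ (b : ℕ))]
    have hx : ∀ a : Fin r,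
        (ζ ^ ((σ.symm a : Fin r) : ℕ) * ζ⁻¹ ^ ((τ.symm a : Fin r) : ℕ)) ^ n = 1 := by
      intro a
      rw [mul_pow, ← pow_mul, ← pow_mul, mul_comm _ n, mul_comm _ n, pow_mul, pow_mul, inv_pow,
        hζ.pow_eq_one, inv_one, one_pow, one_pow, one_mul]
    have hx1 : ∀ a : Fin r,
        (ζ ^ ((σ.symm a : Fin r) : ℕ) * ζ⁻¹ ^ ((τ.symm a : Fin r) : ℕ) = 1) ↔
          σ.symm a = τ.symm a := by
      intro a
      rw [inv_pow, mul_inv_eq_one₀ (pow_ne_zero _ hζ0)]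
      constructor
      · intro h
        exact Fin.ext (hζ.pow_inj (lt_of_lt_of_le (σ.symm a).2 hrn)
          (lt_of_lt_of_le (τ.symm a).2 hrn) h)
      · intro h; rw [h]
    simp_rw [sum_pow_root (hx _), hx1]
    split_ifs with hστ
    · subst hστ
      simp
    · have : ∃ a, σ.symm a ≠ τ.symm a := by
        by_contra hcon
        push Not at hcon
        apply hστ
        have : σ.symm = τ.symm := Equiv.ext hcon
        exact Equiv.symm_bijective.injective this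
      obtain ⟨a, ha⟩ := this
      exact Finset.prod_eq_zero (Finset.mem_univ a) (if_neg ha)
  simp_rw [hVdc]
  simp_rw [hVd]
  simp_rw [Finset.sum_mul_sum]
  rw [Finset.sum_comm]
  have h2 : ∀ σ : Equiv.Perm (Fin r), ∑ v : Fin r → Fin n, ∑ τ : Equiv.Perm (Fin r),
      ((((Equiv.Perm.sign σ : ℤˣ) : ℤ) : ℂ) * ∏ a, (ζ ^ ((σ.symm a : Fin r) : ℕ)) ^ (v a : ℕ)) *
      ((((Equiv.Perm.sign τ : ℤˣ) : ℤ) : ℂ) * ∏ a, (ζ⁻¹ ^ ((τ.symm a : Fin r) : ℕ)) ^ (v a : ℕ)) =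
      (n : ℂ) ^ r := by
    intro σ
    rw [Finset.sum_comm]
    have h3 : ∀ τ : Equiv.Perm (Fin r), ∑ v : Fin r → Fin n,
        ((((Equiv.Perm.sign σ : ℤˣ) : ℤ) : ℂ) * ∏ a, (ζ ^ ((σ.symm a : Fin r) : ℕ)) ^ (v a : ℕ)) *
        ((((Equiv.Perm.sign τ : ℤˣ) : ℤ) : ℂ) * ∏ a, (ζ⁻¹ ^ ((τ.symm a : Fin r) : ℕ)) ^ (v a : ℕ)) =
        (((Equiv.Perm.sign σ : ℤˣ) : ℤ) : ℂ) * (((Equiv.Perm.sign τ : ℤˣ) : ℤ) : ℂ) *
          (if σ = τ then (n : ℂ) ^ r else 0) := by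
      intro τ
      rw [← hmain σ τ, Finset.mul_sum]
      refine Finset.sum_congr rfl fun v _ => ?_
      ring
    simp_rw [h3]
    rw [Finset.sum_eq_single σ]
    · rw [if_pos rfl]
      rcases Int.units_eq_one_or (Equiv.Perm.sign σ) with h | h <;> simp [h]
    · intro τ _ hτ
      rw [if_neg (Ne.symm hτ), mul_zero]
    · intro h; exact absurd (Finset.mem_univ σ) h
  simp_rw [h2]
  rw [Finset.sum_const, Finset.card_univ, Fintype.card_perm, Fintype.card_fin, nsmul_eq_mul]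

theorem sum_F {ζ : ℂ} (hζ : IsPrimitiveRoot ζ n) (hn : n ≠ 0) (hrn : r ≤ n) :
    ∑ v : Fin r → Fin n, F ζ v = (r.factorial : ℝ) * (n : ℝ) ^ r := by
  apply Complex.ofReal_injective
  rw [Complex.ofReal_sum]
  have : ∀ v : Fin r → Fin n, ((F ζ v : ℝ) : ℂ) = Vd ζ v * (starRingEnd ℂ) (Vd ζ v) := by
    intro v
    rw [F, Complex.mul_conj]
  simp_rw [this]
  rw [sum_Vd_mul_conj hζ hn hrn]
  push_cast
  rfl

theorem normSq_exp_sub_exp (α β : ℝ) :
    Complex.normSq (Complex.exp (Complex.I * α) - Complex.exp (Complex.I * β)) =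
      (2 * Real.sin ((α - β) / 2)) ^ 2 := by
  have h : Complex.exp (Complex.I * α) - Complex.exp (Complex.I * β) =
      Complex.exp (Complex.I * β) * (Complex.exp (Complex.I * ((α - β : ℝ) : ℂ)) - 1) := by
    rw [mul_sub, ← Complex.exp_add, mul_one]
    congr 2
    push_cast
    ring
  rw [h, map_mul, Complex.normSq_eq_norm_sq, Complex.normSq_eq_norm_sq,
    Complex.norm_exp_I_mul_ofReal_sub_one, mul_comm Complex.I (β : ℂ), Complex.norm_exp_ofReal_mul_I,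
    one_pow, one_mul, Real.norm_eq_abs, sq_abs]

theorem normSq_zeta_pow_sub (n : ℕ) (a b : ℕ) :
    Complex.normSq (Complex.exp (2 * Real.pi * Complex.I / n) ^ a -
      Complex.exp (2 * Real.pi * Complex.I / n) ^ b) =
      (2 * Real.sin (Real.pi * ((b : ℝ) - a) / n)) ^ 2 := by
  have h : ∀ c : ℕ, Complex.exp (2 * Real.pi * Complex.I / n) ^ c =
      Complex.exp (Complex.I * ((2 * Real.pi * c / n : ℝ) : ℂ)) := by
    intro c
    rw [← Complex.exp_nat_mul]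
    congr 1
    push_cast
    ring
  rw [h, h, normSq_exp_sub_exp]
  have : (2 * Real.pi * a / n - 2 * Real.pi * b / n) / 2 = -(Real.pi * ((b : ℝ) - a) / n) := by
    ring
  rw [this, Real.sin_neg, mul_neg, neg_sq]

theorem prod_pairs_eq {M : Type*} [CommMonoid M] (g : Fin r → Fin r → M) :
    ∏ p ∈ (Finset.univ : Finset (Fin r × Fin r)).filter (fun p => p.1 < p.2), g p.1 p.2 =
      ∏ i, ∏ j ∈ Finset.Ioi i, g i j := by
  rw [Finset.prod_filter, Fintype.prod_prod_type]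
  refine Finset.prod_congr rfl fun i _ => ?_
  rw [← Finset.prod_filter]
  refine Finset.prod_congr ?_ fun _ _ => rfl
  ext j
  simp

theorem F_eq_sin (v : Fin r → Fin n) :
    F (Complex.exp (2 * Real.pi * Complex.I / n)) v =
      ∏ p ∈ (Finset.univ : Finset (Fin r × Fin r)).filter (fun p => p.1 < p.2),
        (2 * Real.sin (Real.pi * (((v p.1 : ℕ) : ℝ) - ((v p.2 : ℕ) : ℝ)) / n)) ^ 2 := by
  rw [F_eq_prod, prod_pairs_eq (fun i j =>
    (2 * Real.sin (Real.pi * (((v i : ℕ) : ℝ) - ((v j : ℕ) : ℝ)) / n)) ^ 2)]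
  refine Finset.prod_congr rfl fun i _ => Finset.prod_congr rfl fun j _ => ?_
  exact normSq_zeta_pow_sub n _ _

/-- the genus-zero Verlinde sum -/
theorem verlinde_sum (r' k : ℕ) (hk : 1 ≤ k) :
    ∑ v ∈ (Finset.univ : Finset (Fin (r' + 1) → Fin (r' + 1 + k))).filter
        (fun v => StrictAnti v ∧ v (Fin.last r') = ⟨0, by omega⟩),
      ∏ p ∈ (Finset.univ : Finset (Fin (r' + 1) × Fin (r' + 1))).filter (fun p => p.1 < p.2),
        (2 * Real.sin (Real.pi * (((v p.1 : ℕ) : ℝ) - ((v p.2 : ℕ) : ℝ)) /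
          ((r' + 1 + k : ℕ) : ℝ))) ^ 2 =
      ((r' + 1 : ℕ) : ℝ) * ((r' + 1 + k : ℕ) : ℝ) ^ r' := by
  have : NeZero (r' + 1 + k) := ⟨by omega⟩
  have hn : r' + 1 + k ≠ 0 := by omega
  set ζ := Complex.exp (2 * Real.pi * Complex.I / ((r' + 1 + k : ℕ) : ℂ)) with hζdef
  have hζ : IsPrimitiveRoot ζ (r' + 1 + k) := Complex.isPrimitiveRoot_exp _ hn
  have hζ1 : ‖ζ‖ = 1 := hζ.norm'_eq_one hn
  have := Groth.Agent.Helper5.SymmSum.sum_strictAnti_last_zero (n := r' + 1 + k) (r' := r')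
    (F ζ) (F_comp_perm ζ) (F_eq_zero_of_not_injective ζ)
    (F_add_const hζ.pow_eq_one hζ1) (sum_F hζ hn (by omega))
  rw [← this]
  refine Finset.sum_congr ?_ fun v _ => (F_eq_sin v).symm
  refine Finset.filter_congr fun v _ => ?_
  rfl

end Groth.Agent.Helper5.Verlinde
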