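import Mathlib
import Groth.Agent.Lib.Helper5.LinAlg.CauchyBinet
import Groth.Agent.Lib.Helper5.Misc.SymmSum
import Groth.Agent.Lib.Helper5.Misc.Verlinde

/-!
# Generalised Vandermonde determinants at roots of unity (helper5)
-/

open Finset Matrix

namespace Groth.Agent.Helper5.SchurRoots

variable {r : ℕ}

/-- generalised Vandermonde determinant `det (z_j ^ (e_i))` -/
noncomputable def D (z : Fin r → ℂ) (e : Fin r → ℕ) : ℂ :=
  (Matrix.of fun i j : Fin r => z j ^ e i).det

theorem D_comp_perm (z : Fin r → ℂ) (e : Fin r → ℕ) (σ : Equiv.Perm (Fin r)) :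
    D z (e ∘ σ) = (((Equiv.Perm.sign σ : ℤˣ) : ℤ) : ℂ) * D z e := by
  rw [D, D, ← det_permute]
  congr 1

theorem conj_D (z : Fin r → ℂ) (e : Fin r → ℕ) :
    (starRingEnd ℂ) (D z e) = D (fun j => (starRingEnd ℂ) (z j)) e := by
  rw [D, D, RingHom.map_det]
  congr 1
  ext i j
  simp

theorem D_eq_zero_of_not_injective (z : Fin r → ℂ) (e : Fin r → ℕ)
    (h : ¬ Function.Injective e) : D z e = 0 := by
  simp only [Function.Injective, not_forall] at h
  obtain ⟨i, j, hij, hne⟩ := h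
  refine det_zero_of_row_eq hne ?_
  funext c
  simp [hij]

theorem D_sub (z : Fin r → ℂ) (hz1 : ∀ j, ‖z j‖ = 1) (N : ℕ) (e : Fin r → ℕ)
    (he : ∀ i, e i ≤ N) :
    D z (fun i => N - e i) = (∏ j, z j ^ N) * (starRingEnd ℂ) (D z e) := by
  rw [conj_D, D, D, ← det_mul_row]
  congr 1
  ext i j
  simp only [of_apply]
  have h1 : z j * (starRingEnd ℂ) (z j) = 1 := by
    rw [Complex.mul_conj, Complex.normSq_eq_norm_sq, hz1]
    simp
  calc z j ^ (N - e i) = z j ^ (N - e i) * (z j * (starRingEnd ℂ) (z j)) ^ (e i) := by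
        rw [h1, one_pow, mul_one]
    _ = z j ^ (N - e i + e i) * (starRingEnd ℂ) (z j) ^ (e i) := by
        rw [mul_pow, pow_add]; ring
    _ = z j ^ N * (starRingEnd ℂ) (z j) ^ (e i) := by
        rw [Nat.sub_add_cancel (he i)]

/-- the Gram-type sum via Cauchy–Binet -/
theorem sum_D_mul_conj (z : Fin r → ℂ) (m : ℕ) :
    ∑ l : Fin r → Fin m, D z (fun i => (l i : ℕ)) * (starRingEnd ℂ) (D z (fun i => (l i : ℕ))) =
      (r.factorial : ℂ) * (Matrix.of fun j j' : Fin r =>
        ∑ a : Fin m, (z j * (starRingEnd ℂ) (z j')) ^ (a : ℕ)).det := by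
  have h := CauchyBinet.sum_det_mul_det
    (A := (Matrix.of fun (j : Fin r) (a : Fin m) => z j ^ (a : ℕ)))
    (B := (Matrix.of fun (a : Fin m) (j : Fin r) => (starRingEnd ℂ) (z j) ^ (a : ℕ)))
  rw [Fintype.card_fin] at h
  have hAB : (Matrix.of fun (j : Fin r) (a : Fin m) => z j ^ (a : ℕ)) *
      (Matrix.of fun (a : Fin m) (j : Fin r) => (starRingEnd ℂ) (z j) ^ (a : ℕ)) =
      Matrix.of fun j j' : Fin r => ∑ a : Fin m, (z j * (starRingEnd ℂ) (z j')) ^ (a : ℕ) := by
    ext j j'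
    simp only [Matrix.mul_apply, of_apply, mul_pow]
  rw [hAB] at h
  rw [← h]
  refine Finset.sum_congr rfl fun l _ => ?_
  congr 1
  · rw [D, ← det_transpose]
    congr 1
  · rw [conj_D, D]
    congr 1

theorem sum_strictAnti_D_mul_conj (z : Fin r → ℂ) (m : ℕ) :
    ∑ l ∈ (Finset.univ : Finset (Fin r → Fin m)).filter (fun l => StrictAnti l),
      D z (fun i => (l i : ℕ)) * (starRingEnd ℂ) (D z (fun i => (l i : ℕ))) =
      (Matrix.of fun j j' : Fin r =>
        ∑ a : Fin m, (z j * (starRingEnd ℂ) (z j')) ^ (a : ℕ)).det := by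
  classical
  set G : (Fin r → Fin m) → ℂ := fun l =>
    D z (fun i => (l i : ℕ)) * (starRingEnd ℂ) (D z (fun i => (l i : ℕ))) with hG
  have hsymm : ∀ (l : Fin r → Fin m) (σ : Equiv.Perm (Fin r)), G (l ∘ σ) = G l := by
    intro l σ
    simp only [hG]
    have : (fun i => ((l ∘ σ) i : ℕ)) = (fun i => (l i : ℕ)) ∘ σ := rfl
    rw [this, D_comp_perm, map_mul]
    rcases Int.units_eq_one_or (Equiv.Perm.sign σ) with h | h <;> simp [h]
  have hzero : ∀ l : Fin r → Fin m, ¬ Function.Injective l → G l = 0 := by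
    intro l hl
    simp only [hG]
    rw [D_eq_zero_of_not_injective, zero_mul]
    intro hinj
    apply hl
    intro a b hab
    exact hinj (congrArg Fin.val hab)
  have h1 := SymmSum.sum_eq_factorial_mul_sum_strictMono G hsymm hzero
  have h2 : ∑ l, G l = (r.factorial : ℂ) * (Matrix.of fun j j' : Fin r =>
        ∑ a : Fin m, (z j * (starRingEnd ℂ) (z j')) ^ (a : ℕ)).det := sum_D_mul_conj z m
  rw [h1] at h2
  have hfact : (r.factorial : ℂ) ≠ 0 := by exact_mod_cast Nat.factorial_ne_zero r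
  have h3 := mul_left_cancel₀ hfact h2
  rw [← h3]
  -- strictAnti ↔ strictMono via reversal
  refine Finset.sum_bij' (fun l _ => l ∘ Fin.revPerm) (fun l _ => l ∘ Fin.revPerm) ?_ ?_ ?_ ?_ ?_
  · intro l hl
    simp only [Finset.mem_filter, Finset.mem_univ, true_and] at hl ⊢
    intro a b hab
    exact hl (Fin.rev_lt_rev.2 hab)
  · intro l hl
    simp only [Finset.mem_filter, Finset.mem_univ, true_and] at hl ⊢
    intro a b hab
    exact hl (Fin.rev_lt_rev.2 hab)
  · intro l _
    funext i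
    simp
  · intro l _
    funext i
    simp
  · intro l _
    exact (hsymm l Fin.revPerm).symm


/-- Gram entries for `n`-th roots of unity, exponents in `[0, n - 2]` -/
theorem gram_root {n : ℕ} (hn : 1 ≤ n) (z : Fin r → ℂ) (hzn : ∀ j, z j ^ n = 1)
    (hz1 : ∀ j, ‖z j‖ = 1) (hinj : Function.Injective z) (j j' : Fin r) :
    ∑ a : Fin (n - 1), (z j * (starRingEnd ℂ) (z j')) ^ (a : ℕ) =
      (if j = j' then (n : ℂ) else 0) - (starRingEnd ℂ) (z j) * z j' := by
  have hc : ∀ i, z i * (starRingEnd ℂ) (z i) = 1 := by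
    intro i
    rw [Complex.mul_conj, Complex.normSq_eq_norm_sq, hz1]
    simp
  set x := z j * (starRingEnd ℂ) (z j') with hx
  have hcn : (starRingEnd ℂ) (z j') ^ n = 1 := by
    rw [← map_pow, hzn, map_one]
  have hxn : x ^ n = 1 := by
    rw [hx, mul_pow, hzn, hcn, one_mul]
  have hinv : ((starRingEnd ℂ) (z j) * z j') * x = 1 := by
    rw [hx]
    calc (starRingEnd ℂ) (z j) * z j' * (z j * (starRingEnd ℂ) (z j')) =
        (z j * (starRingEnd ℂ) (z j)) * (z j' * (starRingEnd ℂ) (z j')) := by ring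
      _ = 1 := by rw [hc, hc, one_mul]
  have hx1 : x = 1 ↔ j = j' := by
    constructor
    · intro h
      apply hinj
      calc z j = z j * ((starRingEnd ℂ) (z j') * z j') := by
            rw [mul_comm ((starRingEnd ℂ) (z j')), hc, mul_one]
        _ = x * z j' := by rw [hx]; ring
        _ = z j' := by rw [h, one_mul]
    · intro h
      rw [hx, h, hc]
  have hsum := Verlinde.sum_pow_root hxn
  rw [Fin.sum_univ_eq_sum_range (fun b => x ^ b) n] at hsum
  rw [Fin.sum_univ_eq_sum_range (fun b => x ^ b) (n - 1)]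
  obtain ⟨n', rfl⟩ : ∃ n', n = n' + 1 := ⟨n - 1, by omega⟩
  rw [Finset.sum_range_succ] at hsum
  simp only [Nat.add_sub_cancel]
  have hlast : x ^ n' = (starRingEnd ℂ) (z j) * z j' := by
    calc x ^ n' = x ^ n' * (((starRingEnd ℂ) (z j) * z j') * x) := by rw [hinv, mul_one]
      _ = x ^ (n' + 1) * ((starRingEnd ℂ) (z j) * z j') := by rw [pow_succ]; ring
      _ = (starRingEnd ℂ) (z j) * z j' := by rw [hxn, one_mul]
  rw [hlast] at hsum
  simp only [hx1] at hsum
  rw [← hsum]
  ring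

/-- determinant of the Gram matrix `n • 1 - conj z ⊗ z` -/
theorem det_gram (n : ℕ) (hn : (n : ℂ) ≠ 0) (z : Fin r → ℂ) (hz1 : ∀ j, ‖z j‖ = 1) :
    (Matrix.of fun j j' : Fin r =>
      (if j = j' then (n : ℂ) else 0) - (starRingEnd ℂ) (z j) * z j').det =
      (n : ℂ) ^ r * (1 - (r : ℂ) / n) := by
  have hc : ∀ i, z i * (starRingEnd ℂ) (z i) = 1 := by
    intro i
    rw [Complex.mul_conj, Complex.normSq_eq_norm_sq, hz1]
    simp
  have hM : (Matrix.of fun j j' : Fin r =>
      (if j = j' then (n : ℂ) else 0) - (starRingEnd ℂ) (z j) * z j') =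
      (n : ℂ) • (1 + replicateCol Unit (fun j => -(starRingEnd ℂ) (z j) / n) *
        replicateRow Unit z) := by
    ext j j'
    simp only [of_apply, Matrix.smul_apply, Matrix.add_apply, Matrix.one_apply, Matrix.mul_apply,
      replicateCol_apply, replicateRow_apply, Finset.univ_unique, Finset.sum_singleton,
      smul_eq_mul]
    split_ifs with h
    · field_simp
      ring
    · field_simp
      ring
  rw [hM, det_smul, det_one_add_replicateCol_mul_replicateRow, Fintype.card_fin]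
  congr 1
  simp only [dotProduct]
  have : ∀ j : Fin r, z j * (-(starRingEnd ℂ) (z j) / n) = -(1 / (n : ℂ)) := by
    intro j
    rw [mul_div_assoc', mul_neg, hc]
    ring
  simp_rw [this]
  rw [Finset.sum_const, Finset.card_univ, Fintype.card_fin, nsmul_eq_mul]
  ring

/-- a strictly antitone `ℕ`-valued function on `Fin r` drops by at least the index gap -/
theorem strictAnti_gap {m : ℕ} (l : Fin r → Fin m) (hl : StrictAnti l) :
    ∀ (d : ℕ) (i j : Fin r), (j : ℕ) = i + d → (l j : ℕ) + d ≤ l i := by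
  intro d
  induction d with
  | zero =>
    intro i j hij
    have : j = i := Fin.ext (by omega)
    rw [this]
    omega
  | succ d ih =>
    intro i j hij
    have hj' : (i : ℕ) + d < r := by have := j.2; omega
    have h1 := ih i ⟨i + d, hj'⟩ rfl
    have h2 : l j < l ⟨i + d, hj'⟩ := hl (by rw [Fin.lt_def]; simp only; omega)
    have h3 : (l j : ℕ) < (l ⟨i + d, hj'⟩ : ℕ) := h2
    omega

/-- re-indexing antitone `μ` in a box as strictly antitone exponent vectors -/
theorem sum_antitone_eq_sum_strictAnti (r k : ℕ) (hr : 1 ≤ r) (hk : 1 ≤ k)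
    (f : (Fin r → ℕ) → ℂ) :
    ∑ μ ∈ (Finset.univ : Finset (Fin r → Fin k)).filter (fun μ => Antitone μ),
        f (fun i => (μ i : ℕ) + (r - 1 - (i : ℕ))) =
      ∑ l ∈ (Finset.univ : Finset (Fin r → Fin (r + k - 1))).filter (fun l => StrictAnti l),
        f (fun i => (l i : ℕ)) := by
  classical
  have h0 : 0 < r := by omega
  have key : ∀ l : Fin r → Fin (r + k - 1), StrictAnti l → ∀ i : Fin r,
      r - 1 - (i : ℕ) ≤ (l i : ℕ) ∧ (l i : ℕ) - (r - 1 - (i : ℕ)) < k := by
    intro l hl i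
    have h1 := strictAnti_gap l hl (i : ℕ) ⟨0, h0⟩ i (by simp)
    have h2 := (l ⟨0, h0⟩).2
    have h3 := i.2
    have hlast : (r - 1 : ℕ) < r := by omega
    have h4 := strictAnti_gap l hl (r - 1 - (i : ℕ)) i ⟨r - 1, hlast⟩ (by simp only; omega)
    constructor
    · omega
    · omega
  refine Finset.sum_bij'
    (fun μ _ => fun i => (⟨(μ i : ℕ) + (r - 1 - (i : ℕ)), by
      have := (μ i).2; have := i.2; omega⟩ : Fin (r + k - 1)))
    (fun l hl => fun i => (⟨(l i : ℕ) - (r - 1 - (i : ℕ)),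
      (key l (Finset.mem_filter.1 hl).2 i).2⟩ : Fin k)) ?_ ?_ ?_ ?_ ?_
  · intro μ hμ
    simp only [Finset.mem_filter, Finset.mem_univ, true_and] at hμ ⊢
    intro a b hab
    rw [Fin.lt_def]
    simp only
    have h1 : (μ b : ℕ) ≤ (μ a : ℕ) := hμ (le_of_lt hab)
    have h2 : (a : ℕ) < (b : ℕ) := hab
    have := b.2
    omega
  · intro l hl
    have hl' := (Finset.mem_filter.1 hl).2
    simp only [Finset.mem_filter, Finset.mem_univ, true_and]
    intro a b hab
    rw [Fin.le_def]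
    simp only
    have h1 := strictAnti_gap l hl' ((b : ℕ) - (a : ℕ)) a b (by
      have : (a : ℕ) ≤ (b : ℕ) := hab
      omega)
    have h2 := (key l hl' b).1
    have h3 : (a : ℕ) ≤ (b : ℕ) := hab
    have := b.2
    omega
  · intro μ _
    funext i
    apply Fin.ext
    simp
  · intro l hl
    have hl' := (Finset.mem_filter.1 hl).2
    funext i
    apply Fin.ext
    simp only
    have := (key l hl' i).1
    omega
  · intro μ _
    rfl

theorem D_rho (z : Fin r → ℂ) :
    D z (fun i => r - 1 - (i : ℕ)) =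
      (((Equiv.Perm.sign (Fin.revPerm : Equiv.Perm (Fin r)) : ℤˣ) : ℤ) : ℂ) *
        (vandermonde z).det := by
  rw [← det_transpose (vandermonde z), ← det_permute, D]
  congr 1
  ext i j
  simp only [of_apply, submatrix_apply, transpose_apply, vandermonde_apply, Fin.revPerm_apply,
    Fin.val_rev, id_eq]
  congr 1
  omega

theorem D_rho_ne_zero (z : Fin r → ℂ) (hinj : Function.Injective z) :
    D z (fun i => r - 1 - (i : ℕ)) ≠ 0 := by
  rw [D_rho]
  apply mul_ne_zero
  · rcases Int.units_eq_one_or (Equiv.Perm.sign (Fin.revPerm : Equiv.Perm (Fin r))) with h | h <;>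
      simp [h]
  · exact det_vandermonde_ne_zero_iff.2 hinj

theorem normSq_D_rho (z : Fin r → ℂ) :
    Complex.normSq (D z (fun i => r - 1 - (i : ℕ))) = Complex.normSq (vandermonde z).det := by
  rw [D_rho, map_mul]
  rcases Int.units_eq_one_or (Equiv.Perm.sign (Fin.revPerm : Equiv.Perm (Fin r))) with h | h <;>
    simp [h]

/-- the dual orthogonality sum for Schur functions at roots of unity -/
theorem schur_sum (r k : ℕ) (hr : 1 ≤ r) (hk : 1 ≤ k) (z : Fin r → ℂ)
    (hzn : ∀ j, z j ^ (r + k) = 1) (hz1 : ∀ j, ‖z j‖ = 1) (hinj : Function.Injective z) :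
    ∑ μ ∈ (Finset.univ : Finset (Fin r → Fin k)).filter (fun μ => Antitone μ),
      (D z (fun i => (μ i : ℕ) + (r - 1 - (i : ℕ))) / D z (fun i => r - 1 - (i : ℕ))) *
      (D z (fun i => k - (μ (Fin.rev i) : ℕ) + (r - 1 - (i : ℕ))) /
        D z (fun i => r - 1 - (i : ℕ))) =
    (∏ j, z j ^ k) * ((k : ℂ) * ((r : ℂ) + k) ^ (r - 1)) /
      ((Complex.normSq (D z (fun i => r - 1 - (i : ℕ))) : ℝ) : ℂ) := by
  classical
  set Δ := D z (fun i => r - 1 - (i : ℕ)) with hΔ
  set s : ℂ := (((Equiv.Perm.sign (Fin.revPerm : Equiv.Perm (Fin r)) : ℤˣ) : ℤ) : ℂ) with hs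
  have hss : s * s = 1 := by
    rw [hs]
    rcases Int.units_eq_one_or (Equiv.Perm.sign (Fin.revPerm : Equiv.Perm (Fin r))) with h | h <;>
      simp [h]
  have hs0 : s ≠ 0 := by
    intro h
    rw [h, zero_mul] at hss
    exact zero_ne_one hss
  have hΔ0 : Δ ≠ 0 := D_rho_ne_zero z hinj
  have hz0 : ∀ j, z j ≠ 0 := by
    intro j h
    have := hz1 j
    rw [h, norm_zero] at this
    exact zero_ne_one this
  -- Step 1
  have hterm : ∀ μ : Fin r → Fin k,
      (D z (fun i => (μ i : ℕ) + (r - 1 - (i : ℕ))) / Δ) *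
      (D z (fun i => k - (μ (Fin.rev i) : ℕ) + (r - 1 - (i : ℕ))) / Δ) =
      (s * (∏ j, z j ^ (r + k - 1)) / Δ ^ 2) *
        (D z (fun i => (μ i : ℕ) + (r - 1 - (i : ℕ))) *
          (starRingEnd ℂ) (D z (fun i => (μ i : ℕ) + (r - 1 - (i : ℕ))))) := by
    intro μ
    have h1 : (fun i : Fin r => k - (μ (Fin.rev i) : ℕ) + (r - 1 - (i : ℕ))) =
        (fun i : Fin r => (r + k - 1) - ((μ i : ℕ) + (r - 1 - (i : ℕ)))) ∘ Fin.revPerm := by
      funext i
      simp only [Function.comp_apply, Fin.revPerm_apply, Fin.val_rev]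
      have := (μ (Fin.rev i)).2
      have := i.2
      omega
    rw [h1, D_comp_perm, D_sub z hz1 (r + k - 1) _ (fun i => by
      have := (μ i).2; have := i.2; omega)]
    rw [← hs]
    field_simp
  simp_rw [hterm]
  rw [← Finset.mul_sum]
  -- Step 2
  have hsum : ∑ μ ∈ (Finset.univ : Finset (Fin r → Fin k)).filter (fun μ => Antitone μ),
      (D z (fun i => (μ i : ℕ) + (r - 1 - (i : ℕ))) *
          (starRingEnd ℂ) (D z (fun i => (μ i : ℕ) + (r - 1 - (i : ℕ))))) =
      (k : ℂ) * ((r : ℂ) + k) ^ (r - 1) := by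
    rw [sum_antitone_eq_sum_strictAnti r k hr hk (fun e => D z e * (starRingEnd ℂ) (D z e)),
      sum_strictAnti_D_mul_conj z (r + k - 1)]
    have hG : (Matrix.of fun j j' : Fin r =>
        ∑ a : Fin (r + k - 1), (z j * (starRingEnd ℂ) (z j')) ^ (a : ℕ)) =
        (Matrix.of fun j j' : Fin r =>
          (if j = j' then ((r + k : ℕ) : ℂ) else 0) - (starRingEnd ℂ) (z j) * z j') := by
      ext j j'
      simp only [of_apply]
      exact gram_root (by omega) z hzn hz1 hinj j j'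
    have hn0 : ((r + k : ℕ) : ℂ) ≠ 0 := by
      exact_mod_cast (by omega : r + k ≠ 0)
    rw [hG, det_gram (r + k) hn0 z hz1]
    obtain ⟨r', rfl⟩ : ∃ r', r = r' + 1 := ⟨r - 1, by omega⟩
    simp only [Nat.add_sub_cancel]
    push_cast at hn0 ⊢
    rw [pow_succ]
    field_simp
    ring
  rw [hsum]
  -- Step 3
  have hΔsq : Δ ^ 2 = s * (∏ j, z j ^ (r - 1)) * ((Complex.normSq Δ : ℝ) : ℂ) := by
    have h1 : (fun i : Fin r => (i : ℕ)) =
        (fun i : Fin r => r - 1 - (i : ℕ)) ∘ Fin.revPerm := by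
      funext i
      simp only [Function.comp_apply, Fin.revPerm_apply, Fin.val_rev]
      have := i.2
      omega
    have h2 : (fun i : Fin r => (i : ℕ)) = (fun i : Fin r => (r - 1) - (r - 1 - (i : ℕ))) := by
      funext i
      have := i.2
      omega
    have h3 : D z (fun i : Fin r => (i : ℕ)) = s * Δ := by
      rw [h1, D_comp_perm]
    have h4 : D z (fun i : Fin r => (i : ℕ)) = (∏ j, z j ^ (r - 1)) * (starRingEnd ℂ) Δ := by
      rw [h2, D_sub z hz1 (r - 1) _ (fun i => by omega)]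
    have h5 : ((Complex.normSq Δ : ℝ) : ℂ) = Δ * (starRingEnd ℂ) Δ := (Complex.mul_conj Δ).symm
    rw [h5]
    calc Δ ^ 2 = (s * s) * Δ * Δ := by rw [hss]; ring
      _ = s * (s * Δ) * Δ := by ring
      _ = s * ((∏ j, z j ^ (r - 1)) * (starRingEnd ℂ) Δ) * Δ := by rw [← h3, h4]
      _ = s * (∏ j, z j ^ (r - 1)) * (Δ * (starRingEnd ℂ) Δ) := by ring
  have hQ0 : (∏ j, z j ^ (r - 1)) ≠ 0 :=
    Finset.prod_ne_zero_iff.2 fun j _ => pow_ne_zero _ (hz0 j)
  have hN0 : ((Complex.normSq Δ : ℝ) : ℂ) ≠ 0 := by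
    rw [Ne, Complex.ofReal_eq_zero, Complex.normSq_eq_zero]
    exact hΔ0
  have hP : (∏ j, z j ^ (r + k - 1)) = (∏ j, z j ^ (r - 1)) * (∏ j, z j ^ k) := by
    rw [← Finset.prod_mul_distrib]
    refine Finset.prod_congr rfl fun j _ => ?_
    rw [← pow_add]
    congr 1
    omega
  rw [hΔsq, hP]
  field_simp

end Groth.Agent.Helper5.SchurRoots
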