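import Mathlib
import Groth.Agent.Lib.Helper5.Misc.Shriek

/-!
# Extension by zero of sheaves of modules over an arbitrary sheaf of rings (helper5)

General-ring version of `ShriekSheaf` / `ShriekFaith`.
-/
set_option autoImplicit false
open CategoryTheory CategoryTheory.Limits Opposite
open Groth.Agent.Lib.Helper5

namespace Groth.Agent.Lib.Helper5.ShriekGen

universe u
variable {C : Type u} [SmallCategory C] {J : GrothendieckTopology C}
  (A : Sheaf J RingCat.{u}) (X : C)

/-- Presheaves of modules over `A`. -/
abbrev PMod : Type (u + 1) := PresheafOfModules.{u} A.obj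

/-- The forgetful functor. -/
noncomputable abbrev fg : SheafOfModules.{u} A ⥤ PMod A := SheafOfModules.forget A

/-- Sheafification. -/
noncomputable abbrev sh : PMod A ⥤ SheafOfModules.{u} A :=
  PresheafOfModules.sheafification.{u} (𝟙 A.obj)

/-- The sheafification adjunction. -/
noncomputable abbrev sadj : sh A ⊣
    (SheafOfModules.forget A ⋙ PresheafOfModules.restrictScalars (𝟙 A.obj)) :=
  PresheafOfModules.sheafificationAdjunction (𝟙 A.obj)

/-- The unit of the sheafification adjunction. -/
noncomputable def un : 𝟭 (PMod A) ⟶ sh A ⋙ fg A where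
  app M := (sadj A).unit.app M
  naturality _ _ f := (sadj A).unit.naturality f

variable {A} in
lemma W_un (M : PMod A) :
    J.W ((PresheafOfModules.toPresheaf _).map ((un A).app M)) :=
  J.W_toSheafify M.presheaf

/-- Presheaf-level extension by zero. -/
noncomputable def shr : PMod (A.over X) ⥤ PMod A := Shriek.shriekFunctor X A.obj

/-- Presheaf-level restriction. -/
noncomputable def rsp : PMod A ⥤ PMod (A.over X) := Shriek.resp' X A.obj

/-- The presheaf-level adjunction. -/
noncomputable def padj : shr A X ⊣ rsp A X := Shriek.adj X A.obj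

instance : PreservesFiniteLimits (shr A X) :=
  inferInstanceAs (PreservesFiniteLimits (Shriek.shriekFunctor X A.obj))

/-- The explicit extension by zero on sheaves of modules. -/
noncomputable def extZero' : SheafOfModules.{u} (A.over X) ⥤ SheafOfModules.{u} A :=
  fg (A.over X) ⋙ shr A X ⋙ sh A

/-- The comparison of right adjoints. -/
noncomputable def comm2 :
    𝟭 (SheafOfModules.{u} A) ⋙ ((SheafOfModules.forget A ⋙
      PresheafOfModules.restrictScalars (𝟙 A.obj)) ⋙ rsp A X) ≅
      SheafOfModules.overFunctor.{u} A X ⋙ fg (A.over X) :=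
  NatIso.ofComponents (fun M => Iso.refl _) (by
    intro M N f
    rfl)

/-- The explicit adjunction `extZero' ⊣ overFunctor`. -/
noncomputable def adj' : extZero' A X ⊣ SheafOfModules.overFunctor.{u} A X :=
  ((padj A X).comp (sadj A)).restrictFullyFaithful
    (SheafOfModules.fullyFaithfulForget _) (Functor.FullyFaithful.id _)
    (Functor.rightUnitor _).symm (comm2 A X)

instance : PreservesFiniteLimits (extZero' A X) := by
  have h1 : PreservesFiniteLimits (fg (A.over X)) := by
    have : (fg (A.over X)).IsRightAdjoint := by
      have := (sadj (A.over X)).isRightAdjoint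
      exact this
    infer_instance
  have h2 : PreservesFiniteLimits (sh A) :=
    inferInstanceAs (PreservesFiniteLimits
      (PresheafOfModules.sheafification.{u} (𝟙 A.obj)))
  have h3 : PreservesFiniteLimits (shr A X ⋙ sh A) := comp_preservesFiniteLimits _ _
  exact comp_preservesFiniteLimits _ _

variable {A X}

/-- Retyping a presheaf of modules on `C/X`. -/
abbrev asRU (Q : PMod (A.over X)) : PresheafOfModules.{u} (Shriek.RU X A.obj) := Q

open Classical in
/-- The sheafified inclusion of a summand is injective on sections of a sheaf. -/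
lemma eq_of_unit_inj_eq (G : SheafOfModules.{u} (A.over X)) (Y : (Over X)ᵒᵖ)
    (a b : (asRU ((fg (A.over X)).obj G)).obj Y)
    (h : ((un A).app ((shr A X).obj ((fg (A.over X)).obj G))).app (op Y.unop.left)
        (Shriek.inj (asRU ((fg (A.over X)).obj G)) Y a) =
      ((un A).app ((shr A X).obj ((fg (A.over X)).obj G))).app (op Y.unop.left)
        (Shriek.inj (asRU ((fg (A.over X)).obj G)) Y b)) :
    a = b := by
  have hW := W_un ((shr A X).obj ((fg (A.over X)).obj G))
  rw [J.W_iff_isLocallyBijective] at hW
  have hli := hW.1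
  have hmem := Presheaf.equalizerSieve_mem J
    ((PresheafOfModules.toPresheaf _).map ((un A).app ((shr A X).obj ((fg (A.over X)).obj G))))
    (X := op Y.unop.left)
    (Shriek.inj (asRU ((fg (A.over X)).obj G)) Y a)
    (Shriek.inj (asRU ((fg (A.over X)).obj G)) Y b) h
  have hcov : (Sieve.overEquiv Y.unop).symm
      (Presheaf.equalizerSieve (F := ((shr A X).obj ((fg (A.over X)).obj G)).presheaf)
        (X := op Y.unop.left)
        (Shriek.inj (asRU ((fg (A.over X)).obj G)) Y a)
        (Shriek.inj (asRU ((fg (A.over X)).obj G)) Y b)) ∈ J.over X Y.unop := by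
    refine (J.mem_over_iff _).mpr ?_
    have e := OrderIso.apply_symm_apply (Sieve.overEquiv Y.unop)
      (Presheaf.equalizerSieve (F := ((shr A X).obj ((fg (A.over X)).obj G)).presheaf)
        (X := op Y.unop.left)
        (Shriek.inj (asRU ((fg (A.over X)).obj G)) Y a)
        (Shriek.inj (asRU ((fg (A.over X)).obj G)) Y b))
    exact e.symm ▸ hmem
  refine G.isSheaf.isSeparated Y.unop _ hcov a b ?_
  intro Z f hf
  have hf' := (Sieve.overEquiv_symm_iff _ _).mp hf
  have e1 := Shriek.secMap_inj (asRU ((fg (A.over X)).obj G)) f.op a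
  have e2 := Shriek.secMap_inj (asRU ((fg (A.over X)).obj G)) f.op b
  have : Shriek.inj (asRU ((fg (A.over X)).obj G)) (op Z)
        ((asRU ((fg (A.over X)).obj G)).map f.op a) =
      Shriek.inj (asRU ((fg (A.over X)).obj G)) (op Z)
        ((asRU ((fg (A.over X)).obj G)).map f.op b) :=
    e1.symm.trans (Eq.trans hf' e2)
  exact DirectSum.of_injective (β := fun ψ : Z.left ⟶ X =>
    Shriek.summand (asRU ((fg (A.over X)).obj G)) ψ) Z.hom this

open Classical in
lemma shr_map_inj {Q Q' : PMod (A.over X)} (α : Q ⟶ Q') (Y : (Over X)ᵒᵖ) (x : (asRU Q).obj Y) :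
    ((shr A X).map α).app (op Y.unop.left) (Shriek.inj (asRU Q) Y x) =
      Shriek.inj (asRU Q') Y (α.app Y x) :=
  Shriek.secFun_of (G := asRU Q) (G' := asRU Q') α Y.unop.hom x

instance faithful_extZero' : (extZero' A X).Faithful where
  map_injective := by
    intro G G' f g hfg
    have hn : ∀ k : G ⟶ G', (shr A X).map ((fg (A.over X)).map k) ≫
        (un A).app ((shr A X).obj ((fg (A.over X)).obj G')) =
        (un A).app ((shr A X).obj ((fg (A.over X)).obj G)) ≫
          (fg A).map ((extZero' A X).map k) := fun k =>
      (un A).naturality ((shr A X).map ((fg (A.over X)).map k))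
    have heq : (shr A X).map ((fg (A.over X)).map f) ≫
        (un A).app ((shr A X).obj ((fg (A.over X)).obj G')) =
        (shr A X).map ((fg (A.over X)).map g) ≫
        (un A).app ((shr A X).obj ((fg (A.over X)).obj G')) := by
      rw [hn f, hn g, hfg]
    apply (SheafOfModules.fullyFaithfulForget (A.over X)).map_injective
    apply PresheafOfModules.hom_ext
    intro Y
    apply ModuleCat.hom_ext
    apply LinearMap.ext
    intro x
    apply eq_of_unit_inj_eq G' Y
    have h1 := congrArg (fun φ => φ.app (op Y.unop.left)
      (Shriek.inj (asRU ((fg (A.over X)).obj G)) Y x)) heq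
    have e1 := shr_map_inj ((fg (A.over X)).map f) Y x
    have e2 := shr_map_inj ((fg (A.over X)).map g) Y x
    exact (congrArg _ e1).symm.trans (h1.trans (congrArg _ e2))

variable (A X)

/-- Any left adjoint of the restriction functor is exact and faithful. -/
theorem leftAdjoint_props (L : SheafOfModules.{u} (A.over X) ⥤ SheafOfModules.{u} A)
    (adj : L ⊣ SheafOfModules.overFunctor.{u} A X) :
    PreservesFiniteLimits L ∧ PreservesFiniteColimits L ∧ L.Faithful := by
  let e : extZero' A X ≅ L := (adj' A X).leftAdjointUniq adj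
  refine ⟨preservesFiniteLimits_of_natIso e, ?_, Functor.Faithful.of_iso e⟩
  have : L.IsLeftAdjoint := adj.isLeftAdjoint
  infer_instance

end Groth.Agent.Lib.Helper5.ShriekGen
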