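import Mathlib

namespace Helper5.S7147
open Function

universe u
variable (R : Type u) [CommRing R] (M : Type u) [AddCommGroup M] [Module R M] (x : Ideal R)

/-- elements of `M` on which all linear forms take values in `x`. -/
def Bp : Submodule R M where
  carrier := {m : M | ∀ φ : M →ₗ[R] R, φ m ∈ x}
  add_mem' := fun {a b} ha hb φ => by rw [map_add]; exact x.add_mem (ha φ) (hb φ)
  zero_mem' := fun φ => by rw [map_zero]; exact x.zero_mem
  smul_mem' := fun c a ha φ => by rw [map_smul]; exact x.mul_mem_left c (ha φ)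

lemma smul_top_le_Bp : (x • ⊤ : Submodule R M) ≤ Bp R M x := by
  rw [Submodule.smul_le]
  intro a ha m _ φ
  rw [map_smul]
  exact x.mul_mem_right _ ha

variable {R M}

/-- the form induced on `M/xM` -/
noncomputable def barForm (φ : M →ₗ[R] R) : (M ⧸ (x • ⊤ : Submodule R M)) →ₗ[R] (R ⧸ x) :=
  (x • ⊤ : Submodule R M).liftQ ((Ideal.Quotient.mkₐ R x).toLinearMap ∘ₗ φ) (by
    intro m hm
    simp only [LinearMap.mem_ker, LinearMap.coe_comp, Function.comp_apply]
    have := smul_top_le_Bp R M x hm φ
    exact Ideal.Quotient.eq_zero_iff_mem.mpr this)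

@[simp] lemma barForm_mk (φ : M →ₗ[R] R) (m : M) :
    barForm x φ ((x • ⊤ : Submodule R M).mkQ m) = Ideal.Quotient.mk x (φ m) := rfl

lemma smul_quot (a : R) (y : M ⧸ (x • ⊤ : Submodule R M)) :
    (Ideal.Quotient.mk x a) • y = a • y := by
  obtain ⟨m, rfl⟩ := Submodule.Quotient.mk_surjective _ y
  rfl

/-- membership in `B(x)` is detected by forms. -/
lemma mem_Bx_iff (m : M) :
    (x • ⊤ : Submodule R M).mkQ m ∈ Submodule.span (R ⧸ x)
      ((x • ⊤ : Submodule R M).mkQ '' {m : M | ∀ φ : M →ₗ[R] R, φ m ∈ x}) ↔
    ∀ φ : M →ₗ[R] R, φ m ∈ x := by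
  constructor
  · intro h φ
    have key : ∀ y ∈ Submodule.span (R ⧸ x)
        ((x • ⊤ : Submodule R M).mkQ '' {m : M | ∀ φ : M →ₗ[R] R, φ m ∈ x}), barForm x φ y = 0 := by
      intro y hy
      induction hy using Submodule.span_induction with
      | mem y hy =>
        obtain ⟨m', hm', rfl⟩ := hy
        rw [barForm_mk]; exact Ideal.Quotient.eq_zero_iff_mem.mpr (hm' φ)
      | zero => simp
      | add a b _ _ ha hb => rw [map_add, ha, hb, add_zero]
      | smul c y _ hy =>
        obtain ⟨a, rfl⟩ := Ideal.Quotient.mk_surjective c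
        rw [smul_quot, map_smul, hy, smul_zero]
    have := key _ h
    rw [barForm_mk] at this
    exact Ideal.Quotient.eq_zero_iff_mem.mp this
  · intro h
    exact Submodule.subset_span ⟨m, h, rfl⟩

section LinAlg
variable {K V : Type*} [Field K] [AddCommGroup V] [Module K V]

/-- dual functionals to a linearly independent family. -/
lemma exists_dual_of_linearIndependent {r : ℕ} (v : Fin r → V) (hv : LinearIndependent K v) :
    ∃ ε : Fin r → Module.Dual K V, ∀ i j, ε j (v i) = if i = j then 1 else 0 := by
  classical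
  let b := Module.Basis.span hv
  have hb : ∀ i, (b i : V) = v i := fun i => by
    have := Module.Basis.span_apply hv i
    exact congrArg Subtype.val this
  choose ε hε using fun j => LinearMap.exists_extend (b.coord j)
  refine ⟨ε, fun i j => ?_⟩
  have h1 : ε j (v i) = (ε j ∘ₗ (Submodule.span K (Set.range v)).subtype) (b i) := by
    simp [hb]
  rw [h1, hε j, Module.Basis.coord_apply, Module.Basis.repr_self, Finsupp.single_apply]

/-- A subspace of the dual of a finite-dimensional space separating points is everything. -/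
lemma eq_top_of_dualCoannihilator_eq_bot [FiniteDimensional K V] (W : Subspace K (Module.Dual K V))
    (h : W.dualCoannihilator = ⊥) : W = ⊤ := by
  rw [← Subspace.dualCoannihilator_dualAnnihilator_eq (W := W), h, Submodule.dualAnnihilator_bot]

end LinAlg


section Dir1
variable [Module.FinitePresentation R M] [x.IsMaximal] {r : ℕ} (s : Fin r → M)

theorem dir1 (f : R) (hf : f ∉ x)
    (g : LocalizedModule (Submonoid.powers f) M →ₗ[Localization.Away f] (Fin r → Localization.Away f))
    (hg : g ∘ₗ Fintype.linearCombination (Localization.Away f)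
            (fun i => LocalizedModule.mkLinearMap (Submonoid.powers f) M (s i)) = LinearMap.id) :
    LinearIndependent (R ⧸ x) (fun i =>
      (Submodule.span (R ⧸ x)
        ((x • ⊤ : Submodule R M).mkQ '' {m : M | ∀ φ : M →ₗ[R] R, φ m ∈ x})).mkQ
          ((x • ⊤ : Submodule R M).mkQ (s i))) := by
  rw [Fintype.linearIndependent_iff]
  intro c hc j
  choose a ha using fun i => Ideal.Quotient.mk_surjective (c i)
  let m : M := ∑ i, a i • s i
  have hm : (x • ⊤ : Submodule R M).mkQ m ∈ Submodule.span (R ⧸ x)
      ((x • ⊤ : Submodule R M).mkQ '' {m : M | ∀ φ : M →ₗ[R] R, φ m ∈ x}) := by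
    rw [← Submodule.Quotient.mk_eq_zero, ← Submodule.mkQ_apply, ← hc]
    simp only [m, map_sum]
    refine Finset.sum_congr rfl fun i _ => ?_
    rw [← ha i, ← LinearMap.map_smul, smul_quot, ← LinearMap.map_smul]
  rw [mem_Bx_iff] at hm
  -- the j-th component functional
  let gj : M →ₗ[R] Localization.Away f :=
    ((LinearMap.proj j : (Fin r → Localization.Away f) →ₗ[Localization.Away f] Localization.Away f) ∘ₗ g).restrictScalars R ∘ₗ
      LocalizedModule.mkLinearMap (Submonoid.powers f) M
  obtain ⟨φ, t, hφ⟩ := Module.FinitePresentation.exists_lift_of_isLocalizedModule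
    (Submonoid.powers f) (Algebra.linearMap R (Localization.Away f)) gj
  have h1 : algebraMap R (Localization.Away f) (φ m) = t • gj m := by
    have := congrArg (fun ψ => ψ m) hφ
    simpa using this
  -- compute gj m
  have h2 : gj m = algebraMap R (Localization.Away f) (a j) := by
    have hlc : LocalizedModule.mkLinearMap (Submonoid.powers f) M m =
        Fintype.linearCombination (Localization.Away f)
          (fun i => LocalizedModule.mkLinearMap (Submonoid.powers f) M (s i))
          (fun i => algebraMap R (Localization.Away f) (a i)) := by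
      simp only [m, map_sum, map_smul, Fintype.linearCombination_apply, algebraMap_smul]
    have := congrArg (fun ψ => ψ (fun i => algebraMap R (Localization.Away f) (a i))) hg
    simp only [LinearMap.coe_comp, Function.comp_apply, LinearMap.id_apply] at this
    simp only [gj, LinearMap.coe_comp, Function.comp_apply, LinearMap.coe_restrictScalars, hlc, this,
      LinearMap.proj_apply]
  rw [h2] at h1
  obtain ⟨_, ⟨n, rfl⟩⟩ := t
  rw [Submonoid.smul_def, Algebra.smul_def, ← map_mul] at h1
  obtain ⟨⟨_, ⟨K, rfl⟩⟩, hK⟩ := (IsLocalization.eq_iff_exists (Submonoid.powers f) _).mp h1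
  simp only at hK
  -- f^K * φ m = f^K * (f^n * a j)
  have h3 : f ^ K * (f ^ n * a j) ∈ x := by
    rw [← hK]; exact x.mul_mem_left _ (hm φ)
  have hx : x.IsPrime := Ideal.IsMaximal.isPrime inferInstance
  have h4 : a j ∈ x := by
    rcases hx.mem_or_mem h3 with h | h
    · exact absurd (hx.mem_of_pow_mem _ h) hf
    · rcases hx.mem_or_mem h with h | h
      · exact absurd (hx.mem_of_pow_mem _ h) hf
      · exact h
  rw [← ha j]
  exact Ideal.Quotient.eq_zero_iff_mem.mpr h4

end Dir1


section Dir2
variable [Module.FinitePresentation R M] [hx : x.IsMaximal] {r : ℕ} (s : Fin r → M)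

local notation "κ" => R ⧸ x
local notation "Mx" => M ⧸ (x • ⊤ : Submodule R M)

variable (M) in
/-- `B(x)` -/
abbrev BxS : Submodule (R ⧸ x) (M ⧸ (x • ⊤ : Submodule R M)) := Submodule.span (R ⧸ x)
        ((x • ⊤ : Submodule R M).mkQ '' {m : M | ∀ φ : M →ₗ[R] R, φ m ∈ x})

local notation "Bx" => BxS M x

/-- `barForm` as a `κ`-linear map. -/
noncomputable def barFormK (φ : M →ₗ[R] R) : Mx →ₗ[κ] κ where
  toFun := barForm x φ
  map_add' := map_add _
  map_smul' := fun c y => by
    obtain ⟨a, rfl⟩ := Ideal.Quotient.mk_surjective c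
    rw [smul_quot, map_smul, RingHom.id_apply]
    rfl

lemma Bx_le_ker (φ : M →ₗ[R] R) : Bx ≤ LinearMap.ker (barFormK x φ) := by
  rw [Submodule.span_le]
  rintro _ ⟨m, hm, rfl⟩
  change barForm x φ _ = 0
  rw [barForm_mk]
  exact Ideal.Quotient.eq_zero_iff_mem.mpr (hm φ)

/-- the form induced on `V(x)`. -/
noncomputable def tildeForm (φ : M →ₗ[R] R) : (Mx ⧸ Bx) →ₗ[κ] κ :=
  (Bx).liftQ (barFormK x φ) (Bx_le_ker x φ)

lemma tildeForm_mk (φ : M →ₗ[R] R) (m : M) :
    tildeForm x φ ((Bx).mkQ ((x • ⊤ : Submodule R M).mkQ m)) = Ideal.Quotient.mk x (φ m) := rfl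

/-- every functional on `V(x)` comes from a form on `M`. -/
theorem exists_form_of_dual :
    letI := Ideal.Quotient.field x
    ∀ ε : Module.Dual κ (Mx ⧸ Bx), ∃ φ : M →ₗ[R] R, tildeForm x φ = ε := by
  letI := Ideal.Quotient.field x
  let W : Subspace κ (Module.Dual κ (Mx ⧸ Bx)) :=
    { carrier := {ε | ∃ φ : M →ₗ[R] R, tildeForm x φ = ε}
      add_mem' := by
        rintro _ _ ⟨φ₁, rfl⟩ ⟨φ₂, rfl⟩
        refine ⟨φ₁ + φ₂, ?_⟩
        apply LinearMap.ext; intro v
        obtain ⟨y, rfl⟩ := Submodule.mkQ_surjective _ v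
        obtain ⟨m, rfl⟩ := Submodule.mkQ_surjective _ y
        simp only [LinearMap.add_apply, tildeForm_mk, map_add]
      zero_mem' := by
        refine ⟨0, ?_⟩
        apply LinearMap.ext; intro v
        obtain ⟨y, rfl⟩ := Submodule.mkQ_surjective _ v
        obtain ⟨m, rfl⟩ := Submodule.mkQ_surjective _ y
        simp only [LinearMap.zero_apply, tildeForm_mk, map_zero]
      smul_mem' := by
        rintro c _ ⟨φ, rfl⟩
        obtain ⟨a, rfl⟩ := Ideal.Quotient.mk_surjective c
        refine ⟨a • φ, ?_⟩
        apply LinearMap.ext; intro v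
        obtain ⟨y, rfl⟩ := Submodule.mkQ_surjective _ v
        obtain ⟨m, rfl⟩ := Submodule.mkQ_surjective _ y
        simp only [LinearMap.smul_apply, tildeForm_mk, smul_eq_mul, map_mul] }
  have hfin : Module.Finite R Mx := inferInstance
  have hfin' : Module.Finite κ Mx := Module.Finite.of_restrictScalars_finite R κ Mx
  have hfinV : FiniteDimensional κ (Mx ⧸ Bx) := inferInstance
  have hW : W = ⊤ := by
    apply eq_top_of_dualCoannihilator_eq_bot
    rw [eq_bot_iff]
    intro v hv
    rw [Submodule.mem_dualCoannihilator] at hv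
    obtain ⟨y, rfl⟩ := Submodule.mkQ_surjective _ v
    obtain ⟨m, rfl⟩ := Submodule.mkQ_surjective _ y
    have hm : ∀ φ : M →ₗ[R] R, φ m ∈ x := by
      intro φ
      have := hv (tildeForm x φ) ⟨φ, rfl⟩
      rw [tildeForm_mk] at this
      exact Ideal.Quotient.eq_zero_iff_mem.mp this
    rw [Submodule.mem_bot, Submodule.mkQ_apply, Submodule.Quotient.mk_eq_zero]
    exact (mem_Bx_iff x m).mpr hm
  intro ε
  have : ε ∈ W := by rw [hW]; trivial
  exact this

theorem dir2 (hli : LinearIndependent κ (fun i => (Bx).mkQ ((x • ⊤ : Submodule R M).mkQ (s i)))) :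
    ∃ f : R, f ∉ x ∧
      ∃ g : LocalizedModule (Submonoid.powers f) M →ₗ[Localization.Away f] (Fin r → Localization.Away f),
        g ∘ₗ Fintype.linearCombination (Localization.Away f)
            (fun i => LocalizedModule.mkLinearMap (Submonoid.powers f) M (s i)) = LinearMap.id := by
  classical
  letI := Ideal.Quotient.field x
  obtain ⟨ε, hε⟩ := exists_dual_of_linearIndependent _ hli
  choose φ hφ using fun j => exists_form_of_dual x (ε j)
  have hφs : ∀ i j, Ideal.Quotient.mk x (φ j (s i)) = if i = j then 1 else 0 := by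
    intro i j
    rw [← tildeForm_mk, hφ j, hε i j]
  let A : Matrix (Fin r) (Fin r) R := Matrix.of fun i j => φ j (s i)
  have hdet : Ideal.Quotient.mk x A.det = 1 := by
    rw [RingHom.map_det]
    have : (Ideal.Quotient.mk x).mapMatrix A = 1 := by
      ext i j
      simp only [RingHom.mapMatrix_apply, Matrix.map_apply, A, Matrix.of_apply, hφs, Matrix.one_apply]
    rw [this, Matrix.det_one]
  have hD : A.det ∉ x := by
    intro h
    rw [← Ideal.Quotient.eq_zero_iff_mem, hdet] at h
    exact one_ne_zero h
  refine ⟨A.det, hD, ?_⟩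
  set D := A.det with hDdef
  -- localized forms
  let Φ : LocalizedModule (Submonoid.powers D) M →ₗ[Localization.Away D] (Fin r → Localization.Away D) :=
    LinearMap.pi fun j => IsLocalizedModule.mapExtendScalars (Submonoid.powers D)
      (LocalizedModule.mkLinearMap (Submonoid.powers D) M)
      (Algebra.linearMap R (Localization.Away D)) (Localization.Away D) (φ j)
  have hΦ : ∀ (m : M) (j : Fin r), Φ (LocalizedModule.mkLinearMap (Submonoid.powers D) M m) j =
      algebraMap R (Localization.Away D) (φ j m) := by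
    intro m j
    simp only [Φ, LinearMap.pi_apply, IsLocalizedModule.mapExtendScalars_apply_apply]
    rw [IsLocalizedModule.map_apply]
    rfl
  let Af : Matrix (Fin r) (Fin r) (Localization.Away D) := A.map (algebraMap R (Localization.Away D))
  have hAfdet : IsUnit (Af.transpose).det := by
    rw [Matrix.det_transpose]
    have : Af.det = algebraMap R (Localization.Away D) D := by
      simp only [Af, hDdef]
      rw [← RingHom.mapMatrix_apply, ← RingHom.map_det]
    rw [this]
    exact IsLocalization.Away.algebraMap_isUnit D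
  refine ⟨(Af.transpose)⁻¹.mulVecLin ∘ₗ Φ, ?_⟩
  apply LinearMap.ext
  intro c
  simp only [LinearMap.coe_comp, Function.comp_apply, LinearMap.id_apply, Matrix.mulVecLin_apply]
  have h1 : Φ (Fintype.linearCombination (Localization.Away D)
      (fun i => LocalizedModule.mkLinearMap (Submonoid.powers D) M (s i)) c) = Af.transpose.mulVec c := by
    funext j
    rw [Fintype.linearCombination_apply, map_sum, Finset.sum_apply, Matrix.mulVec, dotProduct]
    refine Finset.sum_congr rfl fun i _ => ?_
    rw [map_smul, Pi.smul_apply, hΦ, smul_eq_mul, mul_comm]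
    rfl
  rw [h1, Matrix.mulVec_mulVec, Matrix.nonsing_inv_mul _ hAfdet, Matrix.one_mulVec]

end Dir2

end Helper5.S7147
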