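import Mathlib
universe u
open CategoryTheory

namespace Groth.Agent.Helper5.SubCx

variable {R : Type u} [CommRing R]

/-- subcomplex from a family of submodules closed under `d` -/
noncomputable def sub (F : CochainComplex (ModuleCat.{u} R) ℤ) (N : ∀ n, Submodule R (F.X n))
    (hN : ∀ n m (x : F.X n), x ∈ N n → (F.d n m).hom x ∈ N m) :
    CochainComplex (ModuleCat.{u} R) ℤ where
  X n := ModuleCat.of R (N n)
  d n m := ModuleCat.ofHom ((F.d n m).hom.restrict (hN n m))
  shape n m h := by
    ext x
    simp [F.shape n m h]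
  d_comp_d' n m k _ _ := by
    ext x
    have : (F.d n m ≫ F.d m k).hom (x : F.X n) = 0 := by rw [F.d_comp_d]; rfl
    exact this

noncomputable def subι (F : CochainComplex (ModuleCat.{u} R) ℤ) (N : ∀ n, Submodule R (F.X n))
    (hN : ∀ n m (x : F.X n), x ∈ N n → (F.d n m).hom x ∈ N m) : sub F N hN ⟶ F where
  f n := ModuleCat.ofHom (N n).subtype
  comm' n m _ := by
    ext x
    rfl


section Closure

variable (F : CochainComplex (ModuleCat.{u} R) ℤ)
  {ι : ℤ → Type u} [∀ n, DecidableEq (ι n)] (β : ∀ n, Module.Basis (ι n) R (F.X n))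
  (base : ∀ n, Finset (ι n))

/-- fuel-indexed closure of `base` under the differential (on basis supports) -/
noncomputable def S : ℕ → ∀ n : ℤ, Finset (ι n)
  | 0, n => base n
  | k + 1, n => base n ∪ (S k (n - 1)).biUnion
      (fun j => ((β n).repr ((F.d (n - 1) n).hom (β (n - 1) j))).support)

lemma base_subset_S (k : ℕ) (n : ℤ) : base n ⊆ S F β base k n := by
  cases k with
  | zero => exact subset_rfl
  | succ k => exact Finset.subset_union_left

lemma S_mono (k : ℕ) : ∀ n : ℤ, S F β base k n ⊆ S F β base (k + 1) n := by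
  induction k with
  | zero => intro n; exact Finset.subset_union_left
  | succ k ih =>
    intro n
    change base n ∪ _ ⊆ base n ∪ _
    exact Finset.union_subset_union subset_rfl
      (Finset.biUnion_subset_biUnion_of_subset_left _ (ih (n - 1)))

lemma S_empty (a : ℤ) (hbase : ∀ n < a, base n = ∅) (k : ℕ) : ∀ n < a, S F β base k n = ∅ := by
  induction k with
  | zero => intro n hn; exact hbase n hn
  | succ k ih =>
    intro n hn
    change base n ∪ _ = ∅
    rw [hbase n hn, ih (n - 1) (by omega)]
    simp

lemma S_stab (a : ℤ) (hbase : ∀ n < a, base n = ∅) (k : ℕ) :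
    ∀ n : ℤ, n - a ≤ k → S F β base (k + 1) n ⊆ S F β base k n := by
  induction k with
  | zero =>
    intro n hn
    change base n ∪ _ ⊆ base n
    have : S F β base 0 (n - 1) = ∅ := S_empty F β base a hbase 0 (n - 1) (by
      have : n - a ≤ 0 := by exact_mod_cast hn
      omega)
    rw [this]
    simp
  | succ k ih =>
    intro n hn
    change base n ∪ _ ⊆ base n ∪ _
    refine Finset.union_subset_union subset_rfl
      (Finset.biUnion_subset_biUnion_of_subset_left _ (ih (n - 1) ?_))
    push_cast at hn
    omega

lemma S_closed (k : ℕ) (n : ℤ) (j : ι (n - 1)) (hj : j ∈ S F β base k (n - 1)) :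
    ((β n).repr ((F.d (n - 1) n).hom (β (n - 1) j))).support ⊆ S F β base (k + 1) n := by
  change _ ⊆ base n ∪ _
  refine subset_trans ?_ Finset.subset_union_right
  exact Finset.subset_biUnion_of_mem
    (fun j => ((β n).repr ((F.d (n - 1) n).hom (β (n - 1) j))).support) hj

end Closure


theorem main (R : Type u) [CommRing R]
    (F : CochainComplex (ModuleCat.{u} R) ℤ) (hfree : ∀ n : ℤ, Module.Free R (F.X n))
    (b : ℤ) (hb : ∀ n : ℤ, b < n → Limits.IsZero (F.X n))
    (N : ℕ) (deg : Fin N → ℤ) (f : ∀ i : Fin N, F.X (deg i)) :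
    ∃ (G : CochainComplex (ModuleCat.{u} R) ℤ) (ι : G ⟶ F),
      (∀ n : ℤ, Function.Injective (ι.f n)) ∧
      (∃ a c : ℤ, ∀ n : ℤ, (n < a ∨ c < n) → Limits.IsZero (G.X n)) ∧
      (∀ n : ℤ, Module.Finite R (G.X n) ∧ Module.Free R (G.X n)) ∧
      ∀ i : Fin N, f i ∈ Set.range (ι.f (deg i)) := by
  classical
  let ι : ℤ → Type u := fun n => Module.Free.ChooseBasisIndex R (F.X n)
  let β : ∀ n, Module.Basis (ι n) R (F.X n) := fun n => Module.Free.chooseBasis R (F.X n)
  obtain ⟨M, hM⟩ := Finset.exists_le (Finset.univ.image (fun i => - deg i))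
  let a := min (-M) b
  have ha_deg : ∀ i, a ≤ deg i := fun i => by
    have h1 := hM _ (Finset.mem_image_of_mem (fun i => - deg i) (Finset.mem_univ i))
    have h2 : a ≤ -M := min_le_left _ _
    omega
  have ha_b : a ≤ b := min_le_right _ _
  let base : ∀ n, Finset (ι n) := fun n => Finset.univ.biUnion (fun i : Fin N =>
      if h : deg i = n then ((β n).repr (h ▸ f i)).support else ∅)
  have hbase : ∀ n < a, base n = ∅ := by
    intro n hn
    apply Finset.eq_empty_of_forall_notMem
    intro j hj
    obtain ⟨i, -, hi⟩ := Finset.mem_biUnion.1 hj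
    have : ¬ deg i = n := by have := ha_deg i; omega
    rw [dif_neg this] at hi
    simp at hi
  let K := (b - a).toNat
  let Nn : ∀ n, Submodule R (F.X n) := fun n =>
    Submodule.span R ((β n) '' (S F β base K n : Set (ι n)))
  have hN : ∀ n m (x : F.X n), x ∈ Nn n → (F.d n m).hom x ∈ Nn m := by
    intro n m x hx
    by_cases hrel : n + 1 = m
    · obtain rfl : n = m - 1 := by omega
      have hle : (Nn (m - 1)).map (F.d (m - 1) m).hom ≤ Nn m := by
        rw [Submodule.map_span, Submodule.span_le]
        rintro _ ⟨_, ⟨j, hj, rfl⟩, rfl⟩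
        rw [SetLike.mem_coe, (β m).mem_span_image]
        by_cases hm : m ≤ b
        · refine subset_trans (Finset.coe_subset.2 (S_closed F β base K m j hj))
            (Finset.coe_subset.2 (S_stab F β base a hbase K m ?_))
          have : m - a ≤ b - a := by omega
          exact this.trans (Int.self_le_toNat _)
        · have : Subsingleton (F.X m) := ModuleCat.subsingleton_of_isZero (hb m (by omega))
          rw [Subsingleton.elim ((F.d (m - 1) m).hom (β (m - 1) j)) 0]
          simp
      exact hle (Submodule.mem_map_of_mem hx)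
    · rw [F.shape n m hrel]
      exact zero_mem _
  refine ⟨sub F Nn hN, subι F Nn hN, ?_, ⟨a, b, ?_⟩, ?_, ?_⟩
  · intro n
    exact (Nn n).injective_subtype
  · rintro n (hn | hn)
    · have : Nn n = ⊥ := by
        change Submodule.span R ((β n) '' (S F β base K n : Set (ι n))) = ⊥
        rw [S_empty F β base a hbase K n hn]
        simp
      have hsub : Subsingleton (Nn n) := by rw [this]; infer_instance
      exact ModuleCat.isZero_of_subsingleton (ModuleCat.of R (Nn n))
    · have : Subsingleton (F.X n) := ModuleCat.subsingleton_of_isZero (hb n hn)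
      have hsub : Subsingleton (Nn n) := inferInstance
      exact ModuleCat.isZero_of_subsingleton (ModuleCat.of R (Nn n))
  · intro n
    have e : (β n) '' (S F β base K n : Set (ι n)) =
        Set.range (fun j : (S F β base K n) => β n j) := by
      ext x; simp
    have hli : LinearIndependent R (fun j : (S F β base K n) => β n j) :=
      (β n).linearIndependent.comp _ Subtype.val_injective
    let bs : Module.Basis (S F β base K n) R (Nn n) :=
      (Module.Basis.span hli).map (LinearEquiv.ofEq _ _ (congrArg (Submodule.span R) e.symm))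
    exact ⟨Module.Finite.of_basis bs, Module.Free.of_basis bs⟩
  · intro i
    refine ⟨⟨f i, ?_⟩, rfl⟩
    change f i ∈ Submodule.span R ((β (deg i)) '' (S F β base K (deg i) : Set (ι (deg i))))
    rw [(β (deg i)).mem_span_image]
    refine subset_trans ?_ (Finset.coe_subset.2 (base_subset_S F β base K (deg i)))
    refine Finset.coe_subset.2 ?_
    intro j hj
    refine Finset.mem_biUnion.2 ⟨i, Finset.mem_univ i, ?_⟩
    rw [dif_pos rfl]
    exact hj

end Groth.Agent.Helper5.SubCx
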