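import Mathlib
import Groth.Prelude

set_option autoImplicit false
universe u
open CategoryTheory TopologicalSpace Opposite
open W4c6blochformula0cyc

namespace Groth.Agent.Helper5.SwitchExt

open scoped Classical in
lemma switchExt_apply {X : Type u} [TopologicalSpace X]
    {ι : Type u} (A : X → AddCommGrpCat.{u}) (U : ι → Opens X) (S : ι → Set X)
    (V : Opens X) (β : ι) (g : (prodPresheaf A).obj (op (V ⊓ U β))) (y : V) :
    (switchExt A U S V β g : ∀ y : V, A y.1) y =
      if h : (y.1 ∈ U β) ∧ (y.1 ∈ S β) then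
        ((g : ∀ z : (V ⊓ U β : Opens X), A z.1) ⟨y.1, ⟨y.2, h.1⟩⟩ : A y.1) else (0 : A y.1) := by
  by_cases h : (y.1 ∈ U β) ∧ (y.1 ∈ S β)
  · rw [dif_pos h]
    have e : (if h : (y.1 ∈ U β) ∧ (y.1 ∈ S β) then
      (Pi.evalAddMonoidHom (fun z : (V ⊓ U β : Opens X) => (A z.1 : Type u)) ⟨y.1, ⟨y.2, h.1⟩⟩ :
        (prodPresheaf A).obj (op (V ⊓ U β)) →+ A y.1)
      else (0 : (prodPresheaf A).obj (op (V ⊓ U β)) →+ A y.1)) =
      (Pi.evalAddMonoidHom (fun z : (V ⊓ U β : Opens X) => (A z.1 : Type u)) ⟨y.1, ⟨y.2, h.1⟩⟩ :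
        (prodPresheaf A).obj (op (V ⊓ U β)) →+ A y.1) := dif_pos h
    exact DFunLike.congr_fun e g
  · rw [dif_neg h]
    have e : (if h : (y.1 ∈ U β) ∧ (y.1 ∈ S β) then
      (Pi.evalAddMonoidHom (fun z : (V ⊓ U β : Opens X) => (A z.1 : Type u)) ⟨y.1, ⟨y.2, h.1⟩⟩ :
        (prodPresheaf A).obj (op (V ⊓ U β)) →+ A y.1)
      else (0 : (prodPresheaf A).obj (op (V ⊓ U β)) →+ A y.1)) = 0 := dif_neg h
    exact DFunLike.congr_fun e g

theorem main {X : Type u} [TopologicalSpace X]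
    {ι : Type u} [Fintype ι] (A : X → AddCommGrpCat.{u}) (U : ι → Opens X) (S : ι → Set X)
    (hSU : ∀ α, S α ⊆ (U α : Set X)) (hS : ∀ x : X, ∃! α, x ∈ S α) :
    (∀ (V : Opens X) (f : (prodPresheaf A).obj (op V)),
        ∑ α, switchExt A U S V α (res (prodPresheaf A) inf_le_left f) = f) ∧
      ∀ (V : Opens X) (α β : ι) (g : (prodPresheaf A).obj (op (V ⊓ U α))),
        res (prodPresheaf A) inf_le_left (switchExt A U S V α g) =
          switchExt A U S (V ⊓ U β) α (res (prodPresheaf A) (inf_le_inf_right (U α) inf_le_left) g) := by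
  classical
  constructor
  · intro V f
    funext y
    obtain ⟨α₀, hα₀, huniq⟩ := hS y.1
    have : (∑ α, switchExt A U S V α (res (prodPresheaf A) inf_le_left f) : ∀ y : V, A y.1) y =
        ∑ α, (switchExt A U S V α (res (prodPresheaf A) inf_le_left f) : ∀ y : V, A y.1) y :=
      Finset.sum_apply _ _ _
    refine this.trans ?_
    rw [Finset.sum_eq_single α₀]
    · rw [switchExt_apply, dif_pos ⟨hSU α₀ hα₀, hα₀⟩]
      rfl
    · intro α _ hα
      rw [switchExt_apply, dif_neg]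
      rintro ⟨_, h⟩
      exact hα (huniq α h)
    · intro h; exact absurd (Finset.mem_univ _) h
  · intro V α β g
    funext y
    have h1 : (res (prodPresheaf A) inf_le_left (switchExt A U S V α g) : ∀ y : (V ⊓ U β : Opens X), A y.1) y =
        (switchExt A U S V α g : ∀ y : V, A y.1) ⟨y.1, y.2.1⟩ := rfl
    rw [h1, switchExt_apply, switchExt_apply]
    split_ifs with h
    · rfl
    · rfl

end Groth.Agent.Helper5.SwitchExt
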