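import Mathlib
import Groth.Agent.Lib.Helper5.Misc.SchurRoots

/-!
# Twisted orthogonality of generalised Vandermonde determinants (helper5)
-/

open Finset Matrix Function

namespace Groth.Agent.Helper5.TwistOrth

open Groth.Agent.Helper5.SymmSum Groth.Agent.Helper5.SchurRoots

theorem sum_all_eq_mul_sum_strictAnti_last_zero {n r' : ℕ} [NeZero n] {M : Type*} [CommRing M]
    (F : (Fin (r' + 1) → Fin n) → M)
    (hsymm : ∀ v (σ : Equiv.Perm (Fin (r' + 1))), F (v ∘ σ) = F v)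
    (hzero : ∀ v, ¬ Function.Injective v → F v = 0)
    (htrans : ∀ v (c : Fin n), F (fun i => v i + c) = F v) :
    ∑ v, F v = (n : M) * ((r'.factorial : M) *
      ∑ v ∈ (Finset.univ : Finset (Fin (r' + 1) → Fin n)).filter
        (fun v => StrictAnti v ∧ v (Fin.last r') = 0), F v) := by
  classical
  -- Step A
  have hA : ∑ v, F v = (n : M) *
      ∑ v ∈ (Finset.univ : Finset (Fin (r' + 1) → Fin n)).filter (fun v => v 0 = 0), F v := by
    rw [← Finset.sum_fiberwise (Finset.univ : Finset (Fin (r' + 1) → Fin n)) (fun v => v 0) F]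
    have : ∀ c : Fin n, ∑ v ∈ (Finset.univ : Finset (Fin (r' + 1) → Fin n)).filter
        (fun v => v 0 = c), F v =
        ∑ v ∈ (Finset.univ : Finset (Fin (r' + 1) → Fin n)).filter (fun v => v 0 = 0), F v := by
      intro c
      refine Finset.sum_bij' (fun v _ => fun i => v i - c) (fun v _ => fun i => v i + c)
        ?_ ?_ ?_ ?_ ?_
      · intro v hv
        simp only [Finset.mem_filter, Finset.mem_univ, true_and] at hv ⊢
        rw [hv, sub_self]
      · intro v hv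
        simp only [Finset.mem_filter, Finset.mem_univ, true_and] at hv ⊢
        rw [hv, zero_add]
      · intro v _
        funext i
        exact sub_add_cancel _ _
      · intro v _
        funext i
        exact add_sub_cancel_right _ _
      · intro v _
        have := htrans (fun i => v i - c) c
        simp only [sub_add_cancel] at this
        exact this
    simp_rw [this]
    rw [Finset.sum_const, Finset.card_univ, Fintype.card_fin, nsmul_eq_mul]
  -- Step B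
  have hB : ∑ v ∈ (Finset.univ : Finset (Fin (r' + 1) → Fin n)).filter (fun v => v 0 = 0), F v =
      ∑ v' : Fin r' → Fin n, F (Fin.cons 0 v') := by
    symm
    refine Finset.sum_bij' (fun v' _ => (Fin.cons 0 v' : Fin (r' + 1) → Fin n))
      (fun v _ => Fin.tail v) ?_ ?_ ?_ ?_ ?_
    · intro v' _
      simp
    · intro v _
      exact Finset.mem_univ _
    · intro v' _
      exact Fin.tail_cons _ _
    · intro v hv
      simp only [Finset.mem_filter, Finset.mem_univ, true_and] at hv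
      rw [← hv]
      exact Fin.cons_self_tail v
    · intro v' _
      rfl
  -- Step C
  have hGsymm : ∀ (v' : Fin r' → Fin n) (σ : Equiv.Perm (Fin r')),
      F (Fin.cons 0 (v' ∘ σ)) = F (Fin.cons 0 v') := by
    intro v' σ
    rw [← hsymm (Fin.cons 0 v') (Equiv.Perm.decomposeFin.symm (0, σ))]
    congr 1
    funext i
    induction i using Fin.cases with
    | zero => simp
    | succ j => simp
  have hGzero : ∀ v' : Fin r' → Fin n, ¬ Injective v' → F (Fin.cons 0 v') = 0 := by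
    intro v' hv'
    apply hzero
    intro hinj
    apply hv'
    intro i j hij
    have : (Fin.cons 0 v' : Fin (r' + 1) → Fin n) i.succ =
        (Fin.cons 0 v' : Fin (r' + 1) → Fin n) j.succ := by
      rw [Fin.cons_succ, Fin.cons_succ, hij]
    exact Fin.succ_injective _ (hinj this)
  have hC := sum_eq_factorial_mul_sum_strictMono (fun v' : Fin r' → Fin n => F (Fin.cons 0 v'))
    hGsymm hGzero
  -- Step D
  have hD : ∑ v' ∈ (Finset.univ : Finset (Fin r' → Fin n)).filter (fun v' => StrictMono v'),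
      F (Fin.cons 0 v') =
      ∑ w ∈ (Finset.univ : Finset (Fin (r' + 1) → Fin n)).filter
        (fun w => StrictMono w ∧ w 0 = 0), F w := by
    have h1 : ∑ v' ∈ (Finset.univ : Finset (Fin r' → Fin n)).filter (fun v' => StrictMono v'),
        F (Fin.cons 0 v') =
        ∑ v' ∈ (Finset.univ : Finset (Fin r' → Fin n)).filter
          (fun v' => StrictMono v' ∧ ∀ i, v' i ≠ 0), F (Fin.cons 0 v') := by
      symm
      refine Finset.sum_subset ?_ ?_
      · intro v' hv'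
        simp only [Finset.mem_filter, Finset.mem_univ, true_and] at hv' ⊢
        exact hv'.1
      · intro v' hv' hnv'
        simp only [Finset.mem_filter, Finset.mem_univ, true_and] at hv' hnv'
        apply hzero
        intro hinj
        apply hnv'
        refine ⟨hv', fun i hi => ?_⟩
        have : (Fin.cons 0 v' : Fin (r' + 1) → Fin n) i.succ =
            (Fin.cons 0 v' : Fin (r' + 1) → Fin n) 0 := by
          rw [Fin.cons_succ, Fin.cons_zero, hi]
        exact Fin.succ_ne_zero i (hinj this)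
    rw [h1]
    refine Finset.sum_bij' (fun v' _ => (Fin.cons 0 v' : Fin (r' + 1) → Fin n))
      (fun v _ => Fin.tail v) ?_ ?_ ?_ ?_ ?_
    · intro v' hv'
      simp only [Finset.mem_filter, Finset.mem_univ, true_and] at hv' ⊢
      exact ⟨(strictMono_cons_zero_iff v').2 hv', Fin.cons_zero _ _⟩
    · intro w hw
      simp only [Finset.mem_filter, Finset.mem_univ, true_and] at hw ⊢
      have : w = Fin.cons 0 (Fin.tail w) := by
        rw [← hw.2]; exact (Fin.cons_self_tail w).symm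
      rw [this] at hw
      exact (strictMono_cons_zero_iff _).1 hw.1
    · intro v' _
      exact Fin.tail_cons _ _
    · intro w hw
      simp only [Finset.mem_filter, Finset.mem_univ, true_and] at hw
      rw [← hw.2]
      exact Fin.cons_self_tail w
    · intro v' _
      rfl
  -- Step E
  have hE : ∑ w ∈ (Finset.univ : Finset (Fin (r' + 1) → Fin n)).filter
        (fun w => StrictMono w ∧ w 0 = 0), F w =
      ∑ v ∈ (Finset.univ : Finset (Fin (r' + 1) → Fin n)).filter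
        (fun v => StrictAnti v ∧ v (Fin.last r') = 0), F v := by
    refine Finset.sum_bij' (fun w _ => w ∘ Fin.rev) (fun v _ => v ∘ Fin.rev) ?_ ?_ ?_ ?_ ?_
    · intro w hw
      simp only [Finset.mem_filter, Finset.mem_univ, true_and] at hw ⊢
      refine ⟨hw.1.comp_strictAnti Fin.rev_strictAnti, ?_⟩
      rw [Function.comp_apply, Fin.rev_last]
      exact hw.2
    · intro v hv
      simp only [Finset.mem_filter, Finset.mem_univ, true_and] at hv ⊢
      refine ⟨hv.1.comp Fin.rev_strictAnti, ?_⟩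
      rw [Function.comp_apply, Fin.rev_zero]
      exact hv.2
    · intro w _
      funext i
      simp
    · intro v _
      funext i
      simp
    · intro w _
      exact (hsymm w Fin.revPerm).symm
  rw [hA, hB, hC, hD, hE]


variable {r n : ℕ}

/-- the index set: strictly antitone tuples with last entry `0` -/
def I (r n : ℕ) : Finset (Fin r → Fin n) :=
  (Finset.univ : Finset (Fin r → Fin n)).filter
    (fun v => StrictAnti v ∧ ∀ i : Fin r, (i : ℕ) = r - 1 → (v i : ℕ) = 0)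

theorem I_succ_eq (r' n : ℕ) [NeZero n] :
    I (r' + 1) n = (Finset.univ : Finset (Fin (r' + 1) → Fin n)).filter
        (fun v => StrictAnti v ∧ v (Fin.last r') = 0) := by
  rw [I]
  refine Finset.filter_congr fun v _ => ?_
  refine and_congr Iff.rfl ?_
  constructor
  · intro h
    apply Fin.ext
    rw [h (Fin.last r') (by simp)]
    rfl
  · intro h i hi
    have : i = Fin.last r' := Fin.ext (by rw [hi]; simp)
    rw [this, h]
    rfl

/-- the twisted product of two generalised Vandermonde determinants -/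
noncomputable def X (θ : ℂ) (z z' : Fin r → ℂ) (u : Fin r → Fin n) : ℂ :=
  θ ^ (∑ i, (u i : ℕ)) * (D z (fun i => (u i : ℕ)) * D z' (fun i => (u i : ℕ)))

theorem X_comp_perm (θ : ℂ) (z z' : Fin r → ℂ) (u : Fin r → Fin n) (σ : Equiv.Perm (Fin r)) :
    X θ z z' (u ∘ σ) = X θ z z' u := by
  rw [X, X]
  have h1 : (fun i => ((u ∘ σ) i : ℕ)) = (fun i => (u i : ℕ)) ∘ σ := rfl
  have h2 : ∑ i, ((u ∘ σ) i : ℕ) = ∑ i, (u i : ℕ) :=
    Equiv.sum_comp σ (fun i => (u i : ℕ))
  rw [h2, h1, D_comp_perm, D_comp_perm]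
  rcases Int.units_eq_one_or (Equiv.Perm.sign σ) with h | h <;> simp [h]

theorem X_eq_zero_of_not_injective (θ : ℂ) (z z' : Fin r → ℂ) (u : Fin r → Fin n)
    (hu : ¬ Injective u) : X θ z z' u = 0 := by
  rw [X, D_eq_zero_of_not_injective z, zero_mul, mul_zero]
  intro hinj
  apply hu
  intro a b hab
  exact hinj (congrArg Fin.val hab)

theorem D_add_const [NeZero n] (z : Fin r → ℂ) (hz : ∀ j, z j ^ n = 1) (u : Fin r → Fin n)
    (c : Fin n) :
    D z (fun i => ((u i + c : Fin n) : ℕ)) = (∏ j, z j ^ (c : ℕ)) * D z (fun i => (u i : ℕ)) := by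
  rw [D, D, ← det_mul_row]
  congr 1
  ext i j
  simp only [of_apply]
  rw [Fin.val_add, ← pow_eq_pow_mod _ (hz j), pow_add, mul_comm]

theorem pow_sum_add_const [NeZero n] (θ : ℂ) (hθ : θ ^ n = 1) (u : Fin r → Fin n) (c : Fin n) :
    θ ^ (∑ i, ((u i + c : Fin n) : ℕ)) = θ ^ (∑ i, (u i : ℕ)) * (θ ^ r) ^ (c : ℕ) := by
  rw [← Finset.prod_pow_eq_pow_sum, ← Finset.prod_pow_eq_pow_sum]
  have : ∀ i, θ ^ ((u i + c : Fin n) : ℕ) = θ ^ (u i : ℕ) * θ ^ (c : ℕ) := by
    intro i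
    rw [Fin.val_add, ← pow_eq_pow_mod _ hθ, pow_add]
  simp_rw [this]
  rw [Finset.prod_mul_distrib, Finset.prod_const, Finset.card_univ, Fintype.card_fin, ← pow_mul,
    ← pow_mul, mul_comm r]

theorem X_add_const [NeZero n] (θ : ℂ) (z z' : Fin r → ℂ) (hθ : θ ^ n = 1)
    (hz : ∀ j, z j ^ n = 1) (hz' : ∀ j, z' j ^ n = 1)
    (hrel : θ ^ r * ((∏ j, z j) * (∏ j, z' j)) = 1) (u : Fin r → Fin n) (c : Fin n) :
    X θ z z' (fun i => u i + c) = X θ z z' u := by
  rw [X, X, D_add_const z hz, D_add_const z' hz', pow_sum_add_const θ hθ,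
    Finset.prod_pow, Finset.prod_pow]
  calc θ ^ (∑ i, (u i : ℕ)) * (θ ^ r) ^ (c : ℕ) *
        ((∏ j, z j) ^ (c : ℕ) * D z (fun i => (u i : ℕ)) *
          ((∏ j, z' j) ^ (c : ℕ) * D z' (fun i => (u i : ℕ)))) =
      (θ ^ r * ((∏ j, z j) * (∏ j, z' j))) ^ (c : ℕ) *
        (θ ^ (∑ i, (u i : ℕ)) * (D z (fun i => (u i : ℕ)) * D z' (fun i => (u i : ℕ)))) := by
        rw [mul_pow, mul_pow]; ring
    _ = _ := by rw [hrel, one_pow, one_mul]

/-- expansion of `D` as a sum over permutations of the points -/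
theorem D_eq_sum (z : Fin r → ℂ) (e : Fin r → ℕ) :
    D z e = ∑ σ : Equiv.Perm (Fin r),
      (((Equiv.Perm.sign σ : ℤˣ) : ℤ) : ℂ) * ∏ i, z (σ i) ^ e i := by
  rw [D, ← det_transpose, det_apply']
  rfl

/-- the total sum of `X` vanishes if no permutation matches the points -/
theorem sum_X_eq_zero [NeZero n] (θ : ℂ) (z z' : Fin r → ℂ) (hθ : θ ^ n = 1)
    (hz : ∀ j, z j ^ n = 1) (hz' : ∀ j, z' j ^ n = 1)
    (hno : ¬ ∃ π : Equiv.Perm (Fin r), ∀ j, θ * z j * z' (π j) = 1) :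
    ∑ u : Fin r → Fin n, X θ z z' u = 0 := by
  classical
  have hX : ∀ u : Fin r → Fin n, X θ z z' u =
      ∑ σ : Equiv.Perm (Fin r), ∑ τ : Equiv.Perm (Fin r),
        ((((Equiv.Perm.sign σ : ℤˣ) : ℤ) : ℂ) * (((Equiv.Perm.sign τ : ℤˣ) : ℤ) : ℂ)) *
          ∏ i, (θ * z (σ i) * z' (τ i)) ^ (u i : ℕ) := by
    intro u
    rw [X, D_eq_sum, D_eq_sum, Finset.sum_mul_sum, Finset.mul_sum]
    refine Finset.sum_congr rfl fun σ _ => ?_
    rw [Finset.mul_sum]
    refine Finset.sum_congr rfl fun τ _ => ?_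
    rw [← Finset.prod_pow_eq_pow_sum]
    have : ∏ i, (θ * z (σ i) * z' (τ i)) ^ (u i : ℕ) =
        (∏ i, θ ^ (u i : ℕ)) * ((∏ i, z (σ i) ^ (u i : ℕ)) * ∏ i, z' (τ i) ^ (u i : ℕ)) := by
      rw [← Finset.prod_mul_distrib, ← Finset.prod_mul_distrib]
      refine Finset.prod_congr rfl fun i _ => ?_
      rw [mul_pow, mul_pow, mul_assoc]
    rw [this]
    ring
  simp_rw [hX]
  rw [Finset.sum_comm]
  refine Finset.sum_eq_zero fun σ _ => ?_
  rw [Finset.sum_comm]
  refine Finset.sum_eq_zero fun τ _ => ?_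
  rw [← Finset.mul_sum]
  have hprod : ∑ u : Fin r → Fin n, ∏ i, (θ * z (σ i) * z' (τ i)) ^ (u i : ℕ) =
      ∏ i, ∑ a : Fin n, (θ * z (σ i) * z' (τ i)) ^ (a : ℕ) :=
    (Fintype.prod_sum (fun i (a : Fin n) => (θ * z (σ i) * z' (τ i)) ^ (a : ℕ))).symm
  rw [hprod]
  have hx : ∀ i, (θ * z (σ i) * z' (τ i)) ^ n = 1 := by
    intro i
    rw [mul_pow, mul_pow, hθ, hz, hz', one_mul, one_mul]
  simp_rw [Verlinde.sum_pow_root (hx _)]
  have : ∃ i, θ * z (σ i) * z' (τ i) ≠ 1 := by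
    by_contra hcon
    push Not at hcon
    apply hno
    refine ⟨σ.symm.trans τ, fun j => ?_⟩
    have := hcon (σ.symm j)
    simpa using this
  obtain ⟨i, hi⟩ := this
  rw [Finset.prod_eq_zero (Finset.mem_univ i) (if_neg hi), mul_zero]

/-- Case B: `θ ^ n = 1` -/
theorem sum_I_X_eq_zero_of_pow_eq_one (hn : n ≠ 0) (θ : ℂ) (z z' : Fin r → ℂ) (hθ : θ ^ n = 1)
    (hz : ∀ j, z j ^ n = 1) (hz' : ∀ j, z' j ^ n = 1)
    (hrel : θ ^ r * ((∏ j, z j) * (∏ j, z' j)) = 1)
    (hno : ¬ ∃ π : Equiv.Perm (Fin r), ∀ j, θ * z j * z' (π j) = 1) (hr : 1 ≤ r) :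
    ∑ u ∈ I r n, X θ z z' u = 0 := by
  have : NeZero n := ⟨hn⟩
  obtain ⟨r', rfl⟩ : ∃ r', r = r' + 1 := ⟨r - 1, by omega⟩
  have h1 := sum_all_eq_mul_sum_strictAnti_last_zero (X θ z z') (X_comp_perm θ z z')
    (X_eq_zero_of_not_injective θ z z') (X_add_const θ z z' hθ hz hz' hrel)
  rw [sum_X_eq_zero θ z z' hθ hz hz' hno, ← I_succ_eq] at h1
  have hn0 : (n : ℂ) ≠ 0 := Nat.cast_ne_zero.2 hn
  have hf : ((r'.factorial : ℕ) : ℂ) ≠ 0 := Nat.cast_ne_zero.2 (Nat.factorial_ne_zero r')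
  rcases mul_eq_zero.1 h1.symm with h | h
  · exact absurd h hn0
  · rcases mul_eq_zero.1 h with h | h
    · exact absurd h hf
    · exact h


/-! ### Case A: the rotation -/

theorem pow_val_add [NeZero n] {x : ℂ} (hx : x ^ n = 1) (a b : Fin n) :
    x ^ ((a + b : Fin n) : ℕ) = x ^ (a : ℕ) * x ^ (b : ℕ) := by
  rw [Fin.val_add, ← pow_eq_pow_mod _ hx, pow_add]

/-- the rotation of a tuple: subtract the second smallest entry and rotate cyclically -/
def rot {r' : ℕ} (u : Fin (r' + 2) → Fin n) : Fin (r' + 2) → Fin n :=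
  fun i => u ((finRotate (r' + 2)).symm i) - u (Fin.castSucc (Fin.last r'))

theorem cyc_zero (r' : ℕ) : (finRotate (r' + 2)).symm 0 = Fin.last (r' + 1) := by
  rw [Equiv.symm_apply_eq, finRotate_last]

theorem cyc_val {r' : ℕ} {i : Fin (r' + 2)} (hi : i ≠ 0) :
    (((finRotate (r' + 2)).symm i : Fin (r' + 2)) : ℕ) = (i : ℕ) - 1 :=
  coe_finRotate_symm_of_ne_zero hi

section
variable {r' : ℕ} [NeZero n] (u : Fin (r' + 2) → Fin n) (hu : u ∈ I (r' + 2) n)
include hu

theorem I_strictAnti : StrictAnti u := (Finset.mem_filter.1 hu).2.1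

theorem I_last : u (Fin.last (r' + 1)) = 0 := by
  apply Fin.ext
  rw [(Finset.mem_filter.1 hu).2.2 (Fin.last (r' + 1)) (by simp)]
  rfl

theorem I_pen_pos : 0 < (u (Fin.castSucc (Fin.last r')) : ℕ) := by
  have h := I_strictAnti u hu (Fin.castSucc_lt_last (Fin.last r'))
  rw [I_last u hu] at h
  exact h

theorem I_pen_le {j : Fin (r' + 2)} (hj : j ≠ Fin.last (r' + 1)) :
    u (Fin.castSucc (Fin.last r')) ≤ u j := by
  apply (I_strictAnti u hu).antitone
  rw [Fin.le_def]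
  have h1 : (j : ℕ) ≠ r' + 1 := fun h => hj (Fin.ext h)
  have h2 := j.2
  simp only [Fin.val_castSucc, Fin.val_last]
  omega

theorem val_sub_pen {j : Fin (r' + 2)} (hj : j ≠ Fin.last (r' + 1)) :
    ((u j - u (Fin.castSucc (Fin.last r')) : Fin n) : ℕ) =
      (u j : ℕ) - (u (Fin.castSucc (Fin.last r')) : ℕ) :=
  Fin.coe_sub_iff_le.2 (I_pen_le u hu hj)

theorem val_sub_pen_last :
    ((u (Fin.last (r' + 1)) - u (Fin.castSucc (Fin.last r')) : Fin n) : ℕ) =
      n - (u (Fin.castSucc (Fin.last r')) : ℕ) := by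
  have h : u (Fin.last (r' + 1)) < u (Fin.castSucc (Fin.last r')) :=
    I_strictAnti u hu (Fin.castSucc_lt_last (Fin.last r'))
  rw [Fin.coe_sub_iff_lt.2 h, I_last u hu]
  simp

theorem rot_mem_I : rot u ∈ I (r' + 2) n := by
  rw [I, Finset.mem_filter]
  refine ⟨Finset.mem_univ _, ?_, ?_⟩
  · intro i i' hii'
    have hi'0 : i' ≠ 0 := by
      intro h
      rw [h] at hii'
      exact absurd hii' (Fin.not_lt_zero _)
    have hc' : (finRotate (r' + 2)).symm i' ≠ Fin.last (r' + 1) := by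
      intro h
      have := cyc_val hi'0
      rw [h] at this
      have h2 := i'.2
      simp only [Fin.val_last] at this
      omega
    rw [Fin.lt_def]
    simp only [rot]
    rw [val_sub_pen u hu hc']
    have hle := I_pen_le u hu hc'
    rw [Fin.le_def] at hle
    by_cases hi0 : i = 0
    · rw [hi0, cyc_zero, val_sub_pen_last u hu]
      have := (u ((finRotate (r' + 2)).symm i')).2
      omega
    · have hc : (finRotate (r' + 2)).symm i ≠ Fin.last (r' + 1) := by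
        intro h
        have := cyc_val hi0
        rw [h] at this
        have h2 := i.2
        simp only [Fin.val_last] at this
        omega
      rw [val_sub_pen u hu hc]
      have hlt : (finRotate (r' + 2)).symm i < (finRotate (r' + 2)).symm i' := by
        rw [Fin.lt_def, cyc_val hi0, cyc_val hi'0]
        have h1 : (i : ℕ) < (i' : ℕ) := hii'
        have h2 : (i : ℕ) ≠ 0 := fun h => hi0 (Fin.ext h)
        omega
      have := I_strictAnti u hu hlt
      rw [Fin.lt_def] at this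
      omega
  · intro i hi
    have hi0 : i ≠ 0 := by
      intro h
      rw [h] at hi
      simp at hi
    have : (finRotate (r' + 2)).symm i = Fin.castSucc (Fin.last r') := by
      apply Fin.ext
      rw [cyc_val hi0, hi]
      simp
    simp only [rot]
    rw [this, sub_self]
    rfl

theorem sum_rot :
    (∑ i, (rot u i : ℕ)) + (r' + 2) * (u (Fin.castSucc (Fin.last r')) : ℕ) =
      (∑ i, (u i : ℕ)) + n := by
  have h1 : ∑ i, (rot u i : ℕ) =
      ∑ j, ((u j - u (Fin.castSucc (Fin.last r')) : Fin n) : ℕ) :=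
    Equiv.sum_comp (finRotate (r' + 2)).symm
      (fun j => ((u j - u (Fin.castSucc (Fin.last r')) : Fin n) : ℕ))
  rw [h1, Fin.sum_univ_castSucc, Fin.sum_univ_castSucc (fun i => (u i : ℕ)), val_sub_pen_last u hu,
    I_last u hu]
  have h2 : ∀ j : Fin (r' + 1),
      ((u (Fin.castSucc j) - u (Fin.castSucc (Fin.last r')) : Fin n) : ℕ) +
        (u (Fin.castSucc (Fin.last r')) : ℕ) = (u (Fin.castSucc j) : ℕ) := by
    intro j
    have hj : Fin.castSucc j ≠ Fin.last (r' + 1) := (Fin.castSucc_lt_last j).ne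
    rw [val_sub_pen u hu hj]
    have := I_pen_le u hu hj
    rw [Fin.le_def] at this
    omega
  have h3 : ∑ j : Fin (r' + 1),
      ((u (Fin.castSucc j) - u (Fin.castSucc (Fin.last r')) : Fin n) : ℕ) +
      (r' + 1) * (u (Fin.castSucc (Fin.last r')) : ℕ) =
      ∑ j : Fin (r' + 1), (u (Fin.castSucc j) : ℕ) := by
    rw [← Finset.sum_congr rfl (fun j _ => h2 j), Finset.sum_add_distrib, Finset.sum_const,
      Finset.card_univ, Fintype.card_fin, smul_eq_mul]
  have h4 := (u (Fin.castSucc (Fin.last r'))).2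
  simp only [Fin.val_zero, add_zero]
  rw [← h3]
  have : (r' + 2) * (u (Fin.castSucc (Fin.last r')) : ℕ) =
      (r' + 1) * (u (Fin.castSucc (Fin.last r')) : ℕ) + (u (Fin.castSucc (Fin.last r')) : ℕ) := by
    ring
  omega

end

theorem rot_injOn {r' : ℕ} [NeZero n] : Set.InjOn (rot (n := n) (r' := r')) (I (r' + 2) n) := by
  intro u hu w hw h
  have h0 := congrFun h 0
  simp only [rot] at h0
  rw [cyc_zero, I_last u hu, I_last w hw, zero_sub, zero_sub, neg_inj] at h0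
  funext j
  have hj := congrFun h (finRotate (r' + 2) j)
  simp only [rot, Equiv.symm_apply_apply] at hj
  rw [h0] at hj
  exact sub_left_injective hj

theorem D_rot {r' : ℕ} [NeZero n] (z : Fin (r' + 2) → ℂ) (hz : ∀ j, z j ^ n = 1)
    (u : Fin (r' + 2) → Fin n) :
    D z (fun i => (rot u i : ℕ)) * (∏ j, z j) ^ (u (Fin.castSucc (Fin.last r')) : ℕ) =
      (((Equiv.Perm.sign (finRotate (r' + 2)).symm : ℤˣ) : ℤ) : ℂ) * D z (fun i => (u i : ℕ)) := by
  have h1 : (fun i => (rot u i : ℕ)) = fun i =>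
      (((u ∘ (finRotate (r' + 2)).symm) i + (-u (Fin.castSucc (Fin.last r'))) : Fin n) : ℕ) := by
    funext i
    simp only [rot, Function.comp_apply, sub_eq_add_neg]
  rw [h1, D_add_const z hz]
  have h2 : (fun i => ((u ∘ (finRotate (r' + 2)).symm) i : ℕ)) =
      (fun i => (u i : ℕ)) ∘ (finRotate (r' + 2)).symm := rfl
  rw [h2, D_comp_perm, ← Finset.prod_pow]
  have h3 : (∏ j, z j ^ ((-u (Fin.castSucc (Fin.last r')) : Fin n) : ℕ)) *
      (∏ j, z j ^ (u (Fin.castSucc (Fin.last r')) : ℕ)) = 1 := by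
    rw [← Finset.prod_mul_distrib]
    refine Finset.prod_eq_one fun j _ => ?_
    rw [← pow_val_add (hz j), neg_add_cancel]
    simp
  calc _ = ((∏ j, z j ^ ((-u (Fin.castSucc (Fin.last r')) : Fin n) : ℕ)) *
      (∏ j, z j ^ (u (Fin.castSucc (Fin.last r')) : ℕ))) *
      ((((Equiv.Perm.sign (finRotate (r' + 2)).symm : ℤˣ) : ℤ) : ℂ) * D z (fun i => (u i : ℕ))) := by
        ring
    _ = _ := by rw [h3, one_mul]

theorem X_rot {r' : ℕ} [NeZero n] (θ : ℂ) (z z' : Fin (r' + 2) → ℂ)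
    (hz : ∀ j, z j ^ n = 1) (hz' : ∀ j, z' j ^ n = 1)
    (hrel : θ ^ (r' + 2) * ((∏ j, z j) * (∏ j, z' j)) = 1)
    (u : Fin (r' + 2) → Fin n) (hu : u ∈ I (r' + 2) n) :
    X θ z z' (rot u) = θ ^ n * X θ z z' u := by
  set c := (u (Fin.castSucc (Fin.last r')) : ℕ) with hc
  have hs := sum_rot u hu
  have h1 := D_rot z hz u
  have h2 := D_rot z' hz' u
  rw [← hc] at hs h1 h2
  have hss : (((Equiv.Perm.sign (finRotate (r' + 2)).symm : ℤˣ) : ℤ) : ℂ) *
      (((Equiv.Perm.sign (finRotate (r' + 2)).symm : ℤˣ) : ℤ) : ℂ) = 1 := by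
    rcases Int.units_eq_one_or (Equiv.Perm.sign (finRotate (r' + 2)).symm) with h | h <;> simp [h]
  have hone : (θ ^ (r' + 2) * ((∏ j, z j) * (∏ j, z' j))) ^ c = 1 := by rw [hrel, one_pow]
  rw [X, X]
  calc θ ^ (∑ i, (rot u i : ℕ)) * (D z (fun i => (rot u i : ℕ)) * D z' (fun i => (rot u i : ℕ)))
      = θ ^ (∑ i, (rot u i : ℕ)) * (D z (fun i => (rot u i : ℕ)) * D z' (fun i => (rot u i : ℕ))) *
          (θ ^ (r' + 2) * ((∏ j, z j) * (∏ j, z' j))) ^ c := by rw [hone, mul_one]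
    _ = θ ^ ((∑ i, (rot u i : ℕ)) + (r' + 2) * c) *
          ((D z (fun i => (rot u i : ℕ)) * (∏ j, z j) ^ c) *
           (D z' (fun i => (rot u i : ℕ)) * (∏ j, z' j) ^ c)) := by
        have e : ∀ a b d : ℕ, θ ^ (a + b * d) = θ ^ a * (θ ^ b) ^ d := fun a b d => by
          rw [pow_add, pow_mul]
        rw [e, mul_pow, mul_pow]; ring
    _ = θ ^ ((∑ i, (u i : ℕ)) + n) *
          (((((Equiv.Perm.sign (finRotate (r' + 2)).symm : ℤˣ) : ℤ) : ℂ) *
            (((Equiv.Perm.sign (finRotate (r' + 2)).symm : ℤˣ) : ℤ) : ℂ)) *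
            (D z (fun i => (u i : ℕ)) * D z' (fun i => (u i : ℕ)))) := by
        rw [hs, h1, h2]; ring
    _ = θ ^ n * (θ ^ (∑ i, (u i : ℕ)) * (D z (fun i => (u i : ℕ)) * D z' (fun i => (u i : ℕ)))) := by
        rw [hss, one_mul, pow_add]; ring

/-- Case A: `θ ^ n ≠ 1` -/
theorem sum_I_X_eq_zero_of_pow_ne_one (hn : n ≠ 0) (hr : 2 ≤ r) (θ : ℂ) (z z' : Fin r → ℂ)
    (hθ : θ ^ n ≠ 1) (hz : ∀ j, z j ^ n = 1) (hz' : ∀ j, z' j ^ n = 1)
    (hrel : θ ^ r * ((∏ j, z j) * (∏ j, z' j)) = 1) :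
    ∑ u ∈ I r n, X θ z z' u = 0 := by
  classical
  have : NeZero n := ⟨hn⟩
  obtain ⟨r', rfl⟩ : ∃ r', r = r' + 2 := ⟨r - 2, by omega⟩
  have himg : (I (r' + 2) n).image rot = I (r' + 2) n := by
    apply Finset.eq_of_subset_of_card_le
    · intro w hw
      obtain ⟨u, hu, rfl⟩ := Finset.mem_image.1 hw
      exact rot_mem_I u hu
    · rw [Finset.card_image_of_injOn rot_injOn]
  have h1 : ∑ u ∈ I (r' + 2) n, X θ z z' u = ∑ u ∈ I (r' + 2) n, X θ z z' (rot u) := by
    conv_lhs => rw [← himg]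
    exact Finset.sum_image (fun a ha b hb h => rot_injOn ha hb h)
  have h2 : ∑ u ∈ I (r' + 2) n, X θ z z' (rot u) =
      θ ^ n * ∑ u ∈ I (r' + 2) n, X θ z z' u := by
    rw [Finset.mul_sum]
    exact Finset.sum_congr rfl fun u hu => X_rot θ z z' hz hz' hrel u hu
  rw [h2] at h1
  have h3 : (1 - θ ^ n) * ∑ u ∈ I (r' + 2) n, X θ z z' u = 0 := by
    rw [sub_mul, one_mul, ← h1, sub_self]
  rcases mul_eq_zero.1 h3 with h | h
  · exact absurd (sub_eq_zero.1 h).symm hθ
  · exact h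


/-! ### The combinatorial lemma -/

theorem perm_eq_rev_of_strictAnti (π : Equiv.Perm (Fin r)) (hπ : StrictAnti π) (j : Fin r) :
    π j = Fin.rev j := by
  have hf : StrictMono (fun i : Fin r => π (Fin.rev i)) := by
    intro a b hab
    exact hπ (Fin.rev_lt_rev.2 hab)
  have h1 : Fin.rev j ≤ π (Fin.rev (Fin.rev j)) := hf.le_apply (x := Fin.rev j)
  have h2 : π (Fin.rev (Fin.rev j)) ≤ Fin.rev j := hf.apply_le (x := Fin.rev j)
  rw [Fin.rev_rev] at h1 h2
  exact le_antisymm h2 h1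

theorem comb (hn : n ≠ 0) (p p' : Fin r → ℕ) (hp : StrictAnti p) (hp' : StrictAnti p')
    (hpn : ∀ j, p j < n) (hp'n : ∀ j, p' j < n) (s : ℕ)
    (hs : r * s = ∑ j, p j + ∑ j, p' j) (π : Equiv.Perm (Fin r))
    (hπ : ∀ j, (n : ℤ) ∣ (p j : ℤ) + (p' (π j) : ℤ) - s) :
    ∀ j, p j + p' (Fin.rev j) = s := by
  choose t ht using hπ
  have hn' : (0 : ℤ) < n := by exact_mod_cast Nat.pos_of_ne_zero hn
  have hsum : ∑ j, t j = 0 := by
    have h1 : ∑ j, ((p j : ℤ) + (p' (π j) : ℤ) - s) = 0 := by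
      rw [Finset.sum_sub_distrib, Finset.sum_add_distrib, Equiv.sum_comp π (fun j => (p' j : ℤ)),
        Finset.sum_const, Finset.card_univ, Fintype.card_fin]
      have := congrArg (fun x : ℕ => (x : ℤ)) hs
      simp only [Nat.cast_mul, Nat.cast_add, Nat.cast_sum] at this
      rw [← this]
      simp
    simp_rw [ht] at h1
    rw [← Finset.mul_sum] at h1
    rcases mul_eq_zero.1 h1 with h | h
    · exact absurd h hn'.ne'
    · exact h
  have ht0 : ∀ j, t j = 0 := by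
    by_cases hsn : s < n
    · have hnonneg : ∀ j ∈ (Finset.univ : Finset (Fin r)), 0 ≤ t j := by
        intro j _
        by_contra hcon
        push Not at hcon
        have h1 : (n : ℤ) * t j ≤ -n := by nlinarith
        have h2 := ht j
        have h3 : (s : ℤ) < n := by exact_mod_cast hsn
        have h4 : (0 : ℤ) ≤ (p j : ℤ) := Nat.cast_nonneg _
        have h5 : (0 : ℤ) ≤ (p' (π j) : ℤ) := Nat.cast_nonneg _
        omega
      intro j
      exact (Finset.sum_eq_zero_iff_of_nonneg hnonneg).1 hsum j (Finset.mem_univ j)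
    · have hnonpos : ∀ j ∈ (Finset.univ : Finset (Fin r)), t j ≤ 0 := by
        intro j _
        by_contra hcon
        push Not at hcon
        have h1 : (n : ℤ) ≤ (n : ℤ) * t j := by nlinarith
        have h2 := ht j
        have h3 : (n : ℤ) ≤ s := by exact_mod_cast not_lt.1 hsn
        have h4 : (p j : ℤ) < n := by exact_mod_cast hpn j
        have h5 : (p' (π j) : ℤ) < n := by exact_mod_cast hp'n (π j)
        omega
      intro j
      exact (Finset.sum_eq_zero_iff_of_nonpos hnonpos).1 hsum j (Finset.mem_univ j)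
  have hq : ∀ j, p j + p' (π j) = s := by
    intro j
    have := ht j
    rw [ht0 j, mul_zero] at this
    omega
  have hπa : StrictAnti π := by
    intro i j hij
    by_contra hcon
    push Not at hcon
    have hne : π i ≠ π j := fun h => hij.ne (π.injective h)
    have hlt : π i < π j := lt_of_le_of_ne hcon hne
    have h1 := hp' hlt
    have h2 := hp hij
    have h3 := hq i
    have h4 := hq j
    omega
  intro j
  rw [← perm_eq_rev_of_strictAnti π hπa j]
  exact hq j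

/-! ### The main orthogonality statement -/

/-- twisted orthogonality, integer form -/
theorem twisted_orth (hn : n ≠ 0) (hr : 1 ≤ r) (p p' : Fin r → ℕ) (hp : StrictAnti p)
    (hp' : StrictAnti p') (hpn : ∀ j, p j < n) (hp'n : ∀ j, p' j < n)
    (hne : ¬ ∃ s : ℕ, ∀ j, p j + p' (Fin.rev j) = s) :
    ∑ u ∈ I r n,
      X (Complex.exp (-(2 * Real.pi * Complex.I * ((∑ j, p j + ∑ j, p' j : ℕ) : ℂ) /
          ((r : ℂ) * (n : ℂ)))))
        (fun j => Complex.exp (2 * Real.pi * Complex.I / (n : ℂ)) ^ p j)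
        (fun j => Complex.exp (2 * Real.pi * Complex.I / (n : ℂ)) ^ p' j) u = 0 := by
  set ζ := Complex.exp (2 * Real.pi * Complex.I / (n : ℂ)) with hζdef
  set Q : ℕ := ∑ j, p j + ∑ j, p' j with hQ
  set θ := Complex.exp (-(2 * Real.pi * Complex.I * (Q : ℂ) / ((r : ℂ) * (n : ℂ)))) with hθdef
  have hζ : IsPrimitiveRoot ζ n := Complex.isPrimitiveRoot_exp _ hn
  have hn0 : (n : ℂ) ≠ 0 := Nat.cast_ne_zero.2 hn
  have hr0 : (r : ℂ) ≠ 0 := Nat.cast_ne_zero.2 (by omega)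
  have hpi : (2 * Real.pi * Complex.I : ℂ) ≠ 0 := Complex.two_pi_I_ne_zero
  have hz : ∀ j, (ζ ^ p j) ^ n = 1 := by
    intro j
    rw [← pow_mul, mul_comm, pow_mul, hζ.pow_eq_one, one_pow]
  have hz' : ∀ j, (ζ ^ p' j) ^ n = 1 := by
    intro j
    rw [← pow_mul, mul_comm, pow_mul, hζ.pow_eq_one, one_pow]
  have hrel : θ ^ r * ((∏ j, ζ ^ p j) * (∏ j, ζ ^ p' j)) = 1 := by
    rw [Finset.prod_pow_eq_pow_sum, Finset.prod_pow_eq_pow_sum, ← pow_add, ← hQ, hθdef, hζdef,
      ← Complex.exp_nat_mul, ← Complex.exp_nat_mul, ← Complex.exp_add, Complex.exp_eq_one_iff]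
    refine ⟨0, ?_⟩
    field_simp
    ring
  have hθn : θ ^ n = Complex.exp (-(2 * Real.pi * Complex.I * (Q : ℂ) / (r : ℂ))) := by
    rw [hθdef, ← Complex.exp_nat_mul]
    congr 1
    field_simp
  by_cases hθ1 : θ ^ n = 1
  · -- Case B
    apply sum_I_X_eq_zero_of_pow_eq_one hn θ _ _ hθ1 hz hz' hrel _ hr
    rw [hθn, Complex.exp_eq_one_iff] at hθ1
    obtain ⟨m, hm⟩ := hθ1
    have hQr : (Q : ℤ) = -m * r := by
      have h1 : (Q : ℂ) = ((-m * r : ℤ) : ℂ) := by
        push_cast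
        have h2 : (2 * Real.pi * Complex.I) * (-(Q : ℂ) / r) =
            (2 * Real.pi * Complex.I) * (m : ℂ) := by
          rw [mul_comm _ (m : ℂ), ← hm]
          ring
        have h3 := mul_left_cancel₀ hpi h2
        rw [div_eq_iff hr0] at h3
        linear_combination -h3
      exact_mod_cast h1
    have hdvd : r ∣ Q := by
      have : (r : ℤ) ∣ (Q : ℤ) := ⟨-m, by rw [hQr]; ring⟩
      exact_mod_cast this
    obtain ⟨s, hs⟩ := hdvd
    have hθs : θ * ζ ^ s = 1 := by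
      rw [hθdef, hζdef, ← Complex.exp_nat_mul, ← Complex.exp_add, Complex.exp_eq_one_iff]
      refine ⟨0, ?_⟩
      rw [hs]
      push_cast
      field_simp
      ring
    rintro ⟨π, hπ⟩
    apply hne
    refine ⟨s, comb hn p p' hp hp' hpn hp'n s hs.symm π fun j => ?_⟩
    have h1 : ζ ^ (p j + p' (π j)) = ζ ^ s := by
      have h2 := hπ j
      have hζs : ζ ^ s ≠ 0 := pow_ne_zero _ (hζ.ne_zero hn)
      have hθ0 : θ ≠ 0 := Complex.exp_ne_zero _
      have h3 : θ * ζ ^ (p j + p' (π j)) = θ * ζ ^ s := by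
        rw [hθs, pow_add, ← mul_assoc]
        exact h2
      exact mul_left_cancel₀ hθ0 h3
    rw [← hζ.zpow_eq_one_iff_dvd]
    have hζ0 : ζ ≠ 0 := hζ.ne_zero hn
    have : ((p j : ℤ) + (p' (π j) : ℤ) - s) = ((p j + p' (π j) : ℕ) : ℤ) - (s : ℤ) := by
      push_cast; ring
    rw [this, zpow_sub₀ hζ0, zpow_natCast, zpow_natCast, h1, div_self (pow_ne_zero _ hζ0)]
  · -- Case A
    have hr2 : 2 ≤ r := by
      by_contra hcon
      have hr1 : r = 1 := by omega
      apply hθ1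
      rw [hθn, Complex.exp_eq_one_iff]
      refine ⟨-(Q : ℤ), ?_⟩
      rw [hr1]
      push_cast
      ring
    exact sum_I_X_eq_zero_of_pow_ne_one hn hr2 θ _ _ hθ1 hz hz' hrel


/-! ### Bookkeeping lemmas for the applications -/

theorem D_swap (ζ : ℂ) (a v : Fin r → ℕ) :
    D (fun j => ζ ^ v j) a = D (fun j => ζ ^ a j) v := by
  rw [D, D, ← det_transpose]
  congr 1
  ext i j
  simp only [transpose_apply, of_apply]
  rw [← pow_mul, ← pow_mul, mul_comm]

theorem sign_mul_self (σ : Equiv.Perm (Fin r)) :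
    (((Equiv.Perm.sign σ : ℤˣ) : ℤ) : ℂ) * (((Equiv.Perm.sign σ : ℤˣ) : ℤ) : ℂ) = 1 := by
  rcases Int.units_eq_one_or (Equiv.Perm.sign σ) with h | h <;> simp [h]

theorem D_rho_sq (z : Fin r → ℂ) (hz1 : ∀ j, ‖z j‖ = 1) :
    D z (fun i => r - 1 - (i : ℕ)) ^ 2 =
      (((Equiv.Perm.sign (Fin.revPerm : Equiv.Perm (Fin r)) : ℤˣ) : ℤ) : ℂ) *
        (∏ j, z j ^ (r - 1)) *
        ((Complex.normSq (D z (fun i => r - 1 - (i : ℕ))) : ℝ) : ℂ) := by
  set Δ := D z (fun i => r - 1 - (i : ℕ)) with hΔ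
  set s : ℂ := (((Equiv.Perm.sign (Fin.revPerm : Equiv.Perm (Fin r)) : ℤˣ) : ℤ) : ℂ) with hs
  have hss : s * s = 1 := sign_mul_self _
  have h1 : (fun i : Fin r => (i : ℕ)) =
      (fun i : Fin r => r - 1 - (i : ℕ)) ∘ Fin.revPerm := by
    funext i
    simp only [Function.comp_apply, Fin.revPerm_apply, Fin.val_rev]
    have := i.2
    omega
  have h2 : (fun i : Fin r => (i : ℕ)) = (fun i : Fin r => (r - 1) - (r - 1 - (i : ℕ))) := by
    funext i
    have := i.2
    omega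
  have h3 : D z (fun i : Fin r => (i : ℕ)) = s * Δ := by
    rw [h1, D_comp_perm]
  have h4 : D z (fun i : Fin r => (i : ℕ)) = (∏ j, z j ^ (r - 1)) * (starRingEnd ℂ) Δ := by
    rw [h2, D_sub z hz1 (r - 1) _ (fun i => by omega)]
  have h5 : ((Complex.normSq Δ : ℝ) : ℂ) = Δ * (starRingEnd ℂ) Δ := (Complex.mul_conj Δ).symm
  rw [h5]
  calc Δ ^ 2 = (s * s) * Δ * Δ := by rw [hss]; ring
    _ = s * (s * Δ) * Δ := by ring
    _ = s * ((∏ j, z j ^ (r - 1)) * (starRingEnd ℂ) Δ) * Δ := by rw [← h3, h4]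
    _ = s * (∏ j, z j ^ (r - 1)) * (Δ * (starRingEnd ℂ) Δ) := by ring

theorem normSq_D_rho_eq_sin (v : Fin r → Fin n) :
    Complex.normSq (D (fun j => Complex.exp (2 * Real.pi * Complex.I / (n : ℂ)) ^ (v j : ℕ))
      (fun i => r - 1 - (i : ℕ))) =
    ∏ p ∈ (Finset.univ : Finset (Fin r × Fin r)).filter (fun p => p.1 < p.2),
      (2 * Real.sin (Real.pi * (((v p.1 : ℕ) : ℝ) - ((v p.2 : ℕ) : ℝ)) / n)) ^ 2 := by
  rw [normSq_D_rho]
  have h1 := Verlinde.F_eq_sin (n := n) v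
  rw [Verlinde.F, Verlinde.Vd] at h1
  exact h1

theorem sum_rho (r : ℕ) : (∑ i : Fin r, (r - 1 - (i : ℕ))) * 2 = r * (r - 1) := by
  have h1 : ∑ i : Fin r, (r - 1 - (i : ℕ)) = ∑ i : Fin r, (i : ℕ) := by
    refine Fintype.sum_equiv Fin.revPerm _ _ fun i => ?_
    simp only [Fin.revPerm_apply, Fin.val_rev]
    have := i.2
    omega
  rw [h1, Fin.sum_univ_eq_sum_range (fun i => i) r, Finset.sum_range_id_mul_two]

theorem strictAnti_add_rho (lam : Fin r → ℕ) (hlam : Antitone lam) :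
    StrictAnti (fun i : Fin r => lam i + (r - 1 - (i : ℕ))) := by
  intro i j hij
  have h1 := hlam (le_of_lt hij)
  have h2 : (i : ℕ) < (j : ℕ) := hij
  have h3 := j.2
  simp only
  omega


theorem zeta_pow_injective (hn : n ≠ 0) (v : Fin r → Fin n) (hv : Injective v) :
    Injective (fun j => Complex.exp (2 * Real.pi * Complex.I / (n : ℂ)) ^ (v j : ℕ)) := by
  intro a b hab
  have hζ : IsPrimitiveRoot (Complex.exp (2 * Real.pi * Complex.I / (n : ℂ))) n :=
    Complex.isPrimitiveRoot_exp _ hn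
  exact hv (Fin.ext (hζ.pow_inj (v a).2 (v b).2 hab))

theorem norm_zeta_pow (hn : n ≠ 0) (m : ℕ) :
    ‖Complex.exp (2 * Real.pi * Complex.I / (n : ℂ)) ^ m‖ = 1 := by
  have hζ : IsPrimitiveRoot (Complex.exp (2 * Real.pi * Complex.I / (n : ℂ))) n :=
    Complex.isPrimitiveRoot_exp _ hn
  rw [norm_pow, hζ.norm'_eq_one hn, one_pow]

/-- the summand of the two-point genus-zero Verlinde number, in normalised form -/
theorem schur_pair_term (hn : n ≠ 0) (hr : 1 ≤ r) (lam lam' : Fin r → ℕ) (v : Fin r → Fin n)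
    (hv : Injective v) :
    Complex.exp (-(2 * Real.pi * Complex.I * (((∑ i, lam i) + (∑ i, lam' i) : ℕ) : ℂ) *
        ((∑ j, (v j : ℕ) : ℕ) : ℂ) / ((r : ℂ) * (n : ℂ)))) *
      (D (fun j => Complex.exp (2 * Real.pi * Complex.I / (n : ℂ)) ^ (v j : ℕ))
          (fun i => lam i + (r - 1 - (i : ℕ))) /
        D (fun j => Complex.exp (2 * Real.pi * Complex.I / (n : ℂ)) ^ (v j : ℕ))
          (fun i => r - 1 - (i : ℕ))) *
      (D (fun j => Complex.exp (2 * Real.pi * Complex.I / (n : ℂ)) ^ (v j : ℕ))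
          (fun i => lam' i + (r - 1 - (i : ℕ))) /
        D (fun j => Complex.exp (2 * Real.pi * Complex.I / (n : ℂ)) ^ (v j : ℕ))
          (fun i => r - 1 - (i : ℕ))) *
      ((Complex.normSq (D (fun j => Complex.exp (2 * Real.pi * Complex.I / (n : ℂ)) ^ (v j : ℕ))
          (fun i => r - 1 - (i : ℕ))) : ℝ) : ℂ) =
    (((Equiv.Perm.sign (Fin.revPerm : Equiv.Perm (Fin r)) : ℤˣ) : ℤ) : ℂ) *
      X (Complex.exp (-(2 * Real.pi * Complex.I *
          ((∑ j, (lam j + (r - 1 - (j : ℕ))) + ∑ j, (lam' j + (r - 1 - (j : ℕ))) : ℕ) : ℂ) /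
          ((r : ℂ) * (n : ℂ)))))
        (fun j => Complex.exp (2 * Real.pi * Complex.I / (n : ℂ)) ^ (lam j + (r - 1 - (j : ℕ))))
        (fun j => Complex.exp (2 * Real.pi * Complex.I / (n : ℂ)) ^ (lam' j + (r - 1 - (j : ℕ))))
        v := by
  set ζ := Complex.exp (2 * Real.pi * Complex.I / (n : ℂ)) with hζdef
  set zv : Fin r → ℂ := fun j => ζ ^ (v j : ℕ) with hzv
  set Δ := D zv (fun i => r - 1 - (i : ℕ)) with hΔ
  set s : ℂ := (((Equiv.Perm.sign (Fin.revPerm : Equiv.Perm (Fin r)) : ℤˣ) : ℤ) : ℂ) with hs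
  have hss : s * s = 1 := sign_mul_self _
  have hs0 : s ≠ 0 := by
    intro h
    rw [h, zero_mul] at hss
    exact zero_ne_one hss
  have hn0 : (n : ℂ) ≠ 0 := Nat.cast_ne_zero.2 hn
  have hr0 : (r : ℂ) ≠ 0 := Nat.cast_ne_zero.2 (by omega)
  have hz1 : ∀ j, ‖zv j‖ = 1 := fun j => norm_zeta_pow hn _
  have hΔ0 : Δ ≠ 0 := D_rho_ne_zero zv (zeta_pow_injective hn v hv)
  have hN0 : ((Complex.normSq Δ : ℝ) : ℂ) ≠ 0 := by
    rw [Ne, Complex.ofReal_eq_zero, Complex.normSq_eq_zero]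
    exact hΔ0
  have hsq := D_rho_sq zv hz1
  rw [← hΔ, ← hs] at hsq
  have hζ0 : ζ ≠ 0 := Complex.exp_ne_zero _
  have hQz : (∏ j, zv j ^ (r - 1)) = ζ ^ ((r - 1) * ∑ j, (v j : ℕ)) := by
    simp only [hzv]
    simp_rw [← pow_mul]
    rw [Finset.prod_pow_eq_pow_sum, ← Finset.sum_mul, mul_comm]
  have hQz0 : (∏ j, zv j ^ (r - 1)) ≠ 0 := by
    rw [hQz]
    exact pow_ne_zero _ hζ0
  have hDa : D (fun j => ζ ^ (lam j + (r - 1 - (j : ℕ)))) (fun i => (v i : ℕ)) =
      D zv (fun i => lam i + (r - 1 - (i : ℕ))) := (D_swap ζ _ _).symm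
  have hDb : D (fun j => ζ ^ (lam' j + (r - 1 - (j : ℕ)))) (fun i => (v i : ℕ)) =
      D zv (fun i => lam' i + (r - 1 - (i : ℕ))) := (D_swap ζ _ _).symm
  rw [X, hDa, hDb]
  -- the exponent identity
  have hcast : ((∑ j, (lam j + (r - 1 - (j : ℕ))) + ∑ j, (lam' j + (r - 1 - (j : ℕ))) : ℕ) : ℂ) =
      (((∑ i, lam i) + (∑ i, lam' i) : ℕ) : ℂ) + (r : ℂ) * ((r : ℂ) - 1) := by
    have h1 : ∑ j : Fin r, (lam j + (r - 1 - (j : ℕ))) + ∑ j : Fin r, (lam' j + (r - 1 - (j : ℕ))) =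
        (∑ i, lam i) + (∑ i, lam' i) + r * (r - 1) := by
      rw [Finset.sum_add_distrib, Finset.sum_add_distrib, ← sum_rho r]
      ring
    rw [h1]
    push_cast
    rw [Nat.cast_sub hr]
    push_cast
    ring
  have hE : Complex.exp (-(2 * Real.pi * Complex.I * (((∑ i, lam i) + (∑ i, lam' i) : ℕ) : ℂ) *
        ((∑ j, (v j : ℕ) : ℕ) : ℂ) / ((r : ℂ) * (n : ℂ)))) =
      (∏ j, zv j ^ (r - 1)) *
      Complex.exp (-(2 * Real.pi * Complex.I *
          ((∑ j, (lam j + (r - 1 - (j : ℕ))) + ∑ j, (lam' j + (r - 1 - (j : ℕ))) : ℕ) : ℂ) /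
          ((r : ℂ) * (n : ℂ)))) ^ (∑ i, (v i : ℕ)) := by
    rw [hQz, hcast, hζdef, ← Complex.exp_nat_mul, ← Complex.exp_nat_mul, ← Complex.exp_add]
    congr 1
    push_cast
    rw [Nat.cast_sub hr]
    push_cast
    field_simp
    ring
  rw [hE]
  have hfin : ∀ x y : ℂ, (∏ j, zv j ^ (r - 1)) * y * (x / (s * (∏ j, zv j ^ (r - 1)) *
      ((Complex.normSq Δ : ℝ) : ℂ))) * ((Complex.normSq Δ : ℝ) : ℂ) = s * (y * x) := by
    intro x y
    field_simp
    linear_combination (-(x * y)) * hss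
  rw [← hfin, ← hsq]
  ring


/-! ### The dual sum (over partitions) -/

theorem D_comp_points (w : Fin r → ℂ) (e : Fin r → ℕ) (σ : Equiv.Perm (Fin r)) :
    D (w ∘ σ) e = (((Equiv.Perm.sign σ : ℤˣ) : ℤ) : ℂ) * D w e := by
  rw [D, D, ← det_permute']
  congr 1

theorem D_smul (c : ℂ) (w : Fin r → ℂ) (e : Fin r → ℕ) :
    D (fun j => c * w j) e = c ^ (∑ i, e i) * D w e := by
  rw [D, D, ← Finset.prod_pow_eq_pow_sum, ← det_mul_column]
  congr 1
  ext i j
  simp only [of_apply, mul_pow]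

/-- shift a partition in the `r × k` box to a strictly antitone exponent vector -/
def shiftμ {k : ℕ} (μ : Fin r → Fin (k + 1)) : Fin r → Fin (r + k) :=
  fun i => ⟨(μ i : ℕ) + (r - 1 - (i : ℕ)), by have := (μ i).2; have := i.2; omega⟩

theorem sum_filter_eq_sum_I (k : ℕ) (hr : 1 ≤ r) (F : (Fin r → Fin (r + k)) → ℂ) :
    ∑ μ ∈ (Finset.univ : Finset (Fin r → Fin (k + 1))).filter
        (fun μ : Fin r → Fin (k + 1) => Antitone μ ∧ ∀ i : Fin r, (i : ℕ) = r - 1 → (μ i : ℕ) = 0),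
      F (shiftμ μ) = ∑ u ∈ I r (r + k), F u := by
  classical
  have h0 : 0 < r := by omega
  have hlast : (r - 1 : ℕ) < r := by omega
  have key : ∀ u : Fin r → Fin (r + k), u ∈ I r (r + k) → ∀ i : Fin r,
      r - 1 - (i : ℕ) ≤ (u i : ℕ) ∧ (u i : ℕ) - (r - 1 - (i : ℕ)) < k + 1 := by
    intro u hu i
    have hl := (Finset.mem_filter.1 hu).2.1
    have h1 := strictAnti_gap u hl (i : ℕ) ⟨0, h0⟩ i (by simp)
    have h2 := (u ⟨0, h0⟩).2
    have h3 := i.2
    have h4 := strictAnti_gap u hl (r - 1 - (i : ℕ)) i ⟨r - 1, hlast⟩ (by simp only; omega)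
    constructor
    · omega
    · omega
  refine Finset.sum_bij' (fun μ _ => shiftμ μ)
    (fun u hu => fun i => (⟨(u i : ℕ) - (r - 1 - (i : ℕ)), (key u hu i).2⟩ : Fin (k + 1)))
    ?_ ?_ ?_ ?_ ?_
  · intro μ hμ
    simp only [Finset.mem_filter, Finset.mem_univ, true_and] at hμ
    rw [I, Finset.mem_filter]
    refine ⟨Finset.mem_univ _, ?_, ?_⟩
    · intro a b hab
      rw [Fin.lt_def]
      simp only [shiftμ]
      have h1 : (μ b : ℕ) ≤ (μ a : ℕ) := hμ.1 (le_of_lt hab)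
      have h2 : (a : ℕ) < (b : ℕ) := hab
      have := b.2
      omega
    · intro i hi
      simp only [shiftμ]
      rw [hμ.2 i hi, hi]
      omega
  · intro u hu
    have hl := (Finset.mem_filter.1 hu).2.1
    have hz := (Finset.mem_filter.1 hu).2.2
    simp only [Finset.mem_filter, Finset.mem_univ, true_and]
    refine ⟨?_, ?_⟩
    · intro a b hab
      rw [Fin.le_def]
      simp only
      have h1 := strictAnti_gap u hl ((b : ℕ) - (a : ℕ)) a b (by
        have : (a : ℕ) ≤ (b : ℕ) := hab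
        omega)
      have h2 := (key u hu b).1
      have h3 : (a : ℕ) ≤ (b : ℕ) := hab
      have := b.2
      omega
    · intro i hi
      show (u i : ℕ) - (r - 1 - (i : ℕ)) = 0
      rw [hz i hi]
      omega
  · intro μ _
    funext i
    apply Fin.ext
    simp [shiftμ]
  · intro u hu
    funext i
    apply Fin.ext
    simp only [shiftμ]
    have := (key u hu i).1
    omega
  · intro μ _
    rfl


/-- the summand of the dual orthogonality sum, in normalised form -/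
theorem schur_dual_term (k : ℕ) (hr : 1 ≤ r) (v v' : Fin r → ℕ)
    (hv'lt : ∀ i, v' i < r + k) :
    ∃ C : ℂ, ∀ μ : Fin r → Fin (k + 1),
      Complex.exp (-(2 * Real.pi * Complex.I * ((∑ i, (μ i : ℕ) : ℕ) : ℂ) *
          ((∑ j, v j : ℕ) : ℂ) / ((r : ℂ) * ((r + k : ℕ) : ℂ)))) *
      Complex.exp (-(2 * Real.pi * Complex.I * ((∑ i, (k - (μ (Fin.rev i) : ℕ)) : ℕ) : ℂ) *
          ((∑ j, v' j : ℕ) : ℂ) / ((r : ℂ) * ((r + k : ℕ) : ℂ)))) *
      (D (fun j => Complex.exp (2 * Real.pi * Complex.I / ((r + k : ℕ) : ℂ)) ^ v j)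
          (fun i => (μ i : ℕ) + (r - 1 - (i : ℕ))) /
        D (fun j => Complex.exp (2 * Real.pi * Complex.I / ((r + k : ℕ) : ℂ)) ^ v j)
          (fun i => r - 1 - (i : ℕ))) *
      (D (fun j => Complex.exp (2 * Real.pi * Complex.I / ((r + k : ℕ) : ℂ)) ^ v' j)
          (fun i => k - (μ (Fin.rev i) : ℕ) + (r - 1 - (i : ℕ))) /
        D (fun j => Complex.exp (2 * Real.pi * Complex.I / ((r + k : ℕ) : ℂ)) ^ v' j)
          (fun i => r - 1 - (i : ℕ))) =
      C * X (Complex.exp (-(2 * Real.pi * Complex.I *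
          ((∑ j, v j + ∑ j, (r + k - 1 - v' (Fin.rev j)) : ℕ) : ℂ) /
          ((r : ℂ) * ((r + k : ℕ) : ℂ)))))
        (fun j => Complex.exp (2 * Real.pi * Complex.I / ((r + k : ℕ) : ℂ)) ^ v j)
        (fun j => Complex.exp (2 * Real.pi * Complex.I / ((r + k : ℕ) : ℂ)) ^
          (r + k - 1 - v' (Fin.rev j)))
        (shiftμ μ) := by
  have hn : r + k ≠ 0 := by omega
  set ζ := Complex.exp (2 * Real.pi * Complex.I / ((r + k : ℕ) : ℂ)) with hζdef
  have hζ : IsPrimitiveRoot ζ (r + k) := Complex.isPrimitiveRoot_exp _ hn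
  have hζ0 : ζ ≠ 0 := hζ.ne_zero hn
  set z : Fin r → ℂ := fun j => ζ ^ v j with hz
  set z' : Fin r → ℂ := fun j => ζ ^ v' j with hz'
  set w : Fin r → ℂ := fun j => ζ ^ (r + k - 1 - v' j) with hw
  set sg : ℂ := (((Equiv.Perm.sign (Fin.revPerm : Equiv.Perm (Fin r)) : ℤˣ) : ℤ) : ℂ) with hsg
  have hss : sg * sg = 1 := sign_mul_self _
  have hzp : (fun j => ζ ^ (r + k - 1 - v' (Fin.rev j))) = w ∘ Fin.revPerm := rfl
  have hz'1 : ∀ j, ‖z' j‖ = 1 := fun j => norm_zeta_pow hn _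
  have hconj : (fun j => (starRingEnd ℂ) (z' j)) = fun j => ζ * w j := by
    funext j
    have h1 : z' j * (starRingEnd ℂ) (z' j) = 1 := by
      rw [Complex.mul_conj, Complex.normSq_eq_norm_sq, hz'1]
      simp
    have h2 : z' j * (ζ * w j) = 1 := by
      simp only [hz', hw]
      rw [← pow_succ', ← pow_add]
      have : v' j + (r + k - 1 - v' j + 1) = r + k := by
        have := hv'lt j
        omega
      rw [this, hζ.pow_eq_one]
    have hz'0 : z' j ≠ 0 := pow_ne_zero _ hζ0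
    exact mul_left_cancel₀ hz'0 (h1.trans h2.symm)
  set Rho : ℕ := ∑ i : Fin r, (r - 1 - (i : ℕ)) with hRho
  set V : ℂ := ((∑ j, v j : ℕ) : ℂ) with hV
  set V' : ℂ := ((∑ j, v' j : ℕ) : ℂ) with hV'
  set N : ℂ := ((r + k : ℕ) : ℂ) with hN
  have hN0 : N ≠ 0 := Nat.cast_ne_zero.2 hn
  have hr0 : (r : ℂ) ≠ 0 := Nat.cast_ne_zero.2 (by omega)
  have hQc : ((∑ j, v j + ∑ j, (r + k - 1 - v' (Fin.rev j)) : ℕ) : ℂ) =
      V + (r : ℂ) * (N - 1) - V' := by
    have h1 : ∑ j : Fin r, (r + k - 1 - v' (Fin.rev j)) = ∑ j : Fin r, (r + k - 1 - v' j) :=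
      Fintype.sum_equiv Fin.revPerm _ _ (fun i => rfl)
    have h2 : ∑ j : Fin r, (r + k - 1 - v' j) + ∑ j, v' j = r * (r + k - 1) := by
      rw [← Finset.sum_add_distrib]
      have : ∀ j : Fin r, r + k - 1 - v' j + v' j = r + k - 1 := by
        intro j
        have := hv'lt j
        omega
      simp_rw [this]
      rw [Finset.sum_const, Finset.card_univ, Fintype.card_fin, smul_eq_mul]
    have h3 : ((∑ j : Fin r, (r + k - 1 - v' j) : ℕ) : ℂ) = (r : ℂ) * (N - 1) - V' := by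
      have h4 : ((∑ j : Fin r, (r + k - 1 - v' j) + ∑ j, v' j : ℕ) : ℂ) =
          ((r * (r + k - 1) : ℕ) : ℂ) := congrArg _ h2
      rw [Nat.cast_add, Nat.cast_mul, Nat.cast_sub (by omega : 1 ≤ r + k), Nat.cast_one] at h4
      rw [eq_sub_iff_add_eq]
      exact h4
    rw [Nat.cast_add, h1, h3, hV]
    ring
  refine ⟨Complex.exp (2 * Real.pi * Complex.I * ((Rho : ℂ) * (V - V') - (r : ℂ) * k * V') /
      ((r : ℂ) * N)) * (∏ j, z' j ^ (r + k - 1)) /
      (D z (fun i => r - 1 - (i : ℕ)) * D z' (fun i => r - 1 - (i : ℕ))), fun μ => ?_⟩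
  have hstar : (fun i : Fin r => k - (μ (Fin.rev i) : ℕ) + (r - 1 - (i : ℕ))) =
      (fun i : Fin r => (r + k - 1) - ((μ i : ℕ) + (r - 1 - (i : ℕ)))) ∘ Fin.revPerm := by
    funext i
    simp only [Function.comp_apply, Fin.revPerm_apply, Fin.val_rev]
    have := (μ (Fin.rev i)).2
    have := i.2
    omega
  have hD' : D z' (fun i : Fin r => k - (μ (Fin.rev i) : ℕ) + (r - 1 - (i : ℕ))) =
      (∏ j, z' j ^ (r + k - 1)) * (ζ ^ (∑ i, ((μ i : ℕ) + (r - 1 - (i : ℕ)))) *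
        D (w ∘ Fin.revPerm) (fun i => (μ i : ℕ) + (r - 1 - (i : ℕ)))) := by
    rw [hstar, D_comp_perm, D_sub z' hz'1 (r + k - 1) _ (fun i => by
      have := (μ i).2; have := i.2; omega), conj_D, hconj, D_smul, D_comp_points, ← hsg]
    calc sg * ((∏ j, z' j ^ (r + k - 1)) * (ζ ^ (∑ i, ((μ i : ℕ) + (r - 1 - (i : ℕ)))) *
          D w (fun i => (μ i : ℕ) + (r - 1 - (i : ℕ))))) =
        (∏ j, z' j ^ (r + k - 1)) * (ζ ^ (∑ i, ((μ i : ℕ) + (r - 1 - (i : ℕ)))) *
          (sg * D w (fun i => (μ i : ℕ) + (r - 1 - (i : ℕ))))) := by ring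
      _ = _ := rfl
  -- the exponent identity
  set M : ℂ := ((∑ i, (μ i : ℕ) : ℕ) : ℂ) with hM
  have hMs : ((∑ i, (k - (μ (Fin.rev i) : ℕ)) : ℕ) : ℂ) = (r : ℂ) * k - M := by
    have h1 : ∑ i : Fin r, (k - (μ (Fin.rev i) : ℕ)) = ∑ i : Fin r, (k - (μ i : ℕ)) :=
      Fintype.sum_equiv Fin.revPerm _ _ (fun i => rfl)
    have h2 : ∑ i : Fin r, (k - (μ i : ℕ)) + ∑ i, (μ i : ℕ) = r * k := by
      rw [← Finset.sum_add_distrib]
      have : ∀ i : Fin r, k - (μ i : ℕ) + (μ i : ℕ) = k := by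
        intro i
        have := (μ i).2
        omega
      simp_rw [this]
      rw [Finset.sum_const, Finset.card_univ, Fintype.card_fin, smul_eq_mul]
    have := congrArg (fun x : ℕ => (x : ℂ)) h2
    simp only [Nat.cast_add, Nat.cast_mul] at this
    rw [h1, hM, ← this]
    ring
  have hU : ((∑ i, ((μ i : ℕ) + (r - 1 - (i : ℕ))) : ℕ) : ℂ) = M + Rho := by
    rw [Finset.sum_add_distrib, Nat.cast_add]
  have hexp : Complex.exp (-(2 * Real.pi * Complex.I * M * V / ((r : ℂ) * N))) *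
      Complex.exp (-(2 * Real.pi * Complex.I *
        ((∑ i, (k - (μ (Fin.rev i) : ℕ)) : ℕ) : ℂ) * V' / ((r : ℂ) * N))) *
      ζ ^ (∑ i, ((μ i : ℕ) + (r - 1 - (i : ℕ)))) =
      Complex.exp (2 * Real.pi * Complex.I * ((Rho : ℂ) * (V - V') - (r : ℂ) * k * V') /
        ((r : ℂ) * N)) *
      Complex.exp (-(2 * Real.pi * Complex.I *
          ((∑ j, v j + ∑ j, (r + k - 1 - v' (Fin.rev j)) : ℕ) : ℂ) / ((r : ℂ) * N))) ^
        (∑ i, ((μ i : ℕ) + (r - 1 - (i : ℕ)))) := by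
    rw [hζdef, ← Complex.exp_nat_mul, ← Complex.exp_nat_mul, ← Complex.exp_add, ← Complex.exp_add,
      ← Complex.exp_add, hMs, hQc, hU]
    have hUz : (((∑ i, ((μ i : ℕ) + (r - 1 - (i : ℕ))) : ℕ) : ℤ) : ℂ) = M + Rho := by
      rw [Int.cast_natCast]
      exact hU
    refine Complex.exp_eq_exp_iff_exists_int.2
      ⟨((∑ i, ((μ i : ℕ) + (r - 1 - (i : ℕ))) : ℕ) : ℤ), ?_⟩
    rw [hUz]
    field_simp
    ring
  rw [hD', ← hzp]
  rw [X]
  have hu : (fun i => ((shiftμ μ i : Fin (r + k)) : ℕ)) = fun i => (μ i : ℕ) + (r - 1 - (i : ℕ)) :=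
    rfl
  rw [hu]
  calc _ = (Complex.exp (-(2 * Real.pi * Complex.I * M * V / ((r : ℂ) * N))) *
      Complex.exp (-(2 * Real.pi * Complex.I *
        ((∑ i, (k - (μ (Fin.rev i) : ℕ)) : ℕ) : ℂ) * V' / ((r : ℂ) * N))) *
      ζ ^ (∑ i, ((μ i : ℕ) + (r - 1 - (i : ℕ))))) * ((∏ j, z' j ^ (r + k - 1)) /
      (D z (fun i => r - 1 - (i : ℕ)) * D z' (fun i => r - 1 - (i : ℕ)))) *
      (D z (fun i => (μ i : ℕ) + (r - 1 - (i : ℕ))) *
        D (fun j => ζ ^ (r + k - 1 - v' (Fin.rev j))) (fun i => (μ i : ℕ) + (r - 1 - (i : ℕ)))) := by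
        ring
    _ = _ := by
        rw [hexp]
        ring

end Groth.Agent.Helper5.TwistOrth
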