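import Mathlib
import Groth.Prelude.Def_WeilCoh
import Groth.Agent.Lib.Helper5.Misc.WeilLib

set_option autoImplicit false
universe u v w
open CategoryTheory AlgebraicGeometry
open WeilCoh

namespace Groth.Agent.Lib.Helper5.Misc.WeilKun

open Groth.Agent.Lib.Helper5.Misc.WeilLib

variable {k : Type u} [Field k] {P : ObjectProperty (Over (Spec (CommRingCat.of k)))}
variable {K : Type v} [Field K] (T : TheoryOn.{u, v, w} k P K)

lemma iSup_gr (X : P.FullSubcategory) : ⨆ i, T.gr X i = ⊤ :=
  (T.decomp X).submodule_iSup_eq_top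

/-- A linear map vanishing on all homogeneous elements vanishes. -/
lemma linearMap_eq_zero_of_gr {X : P.FullSubcategory} {M : Type*} [AddCommGroup M] [Module K M]
    (φ : T.H X →ₗ[K] M) (h : ∀ i, ∀ a ∈ T.gr X i, φ a = 0) : φ = 0 := by
  have h1 : ∀ i, T.gr X i ≤ LinearMap.ker φ := fun i a ha => LinearMap.mem_ker.mpr (h i a ha)
  have h2 : (⊤ : Submodule K (T.H X)) ≤ LinearMap.ker φ := by
    rw [← iSup_gr T X]; exact iSup_le h1
  ext a
  exact LinearMap.mem_ker.mp (h2 Submodule.mem_top)

include T in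
/-- Dimension of a product. -/
lemma dim_prod {X Y Q : P.FullSubcategory} (p : Q ⟶ X) (q : Q ⟶ Y) (hQ : IsProd p q) :
    d Q = d X + d Y := by
  obtain ⟨a, ha, ha1⟩ := exists_top T X
  obtain ⟨b, hb, hb1⟩ := exists_top T Y
  have h1 := T.tr_prod p q hQ a b ha hb
  rw [ha1, hb1, mul_one] at h1
  by_contra hne
  have h2 := T.tr_vanish Q (2 * d X + 2 * d Y) (T.pull p a * T.pull q b)
    (SetLike.mul_mem_graded (T.pull_mem p _ a ha) (T.pull_mem q _ b hb)) (by
      intro h; apply hne; linarith)
  rw [h1] at h2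
  exact one_ne_zero h2

/-- Trace of a product class, for homogeneous classes. -/
lemma tr_prod_gr {X Y Q : P.FullSubcategory} (p : Q ⟶ X) (q : Q ⟶ Y) (hQ : IsProd p q)
    {i j : ℤ} {a : T.H X} {b : T.H Y} (ha : a ∈ T.gr X i) (hb : b ∈ T.gr Y j) :
    T.tr Q (T.pull p a * T.pull q b) = T.tr X a * T.tr Y b := by
  by_cases hi : i = 2 * d X
  · by_cases hj : j = 2 * d Y
    · subst hi hj; exact T.tr_prod p q hQ a b ha hb
    · rw [T.tr_vanish Y j b hb hj, mul_zero]
      by_cases hij : i + j = 2 * d Q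
      · rw [dim_prod T p q hQ] at hij
        exact absurd (by linarith) hj
      · exact T.tr_vanish Q (i + j) _
          (SetLike.mul_mem_graded (T.pull_mem p _ a ha) (T.pull_mem q _ b hb)) hij
  · rw [T.tr_vanish X i a ha hi, zero_mul]
    by_cases hij : i + j = 2 * d Q
    · rw [dim_prod T p q hQ] at hij
      rcases lt_or_gt_of_ne hi with h | h
      · have hj : 2 * d Y < j := by linarith
        have : b = 0 := by
          have := T.vanish Y j (Or.inr hj)
          rw [this] at hb; exact (Submodule.mem_bot K).mp hb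
        rw [this, map_zero, mul_zero, map_zero]
      · have : a = 0 := by
          have := T.vanish X i (Or.inr h)
          rw [this] at ha; exact (Submodule.mem_bot K).mp ha
        rw [this, map_zero, zero_mul, map_zero]
    · exact T.tr_vanish Q (i + j) _
        (SetLike.mul_mem_graded (T.pull_mem p _ a ha) (T.pull_mem q _ b hb)) hij

/-- A functional on `H Q` vanishing on products of homogeneous pulled-back classes vanishes. -/
lemma functional_eq_zero {X Y Q : P.FullSubcategory} (p : Q ⟶ X) (q : Q ⟶ Y) (hQ : IsProd p q)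
    (φ : T.H Q →ₗ[K] K)
    (h : ∀ i j, ∀ a ∈ T.gr X i, ∀ b ∈ T.gr Y j, φ (T.pull p a * T.pull q b) = 0) : φ = 0 := by
  have hsurj := (T.kunneth p q hQ).2
  have h0 : φ ∘ₗ kunnethMap K (T.pull p) (T.pull q) = 0 := by
    apply TensorProduct.ext'
    intro a b
    show φ (T.pull p a * T.pull q b) = 0
    -- first in `a`
    have hb : ∀ j, ∀ b' ∈ T.gr Y j, ∀ a' : T.H X, φ (T.pull p a' * T.pull q b') = 0 := by
      intro j b' hb' a'
      have := linearMap_eq_zero_of_gr T
        (φ ∘ₗ (LinearMap.mulRight K (T.pull q b')) ∘ₗ (T.pull p).toLinearMap)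
        (fun i a'' ha'' => h i j a'' ha'' b' hb')
      exact LinearMap.congr_fun this a'
    have := linearMap_eq_zero_of_gr T
      (φ ∘ₗ (LinearMap.mulLeft K (T.pull p a)) ∘ₗ (T.pull q).toLinearMap)
      (fun j b' hb' => hb j b' hb' a)
    exact LinearMap.congr_fun this b
  ext u
  obtain ⟨t, rfl⟩ := hsurj u
  exact LinearMap.congr_fun h0 t

/-- Extensionality for homogeneous classes on a product. -/
lemma ext_prod {X Y Q : P.FullSubcategory} (p : Q ⟶ X) (q : Q ⟶ Y) (hQ : IsProd p q)
    {m : ℤ} {u u' : T.H Q} (hu : u ∈ T.gr Q m) (hu' : u' ∈ T.gr Q m)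
    (h : ∀ i j, ∀ a ∈ T.gr X i, ∀ b ∈ T.gr Y j,
      T.tr Q (u * (T.pull p a * T.pull q b)) = T.tr Q (u' * (T.pull p a * T.pull q b))) :
    u = u' := by
  have h0 := functional_eq_zero T p q hQ
    ((T.tr Q) ∘ₗ (LinearMap.mulLeft K (u - u')))
    (fun i j a ha b hb => by
      show T.tr Q ((u - u') * (T.pull p a * T.pull q b)) = 0
      rw [sub_mul, map_sub, h i j a ha b hb, sub_self])
  refine eq_of_tr_mul_eq T (m := m) (n := 2 * d Q - m) (by ring) hu hu' ?_
  intro v _
  have := LinearMap.congr_fun h0 v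
  have h2 : T.tr Q ((u - u') * v) = 0 := this
  rw [sub_mul, map_sub, sub_eq_zero] at h2
  exact h2

/-- Classes of even degree are central. -/
lemma comm_of_even {X : P.FullSubcategory} {i j : ℤ} {a b : T.H X} (ha : a ∈ T.gr X (2 * i))
    (hb : b ∈ T.gr X j) : a * b = b * a := by
  have h := T.gradedComm X (2 * i) j a b ha hb
  have he : Even ((2 * i).natAbs * j.natAbs) := by
    apply Even.mul_right
    rw [Int.natAbs_mul]
    exact Even.mul_right (by decide) _
  rw [he.neg_one_pow, one_smul] at h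
  exact h

end Groth.Agent.Lib.Helper5.Misc.WeilKun
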