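import Mathlib
import Groth.Prelude.Def_WeilCoh
import Groth.Agent.Lib.Helper5.Misc.WeilGeo
import Groth.Agent.Lib.Helper5.Misc.WeilKun

set_option autoImplicit false
universe u v w
open CategoryTheory AlgebraicGeometry
open WeilCoh

namespace Groth.Agent.Lib.Helper5.Misc.WeilGraph

open Groth.Agent.Lib.Helper5.Misc.WeilLib Groth.Agent.Lib.Helper5.Misc.WeilKun
open Groth.Agent.Lib.Helper5.Misc.WeilPt Groth.Agent.Lib.Helper5.Misc.WeilGen
open Groth.Agent.Lib.Helper5.Misc.WeilGeo

variable {k : Type u} [Field k] {K : Type v} [Field K] (T : TheoryOn.{u, v, w} k (IsVar k) K)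

/-- `p_* q^* a` on a product. -/
theorem push_fst_pull_snd {X Y Q : Var k} (p : Q ⟶ X) (q : Q ⟶ Y) (hQ : IsProd p q) (i : ℤ)
    (a : T.gr Y i) :
    (i = 2 * (dim Y.obj.left : ℤ) →
      (T.push p i ⟨T.pull q a, T.pull_mem q i a a.2⟩ : T.H X) = algebraMap K (T.H X) (T.tr Y a)) ∧
    (i ≠ 2 * (dim Y.obj.left : ℤ) →
      (T.push p i ⟨T.pull q a, T.pull_mem q i a a.2⟩ : T.H X) = 0) := by
  have hdim := dim_prod T p q hQ
  have key : ∀ b ∈ T.gr X (2 * d Q - i), T.tr Q (T.pull q (a : T.H Y) * T.pull p b) =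
      (-1 : K) ^ (i.natAbs * (2 * d Q - i).natAbs) * (T.tr X b * T.tr Y a) := by
    intro b hb
    rw [T.gradedComm Q i (2 * d Q - i) _ _ (T.pull_mem q i a a.2) (T.pull_mem p _ b hb), map_smul,
      tr_prod_gr T p q hQ hb a.2, smul_eq_mul]
  constructor
  · intro hi
    refine push_eq_of_tr T p i _ (m := 0) (by rw [hdim, hi]; ring) ?_ ?_
    · rw [Algebra.algebraMap_eq_smul_one]
      exact Submodule.smul_mem _ _ (one_mem T X)
    · intro b hb
      show T.tr X (_ * b) = T.tr Q (T.pull q (a : T.H Y) * T.pull p b)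
      rw [key b hb, Algebra.algebraMap_eq_smul_one, smul_mul_assoc, one_mul, map_smul, smul_eq_mul]
      have he : Even (i.natAbs * (2 * d Q - i).natAbs) := by
        apply Even.mul_right
        rw [hi, Int.natAbs_mul]
        exact Even.mul_right (by decide) _
      rw [he.neg_one_pow, one_mul, mul_comm]
  · intro hi
    refine push_eq_of_tr T p i _ (m := i + 2 * d X - 2 * d Q) rfl (Submodule.zero_mem _) ?_
    intro b hb
    show T.tr X (0 * b) = T.tr Q (T.pull q (a : T.H Y) * T.pull p b)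
    rw [key b hb, T.tr_vanish Y i a a.2 hi, mul_zero, mul_zero, zero_mul, map_zero]

lemma pull_pull {X Y Z : Var k} (f : X ⟶ Y) (g : Y ⟶ Z) (a : T.H Z) :
    T.pull f (T.pull g a) = T.pull (f ≫ g) a := by
  rw [T.pull_comp]; rfl

lemma pull_id_apply {X : Var k} (a : T.H X) : T.pull (𝟙 X) a = a := by
  rw [T.pull_id]; rfl

/-- Pairing with the class of the image of a point under a section. -/
lemma tr_cl_section {X P : Var k} (j : X ⟶ P) (p : P ⟶ X) (h : j ≫ p = 𝟙 X) (ξ : ↥X.obj.left)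
    {c : T.H P} (hc : c ∈ T.gr P (2 * (pdim X.obj.left ξ : ℤ))) :
    T.tr P (T.cl P (sm j ξ) * c) = T.tr X (T.cl X ξ * T.pull j c) := by
  have := T.cl_push j ξ c hc
  rw [residueDegree_section (sm j) (sm p) (congrArg (fun φ => sm φ) h) ξ, Nat.cast_one,
    one_mul] at this
  exact this.symm

lemma pdim_section {X P : Var k} (j : X ⟶ P) (p : P ⟶ X) (h : j ≫ p = 𝟙 X) (ξ : ↥X.obj.left) :
    pdim P.obj.left (sm j ξ) = pdim X.obj.left ξ := by
  haveI := isClosedImmersion_section j p h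
  exact pdim_closedEmbedding (sm j) (sm j).isClosedEmbedding ξ

include T in
/-- Codimension of the image of a point under a section of the first projection of a product. -/
lemma codim_section {X Y P : Var k} (p : P ⟶ X) (q : P ⟶ Y) (hP : IsProd p q)
    (j : X ⟶ P) (h : j ≫ p = 𝟙 X) (ξ : ↥X.obj.left) :
    (codim P.obj.left (sm j ξ) : ℤ) = d X + d Y - (pdim X.obj.left ξ : ℤ) := by
  have hdim := dim_prod T p q hP
  have hle := pdim_le_dim X ξ
  unfold codim
  rw [pdim_section j p h ξ]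
  have h1 : dim P.obj.left = dim X.obj.left + dim Y.obj.left := by exact_mod_cast hdim
  rw [h1]
  push_cast [Nat.cast_sub (le_trans hle (Nat.le_add_right _ _))]
  ring

/-- `f^* β = p_*(cl(Γ_f) · q^* β)`. -/
theorem pull_eq_push_graph {X Y P : Var k} (f : X ⟶ Y) (p : P ⟶ X) (q : P ⟶ Y)
    (hP : IsProd p q) (j : X ⟶ P) (hjp : j ≫ p = 𝟙 X) (hjq : j ≫ q = f)
    (i : ℤ) (β : T.gr Y i) :
    (T.push p (2 * (codim P.obj.left (sm j (genericPoint ↥X.obj.left)) : ℤ) + i)
        ⟨T.cl P (sm j (genericPoint ↥X.obj.left)) * T.pull q (β : T.H Y),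
          SetLike.mul_mem_graded (T.cl_mem P (sm j (genericPoint ↥X.obj.left)))
            (T.pull_mem q i β β.2)⟩ : T.H X) = T.pull f (β : T.H Y) := by
  have hdim := dim_prod T p q hP
  have hE := codim_section T p q hP j hjp (genericPoint ↥X.obj.left)
  rw [pdim_genericPoint] at hE
  refine push_eq_of_tr T p _ _ (m := i) (by rw [hE, hdim]; ring) (T.pull_mem f i β β.2) ?_
  intro b hb
  show T.tr X (T.pull f (β : T.H Y) * b) =
    T.tr P ((T.cl P (sm j (genericPoint ↥X.obj.left)) * T.pull q (β : T.H Y)) * T.pull p b)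
  rw [mul_assoc, tr_cl_section T j p hjp (genericPoint ↥X.obj.left)
    (c := T.pull q (β : T.H Y) * T.pull p b)
    (mem_of_eq T (by rw [pdim_genericPoint, hE, hdim]; ring)
      (SetLike.mul_mem_graded (T.pull_mem q i β β.2) (T.pull_mem p _ b hb))),
    cl_genericPoint, one_mul, map_mul (T.pull j), pull_pull, pull_pull, hjp, hjq, pull_id_apply]

lemma codim_cast (X : Var k) (ξ : ↥X.obj.left) :
    (codim X.obj.left ξ : ℤ) = d X - (pdim X.obj.left ξ : ℤ) := by
  unfold codim
  push_cast [Nat.cast_sub (pdim_le_dim X ξ)]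
  rfl

/-- The correspondence given by the diagonal image of `Z` acts as cup product with `cl Z`. -/
theorem push_pull_mul_cl_diag {X P : Var k} (p q : P ⟶ X) (hP : IsProd p q) (dg : X ⟶ P)
    (hdp : dg ≫ p = 𝟙 X) (hdq : dg ≫ q = 𝟙 X) (η : ↥X.obj.left) (i : ℤ) (a : T.gr X i) :
    (T.push q (i + 2 * (codim P.obj.left (sm dg η) : ℤ))
        ⟨T.pull p (a : T.H X) * T.cl P (sm dg η),
          SetLike.mul_mem_graded (T.pull_mem p i a a.2) (T.cl_mem P (sm dg η))⟩ : T.H X) =
      (a : T.H X) * T.cl X η := by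
  have hdim := dim_prod T p q hP
  have hE := codim_section T p q hP dg hdp η
  have hC := codim_cast X η
  refine push_eq_of_tr T q _ _ (m := i + 2 * (codim X.obj.left η : ℤ))
    (by rw [hE, hC, hdim]; ring) (SetLike.mul_mem_graded a.2 (T.cl_mem X η)) ?_
  intro b hb
  show T.tr X (((a : T.H X) * T.cl X η) * b) =
    T.tr P ((T.pull p (a : T.H X) * T.cl P (sm dg η)) * T.pull q b)
  have hR : (T.pull p (a : T.H X) * T.cl P (sm dg η)) * T.pull q b =
      T.cl P (sm dg η) * (T.pull p (a : T.H X) * T.pull q b) := by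
    rw [← comm_of_even T (T.cl_mem P (sm dg η)) (T.pull_mem p i a a.2), mul_assoc]
  have hL : ((a : T.H X) * T.cl X η) * b = T.cl X η * ((a : T.H X) * b) := by
    rw [← comm_of_even T (T.cl_mem X η) a.2, mul_assoc]
  rw [hR, hL, tr_cl_section T dg p hdp η (c := T.pull p (a : T.H X) * T.pull q b)
      (mem_of_eq T (by rw [hE, hdim]; ring)
        (SetLike.mul_mem_graded (T.pull_mem p i a a.2) (T.pull_mem q _ b hb))),
    map_mul (T.pull dg), pull_pull, pull_pull, hdp, hdq, pull_id_apply, pull_id_apply]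

end Groth.Agent.Lib.Helper5.Misc.WeilGraph
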