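import Mathlib
import Groth.Prelude.Def_WeilCoh
import Groth.Agent.Lib.Helper5.Misc.WeilGraph

set_option autoImplicit false
universe u v w
open CategoryTheory AlgebraicGeometry
open WeilCoh

namespace Groth.Agent.Lib.Helper5.Misc.WeilLef

open Groth.Agent.Lib.Helper5.Misc.WeilLib Groth.Agent.Lib.Helper5.Misc.WeilKun
open Groth.Agent.Lib.Helper5.Misc.WeilPt Groth.Agent.Lib.Helper5.Misc.WeilGen
open Groth.Agent.Lib.Helper5.Misc.WeilGeo Groth.Agent.Lib.Helper5.Misc.WeilGraph

variable {k : Type u} [Field k] {K : Type v} [Field K] (T : TheoryOn.{u, v, w} k (IsVar k) K)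

lemma eq_zero_of_vanish {X : Var k} {i : ℤ} {a : T.H X} (ha : a ∈ T.gr X i)
    (h : i < 0 ∨ 2 * d X < i) : a = 0 := by
  have := T.vanish X i h
  rw [this] at ha; exact (Submodule.mem_bot K).mp ha

/-- The degree of the class of a graph. -/
lemma cl_graph_mem {X Y P : Var k} (p : P ⟶ X) (q : P ⟶ Y) (hP : IsProd p q)
    (j : X ⟶ P) (hjp : j ≫ p = 𝟙 X) :
    T.cl P (sm j (genericPoint ↥X.obj.left)) ∈ T.gr P (2 * d Y) := by
  have hE := codim_section T p q hP j hjp (genericPoint ↥X.obj.left)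
  rw [pdim_genericPoint] at hE
  exact mem_of_eq T (by rw [hE]; ring) (T.cl_mem P _)

/-- Pairing with the class of a graph. -/
lemma tr_cl_graph_mul {X Y P : Var k} (p : P ⟶ X) (q : P ⟶ Y) (hP : IsProd p q)
    (j : X ⟶ P) (hjp : j ≫ p = 𝟙 X) {c : T.H P} (hc : c ∈ T.gr P (2 * d X)) :
    T.tr P (T.cl P (sm j (genericPoint ↥X.obj.left)) * c) = T.tr X (T.pull j c) := by
  rw [tr_cl_section T j p hjp (genericPoint ↥X.obj.left) (c := c)
    (mem_of_eq T (by rw [pdim_genericPoint]) hc), cl_genericPoint, one_mul]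

/-- Sign-commutation with explicit sign. -/
lemma mul_comm_sign {X : Var k} {i j : ℤ} {a b : T.H X} (ha : a ∈ T.gr X i) (hb : b ∈ T.gr X j) :
    a * b = ((-1 : K) ^ (i.natAbs * j.natAbs)) • (b * a) := T.gradedComm X i j a b ha hb

/-- Trace of a product of two decomposable classes on a product. -/
lemma tr_term {X Y Q : Var k} (p : Q ⟶ X) (q : Q ⟶ Y) (hQ : IsProd p q) {r m s t : ℤ}
    {E a : T.H X} {F b : T.H Y} (hE : E ∈ T.gr X r) (hF : F ∈ T.gr Y m) (ha : a ∈ T.gr X s)
    (hb : b ∈ T.gr Y t) :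
    T.tr Q ((T.pull p E * T.pull q F) * (T.pull p a * T.pull q b)) =
      (-1 : K) ^ (m.natAbs * s.natAbs) * (T.tr X (E * a) * T.tr Y (F * b)) := by
  have h1 : T.pull q F * T.pull p a =
      ((-1 : K) ^ (m.natAbs * s.natAbs)) • (T.pull p a * T.pull q F) :=
    T.gradedComm Q m s _ _ (T.pull_mem q m F hF) (T.pull_mem p s a ha)
  have h2 : (T.pull p E * T.pull q F) * (T.pull p a * T.pull q b) =
      ((-1 : K) ^ (m.natAbs * s.natAbs)) • (T.pull p (E * a) * T.pull q (F * b)) := by
    rw [map_mul, map_mul]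
    calc (T.pull p E * T.pull q F) * (T.pull p a * T.pull q b)
        = T.pull p E * ((T.pull q F * T.pull p a) * T.pull q b) := by simp only [mul_assoc]
      _ = T.pull p E * ((((-1 : K) ^ (m.natAbs * s.natAbs)) • (T.pull p a * T.pull q F)) *
            T.pull q b) := by rw [h1]
      _ = ((-1 : K) ^ (m.natAbs * s.natAbs)) •
            ((T.pull p E * T.pull p a) * (T.pull q F * T.pull q b)) := by
          simp only [smul_mul_assoc, mul_smul_comm, mul_assoc]
  rw [h2, map_smul, tr_prod_gr T p q hQ (SetLike.mul_mem_graded hE ha)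
    (SetLike.mul_mem_graded hF hb), smul_eq_mul]

lemma neg_one_pow_eq_of_even_add {x y : ℕ} (h : Even (x + y)) : (-1 : K) ^ x = (-1) ^ y := by
  have h1 : (-1 : K) ^ (x + y) = 1 := h.neg_one_pow
  rw [pow_add] at h1
  have h2 : ((-1 : K) ^ y) * ((-1 : K) ^ y) = 1 := by
    rw [← pow_add, ← two_mul, pow_mul]; simp
  calc (-1 : K) ^ x = (-1 : K) ^ x * (((-1 : K) ^ y) * ((-1 : K) ^ y)) := by rw [h2, mul_one]
    _ = ((-1 : K) ^ x * (-1 : K) ^ y) * (-1 : K) ^ y := by ring
    _ = (-1) ^ y := by rw [h1, one_mul]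

lemma even_natAbs_add_of_even_add {x y : ℤ} (h : Even (x + y)) : Even (x.natAbs + y.natAbs) := by
  rw [Nat.even_add, Int.natAbs_even, Int.natAbs_even, ← Int.even_add]
  exact h

/-- The class of the graph in terms of dual bases. -/
theorem cl_graph_eq_sum {X P : Var k} (φ : X ⟶ X) (p q : P ⟶ X) (hP : IsProd p q) (j : X ⟶ P)
    (hjp : j ≫ p = 𝟙 X) (hjq : j ≫ q = φ)
    (ι : ℕ → Type) [∀ r, Fintype (ι r)] [∀ r, DecidableEq (ι r)]
    (e : (r : ℕ) → Module.Basis (ι r) K ↥(T.gr X (r : ℤ)))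
    (f : (r : ℕ) → ι r → ↥(T.gr X (2 * (dim X.obj.left : ℤ) - r)))
    (hef : ∀ r, r ≤ 2 * dim X.obj.left → ∀ i l : ι r,
      T.tr X ((f r l : T.H X) * (e r i : T.H X)) = if i = l then 1 else 0) :
    T.cl P (sm j (genericPoint ↥X.obj.left)) =
      ∑ r ∈ Finset.range (2 * dim X.obj.left + 1), ∑ i : ι r,
        T.pull p (T.pull φ (e r i : T.H X)) * T.pull q (f r i : T.H X) := by
  have hdim := dim_prod T p q hP
  have hterm_mem : ∀ r (i : ι r),
      T.pull p (T.pull φ (e r i : T.H X)) * T.pull q (f r i : T.H X) ∈ T.gr P (2 * d X) :=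
    fun r i => mem_of_eq T (by ring) (SetLike.mul_mem_graded
      (T.pull_mem p _ _ (T.pull_mem φ _ _ (e r i).2)) (T.pull_mem q _ _ (f r i).2))
  refine ext_prod T p q hP (m := 2 * d X) (cl_graph_mem T p q hP j hjp)
    (Submodule.sum_mem _ fun r _ => Submodule.sum_mem _ fun i _ => hterm_mem r i) ?_
  intro s t a ha b hb
  have hterm : ∀ r (i : ι r),
      T.tr P ((T.pull p (T.pull φ (e r i : T.H X)) * T.pull q (f r i : T.H X)) *
        (T.pull p a * T.pull q b)) =
      (-1 : K) ^ ((2 * d X - r).natAbs * s.natAbs) *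
        (T.tr X (T.pull φ (e r i : T.H X) * a) * T.tr X ((f r i : T.H X) * b)) :=
    fun r i => tr_term T p q hP (T.pull_mem φ _ _ (e r i).2) (f r i).2 ha hb
  rw [Finset.sum_mul, map_sum]
  simp_rw [Finset.sum_mul, map_sum, hterm]
  by_cases ht : ∃ r₀ : ℕ, r₀ ≤ 2 * dim X.obj.left ∧ t = (r₀ : ℤ)
  · obtain ⟨r₀, hr₀, rfl⟩ := ht
    rw [Finset.sum_eq_single r₀]
    · -- expansion of `b` in the basis
      have hb_exp : b = ∑ i, (e r₀).repr ⟨b, hb⟩ i • (e r₀ i : T.H X) := by
        have h := congrArg Subtype.val ((e r₀).sum_repr ⟨b, hb⟩)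
        rw [Submodule.coe_sum] at h
        simpa using h.symm
      have h_tr_f : ∀ l, T.tr X ((f r₀ l : T.H X) * b) = (e r₀).repr ⟨b, hb⟩ l := by
        intro l
        conv_lhs => rw [hb_exp]
        rw [Finset.mul_sum, map_sum]
        simp_rw [mul_smul_comm, map_smul, hef r₀ hr₀, smul_eq_mul, mul_ite, mul_one, mul_zero]
        rw [Finset.sum_ite_eq' Finset.univ l]
        simp
      have h_sum : ∑ i, (-1 : K) ^ ((2 * d X - (r₀ : ℤ)).natAbs * s.natAbs) *
          (T.tr X (T.pull φ (e r₀ i : T.H X) * a) * T.tr X ((f r₀ i : T.H X) * b)) =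
          (-1 : K) ^ ((2 * d X - (r₀ : ℤ)).natAbs * s.natAbs) * T.tr X (T.pull φ b * a) := by
        rw [← Finset.mul_sum]
        congr 1
        conv_rhs => rw [hb_exp]
        rw [map_sum, Finset.sum_mul, map_sum]
        apply Finset.sum_congr rfl
        intro i _
        rw [h_tr_f, map_smul, smul_mul_assoc, map_smul, smul_eq_mul, mul_comm]
      rw [h_sum]
      by_cases hst : s + (r₀ : ℤ) = 2 * d X
      · rw [tr_cl_graph_mul T p q hP j hjp (c := T.pull p a * T.pull q b)
          (mem_of_eq T hst (SetLike.mul_mem_graded (T.pull_mem p _ a ha) (T.pull_mem q _ b hb))),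
          map_mul (T.pull j), pull_pull, pull_pull, hjp, hjq, pull_id_apply,
          mul_comm_sign T ha (T.pull_mem φ _ b hb), map_smul, smul_eq_mul]
        congr 1
        have hs : 2 * d X - (r₀ : ℤ) = s := by linarith
        rw [hs]
        apply neg_one_pow_eq_of_even_add
        rw [← Nat.mul_add]
        apply Even.mul_left
        rw [add_comm]
        exact even_natAbs_add_of_even_add (by rw [hst]; exact even_two_mul _)
      · rw [tr_mul_eq_zero_of_ne T (by rw [hdim]; intro h; apply hst; linarith)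
          (cl_graph_mem T p q hP j hjp)
          (SetLike.mul_mem_graded (T.pull_mem p _ a ha) (T.pull_mem q _ b hb)),
          tr_mul_eq_zero_of_ne T (by intro h; apply hst; linarith) (T.pull_mem φ _ b hb) ha,
          mul_zero]
    · intro r _ hr
      apply Finset.sum_eq_zero
      intro i _
      rw [tr_mul_eq_zero_of_ne T (by
        intro h; apply hr; have : (r : ℤ) = (r₀ : ℤ) := by linarith
        exact_mod_cast this) (f r i).2 hb, mul_zero, mul_zero]
    · intro h
      exact absurd (Finset.mem_range.mpr (by omega)) h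
  · have hb0 : b = 0 := by
      apply eq_zero_of_vanish T hb
      by_contra hcon
      push_neg at hcon
      apply ht
      refine ⟨t.toNat, ?_, ?_⟩
      · have := hcon.2; zify; rw [Int.toNat_of_nonneg hcon.1]; exact this
      · rw [Int.toNat_of_nonneg hcon.1]
    subst hb0
    simp

/-- Dual family to a basis of `H^r` inside `H^{2n-r}`. -/
noncomputable def dualFam {X : Var k} (r : ℤ) {ι : Type*} (e : Module.Basis ι K ↥(T.gr X r))
    (l : ι) : ↥(T.gr X (2 * (dim X.obj.left : ℤ) - r)) :=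
  haveI := T.duality X (2 * (dim X.obj.left : ℤ) - r) r (by ring)
  (pairing K (T.gr X (2 * (dim X.obj.left : ℤ) - r)) (T.gr X r) (T.tr X)).toPerfPair.symm
    (e.coord l)

lemma tr_dualFam_mul {X : Var k} (r : ℤ) {ι : Type*} [DecidableEq ι]
    (e : Module.Basis ι K ↥(T.gr X r)) (i l : ι) :
    T.tr X ((dualFam T r e l : T.H X) * (e i : T.H X)) = if i = l then 1 else 0 := by
  have := T.duality X (2 * (dim X.obj.left : ℤ) - r) r (by ring)
  have h1 : (pairing K (T.gr X (2 * (dim X.obj.left : ℤ) - r)) (T.gr X r) (T.tr X))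
      (dualFam T r e l) = e.coord l := by
    unfold dualFam
    exact LinearMap.apply_symm_toPerfPair_self _ _
  have h2 := congrArg (fun ψ => ψ (e i)) h1
  have h3 : T.tr X ((dualFam T r e l : T.H X) * (e i : T.H X)) = e.coord l (e i) := h2
  rw [h3, Module.Basis.coord_apply, Module.Basis.repr_self, Finsupp.single_apply]

lemma sign_r (n r : ℕ) (hr : r ≤ 2 * n) :
    (-1 : K) ^ (r * (2 * (n : ℤ) - (r : ℤ)).natAbs) = (-1) ^ r := by
  have h1 : (2 * (n : ℤ) - (r : ℤ)).natAbs = 2 * n - r := by omega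
  rw [h1]
  apply neg_one_pow_eq_of_even_add
  rcases Nat.even_or_odd r with h | h
  · exact Even.add (Even.mul_right h _) h
  · have h2 : Odd (2 * n - r) := by
      obtain ⟨m, hm⟩ := h
      exact ⟨n - m - 1, by omega⟩
    exact Odd.add_odd (Odd.mul h h2) h

/-- Lefschetz trace formula. -/
theorem lefschetz {X P : Var k} (φ : X ⟶ X) (p q : P ⟶ X) (hP : IsProd p q) (j dg : X ⟶ P)
    (hjp : j ≫ p = 𝟙 X) (hjq : j ≫ q = φ) (hdp : dg ≫ p = 𝟙 X) (hdq : dg ≫ q = 𝟙 X) :
    T.tr P (T.cl P (sm j (genericPoint ↥X.obj.left)) * T.cl P (sm dg (genericPoint ↥X.obj.left))) =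
      ∑ i ∈ Finset.range (2 * dim X.obj.left + 1),
        (-1 : K) ^ i * LinearMap.trace K ↥(T.gr X (i : ℤ)) (T.pullDeg φ (i : ℤ)) := by
  classical
  let ι : ℕ → Type := fun r => Fin (Module.finrank K ↥(T.gr X (r : ℤ)))
  let e : (r : ℕ) → Module.Basis (ι r) K ↥(T.gr X (r : ℤ)) := fun r => Module.finBasis K _
  let f : (r : ℕ) → ι r → ↥(T.gr X (2 * (dim X.obj.left : ℤ) - r)) := fun r l =>
    dualFam T (r : ℤ) (e r) l
  have hef : ∀ r, r ≤ 2 * dim X.obj.left → ∀ i l : ι r,
      T.tr X ((f r l : T.H X) * (e r i : T.H X)) = if i = l then 1 else 0 :=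
    fun r _ i l => tr_dualFam_mul T (r : ℤ) (e r) i l
  have hΓ := cl_graph_eq_sum T φ p q hP j hjp hjq ι e f hef
  have hΓmem := cl_graph_mem T p q hP j hjp
  have hΔmem := cl_graph_mem T p q hP dg hdp
  rw [comm_of_even T hΓmem hΔmem, tr_cl_graph_mul T p q hP dg hdp hΓmem, hΓ, map_sum, map_sum]
  apply Finset.sum_congr rfl
  intro r hr
  have hr' : r ≤ 2 * dim X.obj.left := by have := Finset.mem_range.mp hr; omega
  rw [map_sum, map_sum]
  -- each term
  have hterm : ∀ i : ι r, T.tr X (T.pull dg (T.pull p (T.pull φ (e r i : T.H X)) *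
      T.pull q (f r i : T.H X))) =
      (-1 : K) ^ r * (e r).repr (T.pullDeg φ (r : ℤ) (e r i)) i := by
    intro i
    rw [map_mul (T.pull dg), pull_pull T dg p, pull_pull T dg q, hdp, hdq, pull_id_apply,
      pull_id_apply,
      mul_comm_sign T (T.pull_mem φ _ _ (e r i).2) (f r i).2, map_smul, smul_eq_mul]
    have hsgn : (-1 : K) ^ ((r : ℤ).natAbs * (2 * (dim X.obj.left : ℤ) - (r : ℤ)).natAbs) =
        (-1) ^ r := by
      rw [Int.natAbs_natCast]; exact sign_r _ r hr'
    rw [hsgn]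
    congr 1
    -- expand φ^* e_i in the basis
    have hexp : T.pull φ (e r i : T.H X) =
        ∑ l, (e r).repr (T.pullDeg φ (r : ℤ) (e r i)) l • (e r l : T.H X) := by
      have h := congrArg Subtype.val ((e r).sum_repr (T.pullDeg φ (r : ℤ) (e r i)))
      rw [Submodule.coe_sum] at h
      have hc : ((T.pullDeg φ (r : ℤ) (e r i) : ↥(T.gr X (r : ℤ))) : T.H X) =
          T.pull φ (e r i : T.H X) := rfl
      rw [← hc]
      simpa using h.symm
    rw [hexp, Finset.mul_sum, map_sum]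
    simp_rw [mul_smul_comm, map_smul, hef r hr', smul_eq_mul, mul_ite, mul_one, mul_zero]
    rw [Finset.sum_ite_eq' Finset.univ i]
    simp
  simp_rw [hterm]
  rw [← Finset.mul_sum]
  congr 1
  rw [LinearMap.trace_eq_matrix_trace K (e r), Matrix.trace]
  apply Finset.sum_congr rfl
  intro i _
  rw [Matrix.diag_apply, LinearMap.toMatrix_apply]

end Groth.Agent.Lib.Helper5.Misc.WeilLef
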