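import Mathlib
import Groth.Prelude.Def_WeilCoh
import Groth.Agent.Lib.Helper5.Misc.WeilLef

set_option autoImplicit false
universe u v w
open CategoryTheory AlgebraicGeometry
open WeilCoh

namespace Groth.Agent.Lib.Helper5.Misc.WeilCorr

open Groth.Agent.Lib.Helper5.Misc.WeilLib Groth.Agent.Lib.Helper5.Misc.WeilKun
open Groth.Agent.Lib.Helper5.Misc.WeilPt Groth.Agent.Lib.Helper5.Misc.WeilGen
open Groth.Agent.Lib.Helper5.Misc.WeilGeo Groth.Agent.Lib.Helper5.Misc.WeilGraph
open Groth.Agent.Lib.Helper5.Misc.WeilLef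

variable {k : Type u} [Field k] {K : Type v} [Field K] (T : TheoryOn.{u, v, w} k (IsVar k) K)

/-- The correspondence action map of the statement. -/
noncomputable def corr {X Y P : Var k} (p : P ⟶ X) (q : P ⟶ Y) (r : ℤ)
    (φ : ↥(T.gr P (2 * (dim X.obj.left : ℤ) + r))) (i : ℤ) :
    ↥(T.gr X i) →ₗ[K] ↥(T.gr Y (i + (2 * (dim X.obj.left : ℤ) + r) + 2 * (dim Y.obj.left : ℤ) -
      2 * (dim P.obj.left : ℤ))) :=
  (T.push q (i + (2 * (dim X.obj.left : ℤ) + r))) ∘ₗ
    ((LinearMap.mulRight K (φ : T.H P)).restrict (p := T.gr P i)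
      (q := T.gr P (i + (2 * (dim X.obj.left : ℤ) + r)))
      (fun x hx => SetLike.mul_mem_graded hx φ.2)) ∘ₗ
    (T.pullDeg p i)

lemma corr_apply {X Y P : Var k} (p : P ⟶ X) (q : P ⟶ Y) (r : ℤ)
    (φ : ↥(T.gr P (2 * (dim X.obj.left : ℤ) + r))) (i : ℤ) (x : T.gr X i) :
    (corr T p q r φ i x : T.H Y) =
      (T.push q (i + (2 * (dim X.obj.left : ℤ) + r))
        ⟨T.pull p (x : T.H X) * (φ : T.H P),
          SetLike.mul_mem_graded (T.pull_mem p i x x.2) φ.2⟩ : T.H Y) := rfl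

/-- Pairing characterisation of the correspondence action. -/
lemma tr_corr_mul {X Y P : Var k} (p : P ⟶ X) (q : P ⟶ Y) (r : ℤ)
    (φ : ↥(T.gr P (2 * (dim X.obj.left : ℤ) + r))) (i : ℤ) (x : T.gr X i) {y : T.H Y}
    (hy : y ∈ T.gr Y (2 * d P - (i + (2 * d X + r)))) :
    T.tr Y ((corr T p q r φ i x : T.H Y) * y) =
      T.tr P ((T.pull p (x : T.H X) * (φ : T.H P)) * T.pull q y) := by
  rw [corr_apply]
  exact tr_push_mul T q _ _ hy

lemma corr_injective {X Y P : Var k} (p : P ⟶ X) (q : P ⟶ Y) (hP : IsProd p q) (r : ℤ) :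
    Function.Injective (fun φ : ↥(T.gr P (2 * (dim X.obj.left : ℤ) + r)) => corr T p q r φ) := by
  intro φ φ' h
  apply Subtype.ext
  refine ext_prod T p q hP (m := 2 * d X + r) φ.2 φ'.2 ?_
  intro s t a ha b hb
  by_cases hst : (2 * d X + r) + (s + t) = 2 * d P
  · have hc : ∀ ψ : ↥(T.gr P (2 * (dim X.obj.left : ℤ) + r)),
        T.tr P ((ψ : T.H P) * (T.pull p a * T.pull q b)) =
          (-1 : K) ^ ((2 * d X + r).natAbs * s.natAbs) *
            T.tr Y ((corr T p q r ψ s ⟨a, ha⟩ : T.H Y) * b) := by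
      intro ψ
      rw [tr_corr_mul T p q r ψ s ⟨a, ha⟩ (mem_of_eq T (by linarith) hb), ← mul_assoc,
        mul_comm_sign T ψ.2 (T.pull_mem p s a ha), smul_mul_assoc, map_smul, smul_eq_mul]
    rw [hc φ, hc φ']
    have := congrFun h s
    simp only at this
    rw [this]
  · rw [tr_mul_eq_zero_of_ne T hst φ.2
        (SetLike.mul_mem_graded (T.pull_mem p s a ha) (T.pull_mem q t b hb)),
      tr_mul_eq_zero_of_ne T hst φ'.2
        (SetLike.mul_mem_graded (T.pull_mem p s a ha) (T.pull_mem q t b hb))]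

lemma tr_term' {X Y Q : Var k} (p : Q ⟶ X) (q : Q ⟶ Y) (hQ : IsProd p q) {s m t t' : ℤ}
    {x f : T.H X} {G y : T.H Y} (hx : x ∈ T.gr X s) (hf : f ∈ T.gr X m) (hG : G ∈ T.gr Y t)
    (hy : y ∈ T.gr Y t') :
    T.tr Q ((T.pull p x * (T.pull p f * T.pull q G)) * T.pull q y) =
      T.tr X (x * f) * T.tr Y (G * y) := by
  have h : (T.pull p x * (T.pull p f * T.pull q G)) * T.pull q y =
      T.pull p (x * f) * T.pull q (G * y) := by
    simp only [map_mul, mul_assoc]
  rw [h, tr_prod_gr T p q hQ (SetLike.mul_mem_graded hx hf) (SetLike.mul_mem_graded hG hy)]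

lemma neg_one_pow_mul_self (s : ℕ) : (-1 : K) ^ s * (-1 : K) ^ s = 1 := by
  rw [← pow_add, ← two_mul, pow_mul]; simp

lemma corr_surjective {X Y P : Var k} (p : P ⟶ X) (q : P ⟶ Y) (hP : IsProd p q)
    (hdim : dim P.obj.left = dim X.obj.left + dim Y.obj.left) (r : ℤ) :
    Function.Surjective (fun φ : ↥(T.gr P (2 * (dim X.obj.left : ℤ) + r)) => corr T p q r φ) := by
  classical
  intro g
  have hdimZ : ((dim P.obj.left : ℕ) : ℤ) = (dim X.obj.left : ℤ) + (dim Y.obj.left : ℤ) := by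
    exact_mod_cast hdim
  let ι : ℕ → Type := fun s => Fin (Module.finrank K ↥(T.gr X (s : ℤ)))
  let e : (s : ℕ) → Module.Basis (ι s) K ↥(T.gr X (s : ℤ)) := fun s => Module.finBasis K _
  let fam : (s : ℕ) → ι s → ↥(T.gr X (2 * (dim X.obj.left : ℤ) - s)) := fun s l =>
    dualFam T (s : ℤ) (e s) l
  have hef : ∀ s (i l : ι s),
      T.tr X ((fam s l : T.H X) * (e s i : T.H X)) = if i = l then 1 else 0 :=
    fun s i l => tr_dualFam_mul T (s : ℤ) (e s) i l
  have hmem : ∀ s (l : ι s), T.pull p (fam s l : T.H X) * T.pull q (g (s : ℤ) (e s l) : T.H Y) ∈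
      T.gr P (2 * (dim X.obj.left : ℤ) + r) := fun s l =>
    mem_of_eq T (by linarith) (SetLike.mul_mem_graded (T.pull_mem p _ _ (fam s l).2)
      (T.pull_mem q _ _ (g (s : ℤ) (e s l)).2))
  let φ : ↥(T.gr P (2 * (dim X.obj.left : ℤ) + r)) :=
    ⟨∑ s ∈ Finset.range (2 * dim X.obj.left + 1), ∑ l : ι s,
      ((-1 : K) ^ s) • (T.pull p (fam s l : T.H X) * T.pull q (g (s : ℤ) (e s l) : T.H Y)),
      Submodule.sum_mem _ fun s _ => Submodule.sum_mem _ fun l _ =>
        Submodule.smul_mem _ _ (hmem s l)⟩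
  refine ⟨φ, ?_⟩
  funext i
  apply LinearMap.ext
  intro x
  apply Subtype.ext
  show (corr T p q r φ i x : T.H Y) = (g i x : T.H Y)
  rw [corr_apply]
  refine push_eq_of_tr T q _ _ rfl (g i x).2 ?_
  intro y hy
  show T.tr Y ((g i x : T.H Y) * y) = T.tr P ((T.pull p (x : T.H X) * (φ : T.H P)) * T.pull q y)
  have hexpand : (T.pull p (x : T.H X) * (φ : T.H P)) * T.pull q y =
      ∑ s ∈ Finset.range (2 * dim X.obj.left + 1), ∑ l : ι s, ((-1 : K) ^ s) •
        ((T.pull p (x : T.H X) * (T.pull p (fam s l : T.H X) *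
          T.pull q (g (s : ℤ) (e s l) : T.H Y))) * T.pull q y) := by
    show (T.pull p (x : T.H X) * (∑ s ∈ Finset.range (2 * dim X.obj.left + 1), ∑ l : ι s,
      ((-1 : K) ^ s) • (T.pull p (fam s l : T.H X) * T.pull q (g (s : ℤ) (e s l) : T.H Y)))) *
        T.pull q y = _
    simp only [Finset.mul_sum, Finset.sum_mul, mul_smul_comm, smul_mul_assoc]
  rw [hexpand, map_sum]
  simp_rw [map_sum, map_smul, smul_eq_mul]
  have hterm : ∀ s (l : ι s), T.tr P ((T.pull p (x : T.H X) * (T.pull p (fam s l : T.H X) *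
      T.pull q (g (s : ℤ) (e s l) : T.H Y))) * T.pull q y) =
      T.tr X ((x : T.H X) * (fam s l : T.H X)) * T.tr Y ((g (s : ℤ) (e s l) : T.H Y) * y) :=
    fun s l => tr_term' T p q hP x.2 (fam s l).2 (g (s : ℤ) (e s l)).2 hy
  simp_rw [hterm]
  by_cases hi : ∃ s' : ℕ, s' ≤ 2 * dim X.obj.left ∧ i = (s' : ℤ)
  · obtain ⟨s', hs', rfl⟩ := hi
    rw [Finset.sum_eq_single s']
    · have hx_exp : (x : T.H X) = ∑ l, (e s').repr x l • (e s' l : T.H X) := by
        have h := congrArg Subtype.val ((e s').sum_repr x)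
        rw [Submodule.coe_sum] at h
        simpa using h.symm
      have h_tr : ∀ l, T.tr X ((x : T.H X) * (fam s' l : T.H X)) =
          (-1 : K) ^ s' * (e s').repr x l := by
        intro l
        rw [mul_comm_sign T x.2 (fam s' l).2, map_smul, smul_eq_mul, Int.natAbs_natCast,
          sign_r _ s' hs']
        congr 1
        conv_lhs => rw [hx_exp]
        rw [Finset.mul_sum, map_sum]
        simp_rw [mul_smul_comm, map_smul, hef s', smul_eq_mul, mul_ite, mul_one, mul_zero]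
        rw [Finset.sum_ite_eq' Finset.univ l]
        simp
      have hgx : (g (s' : ℤ) x : T.H Y) =
          ∑ l, (e s').repr x l • (g (s' : ℤ) (e s' l) : T.H Y) := by
        conv_lhs => rw [← (e s').sum_repr x]
        rw [map_sum, Submodule.coe_sum]
        simp_rw [map_smul, Submodule.coe_smul]
      rw [hgx, Finset.sum_mul, map_sum]
      apply Finset.sum_congr rfl
      intro l _
      rw [h_tr, ← mul_assoc, ← mul_assoc, neg_one_pow_mul_self, one_mul, smul_mul_assoc, map_smul,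
        smul_eq_mul]
    · intro s _ hs
      apply Finset.sum_eq_zero
      intro l _
      rw [tr_mul_eq_zero_of_ne T (by
        intro h; apply hs; have : (s : ℤ) = (s' : ℤ) := by linarith
        exact_mod_cast this) x.2 (fam s l).2, zero_mul, mul_zero]
    · intro h
      exact absurd (Finset.mem_range.mpr (by omega)) h
  · have hx0 : (x : T.H X) = 0 := by
      apply eq_zero_of_vanish T x.2
      by_contra hcon
      push Not at hcon
      apply hi
      refine ⟨i.toNat, ?_, ?_⟩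
      · have := hcon.2; zify; rw [Int.toNat_of_nonneg hcon.1]; exact this
      · rw [Int.toNat_of_nonneg hcon.1]
    have hx0' : x = 0 := Subtype.ext hx0
    rw [hx0']
    simp

end Groth.Agent.Lib.Helper5.Misc.WeilCorr
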