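import Mathlib
import Groth.Prelude.Def_WeilCoh
import Groth.Agent.Lib.Helper5.Misc.WeilCorr

set_option autoImplicit false
universe u v w
open CategoryTheory AlgebraicGeometry
open WeilCoh

namespace Groth.Agent.Lib.Helper5.Misc.WeilTrace

open Groth.Agent.Lib.Helper5.Misc.WeilLib Groth.Agent.Lib.Helper5.Misc.WeilKun
open Groth.Agent.Lib.Helper5.Misc.WeilPt Groth.Agent.Lib.Helper5.Misc.WeilGen
open Groth.Agent.Lib.Helper5.Misc.WeilGeo Groth.Agent.Lib.Helper5.Misc.WeilGraph
open Groth.Agent.Lib.Helper5.Misc.WeilLef Groth.Agent.Lib.Helper5.Misc.WeilCorr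

variable {k : Type u} [Field k] {K : Type v} [Field K] (T : TheoryOn.{u, v, w} k (IsVar k) K)

/-- General correspondence action of a class of degree `m`. -/
noncomputable def corrG {X Y P : Var k} (p : P ⟶ X) (q : P ⟶ Y) (m : ℤ) (φ : ↥(T.gr P m)) (i : ℤ) :
    ↥(T.gr X i) →ₗ[K] ↥(T.gr Y (i + m + 2 * (dim Y.obj.left : ℤ) - 2 * (dim P.obj.left : ℤ))) :=
  (T.push q (i + m)) ∘ₗ
    ((LinearMap.mulRight K (φ : T.H P)).restrict (p := T.gr P i) (q := T.gr P (i + m))
      (fun x hx => SetLike.mul_mem_graded hx φ.2)) ∘ₗ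
    (T.pullDeg p i)

lemma corrG_apply {X Y P : Var k} (p : P ⟶ X) (q : P ⟶ Y) (m : ℤ) (φ : ↥(T.gr P m)) (i : ℤ)
    (x : T.gr X i) :
    (corrG T p q m φ i x : T.H Y) =
      (T.push q (i + m) ⟨T.pull p (x : T.H X) * (φ : T.H P),
          SetLike.mul_mem_graded (T.pull_mem p i x x.2) φ.2⟩ : T.H Y) := rfl

lemma tr_corrG_mul {X Y P : Var k} (p : P ⟶ X) (q : P ⟶ Y) (m : ℤ) (φ : ↥(T.gr P m)) (i : ℤ)
    (x : T.gr X i) {y : T.H Y} (hy : y ∈ T.gr Y (2 * d P - (i + m))) :
    T.tr Y ((corrG T p q m φ i x : T.H Y) * y) =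
      T.tr P ((T.pull p (x : T.H X) * (φ : T.H P)) * T.pull q y) := by
  rw [corrG_apply]
  exact tr_push_mul T q _ _ hy

lemma corrG_add {X Y P : Var k} (p : P ⟶ X) (q : P ⟶ Y) (m : ℤ) (φ φ' : ↥(T.gr P m)) (i : ℤ) :
    corrG T p q m (φ + φ') i = corrG T p q m φ i + corrG T p q m φ' i := by
  apply LinearMap.ext
  intro x
  rw [LinearMap.add_apply]
  unfold corrG
  simp only [LinearMap.comp_apply]
  rw [← map_add]
  congr 1
  apply Subtype.ext
  show T.pull p (x : T.H X) * ((φ : T.H P) + (φ' : T.H P)) = _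
  rw [mul_add]; rfl

lemma corrG_smul {X Y P : Var k} (p : P ⟶ X) (q : P ⟶ Y) (m : ℤ) (c : K) (φ : ↥(T.gr P m))
    (i : ℤ) : corrG T p q m (c • φ) i = c • corrG T p q m φ i := by
  apply LinearMap.ext
  intro x
  rw [LinearMap.smul_apply]
  unfold corrG
  simp only [LinearMap.comp_apply]
  rw [← map_smul]
  congr 1
  apply Subtype.ext
  show T.pull p (x : T.H X) * (c • (φ : T.H P)) = _
  rw [mul_smul_comm]; rfl

lemma corrG_zero {X Y P : Var k} (p : P ⟶ X) (q : P ⟶ Y) (m : ℤ) (i : ℤ) :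
    corrG T p q m (0 : ↥(T.gr P m)) i = 0 := by
  have := corrG_smul T p q m (0 : K) (0 : ↥(T.gr P m)) i
  simpa using this

/-- The action of a decomposable class. -/
lemma corrG_decomp {X Y P : Var k} (p : P ⟶ X) (q : P ⟶ Y) (hP : IsProd p q) {m s t : ℤ}
    (hst : s + t = m) {a : T.H X} {b : T.H Y} (ha : a ∈ T.gr X s) (hb : b ∈ T.gr Y t)
    (φ : ↥(T.gr P m)) (hφ : (φ : T.H P) = T.pull p a * T.pull q b) (i : ℤ) (x : T.gr X i) :
    (corrG T p q m φ i x : T.H Y) = T.tr X ((x : T.H X) * a) • b := by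
  have hdim := dim_prod T p q hP
  rw [corrG_apply]
  refine push_eq_of_tr T q _ _ rfl ?_ ?_
  · by_cases his : i + s = 2 * d X
    · exact Submodule.smul_mem _ _ (mem_of_eq T (by rw [hdim]; linarith) hb)
    · rw [tr_mul_eq_zero_of_ne T his x.2 ha, zero_smul]
      exact Submodule.zero_mem _
  · intro y hy
    show T.tr Y ((T.tr X ((x : T.H X) * a) • b) * y) =
      T.tr P ((T.pull p (x : T.H X) * (φ : T.H P)) * T.pull q y)
    rw [hφ, tr_term' T p q hP x.2 ha hb hy, smul_mul_assoc, map_smul, smul_eq_mul]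

/-- The set of decomposable classes of degree `m`. -/
def decomp {X Y P : Var k} (p : P ⟶ X) (q : P ⟶ Y) (m : ℤ) : Set ↥(T.gr P m) :=
  {φ | ∃ (s t : ℤ) (a : T.H X) (b : T.H Y), a ∈ T.gr X s ∧ b ∈ T.gr Y t ∧ s + t = m ∧
    (φ : T.H P) = T.pull p a * T.pull q b}

/-- Decomposable classes span each graded piece of a product. -/
lemma span_decomp {X Y P : Var k} (p : P ⟶ X) (q : P ⟶ Y) (hP : IsProd p q) (m : ℤ) :
    Submodule.span K (decomp T p q m) = ⊤ := by
  by_contra hne
  have hlt : Submodule.span K (decomp T p q m) < ⊤ := lt_top_iff_ne_top.mpr hne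
  obtain ⟨lam, hlam, hmap⟩ := Submodule.exists_dual_map_eq_bot_of_lt_top hlt inferInstance
  apply hlam
  -- represent `lam` by a class `w`
  have hperf := T.duality P m (2 * d P - m) (by ring)
  obtain ⟨w, hw⟩ := (LinearMap.IsPerfPair.bijective_right
    (pairing K (T.gr P m) (T.gr P (2 * d P - m)) (T.tr P))).2 lam
  have hlam_eq : ∀ φ : ↥(T.gr P m), lam φ = T.tr P ((φ : T.H P) * (w : T.H P)) := by
    intro φ
    rw [← hw]; rfl
  have hvan : ∀ φ ∈ decomp T p q m, lam φ = 0 := by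
    intro φ hφ
    have : lam φ ∈ (Submodule.span K (decomp T p q m)).map lam :=
      Submodule.mem_map_of_mem (Submodule.subset_span hφ)
    rw [hmap] at this
    exact (Submodule.mem_bot K).mp this
  have h0 := functional_eq_zero T p q hP ((T.tr P) ∘ₗ (LinearMap.mulRight K (w : T.H P)))
    (fun s t a ha b hb => by
      show T.tr P ((T.pull p a * T.pull q b) * (w : T.H P)) = 0
      by_cases hst : s + t = m
      · have hmem : T.pull p a * T.pull q b ∈ T.gr P m :=
          mem_of_eq T hst (SetLike.mul_mem_graded (T.pull_mem p s a ha) (T.pull_mem q t b hb))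
        have := hvan ⟨_, hmem⟩ ⟨s, t, a, b, ha, hb, hst, rfl⟩
        rw [hlam_eq] at this
        exact this
      · exact tr_mul_eq_zero_of_ne T (by intro h; apply hst; linarith)
          (SetLike.mul_mem_graded (T.pull_mem p s a ha) (T.pull_mem q t b hb)) w.2)
  ext φ
  rw [hlam_eq, LinearMap.zero_apply]
  exact LinearMap.congr_fun h0 (φ : T.H P)

/-- Two different graded pieces meet in zero. -/
lemma eq_zero_of_mem_of_mem {X : Var k} {i j : ℤ} (hij : i ≠ j) {z : T.H X} (hi : z ∈ T.gr X i)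
    (hj : z ∈ T.gr X j) : z = 0 := by
  have hind := (T.decomp X).submodule_iSupIndep
  have hdisj := hind.pairwiseDisjoint hij
  exact Submodule.disjoint_def.mp hdisj z hi hj

/-- Trace of a rank-one endomorphism of a graded piece. -/
lemma trace_rankOne {X : Var k} {i : ℤ} (lam : ↥(T.gr X i) →ₗ[K] K) (e : ↥(T.gr X i))
    (E : ↥(T.gr X i) →ₗ[K] ↥(T.gr X i))
    (hE : ∀ x, (E x : T.H X) = lam x • (e : T.H X)) : LinearMap.trace K _ E = lam e := by
  have : E = lam.smulRight e := by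
    apply LinearMap.ext
    intro x
    apply Subtype.ext
    rw [hE]; rfl
  rw [this, LinearMap.trace_smulRight]

lemma trace_rankOne_zero {X : Var k} {i j : ℤ} (hij : i ≠ j) (lam : ↥(T.gr X i) →ₗ[K] K)
    {e : T.H X} (he : e ∈ T.gr X j) (E : ↥(T.gr X i) →ₗ[K] ↥(T.gr X i))
    (hE : ∀ x, (E x : T.H X) = lam x • e) : LinearMap.trace K _ E = 0 := by
  have : E = 0 := by
    apply LinearMap.ext
    intro x
    apply Subtype.ext
    exact eq_zero_of_mem_of_mem T hij (E x).2 (by rw [hE]; exact Submodule.smul_mem _ _ he)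
  rw [this, map_zero]

lemma sign_aux (τ x y z : ℕ) (h1 : Even (x + y)) (h2 : Even (z + τ)) :
    Even (x * τ + y * τ + z * τ + τ) := by
  have e1 : x * τ + y * τ + z * τ + τ = (x + y) * τ + (z + 1) * τ := by ring
  rw [e1]
  apply Even.add (Even.mul_right h1 _)
  rcases Nat.even_or_odd τ with h | h
  · exact Even.mul_left h _
  · apply Even.mul_right
    rw [Nat.even_add] at h2
    have hz : ¬ Even z := fun hz => (Nat.not_even_iff_odd.mpr h) (h2.mp hz)
    rw [Nat.even_add_one]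
    exact hz

section Main

variable {X Y P P' : Var k} (p : P ⟶ X) (q : P ⟶ Y) (p' : P' ⟶ Y) (q' : P' ⟶ X) (m m' : ℤ)
  (hdim : ∀ i : ℤ, ((i + m + 2 * (dim Y.obj.left : ℤ) - 2 * (dim P.obj.left : ℤ)) + m' +
    2 * (dim X.obj.left : ℤ) - 2 * (dim P'.obj.left : ℤ)) = i)

/-- The composite `ψ_* ∘ φ_*` as an endomorphism of `H^i(X)`. -/
noncomputable def comp2 (φ : ↥(T.gr P m)) (ψ : ↥(T.gr P' m')) (i : ℤ) :
    ↥(T.gr X i) →ₗ[K] ↥(T.gr X i) :=
  (LinearEquiv.ofEq (T.gr X ((i + m + 2 * (dim Y.obj.left : ℤ) - 2 * (dim P.obj.left : ℤ)) + m' +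
      2 * (dim X.obj.left : ℤ) - 2 * (dim P'.obj.left : ℤ))) (T.gr X i)
      (congrArg (T.gr X) (hdim i))).toLinearMap ∘ₗ
    (corrG T p' q' m' ψ (i + m + 2 * (dim Y.obj.left : ℤ) - 2 * (dim P.obj.left : ℤ))) ∘ₗ
    (corrG T p q m φ i)

lemma comp2_apply (φ : ↥(T.gr P m)) (ψ : ↥(T.gr P' m')) (i : ℤ) (x : T.gr X i) :
    (comp2 T p q p' q' m m' hdim φ ψ i x : T.H X) =
      (corrG T p' q' m' ψ _ (corrG T p q m φ i x) : T.H X) := rfl

lemma comp2_add_left (φ φ' : ↥(T.gr P m)) (ψ : ↥(T.gr P' m')) (i : ℤ) :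
    comp2 T p q p' q' m m' hdim (φ + φ') ψ i =
      comp2 T p q p' q' m m' hdim φ ψ i + comp2 T p q p' q' m m' hdim φ' ψ i := by
  unfold comp2
  rw [corrG_add, LinearMap.comp_add, LinearMap.comp_add]

lemma comp2_smul_left (c : K) (φ : ↥(T.gr P m)) (ψ : ↥(T.gr P' m')) (i : ℤ) :
    comp2 T p q p' q' m m' hdim (c • φ) ψ i = c • comp2 T p q p' q' m m' hdim φ ψ i := by
  unfold comp2
  rw [corrG_smul, LinearMap.comp_smul, LinearMap.comp_smul]

lemma comp2_add_right (φ : ↥(T.gr P m)) (ψ ψ' : ↥(T.gr P' m')) (i : ℤ) :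
    comp2 T p q p' q' m m' hdim φ (ψ + ψ') i =
      comp2 T p q p' q' m m' hdim φ ψ i + comp2 T p q p' q' m m' hdim φ ψ' i := by
  unfold comp2
  rw [corrG_add, LinearMap.add_comp, LinearMap.comp_add]

lemma comp2_smul_right (c : K) (φ : ↥(T.gr P m)) (ψ : ↥(T.gr P' m')) (i : ℤ) :
    comp2 T p q p' q' m m' hdim φ (c • ψ) i = c • comp2 T p q p' q' m m' hdim φ ψ i := by
  unfold comp2
  rw [corrG_smul, LinearMap.smul_comp, LinearMap.comp_smul]

/-- The alternating sum of traces. -/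
noncomputable def altTr (φ : ↥(T.gr P m)) (ψ : ↥(T.gr P' m')) : K :=
  ∑ i ∈ Finset.range (2 * dim X.obj.left + 1),
    (-1 : K) ^ i * LinearMap.trace K ↥(T.gr X (i : ℤ)) (comp2 T p q p' q' m m' hdim φ ψ (i : ℤ))

lemma altTr_add_left (φ φ' : ↥(T.gr P m)) (ψ : ↥(T.gr P' m')) :
    altTr T p q p' q' m m' hdim (φ + φ') ψ =
      altTr T p q p' q' m m' hdim φ ψ + altTr T p q p' q' m m' hdim φ' ψ := by
  unfold altTr
  rw [← Finset.sum_add_distrib]
  apply Finset.sum_congr rfl
  intro i _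
  rw [comp2_add_left, map_add, mul_add]

lemma altTr_smul_left (c : K) (φ : ↥(T.gr P m)) (ψ : ↥(T.gr P' m')) :
    altTr T p q p' q' m m' hdim (c • φ) ψ = c * altTr T p q p' q' m m' hdim φ ψ := by
  unfold altTr
  rw [Finset.mul_sum]
  apply Finset.sum_congr rfl
  intro i _
  rw [comp2_smul_left, map_smul, smul_eq_mul]; ring

lemma altTr_add_right (φ : ↥(T.gr P m)) (ψ ψ' : ↥(T.gr P' m')) :
    altTr T p q p' q' m m' hdim φ (ψ + ψ') =
      altTr T p q p' q' m m' hdim φ ψ + altTr T p q p' q' m m' hdim φ ψ' := by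
  unfold altTr
  rw [← Finset.sum_add_distrib]
  apply Finset.sum_congr rfl
  intro i _
  rw [comp2_add_right, map_add, mul_add]

lemma altTr_smul_right (c : K) (φ : ↥(T.gr P m)) (ψ : ↥(T.gr P' m')) :
    altTr T p q p' q' m m' hdim φ (c • ψ) = c * altTr T p q p' q' m m' hdim φ ψ := by
  unfold altTr
  rw [Finset.mul_sum]
  apply Finset.sum_congr rfl
  intro i _
  rw [comp2_smul_right, map_smul, smul_eq_mul]; ring

/-- The trace formula for decomposable classes. -/
lemma main_decomp (hP : IsProd p q) (hP' : IsProd p' q') (σ : P ⟶ P') (hσ₁ : σ ≫ p' = q)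
    (hσ₂ : σ ≫ q' = p) {s t s' t' : ℤ} (hst : s + t = m) (hst' : s' + t' = m')
    {a e : T.H X} {b c : T.H Y} (ha : a ∈ T.gr X s) (hb : b ∈ T.gr Y t) (hc : c ∈ T.gr Y s')
    (he : e ∈ T.gr X t') (φ : ↥(T.gr P m)) (hφ : (φ : T.H P) = T.pull p a * T.pull q b)
    (ψ : ↥(T.gr P' m')) (hψ : (ψ : T.H P') = T.pull p' c * T.pull q' e) :
    T.tr P ((φ : T.H P) * T.pull σ (ψ : T.H P')) = altTr T p q p' q' m m' hdim φ ψ := by
  have hcomp : ∀ (i : ℤ) (x : T.gr X i), (comp2 T p q p' q' m m' hdim φ ψ i x : T.H X) =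
      (T.tr X ((x : T.H X) * a) * T.tr Y (b * c)) • e := by
    intro i x
    rw [comp2_apply, corrG_decomp T p' q' hP' hst' hc he ψ hψ,
      corrG_decomp T p q hP hst ha hb φ hφ, smul_mul_assoc, map_smul, smul_eq_mul]
  let lam : ∀ i : ℤ, ↥(T.gr X i) →ₗ[K] K := fun i =>
    (T.tr Y (b * c)) • ((T.tr X) ∘ₗ (LinearMap.mulRight K a) ∘ₗ (T.gr X i).subtype)
  have hlam : ∀ (i : ℤ) (x : T.gr X i),
      lam i x = T.tr X ((x : T.H X) * a) * T.tr Y (b * c) := by
    intro i x
    simp [lam, mul_comm]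
  have htrace_ne : ∀ i : ℤ, i ≠ t' →
      LinearMap.trace K _ (comp2 T p q p' q' m m' hdim φ ψ i) = 0 := fun i hi =>
    trace_rankOne_zero T hi (lam i) he _ (fun x => by rw [hcomp, hlam])
  have htrace_eq : LinearMap.trace K _ (comp2 T p q p' q' m m' hdim φ ψ t') =
      T.tr X (e * a) * T.tr Y (b * c) := by
    rw [trace_rankOne T (lam t') ⟨e, he⟩ _ (fun x => by rw [hcomp, hlam]), hlam]
  -- the left hand side
  have hL : T.tr P ((φ : T.H P) * T.pull σ (ψ : T.H P')) =
      (-1 : K) ^ (s'.natAbs * t'.natAbs) * ((-1 : K) ^ (t.natAbs * t'.natAbs) *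
        (T.tr X (a * e) * T.tr Y (b * c))) := by
    rw [hφ, hψ, map_mul (T.pull σ), pull_pull T σ p', pull_pull T σ q', hσ₁, hσ₂,
      mul_comm_sign T (T.pull_mem q s' c hc) (T.pull_mem p t' e he), mul_smul_comm, map_smul,
      smul_eq_mul, tr_term T p q hP ha hb he hc]
  rw [hL]
  unfold altTr
  by_cases h1 : s + t' = 2 * d X
  · by_cases h2 : t + s' = 2 * d Y
    · by_cases hτ : ∃ τ : ℕ, τ ≤ 2 * dim X.obj.left ∧ t' = (τ : ℤ)
      · obtain ⟨τ, hτ1, rfl⟩ := hτ
        rw [Finset.sum_eq_single τ]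
        · have hsign : (-1 : K) ^ (s'.natAbs * τ + t.natAbs * τ + s.natAbs * τ) = (-1 : K) ^ τ := by
            apply neg_one_pow_eq_of_even_add
            apply sign_aux
            · exact even_natAbs_add_of_even_add (by rw [add_comm, h2]; exact even_two_mul _)
            · have := even_natAbs_add_of_even_add (x := s) (y := (τ : ℤ))
                (by rw [h1]; exact even_two_mul _)
              rwa [Int.natAbs_natCast] at this
          rw [htrace_eq, mul_comm_sign T ha he, map_smul, smul_eq_mul, Int.natAbs_natCast, ← hsign,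
            pow_add, pow_add]
          ring
        · intro i _ hi
          rw [htrace_ne (i : ℤ) (by exact_mod_cast hi), mul_zero]
        · intro h
          exact absurd (Finset.mem_range.mpr (by omega)) h
      · have he0 : e = 0 := by
          apply eq_zero_of_vanish T he
          by_contra hcon
          push Not at hcon
          apply hτ
          refine ⟨t'.toNat, ?_, ?_⟩
          · have := hcon.2; zify; rw [Int.toNat_of_nonneg hcon.1]; exact this
          · rw [Int.toNat_of_nonneg hcon.1]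
        rw [he0, mul_zero, map_zero, zero_mul, mul_zero, mul_zero]
        symm
        apply Finset.sum_eq_zero
        intro i _
        have : comp2 T p q p' q' m m' hdim φ ψ (i : ℤ) = 0 := by
          apply LinearMap.ext
          intro x
          apply Subtype.ext
          rw [hcomp, he0, smul_zero]; rfl
        rw [this, map_zero, mul_zero]
    · have hbc : T.tr Y (b * c) = 0 := tr_mul_eq_zero_of_ne T h2 hb hc
      rw [hbc, mul_zero, mul_zero, mul_zero]
      symm
      apply Finset.sum_eq_zero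
      intro i _
      have : comp2 T p q p' q' m m' hdim φ ψ (i : ℤ) = 0 := by
        apply LinearMap.ext
        intro x
        apply Subtype.ext
        rw [hcomp, hbc, mul_zero, zero_smul]; rfl
      rw [this, map_zero, mul_zero]
  · have hae : T.tr X (a * e) = 0 := tr_mul_eq_zero_of_ne T h1 ha he
    have hea : T.tr X (e * a) = 0 := tr_mul_eq_zero_of_ne T (by rw [add_comm]; exact h1) he ha
    rw [hae, zero_mul, mul_zero, mul_zero]
    symm
    apply Finset.sum_eq_zero
    intro i _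
    by_cases hi : (i : ℤ) = t'
    · subst hi
      rw [htrace_eq, hea, zero_mul, mul_zero]
    · rw [htrace_ne (i : ℤ) hi, mul_zero]

/-- The trace formula for correspondences. -/
theorem trace_formula (hP : IsProd p q) (hP' : IsProd p' q') (σ : P ⟶ P') (hσ₁ : σ ≫ p' = q)
    (hσ₂ : σ ≫ q' = p) (φ : ↥(T.gr P m)) (ψ : ↥(T.gr P' m')) :
    T.tr P ((φ : T.H P) * T.pull σ (ψ : T.H P')) = altTr T p q p' q' m m' hdim φ ψ := by
  have hφ : φ ∈ Submodule.span K (decomp T p q m) := by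
    rw [span_decomp T p q hP m]; exact Submodule.mem_top
  have hψ : ψ ∈ Submodule.span K (decomp T p' q' m') := by
    rw [span_decomp T p' q' hP' m']; exact Submodule.mem_top
  induction hφ using Submodule.span_induction with
  | mem φ hφd =>
    obtain ⟨s, t, a, b, ha, hb, hst, hφe⟩ := hφd
    induction hψ using Submodule.span_induction with
    | mem ψ hψd =>
      obtain ⟨s', t', c, e, hc, he, hst', hψe⟩ := hψd
      exact main_decomp T p q p' q' m m' hdim hP hP' σ hσ₁ hσ₂ hst hst' ha hb hc he φ hφe ψ hψe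
    | zero =>
      rw [show ((0 : ↥(T.gr P' m')) : T.H P') = 0 from rfl, map_zero, mul_zero, map_zero]
      have := altTr_smul_right T p q p' q' m m' hdim (0 : K) φ 0
      rw [zero_smul, zero_mul] at this
      exact this.symm
    | add ψ₁ ψ₂ _ _ h₁ h₂ =>
      rw [altTr_add_right, ← h₁, ← h₂, Submodule.coe_add, map_add, mul_add, map_add]
    | smul c ψ₁ _ h₁ =>
      rw [altTr_smul_right, ← h₁, Submodule.coe_smul, map_smul, mul_smul_comm, map_smul, smul_eq_mul]
  | zero =>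
    rw [show ((0 : ↥(T.gr P m)) : T.H P) = 0 from rfl, zero_mul, map_zero]
    have := altTr_smul_left T p q p' q' m m' hdim (0 : K) 0 ψ
    rw [zero_smul, zero_mul] at this
    exact this.symm
  | add φ₁ φ₂ _ _ h₁ h₂ =>
    rw [altTr_add_left, ← h₁, ← h₂, Submodule.coe_add, add_mul, map_add]
  | smul c φ₁ _ h₁ =>
    rw [altTr_smul_left, ← h₁, Submodule.coe_smul, smul_mul_assoc, map_smul, smul_eq_mul]

end Main

end Groth.Agent.Lib.Helper5.Misc.WeilTrace
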