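import Mathlib
import Groth.Prelude.Def_WeilCoh
import Groth.Agent.Lib.Helper5.Misc.WeilTrace

set_option autoImplicit false
universe u v w
open CategoryTheory AlgebraicGeometry
open WeilCoh

namespace Groth.Agent.Lib.Helper5.Misc.WeilJac

open Groth.Agent.Lib.Helper5.Misc.WeilLib Groth.Agent.Lib.Helper5.Misc.WeilKun
open Groth.Agent.Lib.Helper5.Misc.WeilPt Groth.Agent.Lib.Helper5.Misc.WeilGen
open Groth.Agent.Lib.Helper5.Misc.WeilGeo Groth.Agent.Lib.Helper5.Misc.WeilGraph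
open Groth.Agent.Lib.Helper5.Misc.WeilLef Groth.Agent.Lib.Helper5.Misc.WeilCorr
open Groth.Agent.Lib.Helper5.Misc.WeilTrace

variable {k : Type u} [Field k] {K : Type v} [Field K] (T : TheoryOn.{u, v, w} k (IsVar k) K)

/-- Uniqueness of morphisms into a product. -/
lemma hom_ext_prod {X Y Z Q : Var k} (p : Q ⟶ X) (q : Q ⟶ Y) (hQ : IsProd p q) (f g : Z ⟶ Q)
    (h1 : f ≫ p = g ≫ p) (h2 : f ≫ q = g ≫ q) : f = g := by
  apply ObjectProperty.hom_ext
  apply Over.OverMorphism.ext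
  apply hQ.hom_ext
  · exact congrArg (fun h => sm h) h1
  · exact congrArg (fun h => sm h) h2

/-- An involution fixes the generic point. -/
lemma invol_genericPoint {P : Var k} (σ : P ⟶ P) (hσσ : σ ≫ σ = 𝟙 P) :
    sm σ (genericPoint ↥P.obj.left) = genericPoint ↥P.obj.left := by
  have hsm : sm σ ≫ sm σ = 𝟙 P.obj.left := congrArg (fun h => sm h) hσσ
  have hsurj : Function.Surjective (sm σ) := by
    intro y
    refine ⟨sm σ y, ?_⟩
    have := congrArg (fun h : P.obj.left ⟶ P.obj.left => h y) hsm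
    simpa using this
  have h1 : IsGenericPoint (sm σ (genericPoint ↥P.obj.left))
      (closure ((sm σ) '' (⊤ : Set ↥P.obj.left))) :=
    (genericPoint_spec ↥P.obj.left).image (sm σ).continuous
  have h2 : closure ((sm σ) '' (⊤ : Set ↥P.obj.left)) = ⊤ := by
    rw [Set.top_eq_univ, Set.image_univ, hsurj.range_eq, closure_univ]
  rw [h2] at h1
  exact h1.eq (genericPoint_spec ↥P.obj.left)

/-- Pull-back along an involution permutes cycle classes. -/
lemma pull_cl_of_invol {P : Var k} (σ : P ⟶ P) (hσσ : σ ≫ σ = 𝟙 P) (ζ : ↥P.obj.left) :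
    T.pull σ (T.cl P ζ) = T.cl P (sm σ ζ) := by
  have hsm : sm σ ≫ sm σ = 𝟙 P.obj.left := congrArg (fun h => sm h) hσσ
  have : IsIso (sm σ) := ⟨sm σ, hsm, hsm⟩
  have hpd : pdim P.obj.left (sm σ ζ) = pdim P.obj.left ζ :=
    pdim_closedEmbedding (sm σ) (sm σ).isClosedEmbedding ζ
  have hcod : codim P.obj.left (sm σ ζ) = codim P.obj.left ζ := by
    unfold codim; rw [hpd]
  have hle := pdim_le_dim P ζ
  have hsum : (2 * (codim P.obj.left ζ : ℤ)) + 2 * (pdim P.obj.left ζ : ℤ) = 2 * d P := by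
    unfold codim
    show (2 * ((dim P.obj.left - pdim P.obj.left ζ : ℕ) : ℤ)) + 2 * (pdim P.obj.left ζ : ℤ) =
      2 * (dim P.obj.left : ℤ)
    rw [Nat.cast_sub hle]; ring
  refine eq_of_tr_mul_eq T hsum (T.pull_mem σ _ _ (T.cl_mem P ζ))
    (by rw [← hcod]; exact T.cl_mem P (sm σ ζ)) ?_
  intro b hb
  rw [tr_cl_section T σ σ hσσ ζ hb]
  -- `tr (σ^* x) = tr x` on top degree
  have htop : T.pull σ (T.cl P ζ) * b ∈ T.gr P (2 * (dim P.obj.left : ℤ)) :=
    mem_of_eq T hsum (SetLike.mul_mem_graded (T.pull_mem σ _ _ (T.cl_mem P ζ)) hb)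
  have h := tr_pull_of_dominant T σ (invol_genericPoint σ hσσ) rfl _ htop
  rw [residueDegree_section (sm σ) (sm σ) hsm, Nat.cast_one, one_mul, map_mul (T.pull σ),
    pull_pull, hσσ, pull_id_apply] at h
  exact h.symm

/-- Pull-back along an involution preserves algebraic classes. -/
lemma pull_mem_span {P : Var k} (σ : P ⟶ P) (hσσ : σ ≫ σ = 𝟙 P) {x : T.H P}
    (hx : x ∈ Submodule.span K (Set.range (T.cl P))) :
    T.pull σ x ∈ Submodule.span K (Set.range (T.cl P)) := by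
  induction hx using Submodule.span_induction with
  | mem y hy =>
    obtain ⟨ζ, rfl⟩ := hy
    rw [pull_cl_of_invol T σ hσσ]
    exact Submodule.subset_span ⟨_, rfl⟩
  | zero => rw [map_zero]; exact Submodule.zero_mem _
  | add a b _ _ ha hb => rw [map_add]; exact Submodule.add_mem _ ha hb
  | smul c a _ ha => rw [map_smul]; exact Submodule.smul_mem _ _ ha

/-- Transport of the index of a correspondence action. -/
lemma corrG_cast {X Y P : Var k} (p : P ⟶ X) (q : P ⟶ Y) (m : ℤ) (φ : ↥(T.gr P m)) {i i' : ℤ}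
    (h : i' = i) (y : T.gr X i') :
    (corrG T p q m φ i' y : T.H Y) =
      (corrG T p q m φ i (LinearEquiv.ofEq (T.gr X i') (T.gr X i) (congrArg (T.gr X) h) y) :
        T.H Y) := by
  subst h
  rfl

/-- Key step: nilpotence of the composites forces numerical triviality. -/
theorem jac {X P : Var k} (p q : P ⟶ X) (hP : IsProd p q) (σ : P ⟶ P) (hσp : σ ≫ p = q)
    (hσq : σ ≫ q = p)
    (hdim : ∀ j : ℤ, j + 2 * (dim X.obj.left : ℤ) + 2 * (dim X.obj.left : ℤ) -
      2 * (dim P.obj.left : ℤ) = j)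
    (u v : ↥(T.gr P (2 * (dim X.obj.left : ℤ))))
    (hv : (v : T.H P) ∈ Submodule.span K (Set.range (T.cl P)))
    (hJ : ∀ w : ↥(T.gr P (2 * (dim X.obj.left : ℤ))),
      (w : T.H P) ∈ Submodule.span K (Set.range (T.cl P)) → ∀ i : ℕ, i < 2 * dim X.obj.left + 1 →
      IsNilpotent
        (((LinearEquiv.ofEq (T.gr X ((i : ℤ) + 2 * (dim X.obj.left : ℤ) + 2 * (dim X.obj.left : ℤ) -
            2 * (dim P.obj.left : ℤ))) (T.gr X (i : ℤ))
            (congrArg (T.gr X) (hdim (i : ℤ)))).toLinearMap ∘ₗ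
          corrG T p q (2 * (dim X.obj.left : ℤ)) w (i : ℤ)) *
        ((LinearEquiv.ofEq (T.gr X ((i : ℤ) + 2 * (dim X.obj.left : ℤ) + 2 * (dim X.obj.left : ℤ) -
            2 * (dim P.obj.left : ℤ))) (T.gr X (i : ℤ))
            (congrArg (T.gr X) (hdim (i : ℤ)))).toLinearMap ∘ₗ
          corrG T p q (2 * (dim X.obj.left : ℤ)) u (i : ℤ)) :
          Module.End K ↥(T.gr X (i : ℤ)))) :
    T.tr P ((u : T.H P) * (v : T.H P)) = 0 := by
  have hσσ : σ ≫ σ = 𝟙 P := by
    apply hom_ext_prod p q hP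
    · rw [Category.assoc, hσp, hσq, Category.id_comp]
    · rw [Category.assoc, hσq, hσp, Category.id_comp]
  let ψ : ↥(T.gr P (2 * (dim X.obj.left : ℤ))) := ⟨T.pull σ (v : T.H P), T.pull_mem σ _ _ v.2⟩
  have hψ : (ψ : T.H P) ∈ Submodule.span K (Set.range (T.cl P)) := pull_mem_span T σ hσσ hv
  have hvv : T.pull σ (ψ : T.H P) = (v : T.H P) := by
    show T.pull σ (T.pull σ (v : T.H P)) = _
    rw [pull_pull, hσσ, pull_id_apply]
  have hdim' : ∀ i : ℤ, ((i + 2 * (dim X.obj.left : ℤ) + 2 * (dim X.obj.left : ℤ) -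
      2 * (dim P.obj.left : ℤ)) + 2 * (dim X.obj.left : ℤ) + 2 * (dim X.obj.left : ℤ) -
      2 * (dim P.obj.left : ℤ)) = i := by
    intro i
    have := hdim i
    linarith
  have hmain := trace_formula T p q p q (2 * (dim X.obj.left : ℤ)) (2 * (dim X.obj.left : ℤ))
    hdim' hP hP σ hσp hσq u ψ
  rw [hvv] at hmain
  rw [hmain]
  unfold altTr
  apply Finset.sum_eq_zero
  intro i hi
  have hnil := hJ ψ hψ i (Finset.mem_range.mp hi)
  have heq : comp2 T p q p q (2 * (dim X.obj.left : ℤ)) (2 * (dim X.obj.left : ℤ)) hdim' u ψ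
      (i : ℤ) =
      (((LinearEquiv.ofEq (T.gr X ((i : ℤ) + 2 * (dim X.obj.left : ℤ) + 2 * (dim X.obj.left : ℤ) -
            2 * (dim P.obj.left : ℤ))) (T.gr X (i : ℤ))
            (congrArg (T.gr X) (hdim (i : ℤ)))).toLinearMap ∘ₗ
          corrG T p q (2 * (dim X.obj.left : ℤ)) ψ (i : ℤ)) *
        ((LinearEquiv.ofEq (T.gr X ((i : ℤ) + 2 * (dim X.obj.left : ℤ) + 2 * (dim X.obj.left : ℤ) -
            2 * (dim P.obj.left : ℤ))) (T.gr X (i : ℤ))
            (congrArg (T.gr X) (hdim (i : ℤ)))).toLinearMap ∘ₗ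
          corrG T p q (2 * (dim X.obj.left : ℤ)) u (i : ℤ)) :
          Module.End K ↥(T.gr X (i : ℤ))) := by
    apply LinearMap.ext
    intro x
    apply Subtype.ext
    rw [comp2_apply, corrG_cast T p q _ ψ (hdim (i : ℤ))]
    rfl
  rw [heq, (LinearMap.isNilpotent_trace_of_isNilpotent hnil).eq_zero, mul_zero]

end Groth.Agent.Lib.Helper5.Misc.WeilJac
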