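import Mathlib
import Groth.Prelude.Def_WeilCoh
import Groth.Agent.Lib.Helper5.Misc.WeilLef

set_option autoImplicit false
universe u v w
open CategoryTheory AlgebraicGeometry
open WeilCoh

namespace Groth.Agent.Lib.Helper5.Misc.WeilProj

open Groth.Agent.Lib.Helper5.Misc.WeilLib Groth.Agent.Lib.Helper5.Misc.WeilKun
open Groth.Agent.Lib.Helper5.Misc.WeilPt Groth.Agent.Lib.Helper5.Misc.WeilGen
open Groth.Agent.Lib.Helper5.Misc.WeilGeo Groth.Agent.Lib.Helper5.Misc.WeilGraph
open Groth.Agent.Lib.Helper5.Misc.WeilLef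

variable {k : Type u} [Field k] {K : Type v} [Field K] (T : TheoryOn.{u, v, w} k (IsVar k) K)

/-- Morphisms into a product. -/
lemma exists_lift {X Y Z Q : Var k} (p : Q ⟶ X) (q : Q ⟶ Y) (hQ : IsProd p q) (a : Z ⟶ X)
    (b : Z ⟶ Y) : ∃ γ : Z ⟶ Q, γ ≫ p = a ∧ γ ≫ q = b := by
  have hw : sm a ≫ X.obj.hom = sm b ≫ Y.obj.hom := by
    rw [Over.w a.hom, Over.w b.hom]
  let l : Z.obj.left ⟶ Q.obj.left := hQ.lift (sm a) (sm b) hw
  have hl1 : l ≫ sm p = sm a := hQ.lift_fst _ _ _
  have hl2 : l ≫ sm q = sm b := hQ.lift_snd _ _ _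
  have hlo : l ≫ Q.obj.hom = Z.obj.hom := by
    rw [← Over.w p.hom, ← Category.assoc]
    show (l ≫ sm p) ≫ X.obj.hom = Z.obj.hom
    rw [hl1]; exact Over.w a.hom
  refine ⟨ObjectProperty.homMk (Over.homMk l hlo), ?_, ?_⟩
  · apply ObjectProperty.hom_ext
    apply Over.OverMorphism.ext
    exact hl1
  · apply ObjectProperty.hom_ext
    apply Over.OverMorphism.ext
    exact hl2

/-- The action of a class `u ∈ H^{2n}(X × X)` on `H^j(X)`, as a linear map in `u`. -/
noncomputable def act {X P : Var k} (p q : P ⟶ X) (j : ℤ) (b : T.gr X j) :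
    T.gr P (2 * (dim X.obj.left : ℤ)) →ₗ[K]
      T.gr X (j + 2 * (dim X.obj.left : ℤ) + 2 * (dim X.obj.left : ℤ) - 2 * (dim P.obj.left : ℤ)) :=
  (T.push q (j + 2 * (dim X.obj.left : ℤ))) ∘ₗ
    ((LinearMap.mulLeft K (T.pull p (b : T.H X))).restrict (p := T.gr P (2 * (dim X.obj.left : ℤ)))
      (q := T.gr P (j + 2 * (dim X.obj.left : ℤ)))
      (fun x hx => SetLike.mul_mem_graded (T.pull_mem p j b b.2) hx))

lemma act_apply {X P : Var k} (p q : P ⟶ X) (j : ℤ) (b : T.gr X j)
    (u : T.gr P (2 * (dim X.obj.left : ℤ))) :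
    (act T p q j b u : T.H X) =
      (T.push q (j + 2 * (dim X.obj.left : ℤ))
        ⟨T.pull p (b : T.H X) * (u : T.H P),
          SetLike.mul_mem_graded (T.pull_mem p j b b.2) u.2⟩ : T.H X) := rfl

/-- The class of the transposed graph of `g` acts as `g^*`. -/
lemma act_cl_graph {X P : Var k} (p q : P ⟶ X) (hP : IsProd p q) (γ : X ⟶ P) (g : X ⟶ X)
    (hγp : γ ≫ p = g) (hγq : γ ≫ q = 𝟙 X) (j : ℤ) (b : T.gr X j) :
    (act T p q j b ⟨T.cl P (sm γ (genericPoint ↥X.obj.left)),
      cl_graph_mem T q p hP.flip γ hγq⟩ : T.H X) = T.pull g (b : T.H X) := by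
  have hdim := dim_prod T p q hP
  have hcl := cl_graph_mem T q p hP.flip γ hγq
  rw [act_apply]
  refine push_eq_of_tr T q _ _ (m := j) (by rw [hdim]; ring) (T.pull_mem g j b b.2) ?_
  intro y hy
  show T.tr X (T.pull g (b : T.H X) * y) =
    T.tr P ((T.pull p (b : T.H X) * T.cl P (sm γ (genericPoint ↥X.obj.left))) * T.pull q y)
  have hR : (T.pull p (b : T.H X) * T.cl P (sm γ (genericPoint ↥X.obj.left))) * T.pull q y =
      T.cl P (sm γ (genericPoint ↥X.obj.left)) * (T.pull p (b : T.H X) * T.pull q y) := by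
    rw [← comm_of_even T hcl (T.pull_mem p j b b.2), mul_assoc]
  rw [hR, tr_cl_graph_mul T q p hP.flip γ hγq (c := T.pull p (b : T.H X) * T.pull q y)
    (mem_of_eq T (by rw [hdim]; ring)
      (SetLike.mul_mem_graded (T.pull_mem p j b b.2) (T.pull_mem q _ y hy))),
    map_mul (T.pull γ), pull_pull T γ p, pull_pull T γ q, hγp, hγq, pull_id_apply]

/-- Iterates of an endomorphism. -/
noncomputable def iter {X : Var k} (F : X ⟶ X) : ℕ → (X ⟶ X)
  | 0 => 𝟙 X
  | m + 1 => iter F m ≫ F

lemma pullDeg_iter {X : Var k} (F : X ⟶ X) (j : ℤ) (m : ℕ) :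
    T.pullDeg (iter F m) j = (T.pullDeg F j) ^ m := by
  induction m with
  | zero =>
    ext b
    show T.pull (𝟙 X) (b : T.H X) = b
    exact pull_id_apply T _
  | succ m ih =>
    rw [pow_succ, ← ih]
    ext b
    show T.pull (iter F m ≫ F) (b : T.H X) = T.pull (iter F m) (T.pull F (b : T.H X))
    rw [pull_pull]

/-- Künneth projectors are algebraic when the characteristic polynomials are pairwise coprime. -/
theorem exists_kunneth_projector {X P : Var k} (p q : P ⟶ X) (hP : IsProd p q) (F : X ⟶ X)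
    (hF : ∀ i j : ℤ, i ≠ j → IsCoprime (T.pullDeg F i).charpoly (T.pullDeg F j).charpoly)
    (i : ℤ) :
    ∃ u : ↥(T.gr P (2 * (dim X.obj.left : ℤ))),
      (u : T.H P) ∈ Submodule.span K (Set.range (T.cl P)) ∧
        ∀ (j : ℤ) (b : ↥(T.gr X j)),
          (T.push q (j + 2 * (dim X.obj.left : ℤ))
              ⟨T.pull p (b : T.H X) * (u : T.H P),
                SetLike.mul_mem_graded (T.pull_mem p j b b.2) u.2⟩ : T.H X) =
            if j = i then (b : T.H X) else 0 := by
  classical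
  choose γ hγp hγq using fun m : ℕ => exists_lift p q hP (iter F m) (𝟙 X)
  let c : ℕ → T.gr P (2 * (dim X.obj.left : ℤ)) := fun m =>
    ⟨T.cl P (sm (γ m) (genericPoint ↥X.obj.left)), cl_graph_mem T q p hP.flip (γ m) (hγq m)⟩
  let S : Finset ℤ := (Finset.Icc (0 : ℤ) (2 * d X)).erase i
  let Q : Polynomial K := ∏ j ∈ S, (T.pullDeg F j).charpoly
  have hcop : IsCoprime (T.pullDeg F i).charpoly Q :=
    IsCoprime.prod_right (fun j hj => hF i j (Finset.ne_of_mem_erase hj).symm)
  obtain ⟨a, c', hac⟩ := hcop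
  let g : Polynomial K := c' * Q
  let u : T.gr P (2 * (dim X.obj.left : ℤ)) :=
    ∑ m ∈ Finset.range (g.natDegree + 1), g.coeff m • c m
  refine ⟨u, ?_, ?_⟩
  · rw [Submodule.coe_sum]
    apply Submodule.sum_mem
    intro m _
    rw [Submodule.coe_smul]
    exact Submodule.smul_mem _ _ (Submodule.subset_span ⟨_, rfl⟩)
  · intro j b
    rw [← act_apply T p q j b u]
    have h1 : (act T p q j b u : T.H X) =
        ((Polynomial.aeval (T.pullDeg F j) g) b : T.H X) := by
      rw [Polynomial.aeval_eq_sum_range]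
      simp only [u, map_sum, map_smul, LinearMap.sum_apply, LinearMap.smul_apply,
        Submodule.coe_sum, Submodule.coe_smul]
      apply Finset.sum_congr rfl
      intro m _
      congr 1
      rw [act_cl_graph T p q hP (γ m) (iter F m) (hγp m) (hγq m) j b, ← pullDeg_iter]
      rfl
    rw [h1]
    by_cases hj : j ∈ Finset.Icc (0 : ℤ) (2 * d X)
    · by_cases hji : j = i
      · subst hji
        rw [if_pos rfl]
        have hg : g = 1 - a * (T.pullDeg F j).charpoly := by
          rw [← hac]; ring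
        rw [hg, map_sub, map_one, map_mul, LinearMap.aeval_self_charpoly, mul_zero]
        simp
      · rw [if_neg hji]
        have hjS : j ∈ S := Finset.mem_erase.mpr ⟨hji, hj⟩
        have hQ : Polynomial.aeval (T.pullDeg F j) Q = 0 := by
          show Polynomial.aeval (T.pullDeg F j) (∏ j' ∈ S, (T.pullDeg F j').charpoly) = 0
          rw [← Finset.mul_prod_erase S _ hjS, map_mul, LinearMap.aeval_self_charpoly, zero_mul]
        rw [map_mul, hQ, mul_zero]
        rfl
    · have hb0 : (b : T.H X) = 0 := by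
        apply eq_zero_of_vanish T b.2
        by_contra hcon
        push Not at hcon
        exact hj (Finset.mem_Icc.mpr hcon)
      have hb0' : b = 0 := Subtype.ext hb0
      rw [hb0', map_zero]
      simp

end Groth.Agent.Lib.Helper5.Misc.WeilProj
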