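import Mathlib
import Groth.Prelude.Def_BigSite

/-!
# The inclusion of the small Zariski site into the big site: flatness and cocontinuity
-/

set_option autoImplicit false
universe u
open CategoryTheory CategoryTheory.Limits AlgebraicGeometry Opposite TopologicalSpace

namespace Groth.Agent.Lib.Helper5.Misc.ZarIncl

variable (X : Scheme.{u})

@[simp] lemma zarIncl_obj_left (U : X.Opens) : ((BigSite.zarIncl X).obj U).left = (U : Scheme.{u}) := rfl

@[simp] lemma zarIncl_obj_hom (U : X.Opens) : ((BigSite.zarIncl X).obj U).hom = U.ι := rfl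

lemma zarIncl_map_left {U V : X.Opens} (h : U ⟶ V) :
    ((BigSite.zarIncl X).map h).left = X.homOfLE h.le := rfl

/-- a morphism to `X` whose range is contained in `U` lifts to `U` -/
noncomputable def liftL (Y : Over X) (U : X.Opens) (h : Set.range Y.hom ⊆ (U : Set X)) :
    Y.left ⟶ (U : Scheme.{u}) :=
  IsOpenImmersion.lift U.ι Y.hom (by rw [Scheme.Opens.range_ι]; exact h)

lemma liftL_ι (Y : Over X) (U : X.Opens) (h : Set.range Y.hom ⊆ (U : Set X)) :
    liftL X Y U h ≫ U.ι = Y.hom :=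
  IsOpenImmersion.lift_fac _ _ _

/-- a morphism to `X` whose range is contained in `U` lifts to `U` -/
noncomputable def liftTo (Y : Over X) (U : X.Opens) (h : Set.range Y.hom ⊆ (U : Set X)) :
    Y ⟶ (BigSite.zarIncl X).obj U :=
  Over.homMk (liftL X Y U h) (liftL_ι X Y U h)

lemma range_subset (Y : Over X) (U : X.Opens) (φ : Y ⟶ (BigSite.zarIncl X).obj U) :
    Set.range Y.hom ⊆ (U : Set X) := by
  have h : φ.left ≫ U.ι = Y.hom := Over.w φ
  rw [← h]
  rintro _ ⟨y, rfl⟩
  simp only [Scheme.Hom.comp_apply]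
  exact (φ.left y).2

lemma hom_ext' (Y : Over X) (U : X.Opens) (φ ψ : Y ⟶ (BigSite.zarIncl X).obj U) : φ = ψ := by
  ext
  have h : φ.left ≫ U.ι = ψ.left ≫ U.ι := (Over.w φ).trans (Over.w ψ).symm
  exact (cancel_mono U.ι).1 h

instance (Y : Over X) (U : X.Opens) : Subsingleton (Y ⟶ (BigSite.zarIncl X).obj U) :=
  ⟨hom_ext' X Y U⟩

instance (Y : Over X) (A B : StructuredArrow Y (BigSite.zarIncl X)) : Subsingleton (A ⟶ B) :=
  ⟨fun f g => StructuredArrow.ext _ _ (Subsingleton.elim _ _)⟩

instance flat : RepresentablyFlat (BigSite.zarIncl X) where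
  cofiltered Y :=
    { cone_objs := fun A B => by
        have hA := range_subset X Y A.right A.hom
        have hB := range_subset X Y B.right B.hom
        refine ⟨StructuredArrow.mk (liftTo X Y (A.right ⊓ B.right) (Set.subset_inter hA hB)),
          StructuredArrow.homMk (homOfLE inf_le_left) (Subsingleton.elim _ _),
          StructuredArrow.homMk (homOfLE inf_le_right) (Subsingleton.elim _ _), trivial⟩
      cone_maps := fun A B f g => ⟨A, 𝟙 A, Subsingleton.elim _ _⟩
      nonempty := ⟨StructuredArrow.mk (liftTo X Y ⊤ (by simp))⟩ }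

end Groth.Agent.Lib.Helper5.Misc.ZarIncl

namespace Groth.Agent.Lib.Helper5.Misc.ZarIncl

variable (X : Scheme.{u})

lemma mem_iff_overEquiv {C : Type*} [Category C] {X : C} {Y Z : Over X} (S : Sieve Y) (g : Z ⟶ Y) :
    S g ↔ Sieve.overEquiv Y S g.left := by
  conv_lhs => rw [← (Sieve.overEquiv Y).symm_apply_apply S]
  exact Sieve.overEquiv_symm_iff _ g

instance cocont : (BigSite.zarIncl X).IsCocontinuous (Opens.grothendieckTopology X)
    (QuotSh.J Scheme.zariskiPrecoverage X) where
  cover_lift {U S} hS := by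
    rw [GrothendieckTopology.mem_over_iff] at hS
    obtain ⟨𝒰, hle⟩ := Scheme.mem_grothendieckTopology_iff.1 hS
    intro x hx
    obtain ⟨i, y, hy⟩ := 𝒰.exists_eq (⟨x, hx⟩ : (U : Scheme.{u}))
    let j : 𝒰.X i ⟶ (U : Scheme.{u}) := 𝒰.f i
    have hoi : IsOpenImmersion j := 𝒰.map_prop i
    have hoi2 : IsOpenImmersion (j ≫ U.ι) := inferInstance
    let V : X.Opens := (j ≫ U.ι).opensRange
    have hV : (V : Set X) = Set.range (j ≫ U.ι) := rfl
    have hVU : V ≤ U := by
      intro z hz
      change z ∈ (V : Set X) at hz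
      rw [hV] at hz
      obtain ⟨w, rfl⟩ := hz
      rw [Scheme.Hom.comp_apply]
      exact (j w).2
    have hxV : x ∈ V := by
      change x ∈ (V : Set X)
      rw [hV]
      refine ⟨y, ?_⟩
      rw [Scheme.Hom.comp_apply]
      change U.ι ((𝒰.f i) y) = x
      rw [hy]
      rfl
    refine ⟨V, homOfLE hVU, ?_, hxV⟩
    change S ((BigSite.zarIncl X).map (homOfLE hVU))
    rw [mem_iff_overEquiv]
    let ℓ : (V : Scheme.{u}) ⟶ 𝒰.X i :=
      IsOpenImmersion.lift (j ≫ U.ι) V.ι (by rw [Scheme.Opens.range_ι, hV])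
    have hℓ : ℓ ≫ j ≫ U.ι = V.ι := IsOpenImmersion.lift_fac _ _ _
    have e0 : X.homOfLE hVU = ℓ ≫ j := by
      rw [← cancel_mono U.ι, Category.assoc, hℓ]
      exact X.homOfLE_ι hVU
    have e : ((BigSite.zarIncl X).map (homOfLE hVU)).left = ℓ ≫ j := e0
    rw [e]
    have hj : (Sieve.overEquiv ((BigSite.zarIncl X).obj U) S).arrows j :=
      hle _ _ (Presieve.ofArrows.mk i)
    exact Sieve.downward_closed _ hj ℓ

end Groth.Agent.Lib.Helper5.Misc.ZarIncl
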